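import Groth.Agent.Lib.GrothVan.Main
import Groth.Agent.Lib.Modules.Support
import Groth.Prelude.Def_Coh

/-!
# Grothendieck vanishing for sheaves supported on a closed set of small dimension
-/

set_option linter.style.haveILetI false

universe u

open CategoryTheory CategoryTheory.Limits TopologicalSpace Opposite AlgebraicGeometry

noncomputable section

namespace Groth.Agent.Lib.GrothVanSupport

open Groth.Agent.Lib Groth.Agent.Lib.GrothVan

theorem height_le_of_subset {X : Type u} [TopologicalSpace X] {S : Set X} (hS : IsClosed S) {d : ℕ}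
    (hd : topologicalKrullDim S ≤ d) (Z : IrreducibleCloseds X) (hZ : (Z : Set X) ⊆ S) :
    Order.height Z ≤ (d : ℕ∞) := by
  refine Order.height_le fun p hp => ?_
  have hsub : ∀ i, (p i : Set X) ⊆ S := fun i => Set.Subset.trans
    (show (p i : Set X) ⊆ (Z : Set X) from hp ▸ (p.monotone (Fin.le_last i) : p i ≤ p.last)) hZ
  let g : Fin (p.length + 1) → IrreducibleCloseds S := fun i =>
    ⟨Subtype.val ⁻¹' (p i : Set X),
      ⟨by
        obtain ⟨x, hx⟩ := (p i).isIrreducible.nonempty
        exact ⟨⟨x, hsub i hx⟩, hx⟩,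
       by
        rintro u v hu hv ⟨a, ha, hau⟩ ⟨b, hb, hbv⟩
        obtain ⟨u', hu', rfl⟩ := isOpen_induced_iff.1 hu
        obtain ⟨v', hv', rfl⟩ := isOpen_induced_iff.1 hv
        obtain ⟨c, hc, hcu, hcv⟩ := (p i).isIrreducible.2 u' v' hu' hv' ⟨a.1, ha, hau⟩ ⟨b.1, hb, hbv⟩
        exact ⟨⟨c, hsub i hc⟩, hc, hcu, hcv⟩⟩, (p i).isClosed.preimage continuous_subtype_val⟩
  have hg : StrictMono g := fun a b hab => by
    have h := p.strictMono hab
    refine lt_of_le_of_ne (show ∀ x : S, x.1 ∈ (p a : Set X) → x.1 ∈ (p b : Set X) from fun x hx => h.le hx) fun he => h.ne ?_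
    refine SetLike.coe_injective ?_
    have h' : Subtype.val '' (Subtype.val ⁻¹' (p a : Set X) : Set S) =
        Subtype.val '' (Subtype.val ⁻¹' (p b : Set X) : Set S) :=
      congrArg (fun Z : IrreducibleCloseds S => Subtype.val '' (Z : Set S)) he
    rw [Set.image_preimage_eq_inter_range, Set.image_preimage_eq_inter_range, Subtype.range_coe,
      Set.inter_eq_left.2 (hsub a), Set.inter_eq_left.2 (hsub b)] at h'
    exact h'
  have h1 := (Order.LTSeries.length_le_krullDim (LTSeries.mk _ g hg)).trans hd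
  simpa using h1

theorem germ_zero_of_isZero {X : TopCat.{u}} (F : CohTop.Ab X) {U : Opens X} (s : F.obj.obj (op U))
    (h : ∀ x : X, x ∈ U → IsZero ((TopCat.Presheaf.stalkFunctor AddCommGrpCat x).obj F.obj)) : s = 0 := by
  refine TopCat.Presheaf.section_ext F U _ _ fun x hx => ?_
  haveI := AddCommGrpCat.subsingleton_of_isZero (h x hx)
  exact Subsingleton.elim (α := (TopCat.Presheaf.stalkFunctor AddCommGrpCat x).obj F.obj) _ _

/-- Grothendieck vanishing above the dimension of the support. -/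
theorem H_subsingleton {X : TopCat.{u}} [NoetherianSpace X] (N : ℕ) (hN : topologicalKrullDim X ≤ N)
    {S : Set X} (hS : IsClosed S) {d : ℕ} (hd : topologicalKrullDim S ≤ d) (F : CohTop.Ab X)
    (hF : ∀ x : X, x ∉ S → IsZero ((TopCat.Presheaf.stalkFunctor AddCommGrpCat x).obj F.obj))
    (p : ℕ) (hp : d < p) : Subsingleton (CohTop.H F p) := by
  refine subsingleton_H_of_sob F p (vanish (R := sobRank X N hN) (d + 1) _ (fun z hz => ?_) p hp
    (Or.inr (by omega)))
  let Z : SobPt X := z
  have hnot : ¬ ((Z.val : Set X) ⊆ S) := fun h => by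
    have h2 := height_le_of_subset hS hd Z.val h
    have h3 : (Order.height Z.val).toNat ≤ d := by simpa using ENat.toNat_le_toNat h2 (by simp)
    have h4 : d + 1 ≤ (Order.height Z.val).toNat := hz
    omega
  obtain ⟨x, hxZ, hxS⟩ := Set.not_subset.1 hnot
  rw [IsZero.iff_id_eq_zero]
  refine TopCat.Presheaf.stalk_hom_ext _ fun W hW => ?_
  ext s
  obtain ⟨U, hU⟩ := W.2
  have hU' : (W : Set (Sob X)) = SobPt.opn U := hU
  have hZU : ((Z.val : Set X) ∩ U).Nonempty := by
    have : Z ∈ (W : Set (Sob X)) := hW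
    rwa [hU'] at this
  let V : Opens X := ⟨Sᶜ, hS.isOpen_compl⟩
  obtain ⟨y, hyZ, hyU, hyV⟩ := Z.val.isIrreducible.2 U V U.2 V.2 hZU ⟨x, hxZ, hxS⟩
  let W' : Opens (Sob X) := ⟨SobPt.opn (U ⊓ V), SobPt.isOpen_opn _⟩
  have hW'W : W' ≤ W := fun t ht => by
    change t ∈ (W : Set (Sob X))
    rw [hU']
    obtain ⟨a, ha, haU, _⟩ := ht
    exact ⟨a, ha, haU⟩
  have hzW' : z ∈ W' := ⟨y, hyZ, hyU, hyV⟩
  have h0 : ((CohTop.push (quot X)).obj F).obj.map (homOfLE hW'W).op s = 0 :=
    germ_zero_of_isZero F _ fun a ha => hF a (by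
      have : quot X a ∈ SobPt.opn (U ⊓ V) := ha
      exact (mem_preimage_quot.1 this).2)
  have h1 := TopCat.Presheaf.germ_res_apply ((CohTop.push (quot X)).obj F).obj (homOfLE hW'W) z hzW' s
  rw [h0, map_zero] at h1
  exact h1.symm

/-- Vanishing above the dimension of the support, for modules. -/
theorem subsingleton_HH {X : Scheme.{u}} [NoetherianSpace X] (N : ℕ) (hN : topologicalKrullDim X ≤ N)
    (M : X.Modules) [SheafOfModules.IsFiniteType (R := X.ringCatSheaf) M] {d : ℕ}
    (hd : topologicalKrullDim (CohB1.support M) ≤ d) (p : ℕ) (hp : d < p) :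
    Subsingleton (Coh.HH X M p) :=
  H_subsingleton N hN (Modules.Support.isClosed_support M) hd (Coh.toAb M) (fun x hx =>
    @AddCommGrpCat.isZero_of_subsingleton _ (not_not.1 hx)) p hp

end Groth.Agent.Lib.GrothVanSupport
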