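import Groth.Agent.Lib.ExtShTensor
import Groth.Agent.Lib.TensorMod.Pullback
import Groth.Agent.Lib.Modules.SubStalk
import Groth.Agent.Lib.Modules.StalkRestrict
import Groth.Agent.Lib.Modules.DerivedComm
import Groth.Agent.Lib.DerivedOX.OpenSupport
import Groth.Agent.Lib.DerivedOX.RestrictRpush
import Groth.Agent.Lib.SiteCmp29.GammaZ
import Groth.Prelude.Def_CxOX

/-!
# Internal hom and Ext sheaves commute with restriction to opens
-/

set_option autoImplicit false
set_option linter.style.haveILetI false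
universe u

open CategoryTheory CategoryTheory.Limits AlgebraicGeometry Opposite TopologicalSpace

noncomputable section

namespace Groth.Agent.Lib.ExtShRestrict

open Groth.Agent.Lib Groth.Agent.Lib.Modules Groth.Agent.Lib.TensorMod Groth.Agent.Lib.TensorMod.Basic
open Groth.Agent.Lib.Modules.DualAdj (tensorL)
open Groth.Agent.Lib.ExtShStalk

variable {X : Scheme.{u}} (U : X.Opens)

abbrev rU : X.Modules ⥤ (U : Scheme.{u}).Modules := Scheme.Modules.restrictFunctor U.ι

abbrev ez : (U : Scheme.{u}).Modules ⥤ X.Modules := CxOX.extZero U.ι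

/-- The family with full stalks on `U` and zero stalks elsewhere. -/
def supFam (M : X.Modules) : SubStalk.Family M :=
  fun y => @ite _ (y ∈ U) (Classical.dec _) ⊤ ⊥

theorem bijective_app_supFam (M : X.Modules) {V : X.Opens} (hV : V ≤ U) :
    Function.Bijective ((SubStalk.ι (supFam U M)).app V) :=
  ⟨SubStalk.ι_app_injective _ V, fun t => SubStalk.exists_ι_app fun y hy => by
    rw [supFam, if_pos (hV hy)]; exact Submodule.mem_top⟩

instance isIso_restrict_supFam (M : X.Modules) : IsIso ((rU U).map (SubStalk.ι (supFam U M))) :=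
  Scheme.Modules.Hom.isIso_iff_isIso_app.2 fun W => (ConcreteCategory.isIso_iff_bijective _).2
    (bijective_app_supFam U M (U.ι_image_le W))

/-- An extension by zero has zero stalks outside the open. -/
theorem subsingleton_stalk_extZero (M : (U : Scheme.{u}).Modules) {x : X} (hx : x ∉ U) :
    Subsingleton (((ez U).obj M).presheaf.stalk x) := by
  let P := (ez U).obj M
  let i := SubStalk.ι (supFam U P)
  let r : P ⟶ SubStalk.subMod (supFam U P) :=
    ((CxOX.extZeroAdj U.ι).homEquiv M _).symm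
      ((CxOX.extZeroAdj U.ι).unit.app M ≫ inv ((rU U).map i))
  have hr : r ≫ i = 𝟙 P := by
    apply ((CxOX.extZeroAdj U.ι).homEquiv M P).injective
    rw [Adjunction.homEquiv_naturality_right, Equiv.apply_symm_apply, Adjunction.homEquiv_id, Category.assoc,
      IsIso.inv_hom_id, Category.comp_id]
  refine subsingleton_of_forall_eq 0 fun a => ?_
  obtain ⟨V, hV, t, rfl⟩ := TopCat.Presheaf.exists_germ_eq P.presheaf a
  have h : i.app V (r.app V t) = t :=
    ConcreteCategory.congr_hom (congrArg (fun φ : P ⟶ P => φ.app V) hr) t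
  have h' := SubStalk.ι_app_mem (supFam U P) V (r.app V t) x hV
  rw [supFam, if_neg hx, Submodule.mem_bot] at h'
  exact (congrArg _ h.symm).trans h'

/-- Restriction commutes with tensor products. -/
def restrictTensorNatIso (F : X.Modules) :
    tensorL F ⋙ rU U ≅ rU U ⋙ tensorL (F.restrict U.ι) :=
  haveI : ∀ N, IsIso ((TensorMod.Pullback.deltaNat' U.ι F).app N) := TensorMod.Pullback.isIso_delta U.ι F
  haveI : IsIso (TensorMod.Pullback.deltaNat' U.ι F) := NatIso.isIso_of_isIso_app _
  Functor.isoWhiskerLeft (tensorL F) (Scheme.Modules.restrictFunctorIsoPullback U.ι) ≪≫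
    asIso (TensorMod.Pullback.deltaNat' U.ι F) ≪≫
    Functor.isoWhiskerRight (Scheme.Modules.restrictFunctorIsoPullback U.ι).symm _ ≪≫
    Functor.isoWhiskerLeft (rU U)
      ((tensorFunctor (U : Scheme.{u})).mapIso ((Scheme.Modules.restrictFunctorIsoPullback U.ι).app F).symm)

/-- `j_!(F|U ⊗ T) ⟶ F ⊗ j_! T`. -/
def ψ (F : X.Modules) : tensorL (F.restrict U.ι) ⋙ ez U ⟶ ez U ⋙ tensorL F where
  app T := ((CxOX.extZeroAdj U.ι).homEquiv _ _).symm
    ((tensorL (F.restrict U.ι)).map ((CxOX.extZeroAdj U.ι).unit.app T) ≫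
      (restrictTensorNatIso U F).inv.app ((ez U).obj T))
  naturality {T T'} g := by
    apply ((CxOX.extZeroAdj U.ι).homEquiv _ _).injective
    rw [Functor.comp_map, Functor.comp_map, Adjunction.homEquiv_naturality_left, Equiv.apply_symm_apply,
      Adjunction.homEquiv_naturality_right, Equiv.apply_symm_apply, ← Category.assoc, ← Functor.map_comp]
    have h1 := (CxOX.extZeroAdj U.ι).unit.naturality g
    have h2 := (restrictTensorNatIso U F).inv.naturality ((ez U).map g)
    simp only [Functor.id_map, Functor.comp_map] at h1 h2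
    rw [h1, Functor.map_comp, Category.assoc, Category.assoc, h2]

theorem isIso_ψ_app (F : X.Modules) (T : (U : Scheme.{u}).Modules) : IsIso ((ψ U F).app T) := by
  let adj := CxOX.extZeroAdj U.ι
  haveI : ∀ M, IsIso (adj.unit.app M) := DerivedOX.OpenSupport.isIso_unit_extZeroAdj U
  have h : adj.unit.app _ ≫ (rU U).map ((ψ U F).app T) =
      (tensorL (F.restrict U.ι)).map (adj.unit.app T) ≫ (restrictTensorNatIso U F).inv.app ((ez U).obj T) :=
    (adj.homEquiv_unit _ _ _).symm.trans ((adj.homEquiv _ _).apply_symm_apply _)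
  haveI : IsIso ((rU U).map ((ψ U F).app T)) := IsIso.of_isIso_fac_left h
  rw [Modules.Stalk.isIso_iff_stalk]
  intro x
  by_cases hx : x ∈ U
  · exact ((MorphismProperty.isomorphisms _).arrow_mk_iso_iff
      (Arrow.isoMk ((Local.restrictStalkIso U.ι ⟨x, hx⟩).app _) ((Local.restrictStalkIso U.ι ⟨x, hx⟩).app _)
        ((Local.restrictStalkIso U.ι ⟨x, hx⟩).hom.naturality ((ψ U F).app T)).symm)).1
      (Functor.map_isIso (Stalk.stalkFunctor (U : Scheme.{u}) ⟨x, hx⟩) ((rU U).map ((ψ U F).app T)))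
  · haveI := subsingleton_stalk_extZero U ((tensorL (F.restrict U.ι)).obj T) hx
    haveI := subsingleton_stalk_extZero U T hx
    haveI : Subsingleton ((CohB1.tensorMod F ((ez U).obj T)).presheaf.stalk x) :=
      (DerivedOX.TensorSheaf.tensorStalk x F ((ez U).obj T)).toEquiv.subsingleton_congr.2 inferInstance
    exact (ConcreteCategory.isIso_iff_bijective _).2
      ⟨fun a b _ => Subsingleton.elim (α := ((ez U).obj ((tensorL (F.restrict U.ι)).obj T)).presheaf.stalk x) a b,
        fun b => ⟨0, Subsingleton.elim (α := (CohB1.tensorMod F ((ez U).obj T)).presheaf.stalk x) _ _⟩⟩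

/-- Internal hom commutes with restriction. -/
def homRestrictIso (F : X.Modules) [ModSite.HasSheafHom (O := X.sheaf) F]
    [ModSite.HasSheafHom (O := (↑U : Scheme.{u}).sheaf) (F.restrict U.ι)] :
    Hom.R F ⋙ rU U ≅ rU U ⋙ Hom.R (F.restrict U.ι) :=
  haveI : ∀ T, IsIso ((ψ U F).app T) := isIso_ψ_app U F
  haveI : IsIso (ψ U F) := NatIso.isIso_of_isIso_app _
  ((CxOX.extZeroAdj U.ι).comp (Hom.adj F)).rightAdjointUniq
    (((Hom.adj (F.restrict U.ι)).comp (CxOX.extZeroAdj U.ι)).ofNatIsoLeft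
      (Functor.isoWhiskerRight (ExtShTensor.tensorBiIso (F.restrict U.ι)) _ ≪≫ asIso (ψ U F) ≪≫
        (Functor.isoWhiskerLeft _ (ExtShTensor.tensorBiIso F)).symm))

/-- Derived functors and restriction. -/
theorem nonempty_rightDerived_restrict {C : Type*} [Category C] [Abelian C] {D : Type*} [Category D] [Abelian D]
    [HasInjectiveResolutions C] {C' : Type*} [Category C'] [Abelian C'] [HasInjectiveResolutions C']
    {D' : Type*} [Category D'] [Abelian D'] (Φ : C ⥤ D) [Φ.Additive] (Φ' : C' ⥤ D') [Φ'.Additive]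
    (T : C ⥤ C') [T.Additive] [T.PreservesInjectiveObjects] [T.PreservesHomology]
    (S : D ⥤ D') [S.Additive] [S.PreservesHomology] (θ : Φ ⋙ S ≅ T ⋙ Φ') (G : C) (p : ℕ) :
    Nonempty (S.obj ((Φ.rightDerived p).obj G) ≅ (Φ'.rightDerived p).obj (T.obj G)) :=
  let I := injectiveResolution G
  ⟨S.mapIso (I.isoRightDerivedObj Φ p) ≪≫
    ((((Φ.mapHomologicalComplex _).obj I.cocomplex).sc p).mapHomologyIso S).symm ≪≫
    (HomologicalComplex.homologyFunctor D' _ p).mapIso
      ((NatIso.mapHomologicalComplex θ _).app I.cocomplex :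
        ((Φ ⋙ S).mapHomologicalComplex _).obj I.cocomplex ≅ ((T ⋙ Φ').mapHomologicalComplex _).obj I.cocomplex) ≪≫
    ((DerivedComm.mapInjectiveResolution T I).isoRightDerivedObj Φ' p).symm⟩

/-- Ext sheaves commute with restriction. -/
theorem nonempty_ext_restrict (F G : X.Modules) (q : ℕ) [ModSite.HasSheafHom (O := X.sheaf) F]
    [HasInjectiveResolutions (ModSite.Mod X.sheaf)]
    [ModSite.HasSheafHom (O := (↑U : Scheme.{u}).sheaf) (F.restrict U.ι)]
    [HasInjectiveResolutions (ModSite.Mod (↑U : Scheme.{u}).sheaf)] :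
    Nonempty ((rU U).obj ((ModSite.extSh (O := X.sheaf) F q).obj G : X.Modules) ≅
      ((ModSite.extSh (O := (↑U : Scheme.{u}).sheaf) (F.restrict U.ι) q).obj (G.restrict U.ι) :
        (U : Scheme.{u}).Modules)) := by
  haveI : HasInjectiveResolutions X.Modules := ‹HasInjectiveResolutions (ModSite.Mod X.sheaf)›
  haveI : HasInjectiveResolutions (U : Scheme.{u}).Modules :=
    ‹HasInjectiveResolutions (ModSite.Mod (↑U : Scheme.{u}).sheaf)›
  haveI : (Hom.R F).Additive := (Hom.adj F).right_adjoint_additive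
  haveI : (Hom.R (F.restrict U.ι)).Additive := (Hom.adj _).right_adjoint_additive
  exact nonempty_rightDerived_restrict (Hom.R F) (Hom.R (F.restrict U.ι)) (rU U) (rU U)
    (homRestrictIso U F) G q

/-- Relative Ext sheaves commute with restriction on the base. -/
theorem nonempty_relExt_restrict {Y : Scheme.{u}} (f : X ⟶ Y) (W : Y.Opens) (F G : X.Modules) (p : ℕ)
    [ModSite.HasSheafHom (O := X.sheaf) F] [HasInjectiveResolutions X.Modules]
    [(Hom.R F ⋙ Scheme.Modules.pushforward f).Additive]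
    [ModSite.HasSheafHom (O := (↑(f ⁻¹ᵁ W) : Scheme.{u}).sheaf) (F.restrict (f ⁻¹ᵁ W).ι)]
    [HasInjectiveResolutions (↑(f ⁻¹ᵁ W) : Scheme.{u}).Modules]
    [(Hom.R (F.restrict (f ⁻¹ᵁ W).ι) ⋙ Scheme.Modules.pushforward (f ∣_ W)).Additive] :
    Nonempty ((rU W).obj (((Hom.R F ⋙ Scheme.Modules.pushforward f).rightDerived p).obj G) ≅
      ((Hom.R (F.restrict (f ⁻¹ᵁ W).ι) ⋙ Scheme.Modules.pushforward (f ∣_ W)).rightDerived p).obj
        (G.restrict (f ⁻¹ᵁ W).ι)) :=
  nonempty_rightDerived_restrict (Hom.R F ⋙ Scheme.Modules.pushforward f)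
    (Hom.R (F.restrict (f ⁻¹ᵁ W).ι) ⋙ Scheme.Modules.pushforward (f ∣_ W)) (rU (f ⁻¹ᵁ W)) (rU W)
    (Functor.associator _ _ _ ≪≫
      Functor.isoWhiskerLeft _ (DerivedOX.RestrictRpush.pushRestrictIso f W) ≪≫
      (Functor.associator _ _ _).symm ≪≫ Functor.isoWhiskerRight (homRestrictIso (f ⁻¹ᵁ W) F) _ ≪≫
      Functor.associator _ _ _) G p

end Groth.Agent.Lib.ExtShRestrict
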