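import Groth.Agent.Lib.ExtShStalk.Hom
import Groth.Agent.Lib.Modules.DualAdj
import Groth.Agent.Lib.Modules.Stalk
import Groth.Agent.Lib.Modules.DerivedComm
import Groth.Agent.Lib.SpecSeq.Composite

/-!
# Ext sheaves and tensor products with finite locally free modules

`ℰxt^q(E ⊗ F, G) ≅ ℰxt^q(F, G) ⊗ ℋom(E, O)` for a finite locally free `E`.
-/

set_option autoImplicit false
set_option linter.style.haveILetI false
universe u

open CategoryTheory CategoryTheory.Limits AlgebraicGeometry Opposite TopologicalSpace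

noncomputable section

namespace Groth.Agent.Lib.ExtShTensor

open Groth.Agent.Lib.TensorMod Groth.Agent.Lib.TensorMod.Basic
open Groth.Agent.Lib.TensorMod.Dual (rs rf DualSec dual dualRes rs_rs rf_rf rs_smul rs_self)
open Groth.Agent.Lib.Modules.DualBasis Groth.Agent.Lib.Modules.DualAdj
open Groth.Agent.Lib.ExtShStalk

variable {X : Scheme.{u}}

section Bidual

variable {E : X.Modules}

theorem evalSec_add {U : X.Opens} (a b : Γ(E, U)) : evalSec (a + b) = evalSec a + evalSec b := by
  refine Dual.DualSec.ext fun V hV φ => ?_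
  rw [Dual.add_app]
  change DualSec.app (L := E) φ le_rfl (rs E hV (a + b)) =
    DualSec.app (L := E) φ le_rfl (rs E hV a) + DualSec.app (L := E) φ le_rfl (rs E hV b)
  exact (congrArg _ (Modules.TensorSec.rs_add E hV a b)).trans (map_add _ _ _)

theorem evalSec_smul {U : X.Opens} (r : Γ(X, U)) (a : Γ(E, U)) : evalSec (r • a) = r • evalSec a := by
  refine Dual.DualSec.ext fun V hV φ => ?_
  rw [Dual.smul_app]
  change DualSec.app (L := E) φ le_rfl (rs E hV (r • a)) =
    rf hV r * DualSec.app (L := E) φ le_rfl (rs E hV a)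
  exact (congrArg _ (rs_smul E hV r a)).trans (map_smul _ _ _)

theorem evalSec_rs {U V : X.Opens} (h : V ≤ U) (a : Γ(E, U)) :
    evalSec (rs E h a) = dualRes (dual E) h (evalSec a) := by
  refine Dual.DualSec.ext fun W hW φ => ?_
  change DualSec.app (L := E) φ le_rfl (rs E hW (rs E h a)) =
    DualSec.app (L := E) φ le_rfl (rs E (hW.trans h) a)
  rw [rs_rs]

/-- `E ⟶ E^∨∨`. -/
def bidual (E : X.Modules) : E ⟶ dual (dual E) :=
  ⟨{ app := fun W => ModuleCat.ofHom (X := E.val.obj W) (Y := (dual (dual E)).val.obj W)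
      { toFun := fun e => (show DualSec (dual E) W.unop from evalSec e)
        map_add' := fun a b => evalSec_add a b
        map_smul' := fun r a => evalSec_smul r a }
     naturality := fun {W W'} i => by
       ext e
       exact evalSec_rs i.unop.le e }⟩

theorem bijective_bidual_of_dBasis {U : X.Opens} {n : ℕ} (b : DBasis E U n) :
    Function.Bijective ((bidual E).app U) := by
  constructor
  · intro x y h
    have h' : ∀ i, (b.f i).app le_rfl (rs E le_rfl x) = (b.f i).app le_rfl (rs E le_rfl y) := fun i =>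
      congrArg (fun ψ : DualSec (dual E) U => ψ.app le_rfl (b.f i)) h
    rw [← b.sum_eq U le_rfl x, ← b.sum_eq U le_rfl y]
    simp only [rs_self] at h' ⊢
    simp only [h']
  · intro Ψ
    let Ψ' : DualSec (dual E) U := Ψ
    refine ⟨∑ i, Ψ'.app le_rfl (b.f i) • b.e i, ?_⟩
    refine Eq.trans (map_sum ((bidual E).app U).hom _ _) (Eq.trans ?_ (sum_dual b.dualB Ψ'))
    refine Finset.sum_congr rfl fun i _ => ?_
    exact Scheme.Modules.Hom.app_smul (bidual E) (Ψ'.app le_rfl (b.f i)) (b.e i)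

theorem isIso_bidual (hE : HasDBases E) : IsIso (bidual E) := by
  rw [Modules.Stalk.isIso_iff_stalk_bijective]
  intro x
  constructor
  · intro a c h
    obtain ⟨U₁, h₁, s, rfl⟩ := TopCat.Presheaf.exists_germ_eq E.presheaf a
    obtain ⟨U₂, h₂, t, rfl⟩ := TopCat.Presheaf.exists_germ_eq E.presheaf c
    rw [Modules.Stalk.stalkFunctor_map_germ, Modules.Stalk.stalkFunctor_map_germ] at h
    obtain ⟨W, hW, i, j, e⟩ := TopCat.Presheaf.germ_eq (dual (dual E)).presheaf x h₁ h₂ _ _ h
    obtain ⟨V, n, hxV, hVW, ⟨b⟩⟩ := exists_dBasis_le hE hW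
    rw [← TopCat.Presheaf.germ_res_apply E.presheaf (homOfLE (hVW.trans i.le)) x hxV s,
      ← TopCat.Presheaf.germ_res_apply E.presheaf (homOfLE (hVW.trans j.le)) x hxV t]
    refine congrArg _ ((bijective_bidual_of_dBasis b).1 ?_)
    have e' := congrArg (rs (dual (dual E)) hVW) e
    refine (Modules.TensorSec.app_rs (bidual E) (hVW.trans i.le) s).trans
      (Eq.trans ?_ (Modules.TensorSec.app_rs (bidual E) (hVW.trans j.le) t).symm)
    rw [← rs_rs _ i.le hVW, ← rs_rs _ j.le hVW]
    exact e'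
  · intro c
    obtain ⟨U, hU, s, rfl⟩ := TopCat.Presheaf.exists_germ_eq (dual (dual E)).presheaf c
    obtain ⟨V, n, hxV, hVU, ⟨b⟩⟩ := exists_dBasis_le hE hU
    obtain ⟨e, he⟩ := (bijective_bidual_of_dBasis b).2 (rs _ hVU s)
    refine ⟨E.presheaf.germ V x hxV e, ?_⟩
    rw [Modules.Stalk.stalkFunctor_map_germ, he]
    exact TopCat.Presheaf.germ_res_apply _ (homOfLE hVU) x hxV s

/-- `E ≅ E^∨∨`. -/
def bidualIso (hE : HasDBases E) : E ≅ dual (dual E) :=
  @asIso _ _ _ _ (bidual E) (isIso_bidual hE)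

end Bidual

/-- The two tensor functors. -/
def tensorBiIso (M : X.Modules) : (DCoh.tensorBi (X := X)).obj M ≅ tensorL M :=
  NatIso.ofComponents (fun _ => Iso.refl _) fun f => by
    rw [Iso.refl_hom, Iso.refl_hom, DerivedOX.PullTensor.tensorBi_obj_map]
    exact (Category.comp_id _).trans (Category.id_comp _).symm

/-- `ℋom(E, -) ≅ E^∨ ⊗ -`. -/
def homTensorIso {E : X.Modules} (hE : HasDBases E) [ModSite.HasSheafHom (O := X.sheaf) E] :
    Hom.R E ≅ tensorL (dual E) :=
  ((Hom.adj E).ofNatIsoLeft (tensorBiIso E)).rightAdjointUniq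
    ((adjunction hE.dual).ofNatIsoLeft ((tensorFunctor X).mapIso (bidualIso hE).symm))

/-- Tensoring on the left with a tensor product. -/
def tensorLCompIso (E F : X.Modules) : tensorL E ⋙ tensorL F ≅ tensorL (CohB1.tensorMod E F) :=
  NatIso.ofComponents (fun T => (assoc F E T).symm ≪≫ tensorIso (comm F E) (Iso.refl T))
    fun {T T'} a => by
      change tmap (𝟙 F) (tmap (𝟙 E) a) ≫ (assoc F E T').inv ≫ tmap (comm F E).hom (𝟙 T') =
        ((assoc F E T).inv ≫ tmap (comm F E).hom (𝟙 T)) ≫ tmap (𝟙 (CohB1.tensorMod E F)) a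
      rw [Category.assoc, ← tmap_comp, ← Category.assoc, show tmap (𝟙 F) (tmap (𝟙 E) a) ≫
        (assoc F E T').inv = (assoc F E T).inv ≫ tmap (tmap (𝟙 F) (𝟙 E)) a from
          (Iso.comp_inv_eq _).2 (by rw [Category.assoc, assoc_natural, Iso.inv_hom_id_assoc]),
        Category.assoc, ← tmap_comp, tmap_id]
      simp

/-- `ℋom(E ⊗ F, -) ≅ ℋom(E, ℋom(F, -))`. -/
def homCompIso (E F : X.Modules) [ModSite.HasSheafHom (O := X.sheaf) E] [ModSite.HasSheafHom (O := X.sheaf) F]
    [ModSite.HasSheafHom (O := X.sheaf) (CohB1.tensorMod E F)] :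
    Hom.R (CohB1.tensorMod E F) ≅ Hom.R F ⋙ Hom.R E :=
  (Hom.adj (CohB1.tensorMod E F)).rightAdjointUniq
    (((Hom.adj E).comp (Hom.adj F)).ofNatIsoLeft
      (Functor.isoWhiskerRight (tensorBiIso E) _ ≪≫ Functor.isoWhiskerLeft _ (tensorBiIso F) ≪≫
        tensorLCompIso E F ≪≫ (tensorBiIso _).symm))

variable [HasInjectiveResolutions (ModSite.Mod X.sheaf)]

/-- `ℰxt^q(E ⊗ F, G) ≅ ℰxt^q(F, G) ⊗ ℋom(E, O)`. -/
theorem nonempty_ext_tensor_iso {E : X.Modules} (hE : FlatMod.IsFinLocFree E) (F G : X.Modules)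
    [ModSite.HasSheafHom (O := X.sheaf) E] [ModSite.HasSheafHom (O := X.sheaf) F]
    [ModSite.HasSheafHom (O := X.sheaf) (CohB1.tensorMod E F)] (q : ℕ) :
    Nonempty (CohB1.tensorMod ((ModSite.extSh (O := X.sheaf) F q).obj G : X.Modules) ((Hom.R E).obj (Coh.structureModule X)) ≅
      ((ModSite.extSh (O := X.sheaf) (CohB1.tensorMod E F) q).obj G : X.Modules)) := by
  haveI : HasInjectiveResolutions X.Modules := ‹HasInjectiveResolutions (ModSite.Mod X.sheaf)›
  have hb := hasDBases_of_isFinLocFree hE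
  haveI : (Hom.R F).Additive := (Hom.adj F).right_adjoint_additive
  haveI : (Hom.R (CohB1.tensorMod E F)).Additive := (Hom.adj _).right_adjoint_additive
  haveI : (tensorL (dual E)).PreservesMonomorphisms := tensorL_preservesMono hb.dual
  haveI : (tensorL (dual E)).IsLeftAdjoint := tensorL_isLeftAdjoint' hb
  haveI : (tensorL (dual E)).PreservesHomology :=
    (tensorL (dual E)).preservesHomology_of_preservesMonos_and_cokernels
  let I := injectiveResolution G
  refine ⟨tensorIso (Iso.refl _) ((homTensorIso hb).app (Coh.structureModule X) ≪≫ rightUnit (dual E) : (Hom.R E).obj (Coh.structureModule X) ≅ dual E) ≪≫ comm _ _ ≪≫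
    (tensorL (dual E)).mapIso (I.isoRightDerivedObj (Hom.R F) q) ≪≫
    (((((Hom.R F).mapHomologicalComplex _).obj I.cocomplex).sc q).mapHomologyIso (tensorL (dual E))).symm ≪≫
    (HomologicalComplex.homologyFunctor _ _ q).mapIso
      ((NatIso.mapHomologicalComplex (Functor.isoWhiskerLeft (Hom.R F) (homTensorIso hb).symm ≪≫
        (homCompIso E F).symm) _).app I.cocomplex :
          ((Hom.R F ⋙ tensorL (dual E)).mapHomologicalComplex _).obj I.cocomplex ≅
            ((Hom.R (CohB1.tensorMod E F)).mapHomologicalComplex _).obj I.cocomplex) ≪≫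
    (I.isoRightDerivedObj (Hom.R (CohB1.tensorMod E F)) q).symm⟩

/-- Ext sheaves of isomorphic modules. -/
theorem nonempty_ext_congr {M M' : X.Modules} (e : M ≅ M') [ModSite.HasSheafHom (O := X.sheaf) M]
    [ModSite.HasSheafHom (O := X.sheaf) M'] (G : X.Modules) (q : ℕ) :
    Nonempty (((ModSite.extSh (O := X.sheaf) M q).obj G : X.Modules) ≅
      ((ModSite.extSh (O := X.sheaf) M' q).obj G : X.Modules)) := by
  haveI : HasInjectiveResolutions X.Modules := ‹HasInjectiveResolutions (ModSite.Mod X.sheaf)›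
  haveI : (Hom.R M).Additive := (Hom.adj M).right_adjoint_additive
  haveI : (Hom.R M').Additive := (Hom.adj M').right_adjoint_additive
  exact ⟨SpecSeq.Composite.rightDerivedCongr ((Hom.adj M).rightAdjointUniq
    ((Hom.adj M').ofNatIsoLeft ((DCoh.tensorBi (X := X)).mapIso e.symm))) q G⟩

end Groth.Agent.Lib.ExtShTensor
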