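import Groth.Agent.Lib.H58RedPurInsep
import Groth.Agent.Lib.WeakNormal.AbsScheme
import Groth.Agent.H2.Rigid.GeomRedAt
import Groth.Agent.H52.FBase.GeomRedSch
import Mathlib.AlgebraicGeometry.Geometrically.Reduced

/-!
# Geometrically reduced reduction after a finite purely inseparable extension
-/

set_option autoImplicit false
universe u
open CategoryTheory CategoryTheory.Limits AlgebraicGeometry TensorProduct
open Groth.Agent.Lib

namespace Groth.Agent.Lib.H58ReductionGR

variable {k : Type u} [Field k]

/-- Spectra of purely inseparable extensions are universal homeomorphisms. -/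
theorem isUnivHomeo_specMap (k' : Type u) [Field k'] [Algebra k k'] [IsPurelyInseparable k k'] :
    FlatMor.IsUnivHomeo (Spec.map (CommRingCat.ofHom (algebraMap k k'))) := by
  refine (UnivHomeo.Basic.iff_integral_universallyInjective_surjective _).2
    ⟨IsIntegralHom.SpecMap_iff.2 (fun x => Algebra.IsIntegral.isIntegral x), ?_, ?_⟩
  · refine ((tfae_universallyInjective _).out 0 1).2 ?_
    intro K _ g₁ g₂ h
    obtain ⟨φ₁, rfl⟩ := Spec.map_surjective g₁
    obtain ⟨φ₂, rfl⟩ := Spec.map_surjective g₂
    simp only [← Spec.map_comp] at h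
    congr 1
    exact CommRingCat.hom_ext (IsPurelyInseparable.injective_comp_algebraMap k k' K
      congr($(Spec.map_injective h).hom))
  · exact ⟨fun x => ⟨(⟨⊥, Ideal.isPrime_bot⟩ : PrimeSpectrum k'), Subsingleton.elim _ _⟩⟩

/-- A reduced closed subscheme of an affine scheme with full support has geometrically reduced
structure map when the reduced quotient ring does. -/
theorem geometricallyReduced_closed {B : Type u} [CommRing B] [Algebra k B]
    [Algebra.IsGeometricallyReduced k (B ⧸ nilradical B)] {Z : Scheme.{u}} [IsReduced Z]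
    (c : Z ⟶ Spec (CommRingCat.of B)) [IsClosedImmersion c] [Surjective c] :
    GeometricallyReduced (c ≫ Spec.map (CommRingCat.ofHom (algebraMap k B))) := by
  obtain ⟨hZ, hs⟩ := IsClosedImmersion.isAffine_surjective_of_isAffine c
  let θ : CommRingCat.of B ⟶ Γ(Z, ⊤) := (Scheme.ΓSpecIso _).inv ≫ c.appTop
  have hc : c = Z.isoSpec.hom ≫ Spec.map θ := by
    rw [Spec.map_comp, ← Category.assoc, Scheme.isoSpec_hom_naturality, Category.assoc]
    simp
  have hθ : Function.Surjective θ.hom := fun z => by
    obtain ⟨y, rfl⟩ := hs z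
    exact ⟨(Scheme.ΓSpecIso (CommRingCat.of B)).hom.hom y, by simp [θ]⟩
  let _ : Algebra k Γ(Z, ⊤) := (θ.hom.comp (algebraMap k B)).toAlgebra
  let θa : B →ₐ[k] Γ(Z, ⊤) := { θ.hom with commutes' := fun _ => rfl }
  have : Surjective (Spec.map θ) := by
    have : Surjective (Z.isoSpec.hom ≫ Spec.map θ) := hc ▸ ‹Surjective c›
    exact Surjective.of_comp Z.isoSpec.hom _
  have hker : RingHom.ker θa = nilradical B := by
    refine le_antisymm (fun b hb => ?_) fun b hb => IsReduced.eq_zero _ ((mem_nilradical.1 hb).map θa)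
    rw [nilradical_eq_sInf, Ideal.mem_sInf]
    intro P hP
    obtain ⟨Q, hQ⟩ := (‹Surjective (Spec.map θ)›).surj ⟨P, hP⟩
    rw [← show (Spec.map θ Q).asIdeal = P from congrArg PrimeSpectrum.asIdeal hQ]
    show θ.hom b ∈ Q.asIdeal
    rw [show θ.hom b = 0 from hb]
    exact zero_mem _
  have : Algebra.IsGeometricallyReduced k Γ(Z, ⊤) := by
    let e : (B ⧸ nilradical B) ≃ₐ[k] Γ(Z, ⊤) :=
      (Ideal.quotientEquivAlgOfEq k hker.symm).trans (Ideal.quotientKerAlgEquivOfSurjective (f := θa) hθ)
    exact Algebra.IsGeometricallyReduced.of_injective e.symm.toAlgHom e.symm.injective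
  have h := Groth.Agent.H52.FBase.GeomRedSch.geometricallyReduced_specMap k Γ(Z, ⊤)
  rw [hc, Category.assoc, ← Spec.map_comp]
  have : MorphismProperty.RespectsIso @GeometricallyReduced :=
    MorphismProperty.IsStableUnderBaseChange.respectsIso
  exact (MorphismProperty.cancel_left_of_respectsIso @GeometricallyReduced Z.isoSpec.hom _).2 h

/-- Geometric reducedness at points of a geometrically reduced open piece. -/
theorem isGeomReducedAt_of_openImmersion (Y : Scheme.{u}) [Y.Over (Spec (CommRingCat.of k))]
    {Z : Scheme.{u}} (j : Z ⟶ Y) [IsOpenImmersion j]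
    [GeometricallyReduced (j ≫ Y ↘ Spec (CommRingCat.of k))] (z : Z) :
    Curv2.IsGeomReducedAt k Y (j z) := by
  intro K _ _ y hy
  let σ := Spec.map (CommRingCat.ofHom (algebraMap k K))
  let m : pullback (j ≫ Y ↘ Spec (CommRingCat.of k)) σ ⟶ Curv2.bc k Y K :=
    pullback.map _ _ _ _ j (𝟙 _) (𝟙 _) (by simp) (by simp [σ])
  have hm : IsPullback m (pullback.fst _ σ) (pullback.fst (Y ↘ Spec (CommRingCat.of k)) σ) j := by
    refine IsPullback.of_right ?_ (pullback.lift_fst _ _ _) (IsPullback.of_hasPullback _ σ).flip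
    rw [pullback.lift_snd, Category.comp_id]
    exact (IsPullback.of_hasPullback _ σ).flip
  have : IsOpenImmersion m := MorphismProperty.of_isPullback hm.flip inferInstance
  obtain ⟨w, hw, -⟩ := Scheme.exists_preimage_of_isPullback hm y z hy
  have : IsReduced (pullback (j ≫ Y ↘ Spec (CommRingCat.of k)) σ) :=
    GeometricallyReduced.geometrically_isReduced _ _ _ (.of_hasPullback _ _)
  rw [← hw]
  exact isReduced_of_injective (asIso (m.stalkMap w)).commRingCatIsoToRingEquiv
    (RingEquiv.injective _)

theorem main (k : Type u) [Field k] (X : Scheme.{u}) [X.Over (Spec (CommRingCat.of k))]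
    [LocallyOfFiniteType (X ↘ (Spec (CommRingCat.of k)))]
    (hirr : (irreducibleComponents (X : Type u)).Finite) :
    ∃ (k' : Type u) (_ : Field k') (_ : Algebra k k'), FiniteDimensional k k' ∧ IsPurelyInseparable k k' ∧
      GeometricallyReduced ((Curv2.bc k X k').nilradical.subschemeι ≫ Curv2.bcSnd k X k') := by
  classical
  have : Finite (irreducibleComponents (X : Type u)) := hirr.to_subtype
  obtain ⟨n, ⟨en⟩⟩ := Finite.exists_equiv_fin (irreducibleComponents (X : Type u))
  let η : Fin n → X := fun i => ((en.symm i).2.1).genericPoint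
  choose U hU hηU using fun i : Fin n =>
    (X.isBasis_affineOpens.exists_subset_of_mem_open (Set.mem_univ (η i)) isOpen_univ)
  choose V hV hVU using hU
  choose ψ hψ using fun i : Fin n => Spec.map_surjective ((hV i).fromSpec ≫ X ↘ Spec (CommRingCat.of k))
  let A : Fin n → Type u := fun i => Γ(X, V i)
  let alg : ∀ i, Algebra k (A i) := fun i => (ψ i).hom.toAlgebra
  have hft : ∀ i, Algebra.FiniteType k (A i) := fun i => by
    have : IsOpenImmersion (hV i).fromSpec := (hV i).isOpenImmersion_fromSpec
    have : LocallyOfFiniteType (Spec.map (ψ i)) := by rw [hψ i]; infer_instance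
    exact (HasRingHomProperty.Spec_iff (P := @LocallyOfFiniteType)).1 this
  obtain ⟨k', i1, i2, h1, h2, hgr⟩ := H58RedPurInsep.exists_ext_of_finiteType k A
  refine ⟨k', i1, i2, h1, h2, ?_⟩
  let X' := Curv2.bc k X k'
  let ι := X'.nilradical.subschemeι
  let Y := X'.nilradical.subscheme
  let _ : Y.Over (Spec (CommRingCat.of k')) := ⟨ι ≫ Curv2.bcSnd k X k'⟩
  have : IsReduced Y := WeakNormal.AbsScheme.isReduced_nilradical_subscheme X'
  have hφ : FlatMor.IsUnivHomeo (ι ≫ Curv2.bcFst k X k') :=
    UnivHomeo.Basic.comp (WeakNormal.AbsScheme.isUnivHomeo_reduced X')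
      (MorphismProperty.pullback_fst _ _ (isUnivHomeo_specMap k'))
  have hs : Surjective (ι ≫ Curv2.bcFst k X k') :=
    ((UnivHomeo.Basic.iff_integral_universallyInjective_surjective _).1 hφ).2.2
  have hi : UniversallyInjective (ι ≫ Curv2.bcFst k X k') :=
    ((UnivHomeo.Basic.iff_integral_universallyInjective_surjective _).1 hφ).2.1
  have hint : IsIntegralHom (ι ≫ Curv2.bcFst k X k') :=
    ((UnivHomeo.Basic.iff_integral_universallyInjective_surjective _).1 hφ).1
  show GeometricallyReduced (Y ↘ Spec (CommRingCat.of k'))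
  rw [Groth.Agent.H2.Rigid.GeomRedAt.geometricallyReduced_iff k' Y]
  refine Groth.Agent.H2.Rigid.GeomRedAt.of_generic k' Y fun W hW w hw => ?_
  let φ := ι ≫ Curv2.bcFst k X k'
  -- `φ w` is a generalisation-maximal point, hence lies in one of the chosen affines
  obtain ⟨i, hwi⟩ : ∃ i, φ w ∈ V i := by
    let C : irreducibleComponents (X : Type u) :=
      ⟨_, irreducibleComponent_mem_irreducibleComponents (φ w)⟩
    refine ⟨en C, ?_⟩
    have hgen : IsGenericPoint (η (en C)) (irreducibleComponent (φ w)) := by
      have h := C.2.1.isGenericPoint_genericPoint_closure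
      rw [IsClosed.closure_eq isClosed_irreducibleComponent] at h
      simpa only [η, Equiv.symm_apply_apply] using h
    have hspec : η (en C) ⤳ φ w := hgen.specializes mem_irreducibleComponent
    obtain ⟨y, hy⟩ := hs.surj (η (en C))
    have hyw : y ⤳ w := by
      rw [← (UnivHomeo.Basic.isHomeomorph hφ).isEmbedding.isInducing.specializes_iff, hy]
      exact hspec
    have hWy : y ∈ W := by
      have h1 : IsIrreducible (closure ({y} : Set Y)) := isIrreducible_singleton.closure
      have h2 : W ⊆ closure {y} := by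
        rw [← hw.def]
        exact closure_minimal (Set.singleton_subset_iff.2 (specializes_iff_mem_closure.1 hyw)) isClosed_closure
      exact hW.2 h1 h2 (subset_closure rfl)
    have hyw' : y = w := (hyw.antisymm (hw.specializes hWy)).eq
    rw [← hyw', show φ y = η (en C) from hy]
    exact (hVU (en C)).symm ▸ hηU (en C) |>.1
  -- the open piece
  let jA : Spec (CommRingCat.of (A i)) ⟶ X := (hV i).fromSpec
  have : IsOpenImmersion jA := (hV i).isOpenImmersion_fromSpec
  let σ := Spec.map (CommRingCat.ofHom (algebraMap k k'))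
  let τ := Spec.map (CommRingCat.ofHom (algebraMap k (A i)))
  have hτ : jA ≫ X ↘ Spec (CommRingCat.of k) = τ := (hψ i).symm
  let jB : Spec (CommRingCat.of (k' ⊗[k] A i)) ⟶ X' :=
    (pullbackSpecIso k k' (A i)).inv ≫ (pullbackSymmetry σ τ).hom ≫
      pullback.map τ σ (X ↘ Spec (CommRingCat.of k)) σ jA (𝟙 _) (𝟙 _)
        (by rw [Category.comp_id]; exact hτ.symm) (by simp)
  have hjB : jB ≫ Curv2.bcSnd k X k' =
      Spec.map (CommRingCat.ofHom (algebraMap k' (k' ⊗[k] A i))) := by
    simp only [jB, Curv2.bcSnd, Category.assoc, pullback.lift_snd, Category.comp_id,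
      pullbackSymmetry_hom_comp_snd, σ, τ]
    exact pullbackSpecIso_inv_fst k k' (A i)
  have : IsOpenImmersion jB := inferInstance
  let c := pullback.fst jB ι
  let j' := pullback.snd jB ι
  have : IsReduced (pullback jB ι) := isReduced_of_isOpenImmersion j'
  have : Surjective ι := ((UnivHomeo.Basic.iff_integral_universallyInjective_surjective _).1
    (WeakNormal.AbsScheme.isUnivHomeo_reduced X')).2.2
  have := hgr i
  have hcgr := geometricallyReduced_closed (k := k') c
  have : GeometricallyReduced (j' ≫ Y ↘ Spec (CommRingCat.of k')) := by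
    show GeometricallyReduced (j' ≫ ι ≫ Curv2.bcSnd k X k')
    rw [← hjB] at hcgr
    rw [← Category.assoc, ← pullback.condition, Category.assoc]
    exact hcgr
  obtain ⟨z, hz⟩ : ∃ z, j' z = w := by
    suffices w ∈ Set.range j' from this
    rw [Scheme.Pullback.range_snd, Set.mem_preimage]
    obtain ⟨a, ha⟩ : φ w ∈ Set.range jA := by
      rw [show Set.range jA = (V i : Set X) from (hV i).range_fromSpec]
      exact hwi
    have hr : Set.range (pullback.map τ σ (X ↘ Spec (CommRingCat.of k)) σ jA (𝟙 _) (𝟙 _)
        (by rw [Category.comp_id]; exact hτ.symm) (by simp)) = Curv2.bcFst k X k' ⁻¹' Set.range jA := by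
      rw [Scheme.Pullback.range_map]
      simp [Curv2.bcFst, σ]
    have hjr : Set.range jB = Set.range (pullback.map τ σ (X ↘ Spec (CommRingCat.of k)) σ jA (𝟙 _)
        (𝟙 _) (by rw [Category.comp_id]; exact hτ.symm) (by simp)) := by
      simp only [jB, Scheme.Hom.comp_base, TopCat.coe_comp, ← Category.assoc]
      exact ((pullbackSpecIso k k' (A i)).inv ≫ (pullbackSymmetry σ τ).hom).surjective.range_comp _
    rw [hjr, hr]
    exact ⟨a, ha⟩
  rw [← hz]
  exact isGeomReducedAt_of_openImmersion Y j' z

end Groth.Agent.Lib.H58ReductionGR
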