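import Mathlib
import Groth.Prelude.Def_CartDual

open TensorProduct WithConv

universe u v

namespace Groth.Agent.Lib.DualEval

variable {R : Type u} [CommRing R] {E : Type v}

section Mod
variable [AddCommGroup E] [Module R E] [Module.Finite R E] [Module.Projective R E]

/-- Pairs of functionals separate the tensor square of a finite projective module. -/
theorem tensor_ext {t t' : E ⊗[R] E}
    (h : ∀ φ ψ : E →ₗ[R] R, LinearMap.mul' R R (TensorProduct.map φ ψ t) =
      LinearMap.mul' R R (TensorProduct.map φ ψ t')) : t = t' := by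
  rw [← sub_eq_zero, ← Module.forall_dual_apply_eq_zero_iff R]
  intro Φ
  rw [map_sub, sub_eq_zero, ← (CartDual.ev₂ R E).apply_symm_apply Φ]
  generalize (CartDual.ev₂ R E).symm Φ = y
  induction y using TensorProduct.induction_on with
  | zero => simp
  | add p q hp hq => simp only [map_add, LinearMap.add_apply, hp, hq]
  | tmul p q =>
    have : ∀ z : E ⊗[R] E, CartDual.ev₂ R E (p ⊗ₜ q) z = LinearMap.mul' R R (TensorProduct.map p.ofConv q.ofConv z) := by
      intro z
      induction z using TensorProduct.induction_on with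
      | zero => simp
      | add a b ha hb => simp only [map_add, ha, hb]
      | tmul a b => simp [CartDual.coe_apply]
    rw [this, this, h]

omit [Module.Finite R E] [Module.Projective R E] in
theorem pair_tmul (φ ψ : E →ₗ[R] R) (a b : E) :
    LinearMap.mul' R R (TensorProduct.map φ ψ (a ⊗ₜ b)) = φ a * ψ b := by simp

/-- The element representing a functional on the dual. -/
noncomputable def repr (f : WithConv (E →ₗ[R] R) →ₗ[R] R) : E :=
  (Module.evalEquiv R E).symm (f ∘ₗ (WithConv.linearEquiv R (E →ₗ[R] R)).symm.toLinearMap)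

theorem apply_repr (f : WithConv (E →ₗ[R] R) →ₗ[R] R) (φ : E →ₗ[R] R) :
    φ (repr f) = f (toConv φ) := by
  rw [repr, Module.apply_evalEquiv_symm_apply]
  rfl

theorem eq_repr {f : WithConv (E →ₗ[R] R) →ₗ[R] R} {x : E} (h : ∀ φ : E →ₗ[R] R, f (toConv φ) = φ x) :
    x = repr f := by
  apply (Module.evalEquiv R E).injective
  refine LinearMap.ext fun φ => ?_
  show φ x = φ (repr f)
  rw [apply_repr, h]

end Mod

section Ring
variable [CommRing E] [Bialgebra R E]

theorem mul_apply (φ ψ : WithConv (E →ₗ[R] R)) (x : E) :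
    (φ * ψ) x = LinearMap.mul' R R (TensorProduct.map φ.ofConv ψ.ofConv (Coalgebra.comul (R := R) x)) := rfl

theorem one_apply (x : E) : (1 : WithConv (E →ₗ[R] R)) x = Coalgebra.counit (R := R) x := by
  simp [LinearMap.convOne_def]

variable [Module.Finite R E] [Module.Projective R E]

theorem groupLike_eval :
    (∀ f : WithConv (E →ₗ[R] R) →ₐ[R] R,
        ∃! x : E, IsGroupLikeElem R x ∧ ∀ φ : E →ₗ[R] R, f (toConv φ) = φ x) ∧
      (∀ x : E, IsGroupLikeElem R x →
        ∃ f : WithConv (E →ₗ[R] R) →ₐ[R] R, ∀ φ : E →ₗ[R] R, f (toConv φ) = φ x) := by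
  constructor
  · intro f
    have hx : ∀ φ : WithConv (E →ₗ[R] R), φ (repr f.toLinearMap) = f φ := fun φ => by
      show φ.ofConv (repr f.toLinearMap) = _
      rw [apply_repr]; rfl
    refine ⟨repr f.toLinearMap, ⟨⟨?_, ?_⟩, fun φ => (apply_repr f.toLinearMap φ).symm⟩,
      fun x hx' => eq_repr hx'.2⟩
    · rw [← one_apply, hx, map_one]
    · refine tensor_ext fun φ ψ => ?_
      rw [← mul_apply (toConv φ) (toConv ψ), hx, map_mul, pair_tmul, ← hx, ← hx]
  · intro x hx
    refine ⟨AlgHom.ofLinearMap ((LinearMap.applyₗ x) ∘ₗ (WithConv.linearEquiv R (E →ₗ[R] R)).toLinearMap) ?_ ?_,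
      fun φ => rfl⟩
    · show (1 : WithConv (E →ₗ[R] R)) x = 1
      rw [one_apply, hx.counit_eq_one]
    · intro φ ψ
      show (φ * ψ) x = φ x * ψ x
      rw [mul_apply, hx.comul_eq_tmul_self, pair_tmul]

theorem primitive_eval :
    (∀ f : WithConv (E →ₗ[R] R) →ₗ[R] R,
        (∀ φ ψ : WithConv (E →ₗ[R] R), f (φ * ψ) = f φ * ψ 1 + φ 1 * f ψ) →
        ∃! x : E, Coalgebra.comul x = x ⊗ₜ[R] (1 : E) + (1 : E) ⊗ₜ[R] x ∧
          ∀ φ : WithConv (E →ₗ[R] R), f φ = φ x) ∧
      (∀ x : E, Coalgebra.comul x = x ⊗ₜ[R] (1 : E) + (1 : E) ⊗ₜ[R] x →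
        ∀ φ ψ : WithConv (E →ₗ[R] R), (φ * ψ) x = φ x * ψ 1 + φ 1 * ψ x) := by
  constructor
  · intro f hf
    have hx : ∀ φ : WithConv (E →ₗ[R] R), φ (repr f) = f φ := fun φ => by
      show φ.ofConv (repr f) = _
      rw [apply_repr]
    refine ⟨repr f, ⟨tensor_ext fun φ ψ => ?_, fun φ => (hx φ).symm⟩, fun x hx' => eq_repr fun φ => hx'.2 _⟩
    rw [← mul_apply (toConv φ) (toConv ψ), hx, hf, map_add, map_add, pair_tmul, pair_tmul, ← hx, ← hx]
  · intro x hx φ ψ
    rw [mul_apply, hx, map_add, map_add, pair_tmul, pair_tmul]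

theorem isCocomm_of_comm (h : ∀ φ ψ : WithConv (E →ₗ[R] R), φ * ψ = ψ * φ) : Coalgebra.IsCocomm R E where
  comm_comp_comul := by
    refine LinearMap.ext fun a => tensor_ext fun φ ψ => ?_
    rw [← mul_apply (toConv φ) (toConv ψ), h, mul_apply]
    simp only [LinearMap.comp_apply]
    generalize Coalgebra.comul (R := R) a = t
    induction t using TensorProduct.induction_on with
    | zero => simp
    | add p q hp hq => simp only [map_add] at hp hq ⊢; rw [hp, hq]
    | tmul p q => simp [mul_comm]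

theorem comul_dual_derivation (d : CartDual.D R E)
    (hd : ∀ x y : E, d (x * y) = Coalgebra.counit (R := R) x * d y + Coalgebra.counit (R := R) y * d x) :
    Coalgebra.comul (R := R) d = d ⊗ₜ[R] (1 : CartDual.D R E) + (1 : CartDual.D R E) ⊗ₜ[R] d := by
  apply (CartDual.ev₂ R E).injective
  apply TensorProduct.ext'
  intro a b
  rw [map_add, LinearMap.add_apply, CartDual.ev₂_coalgebra_comul_tmul, CartDual.ev₂_tmul, CartDual.ev₂_tmul, hd,
    one_apply, one_apply]
  ring

theorem dual_restrict_bijective :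
    Function.Bijective (fun f : LinearMap.ker (Bialgebra.counitAlgHom R (CartDual.D R E)).toLinearMap =>
      ((CartDual.toDual R E) (f : CartDual.D R E)).comp
        (LinearMap.ker (Bialgebra.counitAlgHom R E).toLinearMap).subtype) := by
  have hker : ∀ a : E, a - Coalgebra.counit (R := R) a • (1 : E) ∈
      LinearMap.ker (Bialgebra.counitAlgHom R E).toLinearMap := fun a => by
    simp [LinearMap.mem_ker]
  constructor
  · intro f g h
    refine Subtype.ext (WithConv.ext (LinearMap.ext fun a => ?_))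
    have h1 := LinearMap.congr_fun h ⟨_, hker a⟩
    simp only [LinearMap.comp_apply, Submodule.subtype_apply, CartDual.toDual_apply, map_sub, map_smul] at h1
    have hf : (f : CartDual.D R E).ofConv 1 = 0 := f.2
    have hg : (g : CartDual.D R E).ofConv 1 = 0 := g.2
    rw [hf, hg, smul_zero, sub_zero, sub_zero] at h1
    exact h1
  · intro l
    let p : E →ₗ[R] LinearMap.ker (Bialgebra.counitAlgHom R E).toLinearMap :=
      (LinearMap.id - (LinearMap.toSpanSingleton R E 1) ∘ₗ (Bialgebra.counitAlgHom R E).toLinearMap).codRestrict _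
        (fun a => hker a)
    refine ⟨⟨toConv (l ∘ₗ p), ?_⟩, LinearMap.ext fun a => ?_⟩
    · show l (p 1) = 0
      have : p 1 = 0 := Subtype.ext (show (1 : E) - Bialgebra.counitAlgHom R E 1 • (1 : E) = 0 by simp)
      rw [this, map_zero]
    · show l (p a.1) = l a
      congr 1
      have ha : Bialgebra.counitAlgHom R E a.1 = 0 := a.2
      exact Subtype.ext (show a.1 - Bialgebra.counitAlgHom R E a.1 • (1 : E) = a.1 by simp [ha])

end Ring

end Groth.Agent.Lib.DualEval
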