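import Groth.Prelude.Def_Versch
import Groth.Prelude.Def_SGA3b
import Mathlib.RingTheory.Bialgebra.Convolution
import Mathlib.RingTheory.Bialgebra.TensorProduct
import Mathlib.RingTheory.Finiteness.Projective
import Groth.Agent.Lib.RelFrobEtale

/-! # The Verschiebung of a finite projective cocommutative Hopf algebra -/

set_option autoImplicit false
universe u v

open TensorProduct WithConv

namespace Groth.Agent.Lib.H58Versch

section general

variable (p : ℕ) [Fact p.Prime] {R : Type u} [CommRing R] [CharP R p] {A : Type v} [CommRing A] [HopfAlgebra R A]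

lemma algebraMap_injective : Function.Injective (algebraMap R A) :=
  Function.LeftInverse.injective (g := Coalgebra.counit (R := R)) fun r => by simp

lemma exists_dual_basis [Module.Finite R A] [Module.Projective R A] :
    ∃ (n : ℕ) (x : Fin n → CartDual.D R A) (e : Fin n → A), ∀ b : A, ∑ j, x j b • e j = b := by
  obtain ⟨n, f, g, -, -, hfg⟩ := Module.Finite.exists_comp_eq_id_of_projective R A
  refine ⟨n, fun j => toConv ((LinearMap.proj j).comp g), fun j => f (Pi.single j 1), fun b => ?_⟩
  conv_rhs => rw [← LinearMap.id_apply (R := R) b, ← hfg, LinearMap.comp_apply, pi_eq_sum_univ' (g b), map_sum]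
  simp [CartDual.coe_apply]

variable [Coalgebra.IsCocomm R A] [Module.Finite R A] [Module.Projective R A]

lemma smul_pow_apply (c : R) (x : CartDual.D R A) (n : ℕ) (a : A) :
    ((c • x) ^ n) a = c ^ n * (x ^ n) a := by
  rw [smul_pow, CartDual.coe_apply, WithConv.ofConv_smul, LinearMap.smul_apply, smul_eq_mul, CartDual.coe_apply]

lemma sum_apply {ι : Type*} (s : Finset ι) (x : ι → CartDual.D R A) (a : A) :
    (∑ j ∈ s, x j) a = ∑ j ∈ s, x j a := by
  simp [CartDual.coe_apply, WithConv.ofConv_sum]

theorem v_eq (v : A →+* FrobAlg.BaseChange p R A) (hv : Versch.IsVerschiebung p R A v) {n : ℕ}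
    (x : Fin n → CartDual.D R A) (e : Fin n → A) (hxe : ∀ b : A, ∑ j, x j b • e j = b) (a : A) :
    v a = ∑ j, (e j) ⊗ₜ[R] FrobAlg.toTwist p R ((x j ^ p) a) := by
  apply Versch.evTw_injective p R A
  intro y
  rw [(Versch.isVerschiebung_iff p R A v).1 hv, map_sum]
  have hy : y = ∑ j, y (e j) • x j := by
    refine WithConv.ofConv_injective (LinearMap.ext fun b => ?_)
    conv_lhs => rw [← hxe b, map_sum]
    simp [CartDual.coe_apply, WithConv.ofConv_sum, mul_comm]
  haveI : ExpChar (CartDual.D R A) p := ExpChar.prime Fact.out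
  conv_lhs => rw [hy, sum_pow_char, sum_apply]
  simp only [map_sum, smul_pow_apply, Versch.evTw_tmul', map_mul]

theorem v_algebraMap (v : A →+* FrobAlg.BaseChange p R A) (hv : Versch.IsVerschiebung p R A v) (r : R) :
    v (algebraMap R A r) = (1 : A) ⊗ₜ[R] FrobAlg.toTwist p R r := by
  apply Versch.evTw_injective p R A
  intro x
  rw [(Versch.isVerschiebung_iff p R A v).1 hv, Versch.evTw_tmul', ← map_mul]
  congr 1
  have h1 : ∀ n, (x ^ n) (1 : A) = x 1 ^ n := fun n => by
    induction n with
    | zero => simp [CartDual.coe_apply, LinearMap.convOne_apply]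
    | succ n ih =>
      rw [CartDual.coe_apply] at ih
      rw [pow_succ, pow_succ, CartDual.coe_apply, LinearMap.convMul_apply, Bialgebra.comul_one, Algebra.TensorProduct.one_def]
      simp [CartDual.coe_apply, ih]
  rw [CartDual.coe_apply, Algebra.algebraMap_eq_smul_one, map_smul, smul_eq_mul, ← CartDual.coe_apply, h1, mul_comm]

end general

section powConvSec

variable (p : ℕ) [Fact p.Prime] {R : Type u} [CommRing R] [CharP R p]

/-- `V ∘ F = [p]` -/
theorem powConv_eq_relFrob_comp {A : Type u} [CommRing A] [HopfAlgebra R A] [Coalgebra.IsCocomm R A] [Module.Finite R A]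
    [Module.Projective R A] [CharP A p] (v : A →+* FrobAlg.BaseChange p R A)
    (hv : Versch.IsVerschiebung p R A v) (a : A) :
    SGA3b.powConv R A p a = FrobAlg.relFrob p R A (v a) := by
  classical
  obtain ⟨n, x, e, hxe⟩ := exists_dual_basis (R := R) (A := A)
  let c : Fin n → WithConv (A →ₗ[R] A) := fun j => toConv ((x j).ofConv.smulRight (e j))
  have hid : ∑ j, c j = toConv LinearMap.id := by
    apply WithConv.ofConv_injective
    ext b
    simp only [c, WithConv.ofConv_sum, LinearMap.coe_sum, Finset.sum_apply, ofConv_toConv,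
      LinearMap.smulRight_apply, LinearMap.id_apply]
    exact hxe b
  have hmul : ∀ (f g : CartDual.D R A) (u w : A),
      toConv (f.ofConv.smulRight u) * toConv (g.ofConv.smulRight w) =
        toConv ((f * g).ofConv.smulRight (u * w)) := by
    intro f g u w
    apply WithConv.ofConv_injective
    refine LinearMap.ext fun b => ?_
    simp only [ofConv_toConv, LinearMap.smulRight_apply]
    rw [LinearMap.convMul_apply, LinearMap.convMul_apply]
    generalize Coalgebra.comul (R := R) b = t
    induction t using TensorProduct.induction_on with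
    | zero => simp
    | add t t' ht ht' => simp only [map_add, add_smul, ht, ht']
    | tmul b b' => simp [smul_smul, mul_comm]
  have hpow : ∀ (j : Fin n) (m : ℕ), c j ^ m = toConv ((x j ^ m).ofConv.smulRight (e j ^ m)) := by
    intro j m
    induction m with
    | zero =>
      apply WithConv.ofConv_injective
      refine LinearMap.ext fun b => ?_
      simp only [pow_zero, ofConv_toConv, LinearMap.smulRight_apply, LinearMap.convOne_apply]
      rw [Algebra.algebraMap_eq_smul_one]
      simp
    | succ m ih => rw [pow_succ, ih, pow_succ, pow_succ, ← hmul]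
  haveI : CharP (WithConv (A →ₗ[R] A)) p :=
    charP_of_injective_algebraMap (R := R) (fun r s h => by
      have h1 := congrArg (fun f : WithConv (A →ₗ[R] A) => f.ofConv 1) h
      have h2 : algebraMap R A r = algebraMap R A s := by
        simpa [LinearMap.convAlgebraMap_apply, Algebra.algebraMap_eq_smul_one] using h1
      exact algebraMap_injective h2) p
  have hL : SGA3b.powConv R A p a = ∑ j, (x j ^ p) a • e j ^ p := by
    have h := congrArg (fun f : WithConv (A →ₗ[R] A) => f.ofConv a)
      (AlgHom.toLinearMap_convPow (toConv (AlgHom.id R A)) p)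
    simp only [ofConv_toConv] at h
    rw [show SGA3b.powConv R A p a = _ from h]
    haveI : ExpChar (WithConv (A →ₗ[R] A)) p := ExpChar.prime Fact.out
    rw [show toConv (AlgHom.id R A).toLinearMap = ∑ j, c j from hid.symm, sum_pow_char]
    simp only [hpow, WithConv.ofConv_sum, LinearMap.coe_sum, Finset.sum_apply, ofConv_toConv,
      LinearMap.smulRight_apply, CartDual.coe_apply]
  rw [hL, v_eq p v hv x e hxe, map_sum]
  refine Finset.sum_congr rfl fun j _ => ?_
  rw [Groth.Agent.Lib.RelFrobEtale.relFrob_tmul, RingEquiv.symm_apply_apply, Algebra.smul_def, mul_comm]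

end powConvSec

section baseChange

variable {R : Type u} [CommRing R] {A : Type u} [CommRing A] [HopfAlgebra R A] (T : Type u) [CommRing T] [Algebra R T]

theorem powConv_tmul (n : ℕ) (s : T) (a : A) :
    SGA3b.powConv T (T ⊗[R] A) n (s ⊗ₜ a) = s ⊗ₜ SGA3b.powConv R A n a := by
  suffices h : ∀ a : A, SGA3b.powConv T (T ⊗[R] A) n ((1 : T) ⊗ₜ a) = (1 : T) ⊗ₜ SGA3b.powConv R A n a by
    have e : ∀ b : A, s ⊗ₜ[R] b = s • ((1 : T) ⊗ₜ[R] b) := fun b => by rw [TensorProduct.smul_tmul', smul_eq_mul, mul_one]
    rw [e, e, map_smul, h]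
  induction n with
  | zero =>
    intro a
    simp only [SGA3b.powConv, pow_zero]
    show algebraMap T (T ⊗[R] A) (Coalgebra.counit (R := T) ((1 : T) ⊗ₜ[R] a)) = (1 : T) ⊗ₜ algebraMap R A (Coalgebra.counit (R := R) a)
    rw [TensorProduct.counit_tmul, Bialgebra.counit_one, Algebra.algebraMap_eq_smul_one (A := A), tmul_smul,
      ← Algebra.algebraMap_eq_smul_one, ← IsScalarTower.algebraMap_apply R T (T ⊗[R] A), Algebra.algebraMap_eq_smul_one,
      Algebra.TensorProduct.one_def]
  | succ n ih =>
    intro a
    simp only [SGA3b.powConv, pow_succ] at ih ⊢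
    show LinearMap.mul' T (T ⊗[R] A) (TensorProduct.map
        ((toConv (AlgHom.id T (T ⊗[R] A))) ^ n).ofConv.toLinearMap LinearMap.id (Coalgebra.comul ((1 : T) ⊗ₜ[R] a))) =
      (1 : T) ⊗ₜ LinearMap.mul' R A (TensorProduct.map ((toConv (AlgHom.id R A)) ^ n).ofConv.toLinearMap LinearMap.id
        (Coalgebra.comul a))
    rw [TensorProduct.comul_tmul, Bialgebra.comul_one, Algebra.TensorProduct.one_def]
    generalize Coalgebra.comul (R := R) a = t
    induction t using TensorProduct.induction_on with
    | zero => simp
    | add u w hu hw => simp only [tmul_add, map_add, hu, hw]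
    | tmul b c => simp [ih]

end baseChange

end Groth.Agent.Lib.H58Versch
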