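import Mathlib.AlgebraicGeometry.AffineScheme
import Mathlib.Topology.Sheaves.SheafCondition.UniqueGluing

/-!
# Sheaves of sets on a scheme from presheaves on affine opens glueing for two element standard covers
-/

noncomputable section

universe u

open CategoryTheory AlgebraicGeometry Opposite TopologicalSpace

namespace Groth.Agent.AffineBasisSheaf99

variable {X : Scheme.{u}} (F : (X.affineOpens)ᵒᵖ ⥤ Type u)

/-- Restriction. -/
def res {V U : X.affineOpens} (h : V ≤ U) : F.obj (op U) → F.obj (op V) := fun s =>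
  F.map (homOfLE h).op s

lemma res_res {W V U : X.affineOpens} (h : W ≤ V) (h' : V ≤ U) (s : F.obj (op U)) :
    res F h (res F h' s) = res F (h.trans h') s := by
  simp only [res]
  rw [← homOfLE_comp h h', op_comp, F.map_comp]
  rfl

lemma res_self {U : X.affineOpens} (h : U ≤ U) (s : F.obj (op U)) : res F h s = s := by
  simp only [res]
  rw [show (homOfLE h).op = 𝟙 (op U) from rfl, F.map_id]
  rfl

/-- A basic open of an affine open. -/
def D (U : X.affineOpens) (a : Γ(X, (U : X.Opens))) : X.affineOpens :=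
  ⟨X.basicOpen a, U.2.basicOpen a⟩

lemma D_le (U : X.affineOpens) (a : Γ(X, (U : X.Opens))) : D U a ≤ U := X.basicOpen_le a

variable (E : X.affineOpens) (hE : (E : X.Opens) = ⊥)
  (hsub : Subsingleton (F.obj (op E))) (hne : Nonempty (F.obj (op E)))
  (h2 : ∀ (U V W VW : X.affineOpens) (f g : Γ(X, (U : X.Opens))),
        (V : X.Opens) = X.basicOpen f → (W : X.Opens) = X.basicOpen g →
        (VW : X.Opens) = X.basicOpen (f * g) → (U : X.Opens) = (V : X.Opens) ⊔ (W : X.Opens) →
        ∀ (hV : V ≤ U) (hW : W ≤ U) (h1 : VW ≤ V) (h2 : VW ≤ W),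
        Function.Injective (fun s : F.obj (op U) => (F.map (homOfLE hV).op s, F.map (homOfLE hW).op s)) ∧
        Set.range (fun s : F.obj (op U) => (F.map (homOfLE hV).op s, F.map (homOfLE hW).op s)) =
          {p | F.map (homOfLE h1).op p.1 = F.map (homOfLE h2).op p.2})

include hE hsub in
lemma subsingleton_of_bot (V : X.affineOpens) (hV : (V : X.Opens) ≤ ⊥) (s t : F.obj (op V)) :
    s = t := by
  obtain rfl : V = E := Subtype.ext ((eq_bot_iff.mpr hV).trans hE.symm)
  exact Subsingleton.elim s t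

/-- The two pieces of `D (a + b)`. -/
lemma add_split (U : X.affineOpens) (a b : Γ(X, (U : X.Opens))) :
    ∃ (Va Vb Vab : X.affineOpens) (f g : Γ(X, ((D U (a + b)) : X.Opens))),
      (Va : X.Opens) = X.basicOpen f ∧ (Vb : X.Opens) = X.basicOpen g ∧
      (Vab : X.Opens) = X.basicOpen (f * g) ∧
      (D U (a + b) : X.Opens) = (Va : X.Opens) ⊔ (Vb : X.Opens) ∧
      Va ≤ D U (a + b) ∧ Vb ≤ D U (a + b) ∧ Vab ≤ Va ∧ Vab ≤ Vb ∧ Va ≤ D U a ∧ Vb ≤ D U b := by
  let U' := D U (a + b)
  let f := X.presheaf.map (homOfLE (D_le U (a + b))).op a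
  let g := X.presheaf.map (homOfLE (D_le U (a + b))).op b
  have hf : X.basicOpen f = (U' : X.Opens) ⊓ X.basicOpen a := X.basicOpen_res _ _
  have hg : X.basicOpen g = (U' : X.Opens) ⊓ X.basicOpen b := X.basicOpen_res _ _
  refine ⟨D U' f, D U' g, D U' (f * g), f, g, rfl, rfl, rfl, ?_, D_le _ _, D_le _ _, ?_, ?_, ?_, ?_⟩
  · show (U' : X.Opens) = X.basicOpen f ⊔ X.basicOpen g
    rw [hf, hg, ← inf_sup_left]
    exact (inf_eq_left.mpr (X.basicOpen_add_le a b)).symm
  · show X.basicOpen (f * g) ≤ X.basicOpen f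
    rw [X.basicOpen_mul]; exact inf_le_left
  · show X.basicOpen (f * g) ≤ X.basicOpen g
    rw [X.basicOpen_mul]; exact inf_le_right
  · show X.basicOpen f ≤ X.basicOpen a
    rw [hf]; exact inf_le_right
  · show X.basicOpen g ≤ X.basicOpen b
    rw [hg]; exact inf_le_right

lemma D_mul_le (U : X.affineOpens) (c a : Γ(X, (U : X.Opens))) : D U (c * a) ≤ D U a := by
  show X.basicOpen (c * a) ≤ X.basicOpen a
  rw [X.basicOpen_mul]; exact inf_le_right

include hE hsub h2 in
lemma eq_of_locally_eq (U : X.affineOpens) (s t : F.obj (op U))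
    (h : ∀ x ∈ (U : X.Opens), ∃ (V : X.affineOpens) (hV : V ≤ U),
      x ∈ (V : X.Opens) ∧ res F hV s = res F hV t) : s = t := by
  let T : Ideal Γ(X, (U : X.Opens)) :=
    { carrier := {a | res F (D_le U a) s = res F (D_le U a) t}
      zero_mem' := subsingleton_of_bot F E hE hsub _ (le_of_eq (X.basicOpen_zero _)) _ _
      add_mem' := by
        intro a b ha hb
        obtain ⟨Va, Vb, Vab, f, g, e1, e2, e3, e4, la, lb, lab, lab', la', lb'⟩ := add_split U a b
        refine (h2 _ Va Vb Vab f g e1 e2 e3 e4 la lb lab lab').1 ?_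
        refine Prod.ext ?_ ?_
        · show res F la (res F _ s) = res F la (res F _ t)
          rw [res_res, res_res]
          have := congrArg (res F la') ha
          rwa [res_res, res_res] at this
        · show res F lb (res F _ s) = res F lb (res F _ t)
          rw [res_res, res_res]
          have := congrArg (res F lb') hb
          rwa [res_res, res_res] at this
      smul_mem' := by
        intro c a ha
        show res F (D_le U (c * a)) s = res F (D_le U (c * a)) t
        have := congrArg (res F (D_mul_le U c a)) ha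
        rwa [res_res, res_res] at this }
  have htop : T = ⊤ := by
    rw [eq_top_iff, ← (U.2.iSup_basicOpen_eq_self_iff (s := (T : Set _))).mp ?_]
    · exact Ideal.span_le.mpr le_rfl
    refine le_antisymm (iSup_le fun a => X.basicOpen_le _) fun x hx => ?_
    obtain ⟨V, hV, hxV, hst⟩ := h x hx
    obtain ⟨a, haV, hxa⟩ := U.2.exists_basicOpen_le ⟨x, hxV⟩ hx
    refine Opens.mem_iSup.mpr ⟨⟨a, ?_⟩, hxa⟩
    have := congrArg (res F (show D U a ≤ V from haV)) hst
    rwa [res_res, res_res] at this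
  have h1 : (1 : Γ(X, (U : X.Opens))) ∈ T := by rw [htop]; trivial
  have hle : U ≤ D U 1 := by
    show (U : X.Opens) ≤ X.basicOpen (1 : Γ(X, (U : X.Opens)))
    rw [X.basicOpen_one]
  have := congrArg (res F hle) h1
  rwa [res_res, res_res, res_self, res_self] at this

include hE hsub hne h2 in
lemma exists_glue (U : X.affineOpens) (P : X.affineOpens → Prop)
    (hP : ∀ ⦃V W⦄, V ≤ W → P W → P V)
    (hcov : ∀ x ∈ (U : X.Opens), ∃ V, P V ∧ x ∈ (V : X.Opens))
    (s : ∀ V, P V → F.obj (op V))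
    (hs : ∀ ⦃V W⦄ (h : V ≤ W) (hW : P W), res F h (s W hW) = s V (hP h hW)) :
    ∃ t : F.obj (op U), ∀ V (hV : P V) (h : V ≤ U), res F h t = s V hV := by
  have hloc : ∀ (A : X.affineOpens) (x : X), x ∈ (A : X.Opens) → (A ≤ U) →
      ∃ V : X.affineOpens, V ≤ A ∧ x ∈ (V : X.Opens) ∧ P V := by
    intro A x hx hA
    obtain ⟨V, hV, hxV⟩ := hcov x (hA hx)
    obtain ⟨W, hW, hxW, hWle⟩ := exists_isAffineOpen_mem_and_subset
      (show x ∈ (V : X.Opens) ⊓ (A : X.Opens) from ⟨hxV, hx⟩)
    exact ⟨⟨W, hW⟩, fun y hy => (hWle hy).2, hxW, hP (fun y hy => (hWle hy).1) hV⟩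
  let T : Ideal Γ(X, (U : X.Opens)) :=
    { carrier := {a | ∃ t : F.obj (op (D U a)), ∀ V (hV : P V) (h : V ≤ D U a),
        res F h t = s V hV}
      zero_mem' := by
        obtain ⟨e⟩ := hne
        have h0 : D U 0 ≤ E := by
          show X.basicOpen (0 : Γ(X, (U : X.Opens))) ≤ (E : X.Opens)
          rw [X.basicOpen_zero]
          exact bot_le
        exact ⟨res F h0 e, fun V hV h => subsingleton_of_bot F E hE hsub V
          (le_trans h (le_of_eq (X.basicOpen_zero _))) _ _⟩
      add_mem' := by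
        rintro a b ⟨ta, hta⟩ ⟨tb, htb⟩
        obtain ⟨Va, Vb, Vab, f, g, e1, e2, e3, e4, la, lb, lab, lab', la', lb'⟩ := add_split U a b
        have hag : res F lab (res F la' ta) = res F lab' (res F lb' tb) := by
          refine eq_of_locally_eq F E hE hsub h2 Vab _ _ fun x hx => ?_
          obtain ⟨V, hV, hxV, hPV⟩ := hloc Vab x hx (lab.trans (la'.trans (D_le U a)))
          refine ⟨V, hV, hxV, ?_⟩
          rw [res_res, res_res, res_res, res_res, hta V hPV, htb V hPV]
        obtain ⟨t, ht⟩ := (Set.ext_iff.mp (h2 _ Va Vb Vab f g e1 e2 e3 e4 la lb lab lab').2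
          (res F la' ta, res F lb' tb)).mpr hag
        refine ⟨t, fun V hV h => eq_of_locally_eq F E hE hsub h2 V _ _ fun x hx => ?_⟩
        have hxor : x ∈ (Va : X.Opens) ⊔ (Vb : X.Opens) := e4 ▸ h hx
        have ht1 : res F la t = res F la' ta := congrArg Prod.fst ht
        have ht2 : res F lb t = res F lb' tb := congrArg Prod.snd ht
        rcases hxor with hxa | hxb
        · obtain ⟨W, hW, hxW, hWle⟩ := exists_isAffineOpen_mem_and_subset
            (show x ∈ (V : X.Opens) ⊓ (Va : X.Opens) from ⟨hx, hxa⟩)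
          let W' : X.affineOpens := ⟨W, hW⟩
          have hWV : W' ≤ V := fun y hy => (hWle hy).1
          have hWa : W' ≤ Va := fun y hy => (hWle hy).2
          refine ⟨W', hWV, hxW, ?_⟩
          have := congrArg (res F hWa) ht1
          rw [res_res, res_res, hta W' (hP hWV hV)] at this
          rw [res_res, hs hWV hV]
          exact this
        · obtain ⟨W, hW, hxW, hWle⟩ := exists_isAffineOpen_mem_and_subset
            (show x ∈ (V : X.Opens) ⊓ (Vb : X.Opens) from ⟨hx, hxb⟩)
          let W' : X.affineOpens := ⟨W, hW⟩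
          have hWV : W' ≤ V := fun y hy => (hWle hy).1
          have hWb : W' ≤ Vb := fun y hy => (hWle hy).2
          refine ⟨W', hWV, hxW, ?_⟩
          have := congrArg (res F hWb) ht2
          rw [res_res, res_res, htb W' (hP hWV hV)] at this
          rw [res_res, hs hWV hV]
          exact this
      smul_mem' := by
        rintro c a ⟨ta, hta⟩
        exact ⟨res F (D_mul_le U c a) ta, fun V hV h => by
          rw [res_res]; exact hta V hV (h.trans (D_mul_le U c a))⟩ }
  have htop : T = ⊤ := by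
    rw [eq_top_iff, ← (U.2.iSup_basicOpen_eq_self_iff (s := (T : Set _))).mp ?_]
    · exact Ideal.span_le.mpr le_rfl
    refine le_antisymm (iSup_le fun a => X.basicOpen_le _) fun x hx => ?_
    obtain ⟨V, hV, hxV⟩ := hcov x hx
    obtain ⟨a, haV, hxa⟩ := U.2.exists_basicOpen_le ⟨x, hxV⟩ hx
    refine Opens.mem_iSup.mpr ⟨⟨a, ?_⟩, hxa⟩
    refine ⟨s (D U a) (hP (show D U a ≤ V from haV) hV), fun W hW h => ?_⟩
    rw [hs h (hP (show D U a ≤ V from haV) hV)]
  have h1 : (1 : Γ(X, (U : X.Opens))) ∈ T := by rw [htop]; trivial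
  obtain ⟨t, ht⟩ := h1
  have hle : U ≤ D U 1 := by
    show (U : X.Opens) ≤ X.basicOpen (1 : Γ(X, (U : X.Opens)))
    rw [X.basicOpen_one]
  exact ⟨res F hle t, fun V hV h => by rw [res_res]; exact ht V hV _⟩

/-- The sections over an open of the extension of `F`. -/
def sections (W : X.Opens) : Type u :=
  {s : ∀ U : {U : X.affineOpens // (U : X.Opens) ≤ W}, F.obj (op U.1) //
    ∀ (U V : {U : X.affineOpens // (U : X.Opens) ≤ W}) (h : U.1 ≤ V.1), res F h (s V) = s U}

/-- The extension of `F` to a presheaf on `X`. -/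
def ext' : TopCat.Presheaf (Type u) X.carrier where
  obj W := sections F W.unop
  map {W W'} i := TypeCat.ofHom fun s => ⟨fun U => s.1 ⟨U.1, U.2.trans i.unop.le⟩,
    fun U V h => s.2 ⟨U.1, U.2.trans i.unop.le⟩ ⟨V.1, V.2.trans i.unop.le⟩ h⟩
  map_id _ := rfl
  map_comp _ _ := rfl

include hE hsub hne h2 in
lemma isSheaf_ext' : TopCat.Presheaf.IsSheaf (ext' F) := by
  rw [TopCat.Presheaf.isSheaf_iff_isSheafUniqueGluing_types]
  intro ι W sf hsf
  let P : X.affineOpens → Prop := fun V => ∃ i, (V : X.Opens) ≤ W i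
  have hP : ∀ ⦃V V'⦄, V ≤ V' → P V' → P V := fun V V' h ⟨i, hi⟩ => ⟨i, le_trans h hi⟩
  have hind : ∀ (V : X.affineOpens) i j (hi : (V : X.Opens) ≤ W i) (hj : (V : X.Opens) ≤ W j),
      (sf i).1 ⟨V, hi⟩ = (sf j).1 ⟨V, hj⟩ := fun V i j hi hj =>
    congrArg (fun q : sections F (W i ⊓ W j) => q.1 ⟨V, le_inf hi hj⟩) (hsf i j)
  let s : ∀ V, P V → F.obj (op V) := fun V hV => (sf hV.choose).1 ⟨V, hV.choose_spec⟩
  have hs : ∀ ⦃V V'⦄ (h : V ≤ V') (hV' : P V'), res F h (s V' hV') = s V (hP h hV') :=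
    fun V V' h hV' => ((sf hV'.choose).2 ⟨V, le_trans h hV'.choose_spec⟩ ⟨V', hV'.choose_spec⟩ h).trans
      (hind _ _ _ _ _)
  have hg : ∀ U : {U : X.affineOpens // (U : X.Opens) ≤ iSup W},
      ∃ t : F.obj (op U.1), ∀ V (hV : P V) (h : V ≤ U.1), res F h t = s V hV := by
    intro U
    refine exists_glue F E hE hsub hne h2 U.1 P hP (fun x hx => ?_) s hs
    obtain ⟨i, hi⟩ := Opens.mem_iSup.mp (U.2 hx)
    obtain ⟨V, hV, hxV, hVle⟩ := exists_isAffineOpen_mem_and_subset hi
    exact ⟨⟨V, hV⟩, ⟨i, hVle⟩, hxV⟩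
  choose g hg using hg
  have hloc : ∀ (U : {U : X.affineOpens // (U : X.Opens) ≤ iSup W}) (t : F.obj (op U.1)),
      (∀ V (hV : P V) (h : V ≤ U.1), res F h t = s V hV) → t = g U := by
    intro U t ht
    refine eq_of_locally_eq F E hE hsub h2 U.1 _ _ fun x hx => ?_
    obtain ⟨i, hi⟩ := Opens.mem_iSup.mp (U.2 hx)
    obtain ⟨V, hV, hxV, hVle⟩ := exists_isAffineOpen_mem_and_subset
      (show x ∈ W i ⊓ (U.1 : X.Opens) from ⟨hi, hx⟩)
    have hPV : P ⟨V, hV⟩ := ⟨i, fun y hy => (hVle hy).1⟩
    have hle : (⟨V, hV⟩ : X.affineOpens) ≤ U.1 := fun y hy => (hVle hy).2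
    exact ⟨⟨V, hV⟩, hle, hxV, by rw [ht _ hPV hle, hg U _ hPV hle]⟩
  refine ⟨⟨g, fun U V h => hloc U _ fun V' hV' h' => ?_⟩, fun i => ?_, fun q hq => ?_⟩
  · rw [res_res]; exact hg V V' hV' _
  · refine Subtype.ext (funext fun U => ?_)
    have hPU : P U.1 := ⟨i, U.2⟩
    have := hg ⟨U.1, U.2.trans (le_iSup W i)⟩ U.1 hPU le_rfl
    rw [res_self] at this
    exact this.trans (hind _ _ _ _ _)
  · refine Subtype.ext (funext fun U => hloc U (q.1 U) fun V hV h => ?_)
    rw [q.2 ⟨V, le_trans h U.2⟩ U h]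
    exact congrArg (fun r : sections F (W hV.choose) => r.1 ⟨V, hV.choose_spec⟩) (hq hV.choose)

/-- The extension restricts to `F`. -/
def extIso : (Monotone.functor (f := fun U : X.affineOpens => (U : X.Opens)) (fun _ _ h => h)).op ⋙
    ext' F ≅ F :=
  NatIso.ofComponents (fun U =>
    Equiv.toIso
      { toFun := fun s => s.1 ⟨U.unop, le_rfl⟩
        invFun := fun t => ⟨fun V => res F V.2 t, fun V V' h => res_res F h V'.2 t⟩
        left_inv := fun s => Subtype.ext (funext fun V => s.2 V ⟨U.unop, le_rfl⟩ V.2)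
        right_inv := fun t => res_self F le_rfl t })
    (fun {U V} i => by
      ext s
      exact (s.2 ⟨V.unop, i.unop.le⟩ ⟨U.unop, le_rfl⟩ i.unop.le).symm)

theorem bot_of_sheaf :
    (∃ G : TopCat.Sheaf (Type u) X.carrier,
        Nonempty ((Monotone.functor (f := fun U : X.affineOpens => (U : X.Opens)) (fun _ _ h => h)).op ⋙ G.1 ≅ F)) →
    (Nonempty (F.obj (op E)) ∧ Subsingleton (F.obj (op E))) ∨ (E : X.Opens) ≠ ⊥ := by
  rintro ⟨G, ⟨e⟩⟩
  by_cases h : (E : X.Opens) = ⊥
  · left
    have h0 : ∃! s : G.1.obj (op (E : X.Opens)), True := by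
      obtain ⟨s, -, hs⟩ := G.existsUnique_gluing' (fun p : PEmpty.{1} => (p.elim : X.Opens))
        (E : X.Opens) (fun p => p.elim) (by rw [h]; exact bot_le) (fun p => p.elim) (fun p => p.elim)
      exact ⟨s, trivial, fun t _ => hs t fun p => p.elim⟩
    let eE := (e.app (op E)).toEquiv
    refine ⟨⟨eE h0.exists.choose⟩, ⟨fun a b => eE.symm.injective ?_⟩⟩
    exact h0.unique trivial trivial
  · exact Or.inr h

theorem glue2_of_sheaf (G : TopCat.Sheaf (Type u) X.carrier)
    (e : (Monotone.functor (f := fun U : X.affineOpens => (U : X.Opens)) (fun _ _ h => h)).op ⋙ G.1 ≅ F)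
    (U V W VW : X.affineOpens) (hU : (U : X.Opens) = (V : X.Opens) ⊔ (W : X.Opens))
    (hVW : (VW : X.Opens) = (V : X.Opens) ⊓ (W : X.Opens))
    (hV : V ≤ U) (hW : W ≤ U) (h1 : VW ≤ V) (h2' : VW ≤ W) :
        Function.Injective (fun s : F.obj (op U) => (F.map (homOfLE hV).op s, F.map (homOfLE hW).op s)) ∧
        Set.range (fun s : F.obj (op U) => (F.map (homOfLE hV).op s, F.map (homOfLE hW).op s)) =
          {p | F.map (homOfLE h1).op p.1 = F.map (homOfLE h2').op p.2} := by
  have nat : ∀ {A B : X.affineOpens} (h : A ≤ B) (s : F.obj (op B)),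
      e.inv.app (op A) (F.map (homOfLE h).op s) =
        G.1.map (homOfLE (show (A : X.Opens) ≤ B from h)).op (e.inv.app (op B) s) := fun h s =>
    congrArg (fun f => f s) (e.inv.naturality (homOfLE h).op)
  have inj : ∀ A : X.affineOpens, Function.Injective (e.inv.app (op A)) := fun A =>
    ((e.app (op A)).symm.toEquiv).injective
  constructor
  · intro s t hst
    refine inj U (G.eq_of_locally_eq₂ (homOfLE (show (V : X.Opens) ≤ U from hV))
      (homOfLE (show (W : X.Opens) ≤ U from hW)) hU.le _ _ ?_ ?_)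
    · have := congrArg (e.inv.app (op V)) (congrArg Prod.fst hst)
      rwa [nat, nat] at this
    · have := congrArg (e.inv.app (op W)) (congrArg Prod.snd hst)
      rwa [nat, nat] at this
  ext ⟨a, b⟩
  constructor
  · rintro ⟨s, hs⟩
    obtain ⟨rfl, rfl⟩ := Prod.ext_iff.mp hs
    show res F h1 (res F hV s) = res F h2' (res F hW s)
    rw [res_res, res_res]
  · intro hab
    let O : Bool → X.Opens := fun i => if i then (V : X.Opens) else (W : X.Opens)
    let sf : ∀ i, G.1.obj (op (O i)) := fun i => match i with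
      | true => e.inv.app (op V) a
      | false => e.inv.app (op W) b
    have key : G.1.map (homOfLE (show (VW : X.Opens) ≤ V from h1)).op (e.inv.app (op V) a) =
        G.1.map (homOfLE (show (VW : X.Opens) ≤ W from h2')).op (e.inv.app (op W) b) := by
      rw [← nat h1, ← nat h2']
      exact congrArg _ hab
    have key' : ∀ (T : X.Opens) (hT : T ≤ (VW : X.Opens)) (l1 : T ≤ V) (l2 : T ≤ W),
        G.1.map (homOfLE l1).op (e.inv.app (op V) a) = G.1.map (homOfLE l2).op (e.inv.app (op W) b) := by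
      intro T hT l1 l2
      have := congrArg (G.1.map (homOfLE hT).op) key
      simp only [← comp_apply, ← G.1.map_comp, ← op_comp, homOfLE_comp] at this
      exact this
    obtain ⟨t, ht, -⟩ := G.existsUnique_gluing' O (U : X.Opens)
      (fun i => homOfLE (match i with
        | true => hV
        | false => hW))
      (by rw [hU]; exact sup_le (le_iSup O true) (le_iSup O false)) sf (by
      intro i j
      cases i <;> cases j
      · rfl
      · exact (key' _ (hVW ▸ (inf_comm (W : X.Opens) (V : X.Opens)).le) inf_le_right inf_le_left).symm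
      · exact key' _ hVW.ge inf_le_left inf_le_right
      · rfl)
    refine ⟨e.hom.app (op U) t, Prod.ext (inj V ?_) (inj W ?_)⟩
    · show e.inv.app (op V) (F.map (homOfLE hV).op _) = _
      rw [nat, CategoryTheory.Iso.hom_inv_id_app_apply]
      exact ht true
    · show e.inv.app (op W) (F.map (homOfLE hW).op _) = _
      rw [nat, CategoryTheory.Iso.hom_inv_id_app_apply]
      exact ht false

end Groth.Agent.AffineBasisSheaf99
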