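import Groth.Agent.Lib.ArtinFun.Torsor
import Groth.Agent.Lib.ArtinFun.Smooth

universe u v

open CategoryTheory ArtFun

namespace Groth.Agent.Lib.ArtTorsor99

open Groth.Agent.Lib.ArtinFun

variable {Λ k : Type u} [CommRing Λ] [Field k] [Algebra Λ k]

lemma finite_of_surj (hk : Function.Surjective (algebraMap Λ k)) : Module.Finite Λ k :=
  Module.Finite.of_surjective (Algebra.linearMap Λ k) hk

lemma dual_mul_eps (x : DualNumber k) :
    x * DualNumber.eps = TrivSqZeroExt.inr (TrivSqZeroExt.fst x) := by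
  apply TrivSqZeroExt.ext
  · rw [TrivSqZeroExt.fst_mul, DualNumber.fst_eps, mul_zero, TrivSqZeroExt.fst_inr]
  · rw [DualNumber.snd_mul, DualNumber.fst_eps, DualNumber.snd_eps, mul_one, mul_zero, add_zero,
      TrivSqZeroExt.snd_inr]

lemma dual_eq_inl_mul_eps (x : DualNumber k) (hx : TrivSqZeroExt.fst x = 0) :
    (TrivSqZeroExt.inl (TrivSqZeroExt.snd x) : DualNumber k) * DualNumber.eps = x := by
  rw [dual_mul_eps]
  apply TrivSqZeroExt.ext <;> simp [hx]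

lemma isSmallExt_toBase_dual : Art.IsSmallExt (Art.toBase (Art.dual Λ k)) := by
  refine isSmallExt_of_generator _ (toBase_surjective _) (DualNumber.eps : DualNumber k) ?_ ?_ ?_
  · apply le_antisymm
    · intro x hx
      exact Ideal.mem_span_singleton'.2
        ⟨(TrivSqZeroExt.inl (TrivSqZeroExt.snd (x : DualNumber k)) : DualNumber k),
          dual_eq_inl_mul_eps x hx⟩
    · rw [Ideal.span_singleton_le_iff_mem]
      exact (DualNumber.fst_eps : TrivSqZeroExt.fst (DualNumber.eps : DualNumber k) = 0)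
  · intro h
    have h2 : TrivSqZeroExt.snd (DualNumber.eps : DualNumber k) = 0 := congrArg TrivSqZeroExt.snd h
    rw [DualNumber.snd_eps] at h2
    exact one_ne_zero h2
  · intro b hb
    rw [Art.mem_maximalIdeal_iff] at hb
    exact (dual_mul_eps b).trans ((congrArg TrivSqZeroExt.inr hb).trans (TrivSqZeroExt.inr_zero k))

theorem lift_iff [IsNoetherianRing Λ] [Module.Finite Λ k] (F : ArtFun.Art Λ k ⥤ Type v)
    (hS : ArtFun.S1 F) (hE : ArtFun.Heps F)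
    {R R₁ R' : ArtFun.Art Λ k} (π₁ : R₁ ⟶ R) (hπ : ArtFun.Art.IsSmallExt π₁) (g : R' ⟶ R)
    (a : F.obj R) (a₁ : F.obj R₁) (a' : F.obj R') (h₁ : F.map π₁ a₁ = a) (h' : F.map g a' = a)
    (hvers : ∀ (R₀ : ArtFun.Art Λ k), ArtFun.Art.IsSmallExt (ArtFun.Art.toBase R₀) →
      ∀ b : F.obj R₀, ∃ φ : R ⟶ R₀, F.map φ a = b)
    (f : R' ⟶ R₁) (hf : f ≫ π₁ = g) :
    ∃ f : R' ⟶ R₁, f ≫ π₁ = g ∧ F.map f a' = a₁ := by
  obtain ⟨t, ht, -, -, -⟩ := IsSmallExt.exists_generator hπ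
  obtain ⟨S⟩ := nonempty_diffSquare π₁ hπ t ht
  obtain ⟨ζ, hζ₁, hζ₂⟩ := (cmp_surjective_iff S.isFibreProd).1
    (hS _ _ _ _ S.isFibreProd hπ.1) (F.map f a') a₁ (by rw [map_map, hf, h', h₁])
  obtain ⟨φ, hφ⟩ := hvers _ isSmallExt_toBase_dual (F.map S.g ζ)
  let T : R' ⟶ S.P := IsFibreProd.lift S.isFibreProd_dual f (g ≫ φ)
    (by rw [Art.eq_toBase (f ≫ _), Art.eq_toBase ((g ≫ φ) ≫ _)])
  have hT : F.map T a' = ζ := by
    refine (cmp_injective_iff S.isFibreProd_dual).1 (hE _ _ S.isFibreProd_dual).1 _ _ ?_ ?_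
    · rw [map_map, IsFibreProd.lift_fst, hζ₁]
    · rw [map_map, IsFibreProd.lift_snd, ← map_map, h', hφ]
  refine ⟨T ≫ S.p₂, ?_, ?_⟩
  · rw [Category.assoc, ← S.isFibreProd.w, ← Category.assoc, IsFibreProd.lift_fst, hf]
  · rw [← map_map, hT, hζ₂]

theorem smooth_comp_iff [IsNoetherianRing Λ] [Module.Finite Λ k]
    {F G H : ArtFun.Art Λ k ⥤ Type v} (φ : F ⟶ G) (ψ : G ⟶ H)
    (hF : ArtFun.H0 F) (hG0 : ArtFun.H0 G) (hS : ArtFun.S1 G) (hE : ArtFun.Heps G)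
    (hH : ∀ ⦃B A A' A'' : ArtFun.Art Λ k⦄ (p' : B ⟶ A') (p'' : B ⟶ A'') (f' : A' ⟶ A) (f'' : A'' ⟶ A)
      (h : ArtFun.Art.IsFibreProd p' p'' f' f''), Function.Surjective f'' → Function.Bijective (ArtFun.cmp H h))
    (hψ : Function.Injective (ArtFun.TangentSpace.map ψ)) :
    ArtFun.IsSmooth (φ ≫ ψ) ↔ (ArtFun.IsSmooth φ ∧ ArtFun.IsSmooth ψ) := by
  refine ⟨fun h => ?_, fun h => isSmooth_comp φ ψ h.1 h.2⟩
  have hφ : IsSmooth φ := by
    refine isSmooth_of_smallExt φ fun B A p hp => ?_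
    rw [relCmp_surjective_iff]
    intro a b hab
    obtain ⟨z, hz₁, hz₂⟩ := (isSmooth_iff _).1 h p hp.1 a (ψ.app B b)
      ((congrArg (ψ.app A) hab).trans (NatTrans.naturality_apply ψ p b))
    refine ⟨z, hz₁, ?_⟩
    obtain ⟨t, ht, -, -, -⟩ := IsSmallExt.exists_generator hp
    obtain ⟨S⟩ := nonempty_diffSquare p hp t ht
    set y := φ.app B z with hy
    have hpy : G.map p y = G.map p b := by
      rw [← hab, ← hz₁]; exact (NatTrans.naturality_apply φ p z).symm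
    have hψy : ψ.app B y = ψ.app B b := hz₂
    obtain ⟨ζ, hζ₁, hζ₂⟩ := (cmp_surjective_iff S.isFibreProd).1
      (hS _ _ _ _ S.isFibreProd hp.1) y b hpy
    have hH' : ψ.app S.P ζ = ψ.app S.P (G.map (diag S.isFibreProd) y) := by
      refine (cmp_injective_iff S.isFibreProd).1 (hH _ _ _ _ S.isFibreProd hp.1).1 _ _ ?_ ?_
      · rw [← NatTrans.naturality_apply ψ S.p₁, ← NatTrans.naturality_apply ψ S.p₁, hζ₁, map_diag_p₁]
      · rw [← NatTrans.naturality_apply ψ S.p₂, ← NatTrans.naturality_apply ψ S.p₂, hζ₂, map_diag_p₂, hψy]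
    have hζ : ζ = G.map (diag S.isFibreProd) y := by
      refine (cmp_injective_iff S.isFibreProd_dual).1 (hE _ _ S.isFibreProd_dual).1 _ _ ?_ (hψ ?_)
      · rw [hζ₁, map_diag_p₁]
      · change ψ.app _ (G.map S.g ζ) = ψ.app _ (G.map S.g _)
        rw [NatTrans.naturality_apply ψ S.g, NatTrans.naturality_apply ψ S.g, hH']
    rw [← hζ₂, hζ, map_diag_p₂]
  refine ⟨hφ, isSmooth_of_comp_of_surjective φ ψ (surjective_app_of_isSmooth φ hφ ?_) h⟩
  intro y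
  obtain ⟨x⟩ := hF.1
  exact ⟨x, hG0.2.elim _ _⟩

end Groth.Agent.Lib.ArtTorsor99
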