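import Groth.Prelude.Def_AzInv
import Groth.Agent.Lib.Brauer.AzumayaBasics

/-!
# Base change of involutions of Azumaya algebras along `S → S'`
-/

universe u v w

open scoped TensorProduct

namespace Groth.Agent.Lib.AzInvBC

variable {S : Type u} {R : Type v} [CommRing S] [CommRing R] [Algebra S R]
  {A : Type w} [Ring A] [Algebra S A] [Algebra R A] [IsScalarTower S R A]
  (lam : R ≃ₐ[S] R) (S' : Type u) [CommRing S'] [Algebra S S']

theorem bc_mul (t : AzInv.LamInv R A lam) (x y : S' ⊗[S] A) :
    t.bc S lam S' (x * y) = t.bc S lam S' y * t.bc S lam S' x := by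
  induction x using TensorProduct.induction_on with
  | zero => simp
  | add x x' hx hx' => rw [add_mul, map_add, hx, hx', map_add, mul_add]
  | tmul s a =>
    induction y using TensorProduct.induction_on with
    | zero => simp
    | add y y' hy hy' => rw [mul_add, map_add, hy, hy', map_add, add_mul]
    | tmul s' b => simp [t.map_mul, mul_comm s]

theorem bc_invol (t : AzInv.LamInv R A lam) (x : S' ⊗[S] A) : t.bc S lam S' (t.bc S lam S' x) = x := by
  induction x using TensorProduct.induction_on with
  | zero => simp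
  | add x x' hx hx' => rw [map_add, map_add, hx, hx']
  | tmul s a => simp

theorem bc_one (t : AzInv.LamInv R A lam) : t.bc S lam S' (1 : S' ⊗[S] A) = 1 := by
  rw [Algebra.TensorProduct.one_def, AzInv.LamInv.bc_tmul, t.map_one]

variable (R A) in
/-- The structure map `S' ⊗ R → S' ⊗ A`. -/
noncomputable abbrev incl : S' ⊗[S] R →ₐ[S'] S' ⊗[S] A :=
  Algebra.TensorProduct.map (AlgHom.id S' S') (IsScalarTower.toAlgHom S R A)

theorem bc_incl (t : AzInv.LamInv R A lam) (r : S' ⊗[S] R) :
    t.bc S lam S' (incl R A S' r) =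
      incl R A S' (Algebra.TensorProduct.congr (AlgEquiv.refl : S' ≃ₐ[S] S') lam r) := by
  induction r using TensorProduct.induction_on with
  | zero => simp
  | add x x' hx hx' => rw [map_add, map_add, hx, hx', map_add, map_add]
  | tmul s a => simp [t.map_algebraMap]

omit [IsScalarTower S R A] in
theorem exists_unimodular [IsAzumaya R A] : ∃ φ : A →ₗ[R] R, φ 1 = 1 := by
  obtain ⟨n, π, i, -, -, hπi⟩ := Module.Finite.exists_comp_eq_id_of_projective R A
  let J : Ideal R := Ideal.span (Set.range fun j => i 1 j)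
  have h1 : (1 : A) ∈ Ideal.map (algebraMap R A) J := by
    rw [show (1 : A) = π (i 1) from (LinearMap.congr_fun hπi 1).symm, pi_eq_sum_univ (i 1), map_sum]
    refine Ideal.sum_mem _ fun j _ => ?_
    rw [map_smul, Algebra.smul_def, Algebra.commutes]
    exact Ideal.mul_mem_left _ _ (Ideal.mem_map_of_mem _ (Ideal.subset_span ⟨j, rfl⟩))
  have h2 : (1 : R) ∈ J := by
    rw [← Brauer.AzumayaBasics.comap_map R A J, Ideal.mem_comap, map_one]
    exact h1
  obtain ⟨c, hc⟩ := (Ideal.mem_span_range_iff_exists_fun).1 h2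
  refine ⟨∑ j, c j • (LinearMap.proj j ∘ₗ i), ?_⟩
  simpa using hc

variable (R A) in
theorem incl_injective [IsAzumaya R A] : Function.Injective (incl R A S' : S' ⊗[S] R → S' ⊗[S] A) := by
  obtain ⟨φ, hφ⟩ := exists_unimodular (R := R) (A := A)
  refine Function.LeftInverse.injective (g := (φ.restrictScalars S).lTensor S') fun r => ?_
  induction r using TensorProduct.induction_on with
  | zero => simp
  | add x x' hx hx' => rw [map_add, map_add, hx, hx']
  | tmul s a => simp [Algebra.algebraMap_eq_smul_one, hφ]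

theorem exists_of_commute [IsAzumaya R A] (z : S' ⊗[S] A)
    (hz : ∀ a : A, (1 : S') ⊗ₜ[S] a * z = z * (1 : S') ⊗ₜ[S] a) : ∃ r, incl R A S' r = z := by
  obtain ⟨φ, hφ⟩ := exists_unimodular (R := R) (A := A)
  obtain ⟨e, he⟩ := (IsAzumaya.bij (R := R) (A := A)).2 ((Algebra.linearMap R A).comp φ)
  let Φ : S' ⊗[S] A →ₗ[S] S' ⊗[S] A := (((Algebra.linearMap R A).comp φ).restrictScalars S).lTensor S'
  have hmem : ∀ w, ∃ r, incl R A S' r = Φ w := fun w => ⟨(φ.restrictScalars S).lTensor S' w, by
    induction w using TensorProduct.induction_on with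
    | zero => simp
    | add x x' hx hx' => rw [map_add, map_add, hx, hx', map_add]
    | tmul s a => simp [Φ]⟩
  have key : ∀ e : A ⊗[R] Aᵐᵒᵖ, ((AlgHom.mulLeftRight R A e).restrictScalars S).lTensor S' z =
      (1 : S') ⊗ₜ[S] (AlgHom.mulLeftRight R A e 1) * z := fun e => by
    induction e using TensorProduct.induction_on with
    | zero => simp
    | add x y hx hy =>
      simp only [map_add, LinearMap.restrictScalars_add, LinearMap.lTensor_add, LinearMap.add_apply, hx, hy,
        TensorProduct.tmul_add, add_mul]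
    | tmul a b =>
      have : ∀ w : S' ⊗[S] A, ((AlgHom.mulLeftRight R A (a ⊗ₜ[R] b)).restrictScalars S).lTensor S' w =
          (1 : S') ⊗ₜ[S] a * w * (1 : S') ⊗ₜ[S] b.unop := fun w => by
        induction w using TensorProduct.induction_on with
        | zero => simp
        | add x y hx hy => rw [map_add, hx, hy, mul_add, add_mul]
        | tmul s c => simp
      rw [this, mul_assoc, ← hz, ← mul_assoc]
      simp
  have hz' : z = Φ z := by
    have := key e
    rw [he] at this
    change Φ z = _ at this
    rw [this]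
    simp [hφ, Algebra.TensorProduct.one_def.symm]
  obtain ⟨r, hr⟩ := hmem z
  exact ⟨r, hr.trans hz'.symm⟩

theorem isUnit_of_isUnit_incl [IsAzumaya R A] {r : S' ⊗[S] R} (h : IsUnit (incl R A S' r)) : IsUnit r := by
  obtain ⟨v, hv⟩ := h
  obtain ⟨q, hq⟩ := exists_of_commute (R := R) (A := A) S' ((v⁻¹ : (S' ⊗[S] A)ˣ) : S' ⊗[S] A) fun a => by
    apply v.isUnit.mul_left_cancel
    rw [← mul_assoc, ← mul_assoc, Units.mul_inv, one_mul, hv]
    have : incl R A S' r * (1 : S') ⊗ₜ[S] a = (1 : S') ⊗ₜ[S] a * incl R A S' r := by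
      clear hv
      induction r using TensorProduct.induction_on with
      | zero => simp
      | add x x' hx hx' => rw [map_add, add_mul, hx, hx', mul_add]
      | tmul s c => simp [Algebra.commutes]
    rw [this, mul_assoc, ← hv, Units.mul_inv, mul_one]
  exact IsUnit.of_mul_eq_one q (incl_injective R A S' (by rw [map_mul, hq, ← hv, Units.mul_inv, map_one]))

end Groth.Agent.Lib.AzInvBC
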