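import Groth.Agent.Lib.RInvQuad
import Groth.Agent.Lib.Azumaya.Inner
import Groth.Agent.Lib.Brauer.AzumayaBasics
import Mathlib.RingTheory.Etale.Pi
import Mathlib.RingTheory.Etale.Basic
import Mathlib.RingTheory.Support
import Mathlib

/-!
# Automorphisms of Azumaya algebras over a ring with involution are inner locally on the fixed ring
-/

universe u v w

open scoped TensorProduct

namespace Groth.Agent.Lib.AzInvInner

variable {R : Type v} [CommRing R] {A : Type w} [Ring A] [Algebra R A]

theorem exists_twisting_at [IsAzumaya R A] (ψ : A ≃ₐ[R] A) (q : Ideal R) [q.IsPrime] :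
    ∃ a : A, (∀ x, ψ x * a = a * x) ∧ IsUnit ((1 : q.ResidueField) ⊗ₜ[R] a) := by
  classical
  let Rq := Localization.AtPrime q
  have := Groth.Agent.Lib.Azumaya.BaseChange.isAzumaya_baseChange Rq A (R := R)
  let ψq := Algebra.TensorProduct.congr (AlgEquiv.refl : Rq ≃ₐ[Rq] Rq) ψ
  obtain ⟨b, hb⟩ := Groth.Agent.Lib.Azumaya.Inner.exists_unit_conj ψq
  obtain ⟨⟨a0, s⟩, hs⟩ := IsLocalizedModule.surj q.primeCompl (TensorProduct.mk R Rq A 1) (b : Rq ⊗[R] A)
  change (s : R) • (b : Rq ⊗[R] A) = (1 : Rq) ⊗ₜ[R] a0 at hs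
  have heq : ∀ x, (1 : Rq) ⊗ₜ[R] (ψ x * a0 - a0 * x) = 0 := fun x => by
    rw [TensorProduct.tmul_sub, sub_eq_zero, ← mul_one (1 : Rq), ← Algebra.TensorProduct.tmul_mul_tmul,
      ← Algebra.TensorProduct.tmul_mul_tmul, ← hs, mul_smul_comm, smul_mul_assoc]
    congr 1
    rw [show (1 : Rq) ⊗ₜ[R] ψ x = ψq ((1 : Rq) ⊗ₜ[R] x) by simp [ψq], hb, mul_assoc, Units.inv_mul, mul_one]
  obtain ⟨n, g, hg⟩ := Module.Finite.exists_fin (R := R) (M := A)
  have hk : ∀ i, ∃ t : q.primeCompl, (t : R) • (ψ (g i) * a0 - a0 * g i) = 0 := fun i => by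
    obtain ⟨t, ht⟩ := (IsLocalizedModule.eq_zero_iff q.primeCompl (TensorProduct.mk R Rq A 1)).1 (heq (g i))
    exact ⟨t, ht⟩
  choose t ht using hk
  let T : q.primeCompl := ∏ i, t i
  refine ⟨(T : R) • a0, ?_, ?_⟩
  · have hT : ∀ i, (T : R) • (ψ (g i) * a0 - a0 * g i) = 0 := fun i => by
      rw [show T = (∏ j ∈ Finset.univ.erase i, t j) * t i from
        (Finset.prod_erase_mul _ _ (Finset.mem_univ i)).symm, Submonoid.coe_mul, mul_smul, ht, smul_zero]
    let D : A →ₗ[R] A := (T : R) • ((LinearMap.mulRight R a0).comp ψ.toLinearMap - LinearMap.mulLeft R a0)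
    have hD : D = 0 := LinearMap.ext_on_range hg fun i => by simpa [D] using hT i
    intro x
    rw [mul_smul_comm, smul_mul_assoc, ← sub_eq_zero, ← smul_sub]
    exact LinearMap.congr_fun hD x
  · let f : Rq ⊗[R] A →ₐ[R] q.ResidueField ⊗[R] A :=
      Algebra.TensorProduct.map (IsScalarTower.toAlgHom R Rq q.ResidueField) (AlgHom.id R A)
    have h1 := b.isUnit.map f
    have e : (1 : q.ResidueField) ⊗ₜ[R] ((T : R) • a0) =
        algebraMap R (q.ResidueField ⊗[R] A) ((T : R) * s) * f (b : Rq ⊗[R] A) := by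
      rw [← Algebra.smul_def, mul_smul, ← map_smul f (s : R), hs, TensorProduct.tmul_smul]
      simp [f]
    rw [e, IsScalarTower.algebraMap_apply R q.ResidueField (q.ResidueField ⊗[R] A)]
    exact (((isUnit_iff_ne_zero).2 fun h => (T * s).2 (Ideal.algebraMap_residueField_eq_zero.1 h)).map _).mul h1

variable {S : Type u} [CommRing S] [Algebra S R] (lam : R ≃ₐ[S] R) (hlam : ∀ r, lam (lam r) = r)
  (hfix : RInv.IsFixedRing S R lam.toRingEquiv)

include hlam hfix

theorem primes_over (p : Ideal S) [p.IsPrime] :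
    ∃ q : Ideal R, q.IsPrime ∧ q.comap (algebraMap S R) = p ∧
      ∀ q' : Ideal R, q'.IsPrime → q'.comap (algebraMap S R) = p → q' = q ∨ q' = q.comap lam.toRingEquiv.toRingHom := by
  have := Groth.Agent.Lib.RInvQuad.isIntegral (lam := lam.toRingEquiv) hlam hfix
  obtain ⟨⟨q, hq⟩, hqp⟩ := Groth.Agent.Lib.RInvQuad.exists_over (lam := lam.toRingEquiv) hlam hfix ⟨p, inferInstance⟩
  change q.comap (algebraMap S R) = p at hqp
  refine ⟨q, hq, hqp, fun q' hq' hq'p => ?_⟩
  let L := lam.toRingEquiv.toRingHom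
  have hsub : (q' : Set R) ⊆ (q : Set R) ∪ (q.comap L : Set R) := fun x hx => by
    obtain ⟨c, hc⟩ := Groth.Agent.Lib.RInvQuad.exists_norm (lam := lam.toRingEquiv) hlam hfix x
    have h1 : c ∈ q'.comap (algebraMap S R) := by
      rw [Ideal.mem_comap, hc]; exact q'.mul_mem_right _ hx
    rw [hq'p, ← hqp, Ideal.mem_comap, hc] at h1
    exact hq.mem_or_mem h1
  have hqL : (q.comap L).comap (algebraMap S R) = p := by
    rw [Ideal.comap_comap, ← hqp]
    congr 1
    exact RingHom.ext fun s => lam.commutes s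
  rcases (Ideal.subset_union).1 hsub with h | h
  · left
    by_contra hne
    have := Ideal.IsIntegral.comap_lt_comap (R := S) (lt_of_le_of_ne h hne)
    rw [hq'p, hqp] at this
    exact lt_irrefl _ this
  · right
    by_contra hne
    have : q'.IsPrime := hq'
    have hL : (q.comap L).IsPrime := Ideal.comap_isPrime L q
    have := Ideal.IsIntegral.comap_lt_comap (R := S) (lt_of_le_of_ne h hne)
    rw [hq'p, hqL] at this
    exact lt_irrefl _ this

theorem exists_twisting_over [IsAzumaya R A] (ψ : A ≃ₐ[R] A) (p : Ideal S) [p.IsPrime] :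
    ∃ a : A, (∀ x, ψ x * a = a * x) ∧ ∀ (q : Ideal R) [q.IsPrime],
      q.comap (algebraMap S R) = p → IsUnit ((1 : q.ResidueField) ⊗ₜ[R] a) := by
  obtain ⟨q₁, hq₁, hp₁, hall⟩ := primes_over lam hlam hfix p
  let q₂ := q₁.comap lam.toRingEquiv.toRingHom
  obtain ⟨a₁, ha₁, hu₁⟩ := exists_twisting_at ψ q₁
  by_cases h : q₂ = q₁
  · refine ⟨a₁, ha₁, fun q _ hqp => ?_⟩
    obtain rfl : q = q₁ := (hall q ‹_› hqp).elim id fun e => e.trans h
    exact hu₁
  obtain ⟨a₂, ha₂, hu₂⟩ := exists_twisting_at ψ q₂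
  have := Groth.Agent.Lib.RInvQuad.isIntegral (lam := lam.toRingEquiv) hlam hfix
  have hqL : q₂.comap (algebraMap S R) = p := by
    rw [Ideal.comap_comap, ← hp₁]
    congr 1
    exact RingHom.ext fun s => lam.commutes s
  have hp₂ : q₂.IsPrime := inferInstance
  obtain ⟨e₁, he₁, he₁'⟩ : ∃ e, e ∈ q₂ ∧ e ∉ q₁ := by
    by_contra! hc
    have := Ideal.IsIntegral.comap_lt_comap (R := S) (lt_of_le_of_ne hc h)
    rw [hqL, hp₁] at this
    exact lt_irrefl _ this
  obtain ⟨e₂, he₂, he₂'⟩ : ∃ e, e ∈ q₁ ∧ e ∉ q₂ := by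
    by_contra! hc
    have := Ideal.IsIntegral.comap_lt_comap (R := S) (lt_of_le_of_ne hc (Ne.symm h))
    rw [hqL, hp₁] at this
    exact lt_irrefl _ this
  refine ⟨e₁ • a₁ + e₂ • a₂, fun x => by
    rw [mul_add, add_mul, mul_smul_comm, mul_smul_comm, smul_mul_assoc, smul_mul_assoc, ha₁, ha₂], fun q _ hqp => ?_⟩
  have key : ∀ (q : Ideal R) [q.IsPrime] (e e' : R) (a a' : A), e ∉ q → e' ∈ q →
      IsUnit ((1 : q.ResidueField) ⊗ₜ[R] a) → IsUnit ((1 : q.ResidueField) ⊗ₜ[R] (e • a + e' • a')) := by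
    intro q _ e e' a a' he he' hu
    rw [TensorProduct.tmul_add, TensorProduct.tmul_smul, TensorProduct.tmul_smul,
      ← algebraMap_smul q.ResidueField e, ← algebraMap_smul q.ResidueField e',
      Ideal.algebraMap_residueField_eq_zero.2 he', zero_smul, add_zero, Algebra.smul_def]
    exact (((isUnit_iff_ne_zero).2 fun h => he (Ideal.algebraMap_residueField_eq_zero.1 h)).map _).mul hu
  rcases hall q ‹_› hqp with rfl | rfl
  · exact key _ e₁ e₂ a₁ a₂ he₁' he₂ hu₁
  · rw [add_comm]; exact key _ e₂ e₁ a₂ a₁ he₂' he₁ hu₂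

omit hlam hfix in
theorem exists_range {M : Type w} [AddCommGroup M] [Module R M] [Module.Finite R M] (L : M →ₗ[R] M)
    [Algebra.IsIntegral S R] (p : Ideal S) [p.IsPrime]
    (h : ∀ (q : Ideal R) [q.IsPrime], q.comap (algebraMap S R) = p → Function.Surjective (L.lTensor q.ResidueField))
    (m : M) : ∃ f, f ∉ p ∧ algebraMap S R f • m ∈ LinearMap.range L := by
  let N := M ⧸ LinearMap.range L
  by_contra! hc
  have hle : (Module.annihilator R N).comap (algebraMap S R) ≤ p := fun f hf => by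
    by_contra hfp
    refine hc f hfp ((Submodule.Quotient.mk_eq_zero _).1 ?_)
    rw [Submodule.Quotient.mk_smul]
    exact Module.mem_annihilator.1 hf _
  obtain ⟨q, hq, hqp, hqc⟩ := Ideal.exists_ideal_over_prime_of_isIntegral (R := S) (S := R) p _ hle
  have hsupp : (⟨q, hqp⟩ : PrimeSpectrum R) ∈ Module.support R N := by
    rw [Module.support_eq_zeroLocus]
    exact hq
  have := (Module.mem_support_iff_nontrivial_residueField_tensorProduct (R := R) (M := N) ⟨q, hqp⟩).1 hsupp
  have hex := lTensor_exact q.ResidueField (LinearMap.exact_map_mkQ_range L) (Submodule.mkQ_surjective _)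
  obtain ⟨z, hz⟩ := exists_ne (0 : q.ResidueField ⊗[R] N)
  obtain ⟨y, rfl⟩ := LinearMap.lTensor_surjective q.ResidueField (Submodule.mkQ_surjective (LinearMap.range L)) z
  exact hz ((hex _).2 (h q hqc y))

theorem exists_inverse_scaled (a : A) [Module.Finite R A] (p : Ideal S) [p.IsPrime]
    (hu : ∀ (q : Ideal R) [q.IsPrime], q.comap (algebraMap S R) = p → IsUnit ((1 : q.ResidueField) ⊗ₜ[R] a)) :
    ∃ f, f ∉ p ∧ ∃ b : A, a * b = algebraMap R A (algebraMap S R f) ∧ b * a = algebraMap R A (algebraMap S R f) := by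
  have := Groth.Agent.Lib.RInvQuad.isIntegral (lam := lam.toRingEquiv) hlam hfix
  have hL : ∀ (q : Ideal R) [q.IsPrime], q.comap (algebraMap S R) = p →
      Function.Surjective ((LinearMap.mulLeft R a).lTensor q.ResidueField) := fun q _ hq z => by
    obtain ⟨v, hv⟩ := hu q hq
    refine ⟨((v⁻¹ : (q.ResidueField ⊗[R] A)ˣ) : q.ResidueField ⊗[R] A) * z, ?_⟩
    have : ∀ w : q.ResidueField ⊗[R] A, (LinearMap.mulLeft R a).lTensor q.ResidueField w = (1 ⊗ₜ[R] a) * w := fun w => by
      induction w using TensorProduct.induction_on with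
      | zero => simp
      | tmul c y => simp
      | add x y hx hy => rw [map_add, hx, hy, mul_add]
    rw [this, ← hv, Units.mul_inv_cancel_left]
  have hR : ∀ (q : Ideal R) [q.IsPrime], q.comap (algebraMap S R) = p →
      Function.Surjective ((LinearMap.mulRight R a).lTensor q.ResidueField) := fun q _ hq z => by
    obtain ⟨v, hv⟩ := hu q hq
    refine ⟨z * ((v⁻¹ : (q.ResidueField ⊗[R] A)ˣ) : q.ResidueField ⊗[R] A), ?_⟩
    have : ∀ w : q.ResidueField ⊗[R] A, (LinearMap.mulRight R a).lTensor q.ResidueField w = w * (1 ⊗ₜ[R] a) := fun w => by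
      induction w using TensorProduct.induction_on with
      | zero => simp
      | tmul c y => simp
      | add x y hx hy => rw [map_add, hx, hy, add_mul]
    rw [this, ← hv, Units.inv_mul_cancel_right]
  obtain ⟨f₁, hf₁, b, hb⟩ := exists_range (LinearMap.mulLeft R a) p hL 1
  obtain ⟨f₂, hf₂, c, hc⟩ := exists_range (LinearMap.mulRight R a) p hR 1
  simp only [LinearMap.mulLeft_apply, LinearMap.mulRight_apply] at hb hc
  refine ⟨f₁ * f₂, (Ideal.IsPrime.mul_mem_iff_mem_or_mem ‹_›).not.2 (by tauto), algebraMap S R f₂ • b, ?_, ?_⟩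
  · rw [mul_smul_comm, hb, smul_smul, ← map_mul, Algebra.algebraMap_eq_smul_one (R := R) (A := A), mul_comm]
  · have h1 : algebraMap S R f₂ • b = algebraMap S R f₁ • c := by
      calc algebraMap S R f₂ • b = (c * a) * b := by rw [hc, smul_mul_assoc, one_mul]
        _ = c * (a * b) := mul_assoc _ _ _
        _ = algebraMap S R f₁ • c := by rw [hb, mul_smul_comm, mul_one]
    rw [h1, smul_mul_assoc, hc, smul_smul, ← map_mul, Algebra.algebraMap_eq_smul_one (R := R) (A := A)]

variable [Algebra S A] [IsScalarTower S R A]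

theorem exists_cover_inner [IsAzumaya R A] (ψ : A ≃ₐ[R] A) :
    ∃ (S' : Type u) (_ : CommRing S') (_ : Algebra S S') (_ : Algebra.Etale S S')
      (_ : Module.FaithfullyFlat S S') (u : (S' ⊗[S] A)ˣ),
      ∀ x : S' ⊗[S] A,
        Algebra.TensorProduct.congr (AlgEquiv.refl : S' ≃ₐ[S'] S') (ψ.restrictScalars S) x =
          ↑u * x * ↑u⁻¹ := by
  classical
  let G : Set S := {f | ∃ a b : A, (∀ x, ψ x * a = a * x) ∧ a * b = algebraMap R A (algebraMap S R f) ∧
    b * a = algebraMap R A (algebraMap S R f)}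
  have hG : Ideal.span G = ⊤ := by
    by_contra h
    obtain ⟨p, hp, hle⟩ := Ideal.exists_le_maximal _ h
    obtain ⟨a, ha, hu⟩ := exists_twisting_over lam hlam hfix ψ p
    obtain ⟨f, hfp, b, hb, hb'⟩ := exists_inverse_scaled lam hlam hfix a p hu
    exact hfp (hle (Ideal.subset_span ⟨a, b, ha, hb, hb'⟩))
  obtain ⟨t, htG, ht⟩ := Submodule.mem_span_finite_of_mem_span ((Ideal.eq_top_iff_one _).1 hG)
  have htop : Ideal.span (t : Set S) = ⊤ := (Ideal.eq_top_iff_one _).2 ht
  choose a b ha hab hba using fun f : t => htG f.2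
  let S' := ∀ f : t, Localization.Away (f : S)
  have : Algebra.Etale S S' := by
    have : ∀ f : t, Algebra.Etale S (Localization.Away (f : S)) := fun f => Algebra.Etale.of_isLocalizationAway (f : S)
    infer_instance
  have hflat : Module.Flat S S' := by
    have : ∀ x : t, Module.Flat S (Localization.Away (x : S)) := fun x =>
      IsLocalization.flat _ (Submonoid.powers (x : S))
    exact Module.Flat.of_linearEquiv
      (DirectSum.linearEquivFunOnFintype S t (fun x : t => Localization.Away (x : S))).symm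
  have hff : Module.FaithfullyFlat S S' := by
    refine Module.FaithfullyFlat.of_comap_surjective fun P => ?_
    obtain ⟨x, hxt, hx⟩ : ∃ x ∈ t, x ∉ P.asIdeal := by
      by_contra! hcon
      exact P.isPrime.ne_top (top_le_iff.1 (htop ▸ Ideal.span_le.2 hcon))
    have hdisj : Disjoint (Submonoid.powers x : Set S) (P.asIdeal : Set S) := by
      rw [Set.disjoint_left]
      rintro _ ⟨n, rfl⟩ hn
      exact hx (P.isPrime.mem_of_pow_mem n hn)
    have hP' := IsLocalization.isPrime_of_isPrime_disjoint (Submonoid.powers x)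
      (Localization.Away x) P.asIdeal P.isPrime hdisj
    let ev := Pi.evalRingHom (fun x : t => Localization.Away (x : S)) ⟨x, hxt⟩
    refine ⟨⟨Ideal.comap ev (P.asIdeal.map (algebraMap S (Localization.Away x))),
      Ideal.IsPrime.comap ev⟩, PrimeSpectrum.ext ?_⟩
    change Ideal.comap (algebraMap S _) (Ideal.comap ev _) = P.asIdeal
    rw [Ideal.comap_comap]
    exact IsLocalization.comap_map_of_isPrime_disjoint (Submonoid.powers x)
      (Localization.Away x) P.isPrime hdisj
  let e : t → S' := fun f => Pi.single f 1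
  let i : t → S' := fun f => Pi.single f (IsLocalization.Away.invSelf (f : S))
  let U : S' ⊗[S] A := ∑ f, e f ⊗ₜ[S] a f
  let V : S' ⊗[S] A := ∑ f, i f ⊗ₜ[S] b f
  have heq : ∀ f f', e f * i f' = if f = f' then i f' else 0 := fun f f' => by
    funext g
    change (e f g * i f' g : Localization.Away (g : S)) = _
    by_cases h : f = f'
    · subst h
      rw [if_pos rfl]
      by_cases h' : g = f
      · subst h'; simp [e, i]
      · simp [e, i, h']
    · rw [if_neg h]
      change _ = (0 : Localization.Away (g : S))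
      by_cases h' : g = f
      · subst h'; simp [i, h]
      · simp [e, h']
  have h1 : ∀ f : t, (algebraMap S S' (f : S)) * i f = e f := fun f => by
    funext g
    change (algebraMap S (Localization.Away (g : S)) (f : S) * i f g : Localization.Away (g : S)) = e f g
    by_cases h : g = f
    · subst h; simp [e, i, IsLocalization.Away.mul_invSelf]
    · simp [e, i, h]
  have hsum : ∑ f, e f = 1 := Finset.univ_sum_single (fun f : t => (1 : Localization.Away (f : S)))
  have hUV : ∀ (c : t → A) (d : t → A), (∀ f, c f * d f = algebraMap R A (algebraMap S R (f : S))) →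
      (∑ f, e f ⊗ₜ[S] c f) * (∑ f, i f ⊗ₜ[S] d f) = 1 ∧ (∑ f, i f ⊗ₜ[S] c f) * (∑ f, e f ⊗ₜ[S] d f) = 1 := by
    intro c d hcd
    have hf : ∀ f : t, i f ⊗ₜ[S] algebraMap R A (algebraMap S R (f : S)) = e f ⊗ₜ[S] (1 : A) := fun f => by
      rw [← IsScalarTower.algebraMap_apply, Algebra.algebraMap_eq_smul_one, TensorProduct.tmul_smul,
        TensorProduct.smul_tmul', Algebra.smul_def, h1]
    constructor
    · simp only [Finset.sum_mul, Finset.mul_sum, Algebra.TensorProduct.tmul_mul_tmul, heq, TensorProduct.ite_tmul,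
        Finset.sum_ite_eq, Finset.mem_univ, if_true, Finset.sum_ite_eq', hcd, hf, ← TensorProduct.sum_tmul, hsum]
      rfl
    · simp only [Finset.sum_mul, Finset.mul_sum, Algebra.TensorProduct.tmul_mul_tmul, mul_comm (i _), heq, TensorProduct.ite_tmul,
        Finset.sum_ite_eq, Finset.mem_univ, if_true, Finset.sum_ite_eq', hcd, hf, ← TensorProduct.sum_tmul, hsum]
      rfl
  let Uu : (S' ⊗[S] A)ˣ := ⟨U, V, (hUV a b hab).1, (hUV b a hba).2⟩
  refine ⟨S', inferInstance, inferInstance, inferInstance, hff, Uu, fun x => ?_⟩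
  rw [Units.eq_mul_inv_iff_mul_eq]
  change _ * U = U * x
  induction x using TensorProduct.induction_on with
  | zero => simp
  | add x y hx hy => rw [map_add, add_mul, hx, hy, mul_add]
  | tmul c y =>
    simp only [U, Finset.mul_sum, Finset.sum_mul, Algebra.TensorProduct.congr_apply, Algebra.TensorProduct.map_tmul,
      Algebra.TensorProduct.tmul_mul_tmul]
    refine Finset.sum_congr rfl fun f _ => ?_
    change (c * e f) ⊗ₜ[S] (ψ y * a f) = _
    rw [ha, mul_comm]

end Groth.Agent.Lib.AzInvInner
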