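import Groth.Agent.Lib.Azumaya.Criterion
import Groth.Agent.Lib.CSA.Basic
import Groth.Agent.Lib.Henselian.Pair
import Mathlib.LinearAlgebra.Charpoly.BaseChange
import Mathlib

/-!
# Azumaya algebras over strictly henselian local rings

* `exists_idempotent_lift`: idempotents of `k ⊗ B` lift to finite algebras over a henselian local ring
* `exists_algHom_matrix`: an Azumaya algebra of rank `n²` maps to `n × n` matrices
-/

universe u v

open scoped TensorProduct
open Polynomial

namespace Groth.Agent.Lib.AzumayaStrictHens

variable {T : Type u} [CommRing T] [HenselianLocalRing T] {B : Type v} [Ring B] [Algebra T B]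
  [Module.Finite T B] [Module.Free T B]

local notation "k" => IsLocalRing.ResidueField T

theorem exists_idempotent_lift (ē : k ⊗[T] B) (he : IsIdempotentElem ē) :
    ∃ e : B, IsIdempotentElem e ∧ (1 : k) ⊗ₜ[T] e = ē := by
  classical
  obtain ⟨b, rfl⟩ := TensorProduct.mk_surjective T B k Ideal.Quotient.mk_surjective ē
  change IsIdempotentElem ((1 : k) ⊗ₜ[T] b) at he
  change ∃ e : B, IsIdempotentElem e ∧ (1 : k) ⊗ₜ[T] e = (1 : k) ⊗ₜ[T] b
  let C := (aeval (R := T) b).range
  let : CommRing C :=
    { (inferInstance : Ring C) with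
      mul_comm := fun x y => Subtype.ext (by
        obtain ⟨p, hp⟩ := x.2
        obtain ⟨q, hq⟩ := y.2
        change (x : B) * (y : B) = (y : B) * (x : B)
        change aeval b p = (x : B) at hp
        change aeval b q = (y : B) at hq
        rw [← hp, ← hq, ← map_mul, ← map_mul, mul_comm]) }
  have : Algebra.IsIntegral T C := ⟨fun x =>
    (isIntegral_algHom_iff C.val Subtype.val_injective).1 (IsIntegral.of_finite T (x : B))⟩
  let m := IsLocalRing.maximalIdeal T
  have := Groth.Agent.Lib.Henselian.Pair.henselianRing_of_isIntegral m C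
  have := Groth.Agent.Lib.Henselian.Pair.henselianRing_radical (m.map (algebraMap T C))
  let J := (m.map (algebraMap T C)).radical
  have hker : ∀ x : C, (1 : k) ⊗ₜ[T] (x : B) = 0 → x ∈ J := by
    intro x hx
    let f := (LinearMap.mulLeft T (x : B)).charpoly
    have h1 : aeval (x : B) f = 0 := by
      have h := LinearMap.aeval_self_charpoly (LinearMap.mulLeft T (x : B))
      have : aeval (LinearMap.mulLeft T (x : B)) f = LinearMap.mulLeft T (aeval (x : B) f) :=
        aeval_algHom_apply (Algebra.lmul T B) (x : B) f
      rw [this] at h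
      simpa using LinearMap.congr_fun h 1
    have h2 : f.map (algebraMap T k) = X ^ Module.finrank T B := by
      rw [← LinearMap.charpoly_baseChange]
      have : (LinearMap.mulLeft T (x : B)).baseChange k = 0 := by
        refine TensorProduct.AlgebraTensorModule.ext fun c y => ?_
        rw [LinearMap.baseChange_tmul, LinearMap.mulLeft_apply, LinearMap.zero_apply,
          show c ⊗ₜ[T] ((x : B) * y) = ((1 : k) ⊗ₜ[T] (x : B)) * (c ⊗ₜ[T] y) by simp, hx, zero_mul]
      rw [this, LinearMap.charpoly_zero, Module.finrank_baseChange]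
    have hd : f.natDegree = Module.finrank T B := LinearMap.charpoly_natDegree _
    have h1' : aeval x f = 0 := Subtype.ext (by rw [aeval_subalgebra_coe, h1]; rfl)
    refine ⟨Module.finrank T B, ?_⟩
    have hm : f.Monic := LinearMap.charpoly_monic _
    rw [hm.as_sum, hd, map_add, map_pow, aeval_X, add_eq_zero_iff_eq_neg] at h1'
    rw [h1']
    refine neg_mem ?_
    rw [map_sum]
    refine Ideal.sum_mem _ fun i hi => ?_
    rw [map_mul, aeval_C]
    refine Ideal.mul_mem_right _ _ (Ideal.mem_map_of_mem _ ?_)
    have := congr_arg (fun p => Polynomial.coeff p i) h2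
    simp only [coeff_map, coeff_X_pow] at this
    rw [if_neg (Finset.mem_range.1 hi).ne] at this
    exact (IsLocalRing.residue_eq_zero_iff _).1 this
  let b' : C := ⟨b, X, aeval_X b⟩
  have hb : b' ^ 2 - b' ∈ J := hker _ (by
    change (1 : k) ⊗ₜ[T] (b ^ 2 - b) = 0
    rw [TensorProduct.tmul_sub, sub_eq_zero, pow_two]
    conv_rhs => rw [← he.eq]
    rw [Algebra.TensorProduct.tmul_mul_tmul, mul_one])
  obtain ⟨e, hroot, hclose⟩ := HenselianRing.is_henselian (R := C) (I := J) (X ^ 2 - X) (by monicity!) b'
    (by simpa using hb) (by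
      simp only [derivative_sub, derivative_X_pow, derivative_X, eval_sub, eval_mul, eval_C, eval_pow, eval_X, eval_one]
      refine IsUnit.of_mul_eq_one (Ideal.Quotient.mk J (2 * b' - 1)) ?_
      rw [← map_mul, ← map_one (Ideal.Quotient.mk J), Ideal.Quotient.eq]
      convert J.mul_mem_left 4 hb using 1
      push_cast
      ring)
  have hee : IsIdempotentElem (e : B) := by
    have : e * e = e := by simpa [pow_two, sub_eq_zero, IsRoot] using hroot
    exact congr_arg Subtype.val this
  refine ⟨e, hee, ?_⟩
  obtain ⟨N, hN⟩ := hclose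
  have h0 : ∀ y ∈ m.map (algebraMap T C), (1 : k) ⊗ₜ[T] ((y : C) : B) = 0 := fun y hy => by
    induction hy using Submodule.span_induction with
    | mem y hy =>
      obtain ⟨t, ht, rfl⟩ := hy
      rw [Subalgebra.coe_algebraMap, Algebra.algebraMap_eq_smul_one, TensorProduct.tmul_smul,
        TensorProduct.smul_tmul', Algebra.smul_def, IsLocalRing.ResidueField.algebraMap_eq,
        (IsLocalRing.residue_eq_zero_iff t).2 ht, zero_mul, TensorProduct.zero_tmul]
    | zero => simp
    | add a c _ _ ha hc => rw [Subalgebra.coe_add, TensorProduct.tmul_add, ha, hc, add_zero]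
    | smul a c _ hc =>
      rw [smul_eq_mul, Subalgebra.coe_mul, ← mul_one (1 : k), ← Algebra.TensorProduct.tmul_mul_tmul, hc, mul_zero]
  have hN' : ((1 : k) ⊗ₜ[T] ((e : B) - b)) ^ N = 0 := by
    rw [Algebra.TensorProduct.tmul_pow, one_pow]
    exact h0 _ hN
  -- two commuting idempotents differing by a nilpotent
  have heb : Commute ((1 : k) ⊗ₜ[T] (e : B)) ((1 : k) ⊗ₜ[T] b) := by
    rw [commute_iff_eq, Algebra.TensorProduct.tmul_mul_tmul, Algebra.TensorProduct.tmul_mul_tmul]
    congr 1
    exact congr_arg Subtype.val (mul_comm e b')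
  have he' : IsIdempotentElem ((1 : k) ⊗ₜ[T] (e : B)) := by
    rw [IsIdempotentElem, Algebra.TensorProduct.tmul_mul_tmul, mul_one, hee.eq]
  exact eq_of_isNilpotent_sub_of_isIdempotentElem_of_commute he' he
    ⟨N, by rw [← TensorProduct.tmul_sub]; exact hN'⟩ heb

theorem exists_algHom_matrix [IsAzumaya T B] [IsSepClosed k] (n : ℕ) (hn : Module.finrank T B = n ^ 2) :
    Nonempty (B →ₐ[T] Matrix (Fin n) (Fin n) T) := by
  classical
  have hcs := Groth.Agent.Lib.Azumaya.Criterion.central_simple_baseChange B k (R := T)
  have := hcs.1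
  have := hcs.2
  obtain ⟨N, hN, ⟨f⟩⟩ := Groth.Agent.Lib.CSA.Basic.exists_algEquiv_matrix_of_isSepClosed k (k ⊗[T] B)
  have hNn : N = n := by
    have h := f.toLinearEquiv.finrank_eq
    rw [Module.finrank_baseChange, hn, Module.finrank_matrix, Fintype.card_fin, Module.finrank_self, mul_one,
      ← pow_two] at h
    exact (Nat.pow_left_injective two_ne_zero h).symm
  subst hNn
  have : NeZero N := ⟨hN⟩
  let ε : Matrix (Fin N) (Fin N) k := Matrix.single 0 0 1
  obtain ⟨e, he, heε⟩ := exists_idempotent_lift (f.symm ε) (by
    rw [IsIdempotentElem, ← map_mul]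
    simp [ε])
  let P := LinearMap.range (LinearMap.mulRight T e)
  let π : B →ₗ[T] P := (LinearMap.mulRight T e).rangeRestrict
  let i : P →ₗ[T] B := P.subtype
  have hπi : π ∘ₗ i = LinearMap.id := LinearMap.ext fun x => Subtype.ext (by
    obtain ⟨y, hy⟩ := x.2
    change (x : B) * e = x
    rw [← hy]
    change y * e * e = y * e
    rw [mul_assoc, he.eq])
  have : Module.Projective T P := Module.Projective.of_split i π hπi
  have : Module.Finite T P := Module.Finite.range _
  have : Module.Free T P := Module.free_of_flat_of_isLocalRing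
  have hdim : Module.finrank T P = N := by
    rw [← Module.finrank_baseChange (R := k)]
    let ib := i.baseChange k
    have hib : Function.Injective ib := Function.LeftInverse.injective (g := π.baseChange k) fun x => by
      rw [← LinearMap.comp_apply, ← LinearMap.baseChange_comp, hπi, LinearMap.baseChange_id, LinearMap.id_apply]
    rw [← LinearMap.finrank_range_of_inj hib]
    have hr : LinearMap.range ib = LinearMap.range (LinearMap.mulRight k (f.symm ε)) := by
      have hcomp : ib ∘ₗ π.baseChange k = LinearMap.mulRight k (f.symm ε) := by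
        refine TensorProduct.AlgebraTensorModule.ext fun c y => ?_
        simp [ib, i, π, ← heε]
      rw [← hcomp, LinearMap.range_comp_of_range_eq_top]
      exact LinearMap.range_eq_top.2 fun x => ⟨ib x, by
        rw [← LinearMap.comp_apply, ← LinearMap.baseChange_comp, hπi, LinearMap.baseChange_id, LinearMap.id_apply]⟩
    rw [hr]
    let col : (Fin N → k) →ₗ[k] Matrix (Fin N) (Fin N) k :=
      { toFun := fun v => Matrix.of fun a c => if c = 0 then v a else 0
        map_add' := fun v w => by ext a c; by_cases h : c = 0 <;> simp [h]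
        map_smul' := fun s v => by ext a c; by_cases h : c = 0 <;> simp [h] }
    have hcol : Function.Injective col := fun v w h => funext fun a => by simpa [col] using congr_fun₂ h a 0
    have hr' : LinearMap.range (LinearMap.mulRight k (f.symm ε)) =
        LinearMap.range (f.symm.toLinearEquiv.toLinearMap ∘ₗ col) := by
      have key : ∀ M : Matrix (Fin N) (Fin N) k, M * ε = col fun a => M a 0 := fun M => by
        ext a c
        by_cases h : c = 0
        · subst h; simp [ε, col]
        · simp [ε, col, h]
      ext z
      constructor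
      · rintro ⟨y, rfl⟩
        refine ⟨fun a => f y a 0, ?_⟩
        change f.symm (col _) = y * f.symm ε
        rw [← key, map_mul, AlgEquiv.symm_apply_apply]
      · rintro ⟨v, rfl⟩
        refine ⟨f.symm (col v), ?_⟩
        change f.symm (col v) * f.symm ε = f.symm (col v)
        rw [← map_mul, key]
        simp [col]
    rw [hr', LinearMap.finrank_range_of_inj (f.symm.injective.comp hcol), Module.finrank_pi, Fintype.card_fin]
  let ρ : B →ₐ[T] Module.End T P :=
    { toFun := fun z =>
        { toFun := fun x => ⟨z * (x : B), by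
            obtain ⟨y, hy⟩ := x.2
            exact ⟨z * y, by change z * y * e = _; rw [← hy, mul_assoc]; rfl⟩⟩
          map_add' := fun x y => Subtype.ext (mul_add _ _ _)
          map_smul' := fun c x => Subtype.ext (mul_smul_comm _ _ _) }
      map_one' := LinearMap.ext fun x => Subtype.ext (one_mul _)
      map_mul' := fun x y => LinearMap.ext fun z => Subtype.ext (mul_assoc _ _ _)
      map_zero' := LinearMap.ext fun x => Subtype.ext (zero_mul _)
      map_add' := fun x y => LinearMap.ext fun z => Subtype.ext (add_mul _ _ _)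
      commutes' := fun c => LinearMap.ext fun x => Subtype.ext (by simp [Algebra.smul_def]) }
  exact ⟨(algEquivMatrix ((Module.finBasis T P).reindex (finCongr hdim))).toAlgHom.comp ρ⟩

end Groth.Agent.Lib.AzumayaStrictHens
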