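import Groth.Agent.Lib.EtSite.LimTensor

/-!
# Descent of elements of `Lim R Ω ⊗ M` to étale stages, for an arbitrary module `M`
-/

universe u w

open TensorProduct
open Groth.Agent.Lib.Henselian.Pointed Groth.Agent.Lib.EtSite.LimTensor

namespace Groth.Agent.Lib.LimModule

variable {R : Type u} [CommRing R] {Ω : Type u} [CommRing Ω] [Algebra R Ω]
  {M : Type w} [AddCommGroup M] [Module R M]

theorem exists_range (K : Stage R Ω) (t : Finset (Lim R Ω ⊗[R] M)) :
    ∃ N : Stage R Ω, Nonempty (K.Hom N) ∧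
      (t : Set (Lim R Ω ⊗[R] M)) ⊆ Set.range (N.toLim.toLinearMap.rTensor M) := by
  classical
  choose S hS using fun x : Lim R Ω ⊗[R] M => TensorProduct.exists_finset x
  obtain ⟨N, hN, hr⟩ := K.exists_range (t.biUnion fun x => (S x).image Prod.fst)
  refine ⟨N, hN, fun x hx => ?_⟩
  have : x ∈ LinearMap.range (N.toLim.toLinearMap.rTensor M) := by
    rw [hS x]
    refine Submodule.sum_mem _ fun p hp => ?_
    obtain ⟨a, ha⟩ := hr (Finset.mem_biUnion.2 ⟨x, hx, Finset.mem_image.2 ⟨p, hp, rfl⟩⟩)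
    exact ⟨a ⊗ₜ p.2, by simp [ha]⟩
  exact this

theorem exists_eq_zero₁ (K : Stage R Ω) (z : K.S ⊗[R] M) (hz : K.toLim.toLinearMap.rTensor M z = 0) :
    ∃ (N : Stage R Ω) (ψ : K.Hom N), ψ.1.toLinearMap.rTensor M z = 0 := by
  classical
  obtain ⟨t, ht⟩ := TensorProduct.exists_finset z
  subst ht
  have hz' : ∑ p : t, (p : K.S × M).2 ⊗ₜ[R] K.toLim (p : K.S × M).1 = 0 := by
    apply (TensorProduct.comm R M (Lim R Ω)).injective
    rw [map_zero, ← hz, map_sum, map_sum]
    simp only [TensorProduct.comm_tmul, LinearMap.rTensor_tmul, AlgHom.toLinearMap_apply]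
    exact Finset.sum_coe_sort t fun p => K.toLim p.1 ⊗ₜ[R] p.2
  obtain ⟨κ, a, y, hy, ha⟩ := TensorProduct.vanishesTrivially_of_sum_tmul_eq_zero_of_rTensor_injective R
    (Module.Flat.rTensor_preserves_injective_linearMap _ (Submodule.injective_subtype _)) hz'
  obtain ⟨N, ⟨ψ⟩, hr⟩ := K.exists_range (Finset.univ.image y)
  choose y' hy' using fun j => hr (Finset.mem_image_of_mem y (Finset.mem_univ j))
  obtain ⟨L, φ, hφ⟩ := N.exists_eq_zero (Finset.univ.image fun p : t => ψ.1 (p : K.S × M).1 - ∑ j, a p j • y' j)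
    (fun x hx => by
      obtain ⟨p, -, rfl⟩ := Finset.mem_image.1 hx
      have e : N.toLim (ψ.1 (p : K.S × M).1) = K.toLim (p : K.S × M).1 := AlgHom.congr_fun ψ.2 _
      simp only [map_sub, map_sum, map_smul, hy', e, hy p, sub_self])
  refine ⟨L, ⟨φ.1.comp ψ.1, by rw [← AlgHom.comp_assoc, φ.2, ψ.2]⟩, ?_⟩
  have hθ : ∀ p : t, φ.1 (ψ.1 (p : K.S × M).1) = ∑ j, a p j • φ.1 (y' j) := fun p => by
    have := hφ _ (Finset.mem_image_of_mem _ (Finset.mem_univ p))
    rw [map_sub, sub_eq_zero, map_sum] at this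
    simpa using this
  rw [map_sum, ← Finset.sum_coe_sort]
  simp only [LinearMap.rTensor_tmul, AlgHom.toLinearMap_apply, AlgHom.comp_apply, hθ, TensorProduct.sum_tmul]
  rw [Finset.sum_comm]
  refine Finset.sum_eq_zero fun j _ => ?_
  simp only [TensorProduct.smul_tmul, ← TensorProduct.tmul_sum, ha j, TensorProduct.tmul_zero]

theorem exists_eq_zero (K : Stage R Ω) (s : Finset (K.S ⊗[R] M))
    (hs : ∀ z ∈ s, K.toLim.toLinearMap.rTensor M z = 0) :
    ∃ (N : Stage R Ω) (ψ : K.Hom N), ∀ z ∈ s, ψ.1.toLinearMap.rTensor M z = 0 := by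
  classical
  induction s using Finset.induction with
  | empty => exact ⟨K, ⟨AlgHom.id R _, AlgHom.comp_id _⟩, by simp⟩
  | insert x s hx ih =>
    obtain ⟨N, ψ, hψ⟩ := ih fun z hz => hs z (Finset.mem_insert_of_mem hz)
    obtain ⟨L, φ, hφ⟩ := exists_eq_zero₁ N (ψ.1.toLinearMap.rTensor M x) (by
      rw [← LinearMap.comp_apply, ← LinearMap.rTensor_comp, ← AlgHom.comp_toLinearMap, ψ.2]
      exact hs x (Finset.mem_insert_self _ _))
    refine ⟨L, ⟨φ.1.comp ψ.1, by rw [← AlgHom.comp_assoc, φ.2, ψ.2]⟩, fun z hz => ?_⟩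
    rw [AlgHom.comp_toLinearMap, LinearMap.rTensor_comp, LinearMap.comp_apply]
    rcases Finset.mem_insert.1 hz with rfl | hz
    · exact hφ
    · rw [hψ z hz, map_zero]

end Groth.Agent.Lib.LimModule
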