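import Groth.Agent.Lib.RInvQuad
import Mathlib.RingTheory.LocalRing.Quotient
import Mathlib.RingTheory.Unramified.Field
import Mathlib.RingTheory.Artinian.Ring

/-!
# Quadratic etale algebras over local rings
-/

universe u v

namespace Groth.Agent.Lib.RInvQuadLocal

variable {S : Type u} {R : Type v} [CommRing S] [CommRing R] [Algebra S R] [IsLocalRing S]

theorem isReduced_quotient (hq : RInv.IsQuadEtale S R) :
    IsReduced (R ⧸ (IsLocalRing.maximalIdeal S).map (algebraMap S R)) := by
  obtain ⟨hfin, -, hunr, -⟩ := hq
  let := Ideal.Quotient.field (IsLocalRing.maximalIdeal S)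
  have : Algebra.FormallyUnramified S (R ⧸ (IsLocalRing.maximalIdeal S).map (algebraMap S R)) :=
    Algebra.FormallyUnramified.comp S R _
  have : Algebra.FormallyUnramified (S ⧸ IsLocalRing.maximalIdeal S)
      (R ⧸ (IsLocalRing.maximalIdeal S).map (algebraMap S R)) :=
    Algebra.FormallyUnramified.of_restrictScalars S _ _
  have : Module.Finite (S ⧸ IsLocalRing.maximalIdeal S)
      (R ⧸ (IsLocalRing.maximalIdeal S).map (algebraMap S R)) :=
    Module.Finite.of_restrictScalars_finite S _ _
  exact Algebra.FormallyUnramified.isReduced_of_field (S ⧸ IsLocalRing.maximalIdeal S) _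

theorem jacobson_eq (hq : RInv.IsQuadEtale S R) :
    Ring.jacobson R = (IsLocalRing.maximalIdeal S).map (algebraMap S R) := by
  have hred := isReduced_quotient hq
  obtain ⟨hfin, -, -, -⟩ := hq
  let := Ideal.Quotient.field (IsLocalRing.maximalIdeal S)
  have : Module.Finite (S ⧸ IsLocalRing.maximalIdeal S)
      (R ⧸ (IsLocalRing.maximalIdeal S).map (algebraMap S R)) :=
    Module.Finite.of_restrictScalars_finite S _ _
  have := IsArtinianRing.of_finite (S ⧸ IsLocalRing.maximalIdeal S)
    (R ⧸ (IsLocalRing.maximalIdeal S).map (algebraMap S R))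
  rw [← Ideal.jacobson_bot]
  refine le_antisymm (fun x hx => ?_) (le_sInf fun M ⟨_, hM⟩ => Ideal.map_le_iff_le_comap.2 ?_)
  · rw [← Ideal.Quotient.eq_zero_iff_mem]
    refine IsNilpotent.eq_zero (nilpotent_iff_mem_prime.2 fun P hP => ?_)
    have hPm : P.IsMaximal := IsArtinianRing.isMaximal_of_isPrime P
    have := Ideal.mem_sInf.1 hx (I := P.comap (Ideal.Quotient.mk _))
      ⟨bot_le, Ideal.comap_isMaximal_of_surjective _ Ideal.Quotient.mk_surjective⟩
    exact Ideal.mem_comap.1 this
  · rw [IsLocalRing.eq_maximalIdeal (Ideal.isMaximal_comap_of_isIntegral_of_isMaximal (R := S) M)]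

theorem quotient_cases (hq : RInv.IsQuadEtale S R) :
    (IsField (R ⧸ (IsLocalRing.maximalIdeal S).map (algebraMap S R)) ∧
      Module.finrank (S ⧸ IsLocalRing.maximalIdeal S)
        (R ⧸ (IsLocalRing.maximalIdeal S).map (algebraMap S R)) = 2 ∧
      Algebra.IsSeparable (S ⧸ IsLocalRing.maximalIdeal S)
        (R ⧸ (IsLocalRing.maximalIdeal S).map (algebraMap S R))) ∨
    Nonempty ((R ⧸ (IsLocalRing.maximalIdeal S).map (algebraMap S R)) ≃ₐ[S ⧸ IsLocalRing.maximalIdeal S]
      ((S ⧸ IsLocalRing.maximalIdeal S) × (S ⧸ IsLocalRing.maximalIdeal S))) := by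
  have hred := isReduced_quotient hq
  obtain ⟨hfin, hproj, hunr, hrk⟩ := hq
  have : Module.Free S R := Module.free_of_flat_of_isLocalRing
  let := Ideal.Quotient.field (IsLocalRing.maximalIdeal S)
  let K := R ⧸ (IsLocalRing.maximalIdeal S).map (algebraMap S R)
  let k := S ⧸ IsLocalRing.maximalIdeal S
  have : Module.Finite k K := Module.Finite.of_restrictScalars_finite S _ _
  have h2 : Module.finrank k K = 2 := by
    have := hrk ⟨IsLocalRing.maximalIdeal S, inferInstance⟩
    rw [Module.rankAtStalk_eq_finrank_of_free] at this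
    rw [IsLocalRing.finrank_quotient_map]
    simpa using this
  have : Algebra.FormallyUnramified S K := Algebra.FormallyUnramified.comp S R _
  have : Algebra.FormallyUnramified k K := Algebra.FormallyUnramified.of_restrictScalars S _ _
  have : Nontrivial K := Module.nontrivial_of_finrank_eq_succ h2
  by_cases hd : NoZeroDivisors K
  · have : IsDomain K := NoZeroDivisors.to_isDomain K
    have hF : IsField K := isField_of_isIntegral_of_isField' (R := k) (Field.toIsField k)
    let := hF.toField
    exact Or.inl ⟨hF, h2, Algebra.FormallyUnramified.isSeparable k K⟩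
  · right
    obtain ⟨a, b, hab, ha, hb⟩ : ∃ a b : K, a * b = 0 ∧ a ≠ 0 ∧ b ≠ 0 := by
      by_contra! hc
      exact hd ⟨fun {a b} h => or_iff_not_imp_left.2 (hc a b h)⟩
    have hsq : ∀ z : K, z ≠ 0 → z * z ≠ 0 := fun z hz h => hz (IsNilpotent.eq_zero ⟨2, by rw [pow_two, h]⟩)
    have hli : LinearIndependent k ![a, b] := by
      rw [LinearIndependent.pair_iff]
      intro s t hst
      have h1 : s • (a * a) = 0 := by
        have := congr_arg (a * ·) hst
        simpa [mul_add, hab] using this
      have h2 : t • (b * b) = 0 := by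
        have := congr_arg (b * ·) hst
        simpa [mul_add, mul_comm b a, hab] using this
      exact ⟨(smul_eq_zero.1 h1).resolve_right (hsq a ha), (smul_eq_zero.1 h2).resolve_right (hsq b hb)⟩
    have hspan := hli.span_eq_top_of_card_eq_finrank (by simp [h2])
    have hmem : ∀ z : K, ∃ s t : k, s • a + t • b = z := fun z => by
      have : z ∈ Submodule.span k (Set.range ![a, b]) := by rw [hspan]; trivial
      rw [Matrix.range_cons, Matrix.range_cons, Matrix.range_empty, Set.union_empty,
        ← Set.insert_eq, Submodule.mem_span_pair] at this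
      exact this
    obtain ⟨s, t, h1⟩ := hmem 1
    have ea : s • a * (s • a) = s • a := by
      have := congr_arg ((s • a) * ·) h1
      simpa [mul_add, smul_mul_smul_comm, hab] using this
    have eb : t • b * (t • b) = t • b := by
      have := congr_arg ((t • b) * ·) h1
      simpa [mul_add, smul_mul_smul_comm, mul_comm b a, hab] using this
    let g : k × k →ₗ[k] K := (LinearMap.toSpanSingleton k K (s • a)).coprod (LinearMap.toSpanSingleton k K (t • b))
    have g1 : g 1 = 1 := by simpa [g] using h1
    have gm : ∀ x y, g (x * y) = g x * g y := fun x y => by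
      simp only [g, LinearMap.coprod_apply, LinearMap.toSpanSingleton_apply, Prod.fst_mul, Prod.snd_mul, add_mul,
        mul_add, smul_mul_smul_comm, hab, mul_comm b a, smul_zero, add_zero, zero_add] at *
      rw [ea, eb]
    refine ⟨(AlgEquiv.ofBijective (AlgHom.ofLinearMap g g1 gm) ?_).symm⟩
    have hs : Function.Surjective g := fun z => by
      obtain ⟨x, y, rfl⟩ := hmem z
      have hs0 : s ≠ 0 := fun h => by
        have := congr_arg (a * ·) h1
        simp [h, mul_add, hab] at this
        exact ha this.symm
      have ht0 : t ≠ 0 := fun h => by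
        have := congr_arg (b * ·) h1
        simp [h, mul_add, mul_comm b a, hab] at this
        exact hb this.symm
      exact ⟨(x * s⁻¹, y * t⁻¹), by
        simp only [g, LinearMap.coprod_apply, LinearMap.toSpanSingleton_apply, smul_smul, mul_assoc]
        erw [inv_mul_cancel₀ hs0, inv_mul_cancel₀ ht0]
        rw [mul_one, mul_one]⟩
    exact ⟨(LinearMap.injective_iff_surjective_of_finrank_eq_finrank (by simp [h2])).2 hs, hs⟩

end Groth.Agent.Lib.RInvQuadLocal
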