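import Groth.Agent.Lib.RInvQuad
import Groth.Agent.Lib.AzumayaStrictHens
import Groth.Agent.Lib.LimModule
import Groth.Agent.S15578
import Mathlib

/-!
# Splitting an Azumaya `R`-algebra over an étale cover of the fixed ring of an involution of `R`
-/

universe u v w

open scoped TensorProduct
open Groth.Agent.Lib.Henselian.Pointed Groth.Agent.Lib.EtSite.LimTensor

namespace Groth.Agent.Lib.AzInvSplit

variable {S : Type u} {R : Type v} [CommRing S] [CommRing R] [Algebra S R]
  {A : Type w} [Ring A] [Algebra R A] (n : ℕ)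

attribute [local instance] Algebra.TensorProduct.rightAlgebra

/-- An `R`-algebra map to matrices over `S' ⊗ R`. -/
abbrev SplitData (S' : Type u) [CommRing S'] [Algebra S S'] (A : Type w) [Ring A] [Algebra R A] :=
  A →ₐ[R] Matrix (Fin n) (Fin n) (S' ⊗[S] R)

variable (lam : R ≃ₐ[S] R) (hlam : ∀ r, lam (lam r) = r) (hfix : RInv.IsFixedRing S R lam.toRingEquiv)

include hlam hfix in
theorem exists_local [IsAzumaya R A] (hrk : ∀ q : PrimeSpectrum R, Module.rankAtStalk (R := R) A q = n ^ 2)
    (Ω : Type u) [Field Ω] [IsSepClosed Ω] [Algebra S Ω] :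
    Nonempty (SplitData (S := S) (R := R) n (Lim S Ω) A) := by
  let L := Lim S Ω
  let T := L ⊗[S] R
  let lamT := (Algebra.TensorProduct.congr (AlgEquiv.refl : L ≃ₐ[S] L) lam).toRingEquiv
  have hlamT : Function.Involutive lamT := fun x => by
    change Algebra.TensorProduct.congr (AlgEquiv.refl : L ≃ₐ[S] L) lam
      (Algebra.TensorProduct.congr (AlgEquiv.refl : L ≃ₐ[S] L) lam x) = x
    induction x using TensorProduct.induction_on with
    | zero => simp
    | tmul a r => simp [hlam r]
    | add x y hx hy => rw [map_add, map_add, hx, hy]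
  have hfixT := Groth.Agent.Lib.RInvQuad.isFixedRing_baseChange lam L hfix hlam (Or.inl inferInstance)
  obtain ⟨ι, _, Tc, instR, instH, hsep, ⟨e⟩⟩ := Groth.Agent.S15578.result L T lamT hlamT hfixT
  let alg : ∀ c : ι, Algebra R (Tc c) := fun c =>
    (((Pi.evalRingHom Tc c).comp e.toRingHom).comp (algebraMap R T)).toAlgebra
  have hh : ∀ c : ι, Nonempty (A →ₐ[R] Matrix (Fin n) (Fin n) (Tc c)) := fun c => by
    have := hsep c
    have : IsAzumaya (Tc c) (Tc c ⊗[R] A) := Groth.Agent.Lib.Azumaya.BaseChange.isAzumaya_baseChange (Tc c) A (R := R)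
    have : Module.Free (Tc c) (Tc c ⊗[R] A) := Module.free_of_flat_of_isLocalRing
    obtain ⟨h⟩ := Groth.Agent.Lib.AzumayaStrictHens.exists_algHom_matrix (T := Tc c) (B := Tc c ⊗[R] A) n (by
      let P : PrimeSpectrum (Tc c) := ⟨IsLocalRing.maximalIdeal _, inferInstance⟩
      have h1 := congr_fun (Module.rankAtStalk_eq_finrank_of_free (R := Tc c) (M := Tc c ⊗[R] A)) P
      rw [Module.rankAtStalk_baseChange P, hrk] at h1
      simpa using h1.symm)
    exact ⟨(h.restrictScalars R).comp Algebra.TensorProduct.includeRight⟩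
  let h := fun c => (hh c).some
  let comb : A →ₐ[R] Matrix (Fin n) (Fin n) T :=
    { toFun := fun a => Matrix.of fun i j => e.symm fun c => h c a i j
      map_one' := by
        ext i j
        rw [Matrix.of_apply, RingEquiv.symm_apply_eq]
        funext c
        by_cases hij : i = j <;> simp [hij, Matrix.one_apply]
      map_mul' := fun x y => by
        ext i j
        rw [Matrix.of_apply, RingEquiv.symm_apply_eq, Matrix.mul_apply, map_sum]
        funext c
        simp [Matrix.mul_apply, Finset.sum_apply]
      map_zero' := by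
        ext i j
        rw [Matrix.of_apply, RingEquiv.symm_apply_eq]
        funext c
        simp
      map_add' := fun x y => by
        ext i j
        rw [Matrix.of_apply, RingEquiv.symm_apply_eq, Matrix.add_apply, map_add]
        funext c
        simp
      commutes' := fun r => by
        ext i j
        rw [Matrix.of_apply, RingEquiv.symm_apply_eq]
        funext c
        rw [AlgHom.commutes]
        by_cases hij : i = j
        · subst hij
          simp only [Matrix.algebraMap_matrix_apply, if_pos]
          rfl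
        · simp [Matrix.algebraMap_matrix_apply, hij] }
  exact ⟨comb⟩

omit [Algebra R A] in
theorem exists_descend [Algebra R A] [Module.Finite R A] [Module.Projective R A] {Ω : Type u} [CommRing Ω] [Algebra S Ω]
    (h : SplitData (S := S) (R := R) n (Lim S Ω) A) :
    ∃ N : Stage S Ω, Nonempty (SplitData (S := S) (R := R) n N.S A) := by
  classical
  obtain ⟨m, π, i, -, -, hπi⟩ := Module.Finite.exists_comp_eq_id_of_projective R A
  let g : Fin m → A := fun j => π (Pi.single j 1)
  have hrepr : ∀ a : A, a = ∑ j, i a j • g j := fun a => by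
    conv_lhs => rw [← LinearMap.id_apply (R := R) a, ← hπi, LinearMap.comp_apply, pi_eq_sum_univ' (i a)]
    simp [g, map_sum, Pi.single_apply, eq_comm]
  obtain ⟨N, -, hN⟩ := Groth.Agent.Lib.LimModule.exists_range (M := R) (Stage.base (R := S) (Ω := Ω))
    (Finset.univ.image fun p : Fin m × Fin n × Fin n => h (g p.1) p.2.1 p.2.2)
  choose y hy using fun p : Fin m × Fin n × Fin n =>
    hN (Finset.mem_image_of_mem (fun p : Fin m × Fin n × Fin n => h (g p.1) p.2.1 p.2.2) (Finset.mem_univ p))
  let mkL : ∀ K : Stage S Ω, N.Hom K → (A →ₗ[R] Matrix (Fin n) (Fin n) (K.S ⊗[S] R)) := fun K θ =>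
    { toFun := fun a => ∑ j, i a j • Matrix.of fun k l => θ.1.toLinearMap.rTensor R (y (j, k, l))
      map_add' := fun a b => by simp only [map_add, Pi.add_apply, add_smul, Finset.sum_add_distrib]
      map_smul' := fun r a => by simp only [map_smul, Pi.smul_apply, smul_eq_mul, mul_smul, Finset.smul_sum, RingHom.id_apply] }
  let down : ∀ K : Stage S Ω, (K.S ⊗[S] R) →ₐ[R] (Lim S Ω ⊗[S] R) := fun K =>
    { (Algebra.TensorProduct.map K.toLim (AlgHom.id S R)).toRingHom with
      commutes' := fun r => by simp [Algebra.TensorProduct.right_algebraMap_apply] }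
  have hdown_eq : ∀ (K : Stage S Ω) (z : K.S ⊗[S] R), down K z = K.toLim.toLinearMap.rTensor R z := fun K z => by
    induction z using TensorProduct.induction_on with
    | zero => simp
    | tmul a r => simp [down]
    | add a b ha hb => rw [map_add, map_add, ha, hb]
  have hmk : ∀ (K : Stage S Ω) (θ : N.Hom K) (a : A), (down K).mapMatrix (mkL K θ a) = h a := fun K θ a => by
    conv_rhs => rw [hrepr a, map_sum]
    simp only [mkL, LinearMap.coe_mk, AddHom.coe_mk, map_sum, map_smul]
    refine Finset.sum_congr rfl fun j _ => congr_arg _ ?_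
    ext k l
    rw [AlgHom.mapMatrix_apply, Matrix.map_apply, Matrix.of_apply, hdown_eq, ← LinearMap.comp_apply,
      ← LinearMap.rTensor_comp, ← AlgHom.comp_toLinearMap, θ.2]
    exact hy (j, k, l)
  obtain ⟨L0, hmk0⟩ : ∃ L0 : A →ₗ[R] Matrix (Fin n) (Fin n) (N.S ⊗[S] R), ∀ a, (down N).mapMatrix (L0 a) = h a :=
    ⟨mkL N ⟨AlgHom.id S _, AlgHom.comp_id _⟩, hmk N _⟩
  clear hmk mkL hy
  let E : Finset (N.S ⊗[S] R) :=
    (Finset.univ.image fun q : Fin n × Fin n => (L0 1 - 1) q.1 q.2) ∪
      (Finset.univ.image fun q : (Fin m × Fin m) × Fin n × Fin n => (L0 (g q.1.1 * g q.1.2) - L0 (g q.1.1) * L0 (g q.1.2)) q.2.1 q.2.2)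
  obtain ⟨K, θ, hθ⟩ := Groth.Agent.Lib.LimModule.exists_eq_zero N E (fun z hz => by
    rw [← hdown_eq]
    rcases Finset.mem_union.1 hz with hz | hz <;> obtain ⟨q, -, rfl⟩ := Finset.mem_image.1 hz
    · have : (down N).mapMatrix (L0 1 - 1) = 0 := by rw [map_sub, hmk0, map_one, map_one, sub_self]
      exact congr_fun₂ this q.1 q.2
    · have : (down N).mapMatrix (L0 (g q.1.1 * g q.1.2) - L0 (g q.1.1) * L0 (g q.1.2)) = 0 := by
        rw [map_sub, hmk0, map_mul, map_mul, hmk0, hmk0, sub_self]
      exact congr_fun₂ this q.2.1 q.2.2)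
  let tr : N.S ⊗[S] R →ₐ[R] K.S ⊗[S] R :=
    { (Algebra.TensorProduct.map θ.1 (AlgHom.id S R)).toRingHom with
      commutes' := fun r => by simp [Algebra.TensorProduct.right_algebraMap_apply] }
  have htr_eq : ∀ z, tr z = θ.1.toLinearMap.rTensor R z := fun z => by
    induction z using TensorProduct.induction_on with
    | zero => simp
    | tmul a r => simp [tr]
    | add a b ha hb => rw [map_add, map_add, ha, hb]
  let F : A →ₗ[R] Matrix (Fin n) (Fin n) (K.S ⊗[S] R) := tr.mapMatrix.toLinearMap ∘ₗ L0
  have hone : F 1 = 1 := by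
    have : tr.mapMatrix (L0 1 - 1) = 0 := by
      ext k l
      rw [AlgHom.mapMatrix_apply, Matrix.map_apply, htr_eq]
      exact hθ _ (Finset.mem_union_left _ (Finset.mem_image_of_mem (fun q : Fin n × Fin n => (L0 1 - 1) q.1 q.2) (Finset.mem_univ (k, l))))
    rw [map_sub, map_one tr.mapMatrix, sub_eq_zero] at this
    exact this
  have hgen : ∀ j l, F (g j * g l) = F (g j) * F (g l) := fun j l => by
    have : tr.mapMatrix (L0 (g j * g l) - L0 (g j) * L0 (g l)) = 0 := by
      ext p q
      rw [AlgHom.mapMatrix_apply, Matrix.map_apply, htr_eq]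
      refine hθ _ ?_
      simp only [E, Finset.mem_union, Finset.mem_image, Finset.mem_univ, true_and]
      exact Or.inr ⟨((j, l), p, q), rfl⟩
    rw [map_sub, map_mul tr.mapMatrix, sub_eq_zero] at this
    exact this
  have hs1 : ∀ (r : R) (X Y : Matrix (Fin n) (Fin n) (K.S ⊗[S] R)), r • X * Y = r • (X * Y) := fun r X Y =>
    smul_mul_assoc r X Y
  have hs2 : ∀ (r : R) (X Y : Matrix (Fin n) (Fin n) (K.S ⊗[S] R)), X * r • Y = r • (X * Y) := fun r X Y =>
    mul_smul_comm r X Y
  have hmul : ∀ a b, F (a * b) = F a * F b := fun a b => by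
    have key : ∀ c d : Fin m → R, F ((∑ j, c j • g j) * ∑ j, d j • g j) = F (∑ j, c j • g j) * F (∑ j, d j • g j) := by
      intro c d
      simp only [Finset.sum_mul, Finset.mul_sum, map_sum, smul_mul_assoc, mul_smul_comm]
      simp only [map_sum, map_smul, Finset.sum_mul, Finset.mul_sum, Finset.smul_sum, hs1, hs2, hgen]
      exact Finset.sum_congr rfl fun j _ => Finset.sum_congr rfl fun l _ => smul_comm _ _ _
    have := key (i a) (i b)
    rwa [← hrepr a, ← hrepr b] at this
  exact ⟨K, ⟨AlgHom.ofLinearMap F hone hmul⟩⟩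

include hlam hfix in
theorem exists_cover [IsAzumaya R A] (hrk : ∀ q : PrimeSpectrum R, Module.rankAtStalk (R := R) A q = n ^ 2) :
    ∃ (S' : Type u) (_ : CommRing S') (_ : Algebra S S') (_ : Algebra.Etale S S')
      (_ : Module.FaithfullyFlat S S'), Nonempty (SplitData (S := S) (R := R) n S' A) := by
  classical
  have key : ∀ p : PrimeSpectrum S, ∃ (S' : Type u) (_ : CommRing S') (_ : Algebra S S'),
      Algebra.Etale S S' ∧ p ∈ Set.range (PrimeSpectrum.comap (algebraMap S S')) ∧
        Nonempty (SplitData (S := S) (R := R) n S' A) := fun p => by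
    let Ω := AlgebraicClosure p.asIdeal.ResidueField
    let _ : Algebra S Ω := ((algebraMap p.asIdeal.ResidueField Ω).comp (algebraMap S p.asIdeal.ResidueField)).toAlgebra
    obtain ⟨h⟩ := exists_local n lam hlam hfix hrk Ω
    obtain ⟨N, hN⟩ := exists_descend n h
    refine ⟨N.S, inferInstance, inferInstance, inferInstance, ?_, hN⟩
    let γ : N.S →ₐ[S] Ω := (Lim.α S Ω).comp N.toLim
    refine ⟨⟨RingHom.ker γ, RingHom.ker_isPrime _⟩, PrimeSpectrum.ext ?_⟩
    ext s
    simp only [PrimeSpectrum.comap_asIdeal, Ideal.mem_comap, RingHom.mem_ker]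
    rw [AlgHom.commutes]
    exact (map_eq_zero (algebraMap p.asIdeal.ResidueField Ω)).trans Ideal.algebraMap_residueField_eq_zero
  choose S₁ iR iA hEt hmem hsplit using key
  let U : PrimeSpectrum S → Set (PrimeSpectrum S) := fun p => Set.range (PrimeSpectrum.comap (algebraMap S (S₁ p)))
  have hopen : ∀ p, IsOpen (U p) := fun p => by
    have := hEt p
    exact (PrimeSpectrum.isOpenMap_comap_of_hasGoingDown_of_finitePresentation (R := S) (S := S₁ p)).isOpen_range
  obtain ⟨t, ht⟩ := (PrimeSpectrum.compactSpace (R := S)).isCompact_univ.elim_finite_subcover U hopen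
    fun p _ => Set.mem_iUnion.2 ⟨p, hmem p⟩
  let S' := ∀ p : t, S₁ p
  have : ∀ p : t, Algebra.Etale S (S₁ p) := fun p => hEt p
  have hflat : Module.Flat S S' :=
    Module.Flat.of_linearEquiv (DirectSum.linearEquivFunOnFintype S t (fun p : t => S₁ p)).symm
  have hff : Module.FaithfullyFlat S S' := by
    refine Module.FaithfullyFlat.of_comap_surjective fun P => ?_
    obtain ⟨p, hp, Q, hQ⟩ : ∃ p ∈ t, P ∈ U p := by
      simpa using ht (Set.mem_univ P)
    exact ⟨PrimeSpectrum.comap (Pi.evalRingHom (fun p : t => S₁ p) ⟨p, hp⟩) Q, hQ⟩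
  let hs : ∀ p : t, SplitData (S := S) (R := R) n (S₁ p) A := fun p => (hsplit p).some
  let emb : ∀ p : t, (S₁ p ⊗[S] R) →ₗ[S] S' ⊗[S] R := fun p => (LinearMap.single S (fun p : t => S₁ p) p).rTensor R
  have emb_mul : ∀ p q x y, emb p x * emb q y = if h : q = p then emb p (x * h ▸ y) else 0 := by
    intro p q x y
    by_cases hqp : q = p
    · subst hqp
      rw [dif_pos rfl]
      induction x using TensorProduct.induction_on with
      | zero => simp
      | add a b ha hb => simp only [map_add, add_mul, ha, hb]
      | tmul a r =>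
        induction y using TensorProduct.induction_on with
        | zero => simp
        | add c d hc hd => simp only [map_add, mul_add, hc, hd]
        | tmul c r' => simp [emb, ← Pi.single_mul]
    · rw [dif_neg hqp]
      induction x using TensorProduct.induction_on with
      | zero => simp
      | add a b ha hb => rw [map_add, add_mul, ha, hb, add_zero]
      | tmul a r =>
        induction y using TensorProduct.induction_on with
        | zero => simp
        | add c d hc hd => rw [map_add, mul_add, hc, hd, add_zero]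
        | tmul c r' =>
          have : (Pi.single p a : S') * Pi.single q c = 0 := by
            funext o
            by_cases ho : o = p
            · subst ho; simp [hqp, Ne.symm hqp]
            · simp [ho]
          simp [emb, this]
  have emb_smul : ∀ p (r : R) x, emb p (r • x) = r • emb p x := fun p r x => by
    rw [Algebra.smul_def, Algebra.smul_def]
    change emb p (((1 : S₁ p) ⊗ₜ[S] r) * x) = ((1 : S') ⊗ₜ[S] r) * emb p x
    induction x using TensorProduct.induction_on with
    | zero => simp only [mul_zero, map_zero]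
    | add a b ha hb => simp only [mul_add, map_add, ha, hb]
    | tmul a r' => simp [emb]
  let F : A →ₗ[R] Matrix (Fin n) (Fin n) (S' ⊗[S] R) :=
    { toFun := fun a => ∑ p, (hs p a).map (emb p)
      map_add' := fun a b => by simp [Matrix.map_add, Finset.sum_add_distrib]
      map_smul' := fun r a => by
        simp only [map_smul, RingHom.id_apply, Finset.smul_sum]
        refine Finset.sum_congr rfl fun p _ => ?_
        ext k l
        simp [emb_smul] }
  have hone : F 1 = 1 := by
    ext k l
    change (∑ p, (hs p 1).map (emb p)) k l = _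
    simp only [map_one, Matrix.sum_apply, Matrix.map_apply]
    by_cases hkl : k = l
    · subst hkl
      simp only [Matrix.one_apply_eq, Algebra.TensorProduct.one_def, emb, LinearMap.rTensor_tmul, LinearMap.single_apply,
        ← TensorProduct.sum_tmul]
      rw [Finset.univ_sum_single]
      rfl
    · simp [Matrix.one_apply_ne hkl]
  have hmul : ∀ a b, F (a * b) = F a * F b := fun a b => by
    ext k l
    change (∑ p, (hs p (a * b)).map (emb p)) k l = ((∑ p, (hs p a).map (emb p)) * (∑ p, (hs p b).map (emb p)) : Matrix (Fin n) (Fin n) (S' ⊗[S] R)) k l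
    simp only [map_mul, Matrix.sum_apply, Matrix.map_apply, Matrix.mul_apply,
      map_sum, Finset.sum_mul, Finset.mul_sum]
    rw [Finset.sum_comm]
    refine Finset.sum_congr rfl fun j _ => ?_
    refine Finset.sum_congr rfl fun p _ => ?_
    simp only [emb_mul]
    rw [Finset.sum_eq_single p (fun q _ hq => by rw [dif_neg (Ne.symm hq)]) (fun h => absurd (Finset.mem_univ p) h), dif_pos rfl]
  exact ⟨S', inferInstance, inferInstance, inferInstance, hff, ⟨AlgHom.ofLinearMap F hone hmul⟩⟩

theorem bijective_lift [IsAzumaya R A] (hn : 0 < n) (hrk : ∀ q : PrimeSpectrum R, Module.rankAtStalk (R := R) A q = n ^ 2)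
    [Algebra S A] [IsScalarTower S R A] (S' : Type u) [CommRing S'] [Algebra S S']
    (h : SplitData (S := S) (R := R) n S' A) :
    ∃ f : S' ⊗[S] A ≃ₐ[S'] Matrix (Fin n) (Fin n) (S' ⊗[S] R), ∀ a : A, f ((1 : S') ⊗ₜ[S] a) = h a := by
  let T := S' ⊗[S] R
  let G : S' ⊗[S] A →ₐ[S'] Matrix (Fin n) (Fin n) T :=
    Algebra.TensorProduct.lift (Algebra.ofId S' _) (h.restrictScalars S) fun s a => Algebra.commutes s _
  let F : T ⊗[R] A →ₐ[T] Matrix (Fin n) (Fin n) T :=
    Algebra.TensorProduct.lift (Algebra.ofId T _) h fun s a => Algebra.commutes s _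
  have hF : Function.Bijective F := by
    refine Groth.Agent.Lib.Azumaya.Criterion.bijective_of_residueField F.toLinearMap fun m _ => ?_
    let K := m.ResidueField
    have := Groth.Agent.Lib.Azumaya.BaseChange.isAzumaya_baseChange T A (R := R)
    obtain ⟨hc, hs⟩ := Groth.Agent.Lib.Azumaya.Criterion.central_simple_baseChange (R := T) (T ⊗[R] A) K
    let FK := Algebra.TensorProduct.map (AlgHom.id K K) F
    have : NeZero n := ⟨hn.ne'⟩
    let b := (Matrix.stdBasis T (Fin n) (Fin n)).baseChange K
    have hd : Module.finrank K (K ⊗[T] Matrix (Fin n) (Fin n) T) = n ^ 2 := by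
      rw [Module.finrank_eq_card_basis b, Fintype.card_prod, Fintype.card_fin, pow_two]
    have : Nontrivial (K ⊗[T] Matrix (Fin n) (Fin n) T) :=
      Module.nontrivial_of_finrank_pos (R := K) (by rw [hd]; positivity)
    have hd' : Module.finrank K (K ⊗[T] (T ⊗[R] A)) = n ^ 2 := by
      have h1 := Module.rankAtStalk_eq (R := T) (M := T ⊗[R] A) ⟨m, inferInstance⟩
      rw [Module.rankAtStalk_baseChange, hrk] at h1
      exact h1.symm
    have hinj : Function.Injective FK := FK.toRingHom.injective
    have : FiniteDimensional K (K ⊗[T] (T ⊗[R] A)) := inferInstance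
    have hb : Function.Bijective FK := ⟨hinj,
      (LinearMap.injective_iff_surjective_of_finrank_eq_finrank (hd'.trans hd.symm) (f := FK.toLinearMap)).1 hinj⟩
    have he : ∀ x, F.toLinearMap.lTensor K x = FK x := fun x => by
      induction x using TensorProduct.induction_on with
      | zero => simp
      | tmul a y => simp [FK]
      | add a b ha hb => rw [map_add, map_add, ha, hb]
    exact (funext he : ⇑(F.toLinearMap.lTensor K) = ⇑FK) ▸ hb
  -- compare with `S' ⊗[S] A`
  let e : S' ⊗[S] A ≃+ T ⊗[R] A :=
    ((TensorProduct.comm S S' A).toAddEquiv.trans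
      ((TensorProduct.AlgebraTensorModule.cancelBaseChange S R R A S').symm.toAddEquiv.trans
        (TensorProduct.congr (LinearEquiv.refl R A)
          ({ (TensorProduct.comm S R S') with
              map_smul' := fun r x => by
                induction x using TensorProduct.induction_on with
                | zero => simp
                | add a b ha hb =>
                  simp only [smul_add, LinearEquiv.coe_coe, AddHom.toFun_eq_coe, LinearMap.coe_toAddHom, map_add] at *
                  rw [ha, hb]
                | tmul a s =>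
                  change s ⊗ₜ[S] (r * a) = algebraMap R T r * s ⊗ₜ[S] a
                  change s ⊗ₜ[S] (r * a) = ((1 : S') ⊗ₜ[S] r) * s ⊗ₜ[S] a
                  simp } :
            R ⊗[S] S' ≃ₗ[R] T)).toAddEquiv)).trans
      (TensorProduct.comm R A T).toAddEquiv
  have hGe : ∀ x, G x = F (e x) := fun x => by
    induction x using TensorProduct.induction_on with
    | zero => simp
    | add a b ha hb => rw [map_add, map_add, map_add, ha, hb]
    | tmul s a =>
      have : e (s ⊗ₜ[S] a) = ((s ⊗ₜ[S] (1 : R) : T)) ⊗ₜ[R] a := by simp [e]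
      rw [this]
      simp only [G, F]
      erw [Algebra.TensorProduct.lift_tmul]
  have hG : Function.Bijective G := by
    rw [show ⇑G = F ∘ e from funext hGe]
    exact hF.comp e.bijective
  refine ⟨AlgEquiv.ofBijective G hG, fun a => ?_⟩
  change G ((1 : S') ⊗ₜ[S] a) = h a
  simp only [G]
  erw [Algebra.TensorProduct.lift_tmul]
  rw [map_one, one_mul]
  rfl

end Groth.Agent.Lib.AzInvSplit
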