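import Groth.Agent.Lib.AzInvBC
import Groth.Agent.Lib.AzInvSplit
import Mathlib

/-!
# Local isomorphy of Azumaya algebras with involution, checked on strict henselizations

* `Hom S' t t'`: `R`-algebra maps `A → S' ⊗ A'` intertwining the involutions
* `exists_descend`: such a map over `Lim S Ω` descends to an étale stage
* `exists_cover`: local maps glue to one over an étale faithfully flat cover
* `locIsoEt_of_local`: `LocIsoEt` from maps over all `Lim S Ω`
-/

universe u v w w'

open scoped TensorProduct
open Groth.Agent.Lib.Henselian.Pointed Groth.Agent.Lib.EtSite.LimTensor Groth.Agent.Lib.AzInvBC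

namespace Groth.Agent.Lib.AzInvLoc

variable {S : Type u} {R : Type v} [CommRing S] [CommRing R] [Algebra S R]
  {A : Type w} [Ring A] [Algebra S A] [Algebra R A] [IsScalarTower S R A]
  {A' : Type w'} [Ring A'] [Algebra S A'] [Algebra R A'] [IsScalarTower S R A']

/-- `S' ⊗[S] A'` as an `R`-algebra through the second factor. -/
@[instance_reducible]
noncomputable def algR (S' : Type u) [CommRing S'] [Algebra S S'] : Algebra R (S' ⊗[S] A') :=
  ((Algebra.TensorProduct.includeRight : A' →ₐ[S] S' ⊗[S] A').toRingHom.comp (algebraMap R A')).toAlgebra' fun r z => by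
    change (1 : S') ⊗ₜ[S] algebraMap R A' r * z = z * (1 : S') ⊗ₜ[S] algebraMap R A' r
    induction z using TensorProduct.induction_on with
    | zero => simp
    | add x y hx hy => rw [mul_add, hx, hy, add_mul]
    | tmul s a => simp [Algebra.commutes]

attribute [local instance 50] algR

theorem algebraMap_algR (S' : Type u) [CommRing S'] [Algebra S S'] (r : R) :
    algebraMap R (S' ⊗[S] A') r = (1 : S') ⊗ₜ[S] algebraMap R A' r := rfl

/-- Base change along a map of `S`-algebras. -/
noncomputable def tr {S₁ S₂ : Type u} [CommRing S₁] [Algebra S S₁] [CommRing S₂] [Algebra S S₂] (θ : S₁ →ₐ[S] S₂) :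
    S₁ ⊗[S] A' →ₐ[R] S₂ ⊗[S] A' :=
  { toRingHom := (Algebra.TensorProduct.map θ (AlgHom.id S A')).toRingHom
    commutes' := fun r => by simp [algebraMap_algR] }

theorem tr_tmul {S₁ S₂ : Type u} [CommRing S₁] [Algebra S S₁] [CommRing S₂] [Algebra S S₂] (θ : S₁ →ₐ[S] S₂)
    (s : S₁) (a : A') : tr (R := R) θ (s ⊗ₜ[S] a) = θ s ⊗ₜ[S] a := rfl

theorem tr_eq {S₁ S₂ : Type u} [CommRing S₁] [Algebra S S₁] [CommRing S₂] [Algebra S S₂] (θ : S₁ →ₐ[S] S₂)
    (z : S₁ ⊗[S] A') : tr (R := R) θ z = θ.toLinearMap.rTensor A' z := by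
  induction z using TensorProduct.induction_on with
  | zero => simp
  | add a b ha hb => rw [map_add, map_add, ha, hb]
  | tmul s a => rfl

variable (lam : R ≃ₐ[S] R)

theorem bc_smul (t' : AzInv.LamInv R A' lam) (S' : Type u) [CommRing S'] [Algebra S S'] (r : R) (z : S' ⊗[S] A') :
    t'.bc S lam S' (r • z) = lam r • t'.bc S lam S' z := by
  rw [Algebra.smul_def, Algebra.smul_def, bc_mul, algebraMap_algR, algebraMap_algR, AzInv.LamInv.bc_tmul,
    t'.map_algebraMap, ← algebraMap_algR, Algebra.commutes]

theorem bc_tr (t' : AzInv.LamInv R A' lam) {S₁ S₂ : Type u} [CommRing S₁] [Algebra S S₁] [CommRing S₂] [Algebra S S₂]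
    (θ : S₁ →ₐ[S] S₂) (z : S₁ ⊗[S] A') : t'.bc S lam S₂ (tr (R := R) θ z) = tr (R := R) θ (t'.bc S lam S₁ z) := by
  induction z using TensorProduct.induction_on with
  | zero => simp
  | add a b ha hb => simp only [map_add, ha, hb]
  | tmul s a => simp [tr_tmul]

/-- An `R`-algebra map `A → S' ⊗ A'` intertwining the involutions. -/
structure Hom (S' : Type u) [CommRing S'] [Algebra S S'] (t : AzInv.LamInv R A lam) (t' : AzInv.LamInv R A' lam) where
  toAlgHom : A →ₐ[R] S' ⊗[S] A'
  map_inv : ∀ a, toAlgHom (t a) = t'.bc S lam S' (toAlgHom a)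

variable {lam} (t : AzInv.LamInv R A lam) (t' : AzInv.LamInv R A' lam)

theorem exists_descend [Module.Finite R A] [Module.Projective R A] {Ω : Type u} [CommRing Ω] [Algebra S Ω]
    (h : Hom lam (Lim S Ω) t t') : ∃ N : Stage S Ω, Nonempty (Hom lam N.S t t') := by
  classical
  obtain ⟨m, π, i, -, -, hπi⟩ := Module.Finite.exists_comp_eq_id_of_projective R A
  let g : Fin m → A := fun j => π (Pi.single j 1)
  have hrepr : ∀ a : A, a = ∑ j, i a j • g j := fun a => by
    conv_lhs => rw [← LinearMap.id_apply (R := R) a, ← hπi, LinearMap.comp_apply, pi_eq_sum_univ' (i a)]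
    simp [g, map_sum]
  obtain ⟨N, -, hN⟩ := Groth.Agent.Lib.LimModule.exists_range (M := A') (Stage.base (R := S) (Ω := Ω))
    (Finset.univ.image fun j => h.toAlgHom (g j))
  choose y hy using fun j => hN (Finset.mem_image_of_mem (fun j => h.toAlgHom (g j)) (Finset.mem_univ j))
  obtain ⟨L0, hL0⟩ : ∃ L0 : A →ₗ[R] N.S ⊗[S] A', ∀ a, tr (R := R) N.toLim (L0 a) = h.toAlgHom a := by
    refine ⟨{ toFun := fun a => ∑ j, i a j • y j
              map_add' := fun a b => by simp only [map_add, Pi.add_apply, add_smul, Finset.sum_add_distrib]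
              map_smul' := fun r a => by
                simp only [map_smul, Pi.smul_apply, smul_eq_mul, mul_smul, Finset.smul_sum, RingHom.id_apply] },
      fun a => ?_⟩
    conv_rhs => rw [hrepr a, map_sum]
    simp only [LinearMap.coe_mk, AddHom.coe_mk, map_sum, map_smul]
    exact Finset.sum_congr rfl fun j _ => congr_arg _ ((tr_eq _ _).trans (hy j))
  let E : Finset (N.S ⊗[S] A') := {L0 1 - 1} ∪
    (Finset.univ.image fun j => L0 (t (g j)) - t'.bc S lam N.S (L0 (g j))) ∪
    (Finset.univ.image fun q : Fin m × Fin m => L0 (g q.1 * g q.2) - L0 (g q.1) * L0 (g q.2))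
  obtain ⟨K, θ, hθ⟩ := Groth.Agent.Lib.LimModule.exists_eq_zero N E (fun z hz => by
    rw [← tr_eq (R := R)]
    simp only [E, Finset.mem_union, Finset.mem_singleton, Finset.mem_image, Finset.mem_univ, true_and] at hz
    rcases hz with (rfl | ⟨j, rfl⟩) | ⟨q, rfl⟩
    · rw [map_sub, hL0, map_one, map_one, sub_self]
    · rw [map_sub, hL0, ← bc_tr, hL0, h.map_inv, sub_self]
    · rw [map_sub, hL0, map_mul, map_mul, hL0, hL0, sub_self])
  let T := tr (A' := A') (R := R) θ.1
  have hT : ∀ z ∈ E, T z = 0 := fun z hz => (tr_eq _ _).trans (hθ z hz)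
  let F : A →ₗ[R] K.S ⊗[S] A' := T.toLinearMap ∘ₗ L0
  have hone : F 1 = 1 := by
    have := hT (L0 1 - 1) (by simp [E])
    rw [map_sub, map_one T, sub_eq_zero] at this
    exact this
  have hgen : ∀ j l, F (g j * g l) = F (g j) * F (g l) := fun j l => by
    have := hT (L0 (g j * g l) - L0 (g j) * L0 (g l)) (by
      simp only [E, Finset.mem_union, Finset.mem_image, Finset.mem_univ, true_and]
      exact Or.inr ⟨(j, l), rfl⟩)
    rw [map_sub, map_mul T, sub_eq_zero] at this
    exact this
  have htgen : ∀ j, F (t (g j)) = t'.bc S lam K.S (F (g j)) := fun j => by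
    have := hT (L0 (t (g j)) - t'.bc S lam N.S (L0 (g j))) (by
      simp only [E, Finset.mem_union, Finset.mem_image, Finset.mem_univ, true_and]
      exact Or.inl (Or.inr ⟨j, rfl⟩))
    rw [map_sub, sub_eq_zero, ← bc_tr] at this
    exact this
  have hs1 : ∀ (r : R) (X Y : K.S ⊗[S] A'), r • X * Y = r • (X * Y) := fun r X Y => smul_mul_assoc r X Y
  have hs2 : ∀ (r : R) (X Y : K.S ⊗[S] A'), X * r • Y = r • (X * Y) := fun r X Y => mul_smul_comm r X Y
  have hmul : ∀ a b, F (a * b) = F a * F b := fun a b => by
    have key : ∀ c d : Fin m → R, F ((∑ j, c j • g j) * ∑ j, d j • g j) = F (∑ j, c j • g j) * F (∑ j, d j • g j) := by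
      intro c d
      simp only [Finset.sum_mul, Finset.mul_sum, map_sum, smul_mul_assoc, mul_smul_comm]
      simp only [map_sum, map_smul, Finset.sum_mul, Finset.mul_sum, Finset.smul_sum, hs1, hs2, hgen]
      exact Finset.sum_congr rfl fun j _ => Finset.sum_congr rfl fun l _ => smul_comm _ _ _
    have := key (i a) (i b)
    rwa [← hrepr a, ← hrepr b] at this
  refine ⟨K, ⟨⟨AlgHom.ofLinearMap F hone hmul, fun a => ?_⟩⟩⟩
  change F (t a) = t'.bc S lam K.S (F a)
  have key : ∀ c : Fin m → R, F (t (∑ j, c j • g j)) = t'.bc S lam K.S (F (∑ j, c j • g j)) := fun c => by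
    rw [show t (∑ j, c j • g j) = ∑ j, lam (c j) • t (g j) by
      rw [← t.toAddMonoidHom_apply, map_sum]; simp [t.map_smul]]
    simp only [map_sum, map_smul, htgen, bc_smul]
  have := key (i a)
  rwa [← hrepr a] at this

theorem exists_cover [Module.Finite R A] [Module.Projective R A]
    (h : ∀ p : PrimeSpectrum S, ∀ (Ω : Type u) [Field Ω] [IsAlgClosed Ω] [Algebra S Ω],
      RingHom.ker (algebraMap S Ω) = p.asIdeal → Nonempty (Hom lam (Lim S Ω) t t')) :
    ∃ (S' : Type u) (_ : CommRing S') (_ : Algebra S S') (_ : Algebra.Etale S S')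
      (_ : Module.FaithfullyFlat S S'), Nonempty (Hom lam S' t t') := by
  classical
  have key : ∀ p : PrimeSpectrum S, ∃ (S' : Type u) (_ : CommRing S') (_ : Algebra S S'),
      Algebra.Etale S S' ∧ p ∈ Set.range (PrimeSpectrum.comap (algebraMap S S')) ∧
        Nonempty (Hom lam S' t t') := fun p => by
    let Ω := AlgebraicClosure p.asIdeal.ResidueField
    let _ : Algebra S Ω := ((algebraMap p.asIdeal.ResidueField Ω).comp (algebraMap S p.asIdeal.ResidueField)).toAlgebra
    have hker : RingHom.ker (algebraMap S Ω) = p.asIdeal := by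
      ext s
      rw [RingHom.mem_ker]
      exact (map_eq_zero (algebraMap p.asIdeal.ResidueField Ω)).trans Ideal.algebraMap_residueField_eq_zero
    obtain ⟨h⟩ := h p Ω hker
    obtain ⟨N, hN⟩ := exists_descend t t' h
    refine ⟨N.S, inferInstance, inferInstance, inferInstance, ?_, hN⟩
    let γ : N.S →ₐ[S] Ω := (Lim.α S Ω).comp N.toLim
    refine ⟨⟨RingHom.ker γ, RingHom.ker_isPrime _⟩, PrimeSpectrum.ext ?_⟩
    ext s
    simp only [PrimeSpectrum.comap_asIdeal, Ideal.mem_comap, RingHom.mem_ker]
    rw [AlgHom.commutes, ← RingHom.mem_ker, hker]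
  choose S₁ iR iA hEt hmem hsplit using key
  let U : PrimeSpectrum S → Set (PrimeSpectrum S) := fun p => Set.range (PrimeSpectrum.comap (algebraMap S (S₁ p)))
  have hopen : ∀ p, IsOpen (U p) := fun p => by
    have := hEt p
    exact (PrimeSpectrum.isOpenMap_comap_of_hasGoingDown_of_finitePresentation (R := S) (S := S₁ p)).isOpen_range
  obtain ⟨u, hu⟩ := (PrimeSpectrum.compactSpace (R := S)).isCompact_univ.elim_finite_subcover U hopen
    fun p _ => Set.mem_iUnion.2 ⟨p, hmem p⟩
  let S' := ∀ p : u, S₁ p
  have : ∀ p : u, Algebra.Etale S (S₁ p) := fun p => hEt p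
  have hflat : Module.Flat S S' :=
    Module.Flat.of_linearEquiv (DirectSum.linearEquivFunOnFintype S u (fun p : u => S₁ p)).symm
  have hff : Module.FaithfullyFlat S S' := by
    refine Module.FaithfullyFlat.of_comap_surjective fun P => ?_
    obtain ⟨p, hp, Q, hQ⟩ : ∃ p ∈ u, P ∈ U p := by
      simpa using hu (Set.mem_univ P)
    exact ⟨PrimeSpectrum.comap (Pi.evalRingHom (fun p : u => S₁ p) ⟨p, hp⟩) Q, hQ⟩
  let hs : ∀ p : u, Hom lam (S₁ p) t t' := fun p => (hsplit p).some
  let emb : ∀ p : u, (S₁ p ⊗[S] A') →ₗ[S] S' ⊗[S] A' := fun p => (LinearMap.single S (fun p : u => S₁ p) p).rTensor A'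
  have emb_mul : ∀ p x y, emb p x * emb p y = emb p (x * y) := by
    intro p x y
    induction x using TensorProduct.induction_on with
    | zero => simp
    | add a b ha hb => simp only [map_add, add_mul, ha, hb]
    | tmul a r =>
      induction y using TensorProduct.induction_on with
      | zero => simp
      | add c d hc hd => simp only [map_add, mul_add, hc, hd]
      | tmul c r' => simp [emb, ← Pi.single_mul]
  have emb_zero : ∀ p q, q ≠ p → ∀ x y, emb p x * emb q y = 0 := by
    intro p q hqp x y
    induction x using TensorProduct.induction_on with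
    | zero => simp
    | add a b ha hb => rw [map_add, add_mul, ha, hb, add_zero]
    | tmul a r =>
      induction y using TensorProduct.induction_on with
      | zero => simp
      | add c d hc hd => rw [map_add, mul_add, hc, hd, add_zero]
      | tmul c r' =>
        have : (Pi.single p a : S') * Pi.single q c = 0 := by
          funext o
          by_cases ho : o = p
          · subst ho; simp [Ne.symm hqp]
          · simp [ho]
        simp [emb, this]
  have emb_smul : ∀ p (r : R) x, emb p (r • x) = r • emb p x := fun p r x => by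
    rw [Algebra.smul_def, Algebra.smul_def, algebraMap_algR, algebraMap_algR]
    induction x using TensorProduct.induction_on with
    | zero => simp only [mul_zero, map_zero]
    | add a b ha hb => simp only [mul_add, map_add, ha, hb]
    | tmul a r' => simp [emb]
  have emb_bc : ∀ p x, t'.bc S lam S' (emb p x) = emb p (t'.bc S lam (S₁ p) x) := fun p x => by
    induction x using TensorProduct.induction_on with
    | zero => simp
    | add a b ha hb => simp only [map_add, ha, hb]
    | tmul a r' => simp [emb]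
  let F : A →ₗ[R] S' ⊗[S] A' :=
    { toFun := fun a => ∑ p, emb p ((hs p).toAlgHom a)
      map_add' := fun a b => by simp [Finset.sum_add_distrib]
      map_smul' := fun r a => by
        simp only [map_smul, RingHom.id_apply, Finset.smul_sum]
        exact Finset.sum_congr rfl fun p _ => emb_smul p r _ }
  have hone : F 1 = 1 := by
    change (∑ p, emb p ((hs p).toAlgHom 1)) = 1
    simp only [map_one, Algebra.TensorProduct.one_def, emb, LinearMap.rTensor_tmul, LinearMap.single_apply,
      ← TensorProduct.sum_tmul]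
    rw [Finset.univ_sum_single]
    rfl
  have hmul : ∀ a b, F (a * b) = F a * F b := fun a b => by
    change (∑ p, emb p ((hs p).toAlgHom (a * b))) = (∑ p, emb p ((hs p).toAlgHom a)) * (∑ p, emb p ((hs p).toAlgHom b))
    rw [Finset.sum_mul]
    refine Finset.sum_congr rfl fun p _ => ?_
    rw [Finset.mul_sum, Finset.sum_eq_single p (fun q _ hq => emb_zero p q hq _ _)
      (fun h => absurd (Finset.mem_univ p) h), emb_mul, map_mul]
  refine ⟨S', inferInstance, inferInstance, inferInstance, hff, ⟨⟨AlgHom.ofLinearMap F hone hmul, fun a => ?_⟩⟩⟩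
  change (∑ p, emb p ((hs p).toAlgHom (t a))) = t'.bc S lam S' (∑ p, emb p ((hs p).toAlgHom a))
  rw [map_sum]
  exact Finset.sum_congr rfl fun p _ => by rw [(hs p).map_inv, emb_bc]

section Bijective

attribute [local instance] Algebra.TensorProduct.rightAlgebra

variable (R A) in
theorem exists_cancel (S' : Type u) [CommRing S'] [Algebra S S'] :
    ∃ e : S' ⊗[S] A ≃+* (S' ⊗[S] R) ⊗[R] A, ∀ s a, e (s ⊗ₜ[S] a) = (s ⊗ₜ[S] (1 : R)) ⊗ₜ[R] a := by
  let T := S' ⊗[S] R
  let e₀ : S' ⊗[S] A ≃+ T ⊗[R] A :=
    ((TensorProduct.comm S S' A).toAddEquiv.trans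
      ((TensorProduct.AlgebraTensorModule.cancelBaseChange S R R A S').symm.toAddEquiv.trans
        (TensorProduct.congr (LinearEquiv.refl R A)
          ({ (TensorProduct.comm S R S') with
              map_smul' := fun r x => by
                induction x using TensorProduct.induction_on with
                | zero => simp
                | add a b ha hb =>
                  simp only [smul_add, LinearEquiv.coe_coe, AddHom.toFun_eq_coe, LinearMap.coe_toAddHom, map_add] at *
                  rw [ha, hb]
                | tmul a s =>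
                  change s ⊗ₜ[S] (r * a) = ((1 : S') ⊗ₜ[S] r) * s ⊗ₜ[S] a
                  simp } :
            R ⊗[S] S' ≃ₗ[R] T)).toAddEquiv)).trans
      (TensorProduct.comm R A T).toAddEquiv
  have h : ∀ s a, e₀ (s ⊗ₜ[S] a) = ((s ⊗ₜ[S] (1 : R) : T)) ⊗ₜ[R] a := fun s a => by simp [e₀]
  refine ⟨{ e₀ with map_mul' := fun x y => ?_ }, h⟩
  change e₀ (x * y) = e₀ x * e₀ y
  induction x using TensorProduct.induction_on with
  | zero => simp
  | add a b ha hb => rw [add_mul, map_add, ha, hb, map_add, add_mul]
  | tmul s a =>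
    induction y using TensorProduct.induction_on with
    | zero => simp
    | add c d hc hd => rw [mul_add, map_add, hc, hd, map_add, mul_add]
    | tmul s' a' => simp [h]

theorem bijective_of_azumaya {T : Type*} [CommRing T] {B B' : Type*} [Ring B] [Algebra T B] [IsAzumaya T B]
    [Ring B'] [Algebra T B'] [IsAzumaya T B'] (hrk : ∀ P : PrimeSpectrum T, Module.rankAtStalk (R := T) B P = Module.rankAtStalk (R := T) B' P)
    (F : B →ₐ[T] B') : Function.Bijective F := by
  refine Groth.Agent.Lib.Azumaya.Criterion.bijective_of_residueField F.toLinearMap fun m _ => ?_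
  let K := m.ResidueField
  obtain ⟨hc, hs⟩ := Groth.Agent.Lib.Azumaya.Criterion.central_simple_baseChange (R := T) B K
  obtain ⟨hc', hs'⟩ := Groth.Agent.Lib.Azumaya.Criterion.central_simple_baseChange (R := T) B' K
  let FK := Algebra.TensorProduct.map (AlgHom.id K K) F
  have hd : Module.finrank K (K ⊗[T] B) = Module.finrank K (K ⊗[T] B') := by
    have h1 := Module.rankAtStalk_eq (R := T) (M := B) ⟨m, inferInstance⟩
    have h2 := Module.rankAtStalk_eq (R := T) (M := B') ⟨m, inferInstance⟩
    exact h1.symm.trans ((hrk _).trans h2)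
  have hinj : Function.Injective FK := FK.toRingHom.injective
  have hb : Function.Bijective FK := ⟨hinj,
    (LinearMap.injective_iff_surjective_of_finrank_eq_finrank hd (f := FK.toLinearMap)).1 hinj⟩
  have he : ∀ x, F.toLinearMap.lTensor K x = FK x := fun x => by
    induction x using TensorProduct.induction_on with
    | zero => simp
    | tmul a y => simp [FK]
    | add a b ha hb => rw [map_add, map_add, ha, hb]
  exact (funext he : ⇑(F.toLinearMap.lTensor K) = ⇑FK) ▸ hb

variable {t t'}

theorem Hom.exists_algEquiv [IsAzumaya R A] [IsAzumaya R A']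
    (hrk : ∀ q : PrimeSpectrum R, Module.rankAtStalk (R := R) A q = Module.rankAtStalk (R := R) A' q)
    {S' : Type u} [CommRing S'] [Algebra S S'] (h : Hom lam S' t t') :
    ∃ f : S' ⊗[S] A ≃ₐ[S'] S' ⊗[S] A', (∀ a, f ((1 : S') ⊗ₜ[S] a) = h.toAlgHom a) ∧
      (∀ x, f (t.bc S lam S' x) = t'.bc S lam S' (f x)) := by
  let T := S' ⊗[S] R
  have : IsScalarTower S R (S' ⊗[S] A') := IsScalarTower.of_algebraMap_smul fun s z => by
    rw [Algebra.smul_def, algebraMap_algR, ← IsScalarTower.algebraMap_apply,
      ← Algebra.TensorProduct.tmul_one_eq_one_tmul, ← Algebra.TensorProduct.algebraMap_apply, ← Algebra.smul_def]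
  let G : S' ⊗[S] A →ₐ[S'] S' ⊗[S] A' :=
    Algebra.TensorProduct.lift (Algebra.ofId S' _) (h.toAlgHom.restrictScalars S) fun s a => Algebra.commutes s _
  have hG1 : ∀ (s : S') (a : A), G (s ⊗ₜ[S] a) = algebraMap S' (S' ⊗[S] A') s * h.toAlgHom a := fun s a => rfl
  obtain ⟨eA, heA⟩ := exists_cancel (S := S) R A S'
  obtain ⟨eA', heA'⟩ := exists_cancel (S := S) R A' S'
  let ψ : A →ₐ[R] T ⊗[R] A' :=
    { eA'.toRingHom.comp h.toAlgHom.toRingHom with
      commutes' := fun r => by
        change eA' (h.toAlgHom (algebraMap R A r)) = _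
        rw [AlgHom.commutes, algebraMap_algR, heA', Algebra.TensorProduct.algebraMap_apply]
        rw [Algebra.TensorProduct.tmul_one_eq_one_tmul]
        rfl }
  let F : T ⊗[R] A →ₐ[T] T ⊗[R] A' :=
    Algebra.TensorProduct.lift (Algebra.ofId T _) ψ fun s a => Algebra.commutes s _
  have := Groth.Agent.Lib.Azumaya.BaseChange.isAzumaya_baseChange T A (R := R)
  have := Groth.Agent.Lib.Azumaya.BaseChange.isAzumaya_baseChange T A' (R := R)
  have hF : Function.Bijective F := bijective_of_azumaya (fun P => by
    rw [Module.rankAtStalk_baseChange, Module.rankAtStalk_baseChange, hrk]) F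
  have hGe : ∀ x, eA' (G x) = F (eA x) := fun x => by
    induction x using TensorProduct.induction_on with
    | zero => simp
    | add a b ha hb => simp only [map_add, ha, hb]
    | tmul s a =>
      rw [hG1, map_mul, Algebra.TensorProduct.algebraMap_apply, heA', heA]
      rfl
  have hG : Function.Bijective G := by
    rw [show ⇑G = eA'.symm ∘ F ∘ eA from funext fun x => by simp [← hGe]]
    exact eA'.symm.bijective.comp (hF.comp eA.bijective)
  refine ⟨AlgEquiv.ofBijective G hG, fun a => ?_, fun x => ?_⟩
  · rw [AlgEquiv.coe_ofBijective, hG1, map_one, one_mul]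
  · rw [AlgEquiv.coe_ofBijective]
    induction x using TensorProduct.induction_on with
    | zero => simp
    | add a b ha hb => simp only [map_add, ha, hb]
    | tmul s a => rw [AzInv.LamInv.bc_tmul, hG1, hG1, h.map_inv, ← Algebra.smul_def, ← Algebra.smul_def, map_smul]

theorem locIsoEt_of_local [IsAzumaya R A] [IsAzumaya R A']
    (hrk : ∀ q : PrimeSpectrum R, Module.rankAtStalk (R := R) A q = Module.rankAtStalk (R := R) A' q)
    (h : ∀ p : PrimeSpectrum S, ∀ (Ω : Type u) [Field Ω] [IsAlgClosed Ω] [Algebra S Ω],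
      RingHom.ker (algebraMap S Ω) = p.asIdeal → Nonempty (Hom lam (Lim S Ω) t t')) :
    AzInv.LocIsoEt S lam t t' := by
  obtain ⟨S', _, _, _, _, ⟨H⟩⟩ := exists_cover t t' h
  obtain ⟨f, hf, hft⟩ := H.exists_algEquiv hrk
  refine ⟨S', inferInstance, inferInstance, inferInstance, inferInstance, f, fun r x => ?_, hft⟩
  rw [map_mul, hf, H.toAlgHom.commutes]
  rfl

end Bijective

end Groth.Agent.Lib.AzInvLoc
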