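import Groth.Agent.Lib.RInvQuad
import Mathlib.LinearAlgebra.Matrix.NonsingularInverse
import Mathlib.LinearAlgebra.Matrix.Transvection
import Mathlib.RingTheory.MvPolynomial.Basic
import Mathlib.Algebra.MvPolynomial.Eval
import Mathlib.Algebra.CharP.Algebra
import Mathlib.RingTheory.Polynomial.Basic

/-!
# Hermitian matrices over a ring with involution whose fixed ring is local
-/

universe u v

open Matrix

namespace Groth.Agent.Lib.RInvHerm

variable {A : Type v} [CommRing A]

/-- An alternating matrix of odd size is singular. -/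
theorem det_eq_zero_of_alternating {ι : Type} [Fintype ι] [DecidableEq ι] (h : Matrix ι ι A)
    (hT : hᵀ = -h) (hd : ∀ i, h i i = 0) (hodd : Odd (Fintype.card ι)) : h.det = 0 := by
  let e := Fintype.equivFin ι
  let U : Matrix ι ι (MvPolynomial (ι × ι) ℤ) := Matrix.of fun i j => MvPolynomial.X (i, j)
  have h0 : (U - Uᵀ).det = 0 := by
    have h1 : (U - Uᵀ).det = -(U - Uᵀ).det := by
      conv_lhs => rw [← det_transpose, transpose_sub, transpose_transpose, ← neg_sub U Uᵀ, det_neg, hodd.neg_one_pow, neg_one_mul]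
    exact eq_zero_of_two_mul_eq_zero (by rw [two_mul]; exact add_eq_zero_iff_eq_neg.2 h1)
  let f := MvPolynomial.eval₂Hom (Int.castRingHom A) fun p : ι × ι => if e p.1 < e p.2 then h p.1 p.2 else 0
  have hf : f.mapMatrix (U - Uᵀ) = h := by
    ext i j
    simp only [RingHom.mapMatrix_apply, map_apply, Matrix.sub_apply, Matrix.of_apply, transpose_apply, map_sub, U, f,
      MvPolynomial.eval₂Hom_X']
    rcases lt_trichotomy (e i) (e j) with hl | hl | hl
    · rw [if_pos hl, if_neg hl.asymm, sub_zero]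
    · rw [e.injective hl, if_neg (lt_irrefl _), sub_zero, hd]
    · rw [if_neg hl.asymm, if_pos hl, zero_sub]
      have := congr_fun₂ hT i j
      simp only [transpose_apply, Matrix.neg_apply] at this
      rw [this, neg_neg]
  rw [← hf, ← RingHom.map_det, h0, map_zero]
where
  eq_zero_of_two_mul_eq_zero {R : Type} [CommRing R] [IsDomain R] [CharZero R] {x : R} (h : 2 * x = 0) : x = 0 :=
    (mul_eq_zero.1 h).resolve_left two_ne_zero

variable (lam : A ≃+* A)

variable {ι κ μ : Type} [Fintype ι] [DecidableEq ι] [Fintype κ] [DecidableEq κ] [Fintype μ] [DecidableEq μ]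

/-- Congruence of forms. -/
def Cong (h : Matrix ι ι A) (g : Matrix κ κ A) : Prop :=
  ∃ (v : Matrix ι κ A) (w : Matrix κ ι A), v * w = 1 ∧ w * v = 1 ∧ (v.map lam)ᵀ * h * v = g

/-- Invertible `(ε, lam)`-hermitian matrix. -/
def Good (ε : A) (h : Matrix ι ι A) : Prop :=
  ε • (h.map lam)ᵀ = h ∧ ∃ k, h * k = 1 ∧ k * h = 1

variable {lam}

theorem Cong.trans {h : Matrix ι ι A} {g : Matrix κ κ A} {f : Matrix μ μ A}
    (h1 : Cong lam h g) (h2 : Cong lam g f) : Cong lam h f := by
  obtain ⟨v, w, vw, wv, rfl⟩ := h1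
  obtain ⟨v', w', vw', wv', rfl⟩ := h2
  refine ⟨v * v', w' * w, ?_, ?_, ?_⟩
  · rw [Matrix.mul_assoc, ← Matrix.mul_assoc v', vw', Matrix.one_mul, vw]
  · rw [Matrix.mul_assoc, ← Matrix.mul_assoc w, wv, Matrix.one_mul, wv']
  · simp only [Matrix.map_mul, transpose_mul, Matrix.mul_assoc]

theorem cong_submatrix (h : Matrix ι ι A) (e : κ ≃ ι) : Cong lam h (h.submatrix e e) := by
  refine ⟨(1 : Matrix ι ι A).submatrix id e, (1 : Matrix ι ι A).submatrix e id, ?_, ?_, ?_⟩
  · rw [submatrix_mul_equiv, Matrix.one_mul, submatrix_id_id]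
  · rw [← submatrix_mul _ _ _ _ _ Function.bijective_id, Matrix.one_mul, submatrix_one_equiv]
  · rw [← submatrix_map, Matrix.map_one _ (map_zero lam) (map_one lam), transpose_submatrix, transpose_one]
    ext a b
    simp [Matrix.mul_apply, Matrix.one_apply]

variable (hlam : Function.Involutive lam) {ε : A}

include hlam in
theorem Good.of_cong {h : Matrix ι ι A} {g : Matrix κ κ A} (hG : Good lam ε h) (hc : Cong lam h g) :
    Good lam ε g := by
  obtain ⟨herm, k, hk, kh⟩ := hG
  obtain ⟨v, w, vw, wv, rfl⟩ := hc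
  have h1 : (v.map lam)ᵀ * (w.map lam)ᵀ = 1 := by
    rw [← transpose_mul, ← Matrix.map_mul, wv, Matrix.map_one _ (map_zero lam) (map_one lam), transpose_one]
  have h2 : (w.map lam)ᵀ * (v.map lam)ᵀ = 1 := by
    rw [← transpose_mul, ← Matrix.map_mul, vw, Matrix.map_one _ (map_zero lam) (map_one lam), transpose_one]
  refine ⟨?_, w * k * (w.map lam)ᵀ, ?_, ?_⟩
  · rw [Matrix.map_mul, Matrix.map_mul, transpose_mul, transpose_mul]
    have hvv : ((v.map lam)ᵀ.map lam)ᵀ = v := by ext a b; simp [hlam (v a b)]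
    rw [hvv, Matrix.mul_assoc, ← Matrix.mul_smul, ← Matrix.smul_mul, herm]
  · simp only [Matrix.mul_assoc]
    rw [← Matrix.mul_assoc v, vw, Matrix.one_mul, ← Matrix.mul_assoc h, hk, Matrix.one_mul, h1]
  · simp only [Matrix.mul_assoc]
    rw [← Matrix.mul_assoc (w.map lam)ᵀ, h2, Matrix.one_mul, ← Matrix.mul_assoc k, kh, Matrix.one_mul, wv]

theorem cong_fromBlocks {a : Matrix ι ι A} {d : Matrix κ κ A} {d' : Matrix μ μ A} (h : Cong lam d d') :
    Cong lam (fromBlocks a 0 0 d) (fromBlocks a 0 0 d') := by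
  obtain ⟨v, w, vw, wv, rfl⟩ := h
  refine ⟨fromBlocks 1 0 0 v, fromBlocks 1 0 0 w, ?_, ?_, ?_⟩
  · simp [fromBlocks_multiply, vw]
  · simp [fromBlocks_multiply, wv]
  · simp [fromBlocks_multiply, fromBlocks_map, fromBlocks_transpose]

include hlam in
/-- Splitting off a nondegenerate block. -/
theorem exists_split {a : Matrix ι ι A} {b : Matrix ι κ A} {c : Matrix κ ι A} {d : Matrix κ κ A}
    (hG : Good lam ε (fromBlocks a b c d)) {a' : Matrix ι ι A} (ha : a * a' = 1) :
    Cong lam (fromBlocks a b c d) (fromBlocks a 0 0 (d - c * a' * b)) ∧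
      Good lam ε (d - c * a' * b) ∧ Good lam ε a := by
  have ha' : a' * a = 1 := mul_eq_one_comm.1 ha
  let X : Matrix ι κ A := -(a' * b)
  let Y : Matrix κ ι A := (X.map lam)ᵀ
  let g := fromBlocks a (a * X + b) (Y * a + c) (Y * (a * X + b) + (c * X + d))
  have hc : Cong lam (fromBlocks a b c d) g := by
    refine ⟨fromBlocks 1 X 0 1, fromBlocks 1 (-X) 0 1, ?_, ?_, ?_⟩
    · simp [fromBlocks_multiply]
    · simp [fromBlocks_multiply]
    · simp [g, Y, fromBlocks_multiply, fromBlocks_map, fromBlocks_transpose, Matrix.mul_add, Matrix.add_mul,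
        Matrix.mul_assoc]
      abel_nf
  have hg := hG.of_cong hlam hc
  have h12 : a * X + b = 0 := by
    simp [X, ← Matrix.mul_assoc, ha]
  have herm := hg.1
  simp only [g, fromBlocks_map, fromBlocks_transpose, fromBlocks_smul, fromBlocks_inj] at herm
  have h21 : Y * a + c = 0 := by
    rw [← herm.2.2.1, h12]; simp
  have hgd : g = fromBlocks a 0 0 (d - c * a' * b) := by
    simp only [g]
    rw [h12, h21, Matrix.mul_zero, zero_add]
    simp [X, Matrix.mul_assoc, sub_eq_neg_add]
  rw [hgd] at hc hg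
  refine ⟨hc, ?_, ?_⟩
  all_goals
    obtain ⟨he, k, hk, kh⟩ := hg
    simp only [fromBlocks_map, fromBlocks_transpose, fromBlocks_smul, fromBlocks_inj] at he
    rw [← fromBlocks_toBlocks k, fromBlocks_multiply, ← fromBlocks_one, fromBlocks_inj] at hk kh
  · exact ⟨he.2.2.2, k.toBlocks₂₂, by simpa using hk.2.2.2, by simpa using kh.2.2.2⟩
  · exact ⟨he.1, a', ha, ha'⟩

theorem Good.apply {h : Matrix ι ι A} (hG : Good lam ε h) (i j : ι) : h i j = ε * lam (h j i) := by
  have := (congr_fun₂ hG.1 i j).symm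
  simpa using this

theorem Good.exists_notMem {h : Matrix ι ι A} (hG : Good lam ε h) (M : Ideal A) [M.IsPrime] (i : ι) :
    ∃ j, h i j ∉ M := by
  obtain ⟨-, k, hk, -⟩ := hG
  by_contra! hc
  have h1 : (h * k) i i ∈ M := by
    rw [Matrix.mul_apply]
    exact M.sum_mem fun j _ => M.mul_mem_right _ (hc j)
  rw [hk, one_apply_eq] at h1
  exact Ideal.IsPrime.ne_top inferInstance ((Ideal.eq_top_iff_one M).2 h1)

theorem cong_transvection (h : Matrix ι ι A) {i j : ι} (hij : j ≠ i) (c : A) :
    ∃ g, Cong lam h g ∧ g i i = h i i + c * h i j + lam c * (h j i + c * h j j) := by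
  refine ⟨_, ⟨transvection j i c, transvection j i (-c), ?_, ?_, rfl⟩, ?_⟩
  · rw [transvection_mul_transvection_same _ _ hij, add_neg_cancel, transvection_zero]
  · rw [transvection_mul_transvection_same _ _ hij, neg_add_cancel, transvection_zero]
  · have : ((transvection j i c).map lam)ᵀ = transvection i j (lam c) := by
      ext a b
      simp only [transvection, transpose_apply, map_apply, Matrix.add_apply, map_add, Matrix.one_apply, single_apply,
        apply_ite lam, map_zero, map_one]
      congr 1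
      · simp [eq_comm]
      · simp [and_comm]
    rw [this, mul_transvection_apply_same, transvection_mul_apply_same, transvection_mul_apply_same]
    ring

section Local

variable {B : Type u} [CommRing B] [Algebra B A] (hB : RInv.IsFixedRing B A lam) [IsLocalRing B]

include hlam hB

theorem exists_maximal_unit (hε : ε = 1 ∨ ε = -1) :
    ∃ M : Ideal A, M.IsMaximal ∧ (∀ x : A, x = ε * lam x → x ∉ M → IsUnit x) ∧
      ∀ x δ : A, x = δ * lam x → x ∈ M → x ∈ Ring.jacobson A := by
  have := RInvQuad.isIntegral hlam hB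
  have : Nontrivial A := hB.1.nontrivial
  obtain ⟨M, hM⟩ := Ideal.exists_maximal A
  refine ⟨M, hM, fun x hx hxM => ?_, fun x δ hx hxM => ?_⟩
  swap
  · obtain ⟨n, hn⟩ := RInvQuad.exists_norm hlam hB x
    have h1 : n ∈ IsLocalRing.maximalIdeal B := by
      rw [← IsLocalRing.eq_maximalIdeal (Ideal.isMaximal_comap_of_isIntegral_of_isMaximal (R := B) M), Ideal.mem_comap, hn]
      exact M.mul_mem_right _ hxM
    have h2 : x ^ 2 ∈ Ring.jacobson A := by
      have h3 := Ideal.mul_mem_left _ δ (RInvQuad.map_le_jacobson hlam hB (Ideal.mem_map_of_mem _ h1))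
      rw [hn] at h3
      convert h3 using 1
      conv_lhs => rw [pow_two]; arg 2; rw [hx]
      ring
    rw [← Ideal.jacobson_bot] at h2 ⊢
    exact Ideal.mem_sInf.2 fun {I} hI => hI.2.isPrime.mem_of_pow_mem 2 (Ideal.mem_sInf.1 h2 hI)
  obtain ⟨n, hn⟩ := RInvQuad.exists_norm hlam hB x
  have hnu : IsUnit n := by
    by_contra hu
    have h1 : algebraMap B A n ∈ M := by
      rw [← Ideal.mem_comap, IsLocalRing.eq_maximalIdeal (Ideal.isMaximal_comap_of_isIntegral_of_isMaximal (R := B) M)]
      exact hu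
    rw [hn] at h1
    rcases hM.isPrime.mem_or_mem h1 with h | h
    · exact hxM h
    · exact hxM (hx ▸ M.mul_mem_left _ h)
  exact isUnit_of_mul_isUnit_left (hn ▸ hnu.map (algebraMap B A) : IsUnit (x * lam x))

omit hB in
/-- In the nonalternating case some vector has a value outside `M`. -/
theorem exists_diag_of_na {M : Ideal A} [M.IsPrime]
    (hna : (∃ r, lam r - r ∉ M) ∨ ε + 1 ∉ M) {h : Matrix ι ι A} (hG : Good lam ε h) (i0 : ι) :
    ∃ g : Matrix ι ι A, Cong lam h g ∧ ∃ i, g i i ∉ M := by
  by_cases hd : ∃ i, h i i ∉ M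
  · exact ⟨h, cong_submatrix h (Equiv.refl _), hd⟩
  push_neg at hd
  obtain ⟨j, hj⟩ := hG.exists_notMem M i0
  have hij : j ≠ i0 := fun e => hj (e ▸ hd i0)
  suffices h' : ∃ c, c * h i0 j + lam c * h j i0 ∉ M by
    obtain ⟨c, hc⟩ := h'
    obtain ⟨g, hg, hgi⟩ := cong_transvection (lam := lam) h hij c
    refine ⟨g, hg, i0, fun h1 => hc ?_⟩
    rw [hgi] at h1
    convert M.sub_mem h1 (M.add_mem (hd i0) (M.mul_mem_left (lam c * c) (hd j))) using 1
    ring
  by_cases h1 : h i0 j + h j i0 ∈ M
  swap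
  · exact ⟨1, by simpa using h1⟩
  have hji : h j i0 ∉ M := fun h2 => hj (by simpa using M.sub_mem h1 h2)
  rcases hna with ⟨r, hr⟩ | he
  · refine ⟨r, fun h2 => ?_⟩
    have : (lam r - r) * h j i0 ∈ M := by
      convert M.sub_mem h2 (M.mul_mem_left r h1) using 1; ring
    exact (Ideal.IsPrime.mem_or_mem inferInstance this).elim hr hji
  · by_cases hr : ∀ r, lam r - r ∈ M
    · refine absurd ?_ he
      have h3 : h i0 j * (ε + 1) ∈ M := by
        rw [hG.apply j i0] at h1
        convert M.sub_mem h1 (M.mul_mem_left ε (hr (h i0 j))) using 1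
        ring
      exact (Ideal.IsPrime.mem_or_mem inferInstance h3).resolve_left hj
    · push_neg at hr
      obtain ⟨r, hr⟩ := hr
      refine ⟨r, fun h2 => ?_⟩
      have : (lam r - r) * h j i0 ∈ M := by
        convert M.sub_mem h2 (M.mul_mem_left r h1) using 1; ring
      exact (Ideal.IsPrime.mem_or_mem inferInstance this).elim hr hji

omit hB in
theorem exists_split_singleton {h : Matrix ι ι A} (hG : Good lam ε h) (i : ι) (hu : IsUnit (h i i)) :
    ∃ d : Matrix {x // ¬ x = i} {x // ¬ x = i} A,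
      Cong lam h (fromBlocks (diagonal fun _ : {x // x = i} => h i i) 0 0 d) ∧ Good lam ε d ∧
        ∀ a b, d a b = h a b - h a i * ((hu.unit⁻¹ : Aˣ) : A) * h i b := by
  let e := Equiv.sumCompl fun x => x = i
  have hc := cong_submatrix (lam := lam) h e
  have hG' := hG.of_cong hlam hc
  rw [← fromBlocks_toBlocks (h.submatrix e e)] at hc hG'
  have haa : (h.submatrix e e).toBlocks₁₁ = diagonal fun _ : {x // x = i} => h i i := by
    ext ⟨a, rfl⟩ ⟨b, rfl⟩
    simp [toBlocks₁₁, e]
  rw [haa] at hc hG'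
  have ha : (diagonal fun _ : {x // x = i} => h i i) * diagonal (fun _ => ((hu.unit⁻¹ : Aˣ) : A)) = 1 := by
    rw [diagonal_mul_diagonal, ← diagonal_one]; simp
  obtain ⟨h1, h2, -⟩ := exists_split hlam hG' ha
  refine ⟨_, hc.trans h1, h2, fun a b => ?_⟩
  simp only [Matrix.sub_apply, Matrix.mul_apply, toBlocks₁₂, toBlocks₂₁, toBlocks₂₂, of_apply, submatrix_apply,
    diagonal_apply, mul_ite, mul_zero, Finset.sum_ite_eq', Finset.mem_univ, if_true]
  rw [Fintype.sum_subsingleton _ ⟨i, rfl⟩]
  simp [e]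

theorem diagonalisable (hε : ε = 1 ∨ ε = -1) :
    ∀ (n : ℕ) (M : Ideal A), M.IsMaximal → (∀ x : A, x = ε * lam x → x ∉ M → IsUnit x) →
      ∀ (ι : Type) [Fintype ι] [DecidableEq ι] (h : Matrix ι ι A), Fintype.card ι = n → Good lam ε h →
        (n = 0 ∨ ∃ i, h i i ∉ M) → ∃ d : ι → A, Cong lam h (diagonal d) := by
  intro n
  induction n using Nat.strong_induction_on with
  | _ n IH =>
  intro M hM hU ι _ _ h hn hG hdiag
  rcases hdiag with rfl | ⟨i, hi⟩
  · have := Fintype.card_eq_zero_iff.1 hn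
    refine ⟨isEmptyElim, ?_⟩
    convert cong_submatrix (lam := lam) h (Equiv.refl ι) using 1
    ext a; exact isEmptyElim a
  -- core: finish from a split whose complement has a diagonal entry outside `M`
  have core : ∀ (g : Matrix ι ι A) (i : ι) (d : Matrix {x // ¬ x = i} {x // ¬ x = i} A),
      Cong lam g (fromBlocks (diagonal fun _ : {x // x = i} => g i i) 0 0 d) → Good lam ε d →
      (Fintype.card {x // ¬ x = i} = 0 ∨ ∃ a, d a a ∉ M) → ∃ D : ι → A, Cong lam g (diagonal D) := by
    intro g i d hc hd hh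
    obtain ⟨D, hD⟩ := IH _ (hn ▸ Fintype.card_subtype_lt (p := fun x => ¬ x = i) (x := i) (by simp)) M hM hU _ d rfl hd hh
    refine ⟨fun x => Sum.elim (fun _ => g i i) D ((Equiv.sumCompl fun x => x = i).symm x), ?_⟩
    refine (hc.trans (cong_fromBlocks hD)).trans ?_
    rw [fromBlocks_diagonal]
    convert cong_submatrix (lam := lam) _ (Equiv.sumCompl fun x => x = i).symm using 1
    rw [submatrix_diagonal_equiv]; rfl
  have hu : IsUnit (h i i) := hU _ (hG.apply i i) hi
  obtain ⟨d, hc, hd, hdab⟩ := exists_split_singleton hlam hG i hu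
  by_cases h0 : Fintype.card {x // ¬ x = i} = 0 ∨ ∃ a, d a a ∉ M
  · exact core h i d hc hd h0
  push_neg at h0
  obtain ⟨h0, hdd⟩ := h0
  obtain ⟨a⟩ := Fintype.card_pos_iff.1 (Nat.pos_of_ne_zero h0)
  -- the complement is alternating mod `M`
  by_cases hna : (∃ r, lam r - r ∉ M) ∨ ε + 1 ∉ M
  · obtain ⟨g, hg, hgd⟩ := exists_diag_of_na hlam hna hd a
    obtain ⟨D, hD⟩ := IH _ (hn ▸ Fintype.card_subtype_lt (p := fun x => ¬ x = i) (x := i) (by simp)) M hM hU _ g rfl
      (hd.of_cong hlam hg) (Or.inr hgd)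
    refine ⟨fun x => Sum.elim (fun _ => h i i) D ((Equiv.sumCompl fun x => x = i).symm x), ?_⟩
    refine (hc.trans (cong_fromBlocks (hg.trans hD))).trans ?_
    rw [fromBlocks_diagonal]
    convert cong_submatrix (lam := lam) _ (Equiv.sumCompl fun x => x = i).symm using 1
    rw [submatrix_diagonal_equiv]; rfl
  push_neg at hna
  obtain ⟨hid, heps⟩ := hna
  -- pull the block form back to `ι` and mix
  let e := Equiv.sumCompl fun x => x = i
  let g := (fromBlocks (diagonal fun _ : {x // x = i} => h i i) 0 0 d).submatrix e.symm e.symm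
  have hcg : Cong lam h g := hc.trans (cong_submatrix _ _)
  have hGg : Good lam ε g := hG.of_cong hlam hcg
  obtain ⟨b, hb⟩ := hd.exists_notMem M a
  have hba : d b a ∉ M := fun h1 => hb (by
    rw [hd.apply b a] at h1
    have h2 : ε * d a b ∈ M := by
      convert M.sub_mem h1 (M.mul_mem_left ε (hid (d a b))) using 1; ring
    rcases hε with rfl | rfl
    · simpa using h2
    · simpa using h2)
  have gi : g i i = h i i := by simp [g, e]
  have gia : g i a = 0 := by simp [g, e, a.2]
  have gai : g a i = 0 := by simp [g, e, a.2]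
  have gib : g i b = 0 := by simp [g, e, b.2]
  have gbi : g b i = 0 := by simp [g, e, b.2]
  have gd : ∀ x y : {x // ¬ x = i}, g x y = d x y := fun x y => by simp [g, e, x.2, y.2]
  have hab : (b : ι) ≠ a := fun h1 => hb (by rw [Subtype.ext h1]; exact hdd a)
  -- transvection `e_i ↦ e_i + e_a`
  let T : Matrix ι ι A := transvection (a : ι) i 1
  let g' := (T.map lam)ᵀ * g * T
  have hg' : Cong lam g g' := ⟨T, transvection (a : ι) i (-1),
    by rw [transvection_mul_transvection_same _ _ a.2, add_neg_cancel, transvection_zero],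
    by rw [transvection_mul_transvection_same _ _ a.2, neg_add_cancel, transvection_zero], rfl⟩
  have hT : (T.map lam)ᵀ = transvection i (a : ι) 1 := by
    ext x y
    simp only [T, transvection, transpose_apply, map_apply, Matrix.add_apply, map_add, Matrix.one_apply, single_apply,
      apply_ite lam, map_zero, map_one]
    congr 1
    · simp [eq_comm]
    · simp [and_comm]
  have g'ii : g' i i = h i i + d a a := by
    simp only [g', hT, T]
    rw [mul_transvection_apply_same, transvection_mul_apply_same, transvection_mul_apply_same, gi, gia, gai, gd]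
    ring
  have g'bi : g' b i = d b a := by
    simp only [g', hT, T]
    rw [mul_transvection_apply_same, transvection_mul_apply_of_ne (ha := b.2), transvection_mul_apply_of_ne (ha := b.2),
      gbi, gd]
    ring
  have g'ib : g' i b = d a b := by
    simp only [g', hT, T]
    rw [mul_transvection_apply_of_ne (hb := b.2), transvection_mul_apply_same, gib, gd]
    ring
  have g'bb : g' b b = d b b := by
    simp only [g', hT, T]
    rw [mul_transvection_apply_of_ne (hb := b.2), transvection_mul_apply_of_ne (ha := b.2), gd]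
  have hG' := hGg.of_cong hlam hg'
  have hu' : IsUnit (g' i i) := hU _ (hG'.apply i i) fun h1 => hi (by
    rw [g'ii] at h1; simpa using M.sub_mem h1 (hdd a))
  obtain ⟨d', hc', hd', hd'ab⟩ := exists_split_singleton hlam hG' i hu'
  suffices hbb : d' b b ∉ M by
    obtain ⟨D, hD⟩ := core g' i d' hc' hd' (Or.inr ⟨b, hbb⟩)
    exact ⟨D, (hcg.trans hg').trans hD⟩
  intro h1
  rw [hd'ab, g'bb, g'bi, g'ib] at h1
  have h2 := M.sub_mem (hdd b) h1
  rw [sub_sub_cancel] at h2
  rcases hM.isPrime.mem_or_mem h2 with h3 | h3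
  · rcases hM.isPrime.mem_or_mem h3 with h4 | h4
    · exact hba h4
    · exact hM.ne_top (Ideal.eq_top_of_isUnit_mem _ h4 (Units.isUnit _))
  · exact hb h3

omit hB in
/-- Splitting an invertible skew hermitian matrix into blocks congruent to `!![0, 1; -1, 0]`. -/
theorem skew_blocks {M : Ideal A} (hM : M.IsMaximal) (hU : ∀ x, x ∉ M → IsUnit x) (hid : ∀ a, lam a - a ∈ M)
    (h2 : IsUnit (2 : A)) :
    ∀ (n : ℕ) (ι : Type) [Fintype ι] [DecidableEq ι] (h : Matrix ι ι A), Fintype.card ι = n → Good lam (-1) h →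
      ∃ (k : ℕ) (g : Matrix (Fin k × Fin 2) (Fin k × Fin 2) A), n = k * 2 ∧ Cong lam h g ∧
        (∀ a b x y, a ≠ b → g (a, x) (b, y) = 0) ∧
        ∀ a x y, g (a, x) (a, y) - !![(0 : A), 1; -1, 0] x y ∈ M := by
  intro n
  induction n using Nat.strong_induction_on with
  | _ n IH =>
  intro ι _ _ h hn hG
  have hdiag : ∀ {κ : Type} [Fintype κ] [DecidableEq κ] {g : Matrix κ κ A}, Good lam (-1) g → ∀ x, g x x ∈ M := by
    intro κ _ _ g hg x
    have h1 : (2 : A) * g x x ∈ M := by
      have := hg.apply x x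
      convert M.neg_mem (hid (g x x)) using 1
      linear_combination this
    exact (hM.isPrime.mem_or_mem h1).resolve_left fun h3 => hM.ne_top (Ideal.eq_top_of_isUnit_mem _ h3 h2)
  rcases isEmpty_or_nonempty ι with hι | ⟨⟨i⟩⟩
  · refine ⟨0, 0, by simpa using hn.symm, ?_, fun a => isEmptyElim a, fun a => isEmptyElim a⟩
    convert cong_submatrix (lam := lam) h (Equiv.equivOfIsEmpty (Fin 0 × Fin 2) ι) using 1
    ext a; exact isEmptyElim a.1
  obtain ⟨j, hj⟩ := hG.exists_notMem M i
  have hij : i ≠ j := fun e => hj (e ▸ hdiag hG i)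
  -- scale so that the entry `(i, j)` is `1`
  let u : Aˣ := (hU _ hj).unit
  let g := ((diagonal fun x => if x = j then ((u⁻¹ : Aˣ) : A) else 1).map lam)ᵀ * h *
    diagonal fun x => if x = j then ((u⁻¹ : Aˣ) : A) else 1
  have hcg : Cong lam h g := ⟨_, diagonal fun x => if x = j then (u : A) else 1,
    by rw [diagonal_mul_diagonal, ← diagonal_one]; congr 1; ext x; split_ifs <;> simp,
    by rw [diagonal_mul_diagonal, ← diagonal_one]; congr 1; ext x; split_ifs <;> simp, rfl⟩
  have hGg : Good lam (-1) g := hG.of_cong hlam hcg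
  have gij : g i j = 1 := by
    simp only [g, diagonal_map (map_zero lam), diagonal_transpose, mul_diagonal, diagonal_mul, if_neg hij, if_pos,
      Function.comp_apply, map_one, one_mul]
    exact (hU _ hj).mul_val_inv
  have gji : g j i = -1 := by rw [hGg.apply, gij, map_one, mul_one]
  -- split off the pair `i, j`
  let f : Fin 2 → {x // x = i ∨ x = j} := ![⟨i, Or.inl rfl⟩, ⟨j, Or.inr rfl⟩]
  have hf : Function.Bijective f := by
    refine ⟨fun a b hab => ?_, fun ⟨x, hx⟩ => ?_⟩
    · fin_cases a <;> fin_cases b <;> simp [f, hij, hij.symm] at hab ⊢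
    · rcases hx with rfl | rfl
      · exact ⟨0, rfl⟩
      · exact ⟨1, rfl⟩
  let e := ((Equiv.ofBijective f hf).sumCongr (Equiv.refl _)).trans (Equiv.sumCompl fun x => x = i ∨ x = j)
  have hc := cong_submatrix (lam := lam) g e
  have hG' := hGg.of_cong hlam hc
  rw [← fromBlocks_toBlocks (g.submatrix e e)] at hc hG'
  let a := (g.submatrix e e).toBlocks₁₁
  have ha0 : a = !![g i i, 1; -1, g j j] := by
    ext x y
    fin_cases x <;> fin_cases y <;> simp [a, toBlocks₁₁, e, f, gij, gji]
  have hdet : IsUnit a.det := hU _ fun h1 => by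
    rw [ha0, det_fin_two_of] at h1
    have := M.sub_mem h1 (M.mul_mem_right (g j j) (hdiag hGg i))
    simp only [one_mul, sub_neg_eq_add, add_sub_cancel_left] at this
    exact hM.ne_top ((Ideal.eq_top_iff_one M).2 this)
  obtain ⟨h1, hd, -⟩ := exists_split hlam hG' (mul_nonsing_inv a hdet)
  have hcard : Fintype.card {x // ¬ (x = i ∨ x = j)} + 2 = n := by
    rw [← hn, ← Fintype.card_congr e, Fintype.card_sum, Fintype.card_fin, add_comm]
  obtain ⟨k, g', hk, hg', hoff, hon⟩ := IH _ (by omega) _ _ rfl hd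
  let E : Fin (k + 1) × Fin 2 ≃ Fin 2 ⊕ (Fin k × Fin 2) :=
    { toFun := fun p => Fin.cases (Sum.inl p.2) (fun q => Sum.inr (q, p.2)) p.1
      invFun := Sum.elim (fun x => (0, x)) fun q => (q.1.succ, q.2)
      left_inv := fun ⟨q, x⟩ => by induction q using Fin.cases <;> rfl
      right_inv := fun s => by rcases s with x | q <;> rfl }
  refine ⟨k + 1, (fromBlocks a 0 0 g').submatrix E E, by omega,
    (((hcg.trans hc).trans h1).trans (cong_fromBlocks hg')).trans (cong_submatrix _ _), fun p q x y hpq => ?_, fun p x y => ?_⟩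
  · induction p using Fin.cases with
    | zero =>
      induction q using Fin.cases with
      | zero => exact absurd rfl hpq
      | succ q => rfl
    | succ p =>
      induction q using Fin.cases with
      | zero => rfl
      | succ q => exact hoff p q x y fun h => hpq (h ▸ rfl)
  · induction p using Fin.cases with
    | zero =>
      change a x y - _ ∈ M
      rw [ha0]
      fin_cases x <;> fin_cases y <;> simp [hdiag hGg]
    | succ p => exact hon p x y

end Local

end Groth.Agent.Lib.RInvHerm
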