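import Groth.Agent.Lib.RInvHerm
import Groth.Agent.Lib.AzInvInner
import Groth.Agent.Lib.AzInvLoc
import Groth.Agent.S15580
import Groth.Agent.S15583
import Mathlib

/-!
# Normal forms of involutions on split Azumaya algebras over a strictly henselian fixed ring

* `exists_form`: `h (t a) * W = W * lamTr (h a)` with `lamTr W = e • W`
* `exists_normal`: `W` may be taken `1`, or (ramified, `2` invertible, even size) the standard alternating matrix
* `not_both`: the two normal forms exclude each other over a ramified local ring with `2` invertible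
-/

universe u v w

open scoped TensorProduct
open Matrix

namespace Groth.Agent.Lib.AzInvNormal

/-- The standard alternating matrix on `Fin n`, pairing `2k` with `2k + 1`. -/
def Jn (T : Type*) [CommRing T] (n : ℕ) : Matrix (Fin n) (Fin n) T := fun i j =>
  if i.val / 2 = j.val / 2 then (if i.val % 2 = 0 ∧ j.val % 2 = 1 then 1 else if i.val % 2 = 1 ∧ j.val % 2 = 0 then -1 else 0) else 0

theorem Jn_map {T T' : Type*} [CommRing T] [CommRing T'] (f : T →+* T') (n : ℕ) :
    (Jn T n).map f = Jn T' n := by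
  ext i j
  simp only [Jn, Matrix.map_apply]
  split_ifs <;> simp

theorem Jn_transpose (T : Type*) [CommRing T] (n : ℕ) : (Jn T n)ᵀ = -Jn T n := by
  ext i j
  simp only [Jn, Matrix.transpose_apply, Matrix.neg_apply]
  split_ifs <;> (first | omega | simp)

theorem Jn_mul_self (T : Type*) [CommRing T] {n : ℕ} (hn : Even n) : Jn T n * Jn T n = -1 := by
  ext i j
  obtain ⟨c, hc⟩ := hn
  let p : Fin n := ⟨if i.val % 2 = 0 then i.val + 1 else i.val - 1, by have := i.isLt; split_ifs <;> omega⟩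
  rw [Matrix.mul_apply, Finset.sum_eq_single p]
  · simp only [Jn, Matrix.neg_apply, Matrix.one_apply, Fin.ext_iff, p]
    split_ifs <;> (first | omega | simp)
  · intro x _ hx
    have hx' : x.val ≠ p.val := fun h => hx (Fin.ext h)
    simp only [p] at hx'
    simp only [Jn]
    split_ifs at hx' ⊢ <;> (first | omega | simp)
  · simp

variable {T : Type v} [CommRing T] {R : Type*} [CommRing R] [Algebra R T] {A : Type w} [Ring A] [Algebra R A]
  {n : ℕ} {lam : R → R} {lamT : T ≃+* T}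

section

variable (lamT) (t : AzInv.LamInv R A lam)

/-- `h` intertwines `t` with `X ↦ W (lamTr X) W⁻¹`. -/
def Inter (h : A →ₐ[R] Matrix (Fin n) (Fin n) T) (W : Matrix (Fin n) (Fin n) T) : Prop :=
  ∀ a, h (t a) * W = W * ((h a).map lamT)ᵀ

end

variable (hlamT : Function.Involutive lamT)

include hlamT

omit [Algebra R T] in
theorem tr_tr (X : Matrix (Fin n) (Fin n) T) : ((X.map lamT)ᵀ.map lamT)ᵀ = X := by
  ext i j; simp [hlamT (X i j)]

omit hlamT [Algebra R T] in
theorem tr_mul (X Y : Matrix (Fin n) (Fin n) T) :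
    ((X * Y).map lamT)ᵀ = (Y.map lamT)ᵀ * (X.map lamT)ᵀ := by
  rw [Matrix.map_mul, transpose_mul]

omit hlamT [Algebra R T] in
theorem tr_one : ((1 : Matrix (Fin n) (Fin n) T).map lamT)ᵀ = 1 := by
  rw [Matrix.map_one _ (map_zero lamT) (map_one lamT), transpose_one]

omit hlamT [Algebra R T] in
theorem tr_smul (c : T) (X : Matrix (Fin n) (Fin n) T) : ((c • X).map lamT)ᵀ = lamT c • (X.map lamT)ᵀ := by
  ext i j; simp

omit hlamT [Algebra R T] in
theorem eq_scalar_of_commute {X : Matrix (Fin n) (Fin n) T} (h : ∀ Y, X * Y = Y * X) : ∃ c : T, X = c • 1 := by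
  obtain ⟨c, hc⟩ := Matrix.mem_range_scalar_of_commute_single (M := X) fun i j _ => (h _).symm
  refine ⟨c, ?_⟩
  rw [← hc, Matrix.scalar_apply, Matrix.smul_one_eq_diagonal]

omit hlamT in
/-- Linear combinations of the image of a bijectively lifting map exhaust the matrices. -/
theorem commute_all [IsAzumaya R A] (hn : 0 < n) (hrk : ∀ q : PrimeSpectrum R, Module.rankAtStalk (R := R) A q = n ^ 2)
    (h : A →ₐ[R] Matrix (Fin n) (Fin n) T) {X : Matrix (Fin n) (Fin n) T} (hX : ∀ a, X * h a = h a * X) :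
    ∀ Y, X * Y = Y * X := by
  let G : T ⊗[R] A →ₐ[T] Matrix (Fin n) (Fin n) T :=
    Algebra.TensorProduct.lift (Algebra.ofId T _) h fun s a => Algebra.commutes s _
  have : NeZero n := ⟨hn.ne'⟩
  have := IsAzumaya.matrix T (Fin n)
  have := Groth.Agent.Lib.Azumaya.BaseChange.isAzumaya_baseChange T A (R := R)
  have hG : Function.Bijective G := Groth.Agent.Lib.AzInvLoc.bijective_of_azumaya (fun P => by
    have : Nontrivial T := ⟨0, 1, fun e => P.2.ne_top (Ideal.eq_top_of_isUnit_mem _ P.1.zero_mem (e ▸ isUnit_one))⟩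
    rw [Module.rankAtStalk_baseChange, hrk, Module.rankAtStalk_eq_finrank_of_free, Pi.natCast_apply, Nat.cast_id,
      Module.finrank_matrix, Module.finrank_self, Fintype.card_fin, mul_one, pow_two]) G
  intro Y
  obtain ⟨z, rfl⟩ := hG.2 Y
  induction z using TensorProduct.induction_on with
  | zero => simp
  | add a b ha hb => rw [map_add, mul_add, ha, hb, add_mul]
  | tmul s a =>
    have hG1 : G (s ⊗ₜ[R] a) = algebraMap T (Matrix (Fin n) (Fin n) T) s * h a := rfl
    rw [hG1, ← Algebra.smul_def, mul_smul_comm, hX, smul_mul_assoc]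

variable {L : Type u} [CommRing L] [Algebra L T] (hfix : RInv.IsFixedRing L T lamT)

include hfix

omit [Algebra R T] in
theorem exists_conj [IsLocalRing L] (hn : 0 < n) (φ : Matrix (Fin n) (Fin n) T ≃ₐ[T] Matrix (Fin n) (Fin n) T) :
    ∃ P P' : Matrix (Fin n) (Fin n) T, P * P' = 1 ∧ P' * P = 1 ∧ ∀ X, φ X * P = P * X := by
  let lamA : T ≃ₐ[L] T := AlgEquiv.ofRingEquiv (f := lamT) (fun s => (hfix.2 _).2 ⟨s, rfl⟩)
  have hfixA : RInv.IsFixedRing L T lamA.toRingEquiv := hfix
  have : NeZero n := ⟨hn.ne'⟩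
  have := IsAzumaya.matrix T (Fin n)
  obtain ⟨a, ha, hu⟩ := Groth.Agent.Lib.AzInvInner.exists_twisting_over lamA hlamT hfixA φ (IsLocalRing.maximalIdeal L)
  obtain ⟨f, hf, b, hb, hb'⟩ := Groth.Agent.Lib.AzInvInner.exists_inverse_scaled lamA hlamT hfixA a (IsLocalRing.maximalIdeal L) hu
  obtain ⟨c, hc⟩ := ((IsLocalRing.notMem_maximalIdeal.1 hf).map (algebraMap L T)).exists_left_inv
  refine ⟨a, c • b, ?_, ?_, ha⟩
  · rw [mul_smul_comm, hb, Algebra.algebraMap_eq_smul_one, smul_smul, hc, one_smul]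
  · rw [smul_mul_assoc, hb', Algebra.algebraMap_eq_smul_one, smul_smul, hc, one_smul]

theorem exists_form [IsLocalRing L] [IsAzumaya R A] (hn : 0 < n)
    (hrk : ∀ q : PrimeSpectrum R, Module.rankAtStalk (R := R) A q = n ^ 2)
    (hlR : ∀ r, lamT (algebraMap R T r) = algebraMap R T (lam r))
    (t : AzInv.LamInv R A lam) (h : A →ₐ[R] Matrix (Fin n) (Fin n) T) :
    ∃ (W W' : Matrix (Fin n) (Fin n) T) (e : T), W * W' = 1 ∧ W' * W = 1 ∧ Inter lamT t h W ∧
      (W.map lamT)ᵀ = e • W ∧ lamT e * e = 1 := by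
  have : NeZero n := ⟨hn.ne'⟩
  let k : A →ₐ[R] Matrix (Fin n) (Fin n) T :=
    { toFun := fun a => ((h (t a)).map lamT)ᵀ
      map_one' := by rw [t.map_one, map_one, tr_one]
      map_mul' := fun a b => by rw [t.map_mul, map_mul, tr_mul]
      map_zero' := by ext i j; simp
      map_add' := fun a b => by ext i j; simp
      commutes' := fun r => by
        rw [t.map_algebraMap, AlgHom.commutes, Algebra.algebraMap_eq_smul_one,
          ← IsScalarTower.algebraMap_smul T (lam r), tr_smul, tr_one, ← hlR, hlamT, algebraMap_smul,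
          ← Algebra.algebraMap_eq_smul_one] }
  let G : T ⊗[R] A →ₐ[T] Matrix (Fin n) (Fin n) T :=
    Algebra.TensorProduct.lift (Algebra.ofId T _) h fun s a => Algebra.commutes s _
  let K : T ⊗[R] A →ₐ[T] Matrix (Fin n) (Fin n) T :=
    Algebra.TensorProduct.lift (Algebra.ofId T _) k fun s a => Algebra.commutes s _
  have := IsAzumaya.matrix T (Fin n)
  have := Groth.Agent.Lib.Azumaya.BaseChange.isAzumaya_baseChange T A (R := R)
  have hr : ∀ P : PrimeSpectrum T, Module.rankAtStalk (R := T) (T ⊗[R] A) P = Module.rankAtStalk (R := T) (Matrix (Fin n) (Fin n) T) P := fun P => by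
    have : Nontrivial T := ⟨0, 1, fun e => P.2.ne_top (Ideal.eq_top_of_isUnit_mem _ P.1.zero_mem (e ▸ isUnit_one))⟩
    rw [Module.rankAtStalk_baseChange, hrk, Module.rankAtStalk_eq_finrank_of_free, Pi.natCast_apply, Nat.cast_id,
      Module.finrank_matrix, Module.finrank_self, Fintype.card_fin, mul_one, pow_two]
  have hG := Groth.Agent.Lib.AzInvLoc.bijective_of_azumaya hr G
  have hK := Groth.Agent.Lib.AzInvLoc.bijective_of_azumaya hr K
  let φ := (AlgEquiv.ofBijective G hG).symm.trans (AlgEquiv.ofBijective K hK)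
  obtain ⟨P, P', hPP', hP'P, hP⟩ := exists_conj hlamT hfix hn φ
  have hk : ∀ a, k a = P * h a * P' := fun a => by
    have h1 := hP (G (1 ⊗ₜ a))
    have h2 : φ (G (1 ⊗ₜ a)) = K (1 ⊗ₜ a) := by simp [φ, AlgEquiv.trans_apply]
    rw [h2] at h1
    rw [show G (1 ⊗ₜ a) = algebraMap T (Matrix (Fin n) (Fin n) T) 1 * h a from rfl,
      show K (1 ⊗ₜ a) = algebraMap T (Matrix (Fin n) (Fin n) T) 1 * k a from rfl, map_one, one_mul, one_mul] at h1
    rw [← h1, mul_assoc, hPP', mul_one]
  let W := (P'.map lamT)ᵀ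
  let W' := (P.map lamT)ᵀ
  have hWW' : W * W' = 1 := by rw [← tr_mul, hPP', tr_one]
  have hW'W : W' * W = 1 := by rw [← tr_mul, hP'P, tr_one]
  have ht : ∀ a, h (t a) = W * ((h a).map lamT)ᵀ * W' := fun a => by
    rw [← tr_tr hlamT (h (t a)), show ((h (t a)).map lamT)ᵀ = k a from rfl, hk, tr_mul, tr_mul, ← mul_assoc]
  clear_value W W'
  have hinter : Inter lamT t h W := fun a => by rw [ht, mul_assoc _ W' W, hW'W, mul_one]
  let X := (W.map lamT)ᵀ * W'
  have hX : ∀ a, X * h a = h a * X := fun a => by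
    have h1 := ht (t a)
    rw [t.invol, ht a, tr_mul, tr_mul, tr_tr hlamT] at h1
    -- h1 : h a = W * (λW' * (h a * λW)) * W'
    have e1 : (W.map lamT)ᵀ * (W'.map lamT)ᵀ = 1 := by rw [← tr_mul, hW'W, tr_one]
    calc X * h a = (W.map lamT)ᵀ * W' * (W * ((W'.map lamT)ᵀ * (h a * (W.map lamT)ᵀ)) * W') := by rw [← h1]
      _ = (W.map lamT)ᵀ * ((W' * W) * ((W'.map lamT)ᵀ * (h a * ((W.map lamT)ᵀ * W')))) := by noncomm_ring
      _ = h a * X := by rw [hW'W, one_mul, ← mul_assoc, e1, one_mul]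
  obtain ⟨e, he⟩ := eq_scalar_of_commute (commute_all hn hrk h hX)
  have hWe : (W.map lamT)ᵀ = e • W := by
    calc (W.map lamT)ᵀ = X * W := by rw [mul_assoc, hW'W, mul_one]
      _ = e • W := by rw [he, smul_mul_assoc, one_mul]
  refine ⟨W, W', e, hWW', hW'W, hinter, hWe, ?_⟩
  have h1 := tr_tr hlamT W
  rw [hWe, tr_smul, hWe, smul_smul] at h1
  have h2 : (lamT e * e) • (1 : Matrix (Fin n) (Fin n) T) = 1 := by
    have := congr_arg (· * W') h1
    simpa [smul_mul_assoc, hWW'] using this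
  simpa using congr_fun₂ h2 ⟨0, hn⟩ ⟨0, hn⟩

omit hfix in
theorem Inter.congr {t : AzInv.LamInv R A lam} {h : A →ₐ[R] Matrix (Fin n) (Fin n) T}
    {W G : Matrix (Fin n) (Fin n) T} (hI : Inter lamT t h W) (hc : RInvHerm.Cong lamT W G) :
    ∃ h' : A →ₐ[R] Matrix (Fin n) (Fin n) T, Inter lamT t h' G := by
  obtain ⟨v, w, hvw, hwv, rfl⟩ := hc
  let V := (v.map lamT)ᵀ
  let V' := (w.map lamT)ᵀ
  have h1 : V * V' = 1 := by rw [← tr_mul, hwv, tr_one]
  have h2 : V' * V = 1 := by rw [← tr_mul, hvw, tr_one]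
  refine ⟨(MulSemiringAction.toAlgEquiv R (Matrix (Fin n) (Fin n) T) (ConjAct.toConjAct (⟨V, V', h1, h2⟩ : (Matrix (Fin n) (Fin n) T)ˣ))).toAlgHom.comp h, fun a => ?_⟩
  change V * h (t a) * V' * (V * W * v) = V * W * v * ((V * h a * V').map lamT)ᵀ
  rw [tr_mul, tr_mul, tr_tr hlamT, tr_tr hlamT]
  calc V * h (t a) * V' * (V * W * v) = V * (h (t a) * ((V' * V) * (W * v))) := by noncomm_ring
    _ = V * ((h (t a) * W) * v) := by rw [h2, one_mul, mul_assoc]
    _ = V * (W * ((v * w) * (((h a).map lamT)ᵀ * v))) := by rw [hI a, hvw, one_mul, mul_assoc]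
    _ = V * W * v * (w * (((h a).map lamT)ᵀ * v)) := by noncomm_ring

omit hfix [Algebra R T] in
theorem Inter.smul [Algebra R T] {t : AzInv.LamInv R A lam} {h : A →ₐ[R] Matrix (Fin n) (Fin n) T}
    {W : Matrix (Fin n) (Fin n) T} (hI : Inter lamT t h W) (c : T) : Inter lamT t h (c • W) := fun a => by
  rw [mul_smul_comm, smul_mul_assoc, hI a]

omit [Algebra R T] in
/-- The scalar `e` becomes `±1` after scaling. -/
theorem exists_normalise [IsLocalRing L] {W W' : Matrix (Fin n) (Fin n) T} {e : T} (hWW' : W * W' = 1)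
    (hW : (W.map lamT)ᵀ = e • W) (he : lamT e * e = 1)
    (hcond : (∃ r, lamT r - r ∉ Ring.jacobson T) ∨ IsUnit (2 : T) ∨ Odd n) :
    ∃ c : T, IsUnit c ∧ (((c • W).map lamT)ᵀ = c • W ∨
      ((c • W).map lamT)ᵀ = -(c • W) ∧ (∀ r, lamT r - r ∈ Ring.jacobson T) ∧ IsUnit (2 : T) ∧ ¬ Odd n) := by
  by_cases hodd : Odd n
  · obtain ⟨k, hk⟩ := hodd
    have hd : lamT W.det = e ^ n * W.det := by
      have := congr_arg Matrix.det hW
      rw [Matrix.det_transpose, Matrix.det_smul, Fintype.card_fin] at this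
      exact (lamT.toRingHom.map_det W).trans this
    refine ⟨W.det * e ^ (k + 1), (isUnit_det_of_right_inverse hWW').mul ((IsUnit.of_mul_eq_one_right _ he).pow _), Or.inl ?_⟩
    rw [tr_smul, hW, smul_smul, map_mul, map_pow, hd]
    subst hk
    congr 1
    calc e ^ (2 * k + 1) * W.det * lamT e ^ (k + 1) * e = W.det * e ^ (k + 1) * (lamT e * e) ^ (k + 1) := by ring
      _ = _ := by rw [he, one_pow, mul_one]
  by_cases hs : ∃ r, lamT r - r ∉ Ring.jacobson T
  · obtain ⟨r, hr⟩ := hs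
    have hq := Groth.Agent.Lib.RInvQuad.isQuadEtale_of_isUnit hlamT hfix
      (Groth.Agent.Lib.RInvQuad.exists_isUnit_of_notMem_jacobson hlamT hfix hr)
    obtain ⟨a, ha⟩ := Groth.Agent.S15580.result L T lamT hlamT hfix hq (IsUnit.of_mul_eq_one_right _ he).unit he
    rw [IsUnit.unit_spec] at ha
    refine ⟨((a⁻¹ : Tˣ) : T), Units.isUnit _, Or.inl ?_⟩
    rw [tr_smul, hW, smul_smul, ha]
    congr 1
    calc lamT ((a⁻¹ : Tˣ) : T) * (((a⁻¹ : Tˣ) : T) * lamT a) = ((a⁻¹ : Tˣ) : T) * lamT (((a⁻¹ : Tˣ) : T) * a) := by rw [map_mul]; ring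
      _ = _ := by rw [Units.inv_mul, map_one, mul_one]
  have h2 : IsUnit (2 : T) := (hcond.resolve_left hs).resolve_right hodd
  push_neg at hs
  have := Groth.Agent.Lib.RInvQuad.isLocalRing_of_forall_mem hlamT hfix hs
  rcases IsLocalRing.isUnit_or_isUnit_of_isUnit_add (a := 1 + e) (b := 1 - e) (by
    rw [add_add_sub_cancel, one_add_one_eq_two]; exact h2) with hu | hu
  · refine ⟨1 + e, hu, Or.inl ?_⟩
    rw [tr_smul, hW, smul_smul, map_add, map_one]
    congr 1
    linear_combination he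
  · refine ⟨1 - e, hu, Or.inr ⟨?_, hs, h2, hodd⟩⟩
    rw [tr_smul, hW, smul_smul, ← neg_smul, map_sub, map_one]
    congr 1
    linear_combination -he

variable (hsq : ∀ x : Lˣ, ∃ y : L, y * y = x)
include hsq

omit [Algebra R T] in
theorem cong_one [IsLocalRing L] {W W' : Matrix (Fin n) (Fin n) T} (hWW' : W * W' = 1)
    (hW : (W.map lamT)ᵀ = W) (hcond : (∃ r, lamT r - r ∉ Ring.jacobson T) ∨ IsUnit (2 : T) ∨ Odd n) :
    RInvHerm.Cong lamT W (1 : Matrix (Fin n) (Fin n) T) := by
  have : Nontrivial T := hfix.1.nontrivial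
  obtain ⟨v, ⟨⟨v, w, hvw, hwv⟩, rfl⟩, d, hd⟩ := Groth.Agent.S15583.result L T lamT hlamT hfix n 1 (Or.inl rfl) W
    ⟨⟨W, W', hWW', mul_eq_one_comm.1 hWW'⟩, rfl⟩ (by rw [one_smul]; exact hW) (by
      rcases hcond with h | h | h
      · exact Or.inl h
      · refine Or.inr (Or.inl fun h' => ?_)
        rw [one_add_one_eq_two, ← Ideal.jacobson_bot] at h'
        exact bot_ne_top (Ideal.jacobson_eq_top_iff.1 (Ideal.eq_top_of_isUnit_mem _ h' h))
      · exact Or.inr (Or.inr h))
  simp only at hd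
  have hc1 : RInvHerm.Cong lamT W (diagonal d) := ⟨v, w, hvw, hwv, hd⟩
  obtain ⟨hdh, k, hk, -⟩ := RInvHerm.Good.of_cong (ε := (1 : T)) hlamT
    ⟨by rw [one_smul]; exact hW, W', hWW', mul_eq_one_comm.1 hWW'⟩ hc1
  have hfixd : ∀ i, lamT (d i) = d i := fun i => by simpa using congr_fun₂ hdh i i
  have hdu : ∀ i, IsUnit (d i) := fun i => IsUnit.of_mul_eq_one (k i i) (by
    have := congr_fun₂ hk i i
    rwa [diagonal_mul, one_apply_eq] at this)
  choose s hs using fun i => Groth.Agent.Lib.RInvQuad.exists_of_fixed hfix (hfixd i)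
  choose y hy using fun i => hsq (Groth.Agent.Lib.RInvQuad.isUnit_of_isUnit_algebraMap hfix (hs i ▸ hdu i)).unit
  have hyu : ∀ i, IsUnit (algebraMap L T (y i)) := fun i => by
    refine isUnit_of_mul_isUnit_left (y := algebraMap L T (y i)) ?_
    rw [← map_mul, hy, IsUnit.unit_spec, hs]
    exact hdu i
  refine hc1.trans ⟨diagonal fun i => (((hyu i).unit⁻¹ : Tˣ) : T), diagonal fun i => algebraMap L T (y i), ?_, ?_, ?_⟩
  · rw [diagonal_mul_diagonal, ← diagonal_one]; simp
  · rw [diagonal_mul_diagonal, ← diagonal_one]; simp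
  · have hl : ∀ i, lamT (((hyu i).unit⁻¹ : Tˣ) : T) = (((hyu i).unit⁻¹ : Tˣ) : T) := fun i => by
      apply (hyu i).mul_left_cancel
      have h1 := congr_arg lamT (hyu i).mul_val_inv
      rw [map_mul, Groth.Agent.Lib.RInvQuad.map_algebraMap hfix, map_one] at h1
      rw [h1, (hyu i).mul_val_inv]
    rw [diagonal_map (map_zero lamT), diagonal_transpose, diagonal_mul_diagonal, diagonal_mul_diagonal, ← diagonal_one]
    congr 1
    funext i
    simp only [Function.comp_apply, hl]
    have hdy : d i = algebraMap L T (y i) * algebraMap L T (y i) := by rw [← map_mul, hy, IsUnit.unit_spec, hs]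
    rw [hdy]
    calc _ = ((((hyu i).unit⁻¹ : Tˣ) : T) * algebraMap L T (y i)) * (algebraMap L T (y i) * (((hyu i).unit⁻¹ : Tˣ) : T)) := by ring
      _ = 1 := by rw [IsUnit.val_inv_mul, IsUnit.mul_val_inv, one_mul]

omit [Algebra R T] in
/-- A nearly standard skew hermitian `2 × 2` matrix is congruent to the standard one. -/
theorem cong_block [IsLocalRing L] [IsLocalRing T] (hid : ∀ r, lamT r - r ∈ IsLocalRing.maximalIdeal T) (h2 : IsUnit (2 : T))
    {H : Matrix (Fin 2) (Fin 2) T} (hH : ∀ i j, lamT (H j i) = -H i j)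
    (hJ : ∀ i j, H i j - !![(0 : T), 1; -1, 0] i j ∈ IsLocalRing.maximalIdeal T) :
    RInvHerm.Cong lamT H (!![(0 : T), 1; -1, 0] : Matrix (Fin 2) (Fin 2) T) := by
  let a := H 0 0
  let b := H 0 1
  let d := H 1 1
  have hH0 : H = !![a, b; -lamT b, d] := by
    ext i j
    fin_cases i <;> fin_cases j <;> simp [a, b, d, ← hH]
    rw [hH 1 0, neg_neg]
  have ha : lamT a = -a := hH 0 0
  have hd : lamT d = -d := hH 1 1
  have haM : a ∈ IsLocalRing.maximalIdeal T := by simpa using hJ 0 0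
  have hdM : d ∈ IsLocalRing.maximalIdeal T := by simpa using hJ 1 1
  have hb : IsUnit b := IsLocalRing.notMem_maximalIdeal.1 fun h => by
    have h1 := (IsLocalRing.maximalIdeal T).sub_mem h (by simpa using hJ 0 1 : b - 1 ∈ IsLocalRing.maximalIdeal T)
    rw [sub_sub_cancel] at h1
    exact (IsLocalRing.maximalIdeal.isMaximal T).ne_top ((Ideal.eq_top_iff_one _).2 h1)
  obtain ⟨b', hb'⟩ := hb.exists_left_inv
  have hbl : lamT b' * lamT b = 1 := by rw [← map_mul, hb', map_one]
  obtain ⟨s, hs⟩ := Groth.Agent.Lib.RInvQuad.exists_of_fixed hfix (x := a * (b' * lamT b' * d)) (by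
    simp only [map_mul, ha, hd, hlamT b']; ring)
  have hsu : IsUnit (1 + s) := by
    refine Groth.Agent.Lib.RInvQuad.isUnit_of_isUnit_algebraMap hfix ?_
    rw [map_add, map_one, hs, add_comm]
    refine IsLocalRing.notMem_maximalIdeal.1 fun h => ?_
    have h1 := (IsLocalRing.maximalIdeal T).sub_mem h (Ideal.mul_mem_right (b' * lamT b' * d) _ haM)
    rw [add_sub_cancel_left] at h1
    exact (IsLocalRing.maximalIdeal.isMaximal T).ne_top ((Ideal.eq_top_iff_one _).2 h1)
  obtain ⟨y0, hy0⟩ := hsq hsu.unit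
  rw [IsUnit.unit_spec] at hy0
  -- choose the root with `1 + y` a unit
  obtain ⟨y, hy, hyu⟩ : ∃ y : T, y * y = 1 + a * (b' * lamT b' * d) ∧ (lamT y = y ∧ IsUnit (1 + y)) := by
    have hy1 : algebraMap L T y0 * algebraMap L T y0 = 1 + a * (b' * lamT b' * d) := by
      rw [← map_mul, hy0, map_add, map_one, hs]
    rcases IsLocalRing.isUnit_or_isUnit_of_isUnit_add (a := 1 + algebraMap L T y0) (b := 1 - algebraMap L T y0)
      (by rw [add_add_sub_cancel, one_add_one_eq_two]; exact h2) with h | h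
    · exact ⟨_, hy1, Groth.Agent.Lib.RInvQuad.map_algebraMap hfix _, h⟩
    · exact ⟨-algebraMap L T y0, by rw [neg_mul_neg, hy1], by rw [map_neg, Groth.Agent.Lib.RInvQuad.map_algebraMap hfix],
        by rwa [← sub_eq_add_neg]⟩
  obtain ⟨hly, hyu⟩ := hyu
  obtain ⟨g, hg⟩ := hyu.exists_left_inv
  have hlg : lamT g = g := by
    have := congr_arg lamT hg
    rw [map_mul, map_add, map_one, hly] at this
    exact hyu.mul_right_cancel (this.trans hg.symm)
  have hyne : IsUnit y := by
    refine isUnit_of_mul_isUnit_left (y := y) ?_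
    rw [hy]
    have h3 := hsu.map (algebraMap L T)
    rwa [map_add, map_one, hs] at h3
  obtain ⟨z, hz⟩ := hyne.exists_left_inv
  have hlz : lamT z = z := by
    have := congr_arg lamT hz
    rw [map_mul, map_one, hly] at this
    exact hyne.mul_right_cancel (this.trans hz.symm)
  obtain ⟨i2, hi2⟩ := h2.exists_left_inv
  have hli : lamT i2 = i2 := by
    have := congr_arg lamT hi2
    rw [map_mul, map_one, map_ofNat] at this
    exact h2.mul_right_cancel (this.trans hi2.symm)
  -- scale to `b = 1`, kill the corner, scale, kill the other corner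
  let v1 : Matrix (Fin 2) (Fin 2) T := !![1, 0; 0, b']
  let d1 := b' * lamT b' * d
  let c := -(a * g)
  let v2 : Matrix (Fin 2) (Fin 2) T := !![1, 0; c, 1]
  let v3 : Matrix (Fin 2) (Fin 2) T := !![1, 0; 0, z]
  let d3 := z * z * d1
  let k := d3 * i2
  let v4 : Matrix (Fin 2) (Fin 2) T := !![1, k; 0, 1]
  have s1 : RInvHerm.Cong lamT H (!![a, 1; -1, d1] : Matrix (Fin 2) (Fin 2) T) := by
    refine ⟨v1, !![1, 0; 0, b], ?_, ?_, ?_⟩
    · ext i j; fin_cases i <;> fin_cases j <;> simp [v1, Matrix.mul_apply, Fin.sum_univ_two, hb']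
    · ext i j; fin_cases i <;> fin_cases j <;> simp [v1, Matrix.mul_apply, Fin.sum_univ_two, mul_comm b, hb']
    · rw [hH0]
      ext i j
      fin_cases i <;> fin_cases j <;>
        simp only [Fin.zero_eta, Fin.mk_one, Matrix.mul_apply, Fin.sum_univ_two, transpose_apply, map_apply, v1, d1, of_apply, cons_val_zero, cons_val_one, head_cons, head_fin_const, cons_val',
          empty_val', cons_val_fin_one, map_one, map_zero] <;>
        linear_combination (norm := ring_nf) (0 : T) * hb' <;> simp [hb', mul_comm b b', hbl]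
  have hc : lamT c = -c := by simp only [c, map_neg, map_mul, ha, hlg]; ring
  have s2 : RInvHerm.Cong lamT (!![a, 1; -1, d1] : Matrix (Fin 2) (Fin 2) T) (!![(0 : T), y; -y, d1] : Matrix (Fin 2) (Fin 2) T) := by
    refine ⟨v2, !![1, 0; -c, 1], ?_, ?_, ?_⟩
    · ext i j; fin_cases i <;> fin_cases j <;> simp [v2, Matrix.mul_apply, Fin.sum_univ_two]
    · ext i j; fin_cases i <;> fin_cases j <;> simp [v2, Matrix.mul_apply, Fin.sum_univ_two]
    · ext i j
      fin_cases i <;> fin_cases j <;>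
        simp only [Fin.zero_eta, Fin.mk_one, Matrix.mul_apply, Fin.sum_univ_two, transpose_apply, map_apply, v2, of_apply, cons_val_zero, cons_val_one, head_cons, head_fin_const, cons_val',
          empty_val', cons_val_fin_one, map_one, map_zero, hc]
      · simp only [c]
        linear_combination (a * g * g) * hy - a * (1 + g * (y - 1)) * hg
      · simp only [c]
        linear_combination (-g) * hy + (y - 1) * hg
      · simp only [c]
        linear_combination g * hy - (y - 1) * hg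
      · ring
  have s3 : RInvHerm.Cong lamT (!![(0 : T), y; -y, d1] : Matrix (Fin 2) (Fin 2) T) (!![(0 : T), 1; -1, d3] : Matrix (Fin 2) (Fin 2) T) := by
    refine ⟨v3, !![1, 0; 0, y], ?_, ?_, ?_⟩
    · ext i j; fin_cases i <;> fin_cases j <;> simp [v3, Matrix.mul_apply, Fin.sum_univ_two, hz]
    · ext i j; fin_cases i <;> fin_cases j <;> simp [v3, Matrix.mul_apply, Fin.sum_univ_two, mul_comm y, hz]
    · ext i j
      fin_cases i <;> fin_cases j <;>
        simp only [Fin.zero_eta, Fin.mk_one, Matrix.mul_apply, Fin.sum_univ_two, transpose_apply, map_apply, v3, d3, of_apply, cons_val_zero, cons_val_one, head_cons, head_fin_const, cons_val',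
          empty_val', cons_val_fin_one, map_one, map_zero, hlz]
      · ring
      · linear_combination hz
      · linear_combination -hz
      · ring
  have hd3 : lamT d3 = -d3 := by simp only [d3, d1, map_mul, hlz, hd, hlamT b']; ring
  have hk : lamT k = -k := by simp only [k, map_mul, hd3, hli]; ring
  have s4 : RInvHerm.Cong lamT (!![(0 : T), 1; -1, d3] : Matrix (Fin 2) (Fin 2) T) (!![(0 : T), 1; -1, 0] : Matrix (Fin 2) (Fin 2) T) := by
    refine ⟨v4, !![1, -k; 0, 1], ?_, ?_, ?_⟩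
    · ext i j; fin_cases i <;> fin_cases j <;> simp [v4, Matrix.mul_apply, Fin.sum_univ_two]
    · ext i j; fin_cases i <;> fin_cases j <;> simp [v4, Matrix.mul_apply, Fin.sum_univ_two]
    · ext i j
      fin_cases i <;> fin_cases j <;>
        simp only [Fin.zero_eta, Fin.mk_one, Matrix.mul_apply, Fin.sum_univ_two, transpose_apply, map_apply, v4, of_apply, cons_val_zero, cons_val_one, head_cons, head_fin_const, cons_val',
          empty_val', cons_val_fin_one, map_one, map_zero, hk]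
      · ring
      · ring
      · ring
      · simp only [k]
        linear_combination -d3 * hi2
  exact ((s1.trans s2).trans s3).trans s4

omit [Algebra R T] in
theorem cong_Jn [IsLocalRing L] {W W' : Matrix (Fin n) (Fin n) T} (hWW' : W * W' = 1)
    (hW : (W.map lamT)ᵀ = -W) (hid : ∀ r, lamT r - r ∈ Ring.jacobson T) (h2 : IsUnit (2 : T)) :
    Even n ∧ RInvHerm.Cong lamT W (Jn T n) := by
  classical
  have := Groth.Agent.Lib.RInvQuad.isLocalRing_of_forall_mem hlamT hfix hid
  rw [← Ideal.jacobson_bot, IsLocalRing.jacobson_eq_maximalIdeal ⊥ bot_ne_top] at hid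
  have hG : RInvHerm.Good lamT (-1) W := ⟨by rw [hW, neg_one_smul, neg_neg], W', hWW', mul_eq_one_comm.1 hWW'⟩
  obtain ⟨k, g, hnk, hc, hoff, hon⟩ := RInvHerm.skew_blocks hlamT (IsLocalRing.maximalIdeal.isMaximal T)
    (fun x hx => IsLocalRing.notMem_maximalIdeal.1 hx) hid h2 n (Fin n) W (Fintype.card_fin n) hG
  obtain ⟨hgh, -⟩ := hG.of_cong hlamT hc
  have hblk : ∀ a, RInvHerm.Cong lamT (Matrix.of fun x y => g (a, x) (a, y)) (!![(0 : T), 1; -1, 0] : Matrix (Fin 2) (Fin 2) T) :=
    fun a => cong_block hlamT hfix hsq hid h2 (fun i j => by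
      have := congr_fun₂ hgh (a, i) (a, j)
      simp only [neg_smul, one_smul, Matrix.neg_apply, transpose_apply, map_apply] at this
      simp only [of_apply]
      rw [← this, neg_neg]) (fun i j => hon a i j)
  choose v w hvw hwv hv using hblk
  let bd : (Fin k → Matrix (Fin 2) (Fin 2) T) → Matrix (Fin k × Fin 2) (Fin k × Fin 2) T :=
    fun u => Matrix.of fun p q => if p.1 = q.1 then u p.1 p.2 q.2 else 0
  have bd_mul : ∀ u u', bd u * bd u' = bd fun a => u a * u' a := fun u u' => by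
    ext ⟨a, x⟩ ⟨b, y⟩
    simp only [bd, Matrix.of_apply, Matrix.mul_apply, Fintype.sum_prod_type, ite_mul, zero_mul, mul_ite, mul_zero]
    by_cases hab : a = b
    · subst hab; simp [Matrix.mul_apply]
    · simp [hab]
  have bd_one : bd (fun _ => 1) = 1 := by
    ext ⟨a, x⟩ ⟨b, y⟩
    by_cases hab : a = b
    · subst hab; simp [bd, Matrix.one_apply]
    · simp [bd, hab, Matrix.one_apply]
  have bd_tr : ∀ u, ((bd u).map lamT)ᵀ = bd fun a => ((u a).map lamT)ᵀ := fun u => by
    ext ⟨a, x⟩ ⟨b, y⟩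
    by_cases hab : a = b
    · subst hab; simp [bd]
    · simp [bd, hab, Ne.symm hab]
  have hgbd : g = bd fun a => Matrix.of fun x y => g (a, x) (a, y) := by
    ext ⟨a, x⟩ ⟨b, y⟩
    by_cases hab : a = b
    · subst hab; simp [bd]
    · simp [bd, hab, hoff a b x y hab]
  subst hnk
  refine ⟨⟨k, mul_two k⟩, ?_⟩
  have h2' : RInvHerm.Cong lamT g (bd fun _ => !![(0 : T), 1; -1, 0]) := by
    obtain ⟨G2, hG2, hgbd'⟩ : ∃ G2 : Fin k → Matrix (Fin 2) (Fin 2) T,
        (∀ a, ((v a).map lamT)ᵀ * G2 a * v a = !![(0 : T), 1; -1, 0]) ∧ g = bd G2 := ⟨_, hv, hgbd⟩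
    clear_value bd
    refine ⟨bd v, bd w, by simp only [bd_mul, hvw, bd_one], by simp only [bd_mul, hwv, bd_one], ?_⟩
    rw [hgbd', bd_tr, bd_mul, bd_mul]
    exact congrArg bd (funext hG2)
  refine (hc.trans h2').trans ?_
  convert RInvHerm.cong_submatrix (lam := lamT) _ finProdFinEquiv.symm using 1
  ext i j
  obtain ⟨⟨a, x⟩, rfl⟩ := finProdFinEquiv.surjective i
  obtain ⟨⟨b, y⟩, rfl⟩ := finProdFinEquiv.surjective j
  simp only [Matrix.submatrix_apply, Equiv.symm_apply_apply, bd, Matrix.of_apply, Jn, finProdFinEquiv_apply_val]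
  have hd : ∀ (a : Fin k) (x : Fin 2), (x.val + 2 * a.val) / 2 = a.val ∧ (x.val + 2 * a.val) % 2 = x.val := fun a x => by omega
  simp only [(hd a x).1, (hd a x).2, (hd b y).1, (hd b y).2, Fin.val_inj]
  by_cases hab : a = b
  · fin_cases x <;> fin_cases y <;> simp [hab]
  · simp [hab]

theorem exists_normal [IsLocalRing L] [IsAzumaya R A] (hn : 0 < n)
    (hrk : ∀ q : PrimeSpectrum R, Module.rankAtStalk (R := R) A q = n ^ 2)
    (hlR : ∀ r, lamT (algebraMap R T r) = algebraMap R T (lam r))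
    (t : AzInv.LamInv R A lam) (h : A →ₐ[R] Matrix (Fin n) (Fin n) T)
    (hcond : (∃ r, lamT r - r ∉ Ring.jacobson T) ∨ IsUnit (2 : T) ∨ Odd n) :
    (∃ h' : A →ₐ[R] Matrix (Fin n) (Fin n) T, Inter lamT t h' 1) ∨
      ((∀ r, lamT r - r ∈ Ring.jacobson T) ∧ IsUnit (2 : T) ∧ Even n ∧
        ∃ h' : A →ₐ[R] Matrix (Fin n) (Fin n) T, Inter lamT t h' (Jn T n)) := by
  obtain ⟨W, W', e, hWW', hW'W, hI, hWe, he⟩ := exists_form hlamT hfix hn hrk hlR t h
  obtain ⟨c, hc, hcases⟩ := exists_normalise hlamT hfix hWW' hWe he hcond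
  obtain ⟨c', hc'⟩ := hc.exists_right_inv
  have hu : (c • W) * (c' • W') = 1 := by rw [smul_mul_smul_comm, hc', hWW', one_smul]
  rcases hcases with h1 | ⟨h1, hid, h2, -⟩
  · exact Or.inl ((hI.smul hlamT c).congr hlamT (cong_one hlamT hfix hsq hu h1 hcond))
  · obtain ⟨hev, hcong⟩ := cong_Jn hlamT hfix hsq hu h1 hid h2
    exact Or.inr ⟨hid, h2, hev, (hI.smul hlamT c).congr hlamT hcong⟩

omit hsq in
theorem not_both [IsLocalRing L] [IsLocalRing T] (hid : ∀ r, lamT r - r ∈ IsLocalRing.maximalIdeal T) (h2 : IsUnit (2 : T))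
    [IsAzumaya R A] (hn : 0 < n) (hev : Even n) (hrk : ∀ q : PrimeSpectrum R, Module.rankAtStalk (R := R) A q = n ^ 2)
    (t : AzInv.LamInv R A lam) {h h' : A →ₐ[R] Matrix (Fin n) (Fin n) T}
    (hh : Inter lamT t h 1) (hh' : Inter lamT t h' (Jn T n)) : False := by
  have : NeZero n := ⟨hn.ne'⟩
  let G : T ⊗[R] A →ₐ[T] Matrix (Fin n) (Fin n) T :=
    Algebra.TensorProduct.lift (Algebra.ofId T _) h fun s a => Algebra.commutes s _
  let K : T ⊗[R] A →ₐ[T] Matrix (Fin n) (Fin n) T :=
    Algebra.TensorProduct.lift (Algebra.ofId T _) h' fun s a => Algebra.commutes s _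
  have := IsAzumaya.matrix T (Fin n)
  have := Groth.Agent.Lib.Azumaya.BaseChange.isAzumaya_baseChange T A (R := R)
  have hr : ∀ P : PrimeSpectrum T, Module.rankAtStalk (R := T) (T ⊗[R] A) P = Module.rankAtStalk (R := T) (Matrix (Fin n) (Fin n) T) P := fun P => by
    rw [Module.rankAtStalk_baseChange, hrk, Module.rankAtStalk_eq_finrank_of_free, Pi.natCast_apply, Nat.cast_id,
      Module.finrank_matrix, Module.finrank_self, Fintype.card_fin, mul_one, pow_two]
  have hG := Groth.Agent.Lib.AzInvLoc.bijective_of_azumaya hr G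
  have hK := Groth.Agent.Lib.AzInvLoc.bijective_of_azumaya hr K
  let φ := (AlgEquiv.ofBijective G hG).symm.trans (AlgEquiv.ofBijective K hK)
  obtain ⟨P, P', hPP', hP'P, hP⟩ := exists_conj hlamT hfix hn φ
  have hk : ∀ a, h' a * P = P * h a := fun a => by
    have h1 := hP (G (1 ⊗ₜ a))
    have h2 : φ (G (1 ⊗ₜ a)) = K (1 ⊗ₜ a) := by simp [φ, AlgEquiv.trans_apply]
    rw [h2] at h1
    rw [show G (1 ⊗ₜ a) = algebraMap T (Matrix (Fin n) (Fin n) T) 1 * h a from rfl,
      show K (1 ⊗ₜ a) = algebraMap T (Matrix (Fin n) (Fin n) T) 1 * h' a from rfl, map_one, one_mul, one_mul] at h1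
    exact h1
  have hk' : ∀ a, h' a = P * h a * P' := fun a => by rw [← hk, mul_assoc, hPP', mul_one]
  let J := Jn T n
  have hJ2 : J * J = -1 := Jn_mul_self T hev
  have hJt : (J.map lamT)ᵀ = -J := by rw [show J.map lamT = J from Jn_map lamT.toRingHom n, Jn_transpose]
  let M := (P.map lamT)ᵀ * J * P
  have hM : ∀ a, M * h a = h a * M := fun a => by
    have e1 := hh' (t a)
    rw [t.invol, hk', hk', tr_mul, tr_mul] at e1
    have e2 : ((h (t a)).map lamT)ᵀ = h a := by
      have := hh a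
      rw [mul_one, one_mul] at this
      rw [this, tr_tr hlamT]
    rw [e2] at e1
    -- e1 : P * h a * P' * J = J * (λP' * (h a * λP))
    have e3 : (P.map lamT)ᵀ * (P'.map lamT)ᵀ = 1 := by rw [← tr_mul, hP'P, tr_one]
    have e4 := congr_arg (fun X => (P.map lamT)ᵀ * J * X * (J * P)) e1
    calc M * h a = -((P.map lamT)ᵀ * J * (P * h a * P' * J) * (J * P)) := by
          rw [show (P.map lamT)ᵀ * J * (P * h a * P' * J) * (J * P) =
            (P.map lamT)ᵀ * J * P * h a * (P' * (J * J) * P) by noncomm_ring, hJ2, mul_neg, mul_one, neg_mul, hP'P]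
          simp [M]
      _ = -((P.map lamT)ᵀ * (J * J) * ((P'.map lamT)ᵀ * (h a * (P.map lamT)ᵀ)) * (J * P)) := by
          rw [e1]; noncomm_ring
      _ = h a * M := by
          rw [hJ2, mul_neg, mul_one, neg_mul, neg_mul, neg_neg, ← mul_assoc (P.map lamT)ᵀ, e3, one_mul]
          simp only [M, mul_assoc]
  obtain ⟨c, hc⟩ := eq_scalar_of_commute (commute_all hn hrk h hM)
  have hMu : IsUnit M.det := by
    simp only [M, det_mul, det_transpose]
    refine ((?_ : IsUnit _).mul ?_).mul (isUnit_det_of_right_inverse hPP')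
    · rw [show (P.map lamT).det = lamT P.det from (lamT.toRingHom.map_det P).symm]
      exact (isUnit_det_of_right_inverse hPP').map lamT
    · exact isUnit_det_of_right_inverse (B := -J) (by rw [mul_neg, hJ2, neg_neg])
  have hcl : lamT c = -c := by
    have h1 : (M.map lamT)ᵀ = -M := by
      simp only [M, tr_mul, tr_tr hlamT, hJt, neg_mul, mul_neg, mul_assoc]
    rw [hc, tr_smul, tr_one, ← neg_smul] at h1
    simpa using congr_fun₂ h1 ⟨0, hn⟩ ⟨0, hn⟩
  have hcu : IsUnit c := by
    rw [hc, det_smul, det_one, mul_one, Fintype.card_fin] at hMu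
    exact (isUnit_pow_iff hn.ne').1 hMu
  have h3 := hid c
  rw [hcl, show -c - c = -(2 * c) by ring, Ideal.neg_mem_iff] at h3
  exact IsLocalRing.notMem_maximalIdeal.2 (h2.mul hcu) h3

end Groth.Agent.Lib.AzInvNormal
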