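import Groth.Prelude.Def_W4c2azumayainvolQEt
import Mathlib.RingTheory.Unramified.Field
import Mathlib.RingTheory.Kaehler.Polynomial
import Mathlib.RingTheory.Ideal.GoingUp
import Mathlib.RingTheory.LocalRing.Module
import Mathlib.RingTheory.Spectrum.Prime.Topology
import Mathlib.RingTheory.Localization.BaseChange
import Mathlib.RingTheory.Flat.Localization
import Mathlib.RingTheory.TensorProduct.Maps
import Mathlib.LinearAlgebra.Dimension.Constructions

/-!
# Commutative rings with involution: quadratic etale fixed rings, branch points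
-/

universe u v w

open scoped TensorProduct
open Polynomial

namespace Groth.Agent.Lib.RInvQuad

variable {S : Type u} {R : Type v} [CommRing S] [CommRing R] [Algebra S R]

theorem formallyUnramified_of_root (z : R) (P : S[X]) (hP : aeval z P = 0)
    (hu : IsUnit (aeval z (derivative P))) (hgen : ∀ x : R, ∃ q : S[X], aeval z q = x) :
    Algebra.FormallyUnramified S R := by
  refine ⟨subsingleton_of_forall_eq 0 fun w => ?_⟩
  have hD : KaehlerDifferential.D S R z = 0 := by
    have h0 := congr_arg (KaehlerDifferential.D S R) hP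
    rw [Derivation.map_aeval, map_zero] at h0
    exact hu.smul_eq_zero.mp h0
  have hw : w ∈ Submodule.span R (Set.range (KaehlerDifferential.D S R)) := by
    rw [KaehlerDifferential.span_range_derivation]; trivial
  induction hw using Submodule.span_induction with
  | mem w hw =>
    obtain ⟨x, rfl⟩ := hw
    obtain ⟨q, rfl⟩ := hgen x
    rw [Derivation.map_aeval, hD, smul_zero]
  | zero => rfl
  | add y z _ _ hy hz => rw [hy, hz, add_zero]
  | smul a y _ hy => rw [hy, smul_zero]

variable {lam : R ≃+* R} (hlam : Function.Involutive lam) (hS : RInv.IsFixedRing S R lam)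

section Fixed
include hS

theorem map_algebraMap (s : S) : lam (algebraMap S R s) = algebraMap S R s :=
  (hS.2 _).2 ⟨s, rfl⟩

theorem exists_of_fixed {x : R} (hx : lam x = x) : ∃ s : S, algebraMap S R s = x := (hS.2 x).1 hx

theorem isUnit_of_isUnit_algebraMap {s : S} (h : IsUnit (algebraMap S R s)) : IsUnit s := by
  obtain ⟨t, ht⟩ := exists_of_fixed hS (x := ((h.unit⁻¹ : Rˣ) : R)) (by
    apply h.mul_left_cancel
    have := congr_arg lam h.mul_val_inv
    rw [map_mul, map_algebraMap hS, map_one] at this
    rw [this, h.mul_val_inv])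
  exact IsUnit.of_mul_eq_one t (hS.1 (by rw [map_mul, ht, h.mul_val_inv, map_one]))

include hlam

theorem exists_trace (x : R) : ∃ s : S, algebraMap S R s = x + lam x :=
  exists_of_fixed hS (by rw [map_add, hlam x, add_comm])

theorem exists_norm (x : R) : ∃ s : S, algebraMap S R s = x * lam x :=
  exists_of_fixed hS (by rw [map_mul, hlam x, mul_comm])

theorem exists_sq (x : R) : ∃ a : S, algebraMap S R a = (x - lam x) ^ 2 :=
  exists_of_fixed hS (by rw [map_pow, map_sub, hlam x]; ring)

theorem isIntegral : Algebra.IsIntegral S R := by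
  refine ⟨fun x => ?_⟩
  obtain ⟨t, ht⟩ := exists_trace hlam hS x
  obtain ⟨n, hn⟩ := exists_norm hlam hS x
  refine ⟨X ^ 2 - C t * X + C n, by monicity!, ?_⟩
  simp only [eval₂_add, eval₂_sub, eval₂_mul, eval₂_pow, eval₂_C, eval₂_X, ht, hn]
  ring

/-- If `r - lam r` is a unit then `1, r` is a basis. -/
theorem existsUnique_coeff {r : R} (hr : IsUnit (r - lam r)) (x : R) :
    ∃! st : S × S, algebraMap S R st.1 + algebraMap S R st.2 * r = x := by
  obtain ⟨d, hd⟩ := hr
  have hdl : lam (d : R) = -(d : R) := by rw [hd, map_sub, hlam r]; ring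
  obtain ⟨t, ht⟩ := exists_of_fixed hS (x := (x - lam x) * ((d⁻¹ : Rˣ) : R)) (by
    apply d.isUnit.mul_right_cancel
    rw [mul_assoc, Units.inv_mul, mul_one, ← neg_neg (d : R), ← hdl, mul_neg, ← map_mul,
      mul_assoc, Units.inv_mul, mul_one, map_sub, hlam x, neg_sub])
  have ht' : algebraMap S R t * (r - lam r) = x - lam x := by
    rw [← hd, ht, mul_assoc, Units.inv_mul, mul_one]
  obtain ⟨s, hs⟩ := exists_of_fixed hS (x := x - algebraMap S R t * r) (by
    rw [map_sub, map_mul, map_algebraMap hS]
    linear_combination ht')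
  refine ⟨(s, t), by simp [hs], ?_⟩
  rintro ⟨s', t'⟩ h
  simp only at h
  have h2 := congr_arg lam h
  rw [map_add, map_mul, map_algebraMap hS, map_algebraMap hS] at h2
  have ht2 : t' = t := by
    refine hS.1 (d.isUnit.mul_right_cancel ?_)
    rw [hd, ht']
    linear_combination h - h2
  subst ht2
  refine Prod.ext (hS.1 ?_) rfl
  rw [hs]
  linear_combination h

noncomputable def coeffEquiv {r : R} (hr : IsUnit (r - lam r)) : (S × S) ≃ₗ[S] R :=
  LinearEquiv.ofBijective
    ((Algebra.linearMap S R).coprod (LinearMap.toSpanSingleton S R r))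
    ((Function.bijective_iff_existsUnique _).2 fun x => by
      simpa [Algebra.smul_def] using existsUnique_coeff hlam hS hr x)

theorem isQuadEtale_of_isUnit {r : R} (hr : IsUnit (r - lam r)) : RInv.IsQuadEtale S R := by
  let e := coeffEquiv hlam hS hr
  have := Module.Finite.equiv e
  have : Module.Free S R := Module.Free.of_equiv e
  obtain ⟨t, ht⟩ := exists_trace hlam hS r
  obtain ⟨n, hn⟩ := exists_norm hlam hS r
  refine ⟨inferInstance, inferInstance, formallyUnramified_of_root r (X ^ 2 - C t * X + C n) ?_ ?_ ?_, ?_⟩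
  · simp only [map_add, map_sub, map_mul, map_pow, aeval_X, aeval_C, ht, hn]
    ring
  · simp only [derivative_add, derivative_sub, derivative_C_mul, derivative_X_pow, derivative_X,
      derivative_C, map_add, map_sub, map_mul, map_pow, map_natCast, map_one, map_zero, aeval_X, aeval_C, ht]
    convert hr using 1
    push_cast
    ring
  · intro x
    obtain ⟨⟨s, t⟩, h, -⟩ := existsUnique_coeff hlam hS hr x
    exact ⟨C s + C t * X, by simpa using h⟩
  · intro p
    have : Nontrivial S := ⟨0, 1, fun h => p.2.ne_top (Ideal.eq_top_of_isUnit_mem _ p.1.zero_mem (h ▸ isUnit_one))⟩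
    rw [Module.rankAtStalk_eq_finrank_of_free, Pi.natCast_apply, Nat.cast_id, ← e.finrank_eq, Module.finrank_prod,
      Module.finrank_self]

section Local
variable [IsLocalRing S]

theorem exists_isUnit_of_isQuadEtale (hq : RInv.IsQuadEtale S R) : ∃ r : R, IsUnit (r - lam r) := by
  obtain ⟨hfin, hproj, hunr, hrk⟩ := hq
  have : Module.Free S R := Module.free_of_flat_of_isLocalRing
  have hr2 : Module.finrank S R = 2 := by
    have := hrk ⟨IsLocalRing.maximalIdeal S, inferInstance⟩
    simpa [Module.rankAtStalk_eq_finrank_of_free] using this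
  let b := (Module.finBasis S R).reindex (finCongr hr2)
  have h1 : ∃ i, IsUnit (b.repr 1 i) := by
    by_contra! h
    obtain ⟨q, hq, hqp⟩ : ∃ q : Ideal R, q.IsPrime ∧ q.comap (algebraMap S R) = IsLocalRing.maximalIdeal S := by
      have := isIntegral hlam hS
      obtain ⟨q, -, hq, h⟩ := Ideal.exists_ideal_over_prime_of_isIntegral
        (R := S) (S := R) (IsLocalRing.maximalIdeal S) ⊥ (by
          rw [← RingHom.ker_eq_comap_bot, (RingHom.injective_iff_ker_eq_bot _).1 hS.1]; exact bot_le)
      exact ⟨q, hq, h⟩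
    refine hq.ne_top ((Ideal.eq_top_iff_one _).2 ?_)
    rw [← b.sum_repr 1]
    refine Ideal.sum_mem _ fun i _ => ?_
    rw [Algebra.smul_def]
    exact Ideal.mul_mem_right _ _ (Ideal.mem_comap.1 (hqp ▸ h i))
  -- some r with basis 1, r
  obtain ⟨r, hr⟩ : ∃ r : R, ∀ x : R, ∃! st : S × S, algebraMap S R st.1 + algebraMap S R st.2 * r = x := by
    obtain ⟨i, hi⟩ := h1
    let j : Fin 2 := 1 - i
    have hsum : ∀ f : Fin 2 → R, ∑ k, f k = f i + f j := by
      intro f
      fin_cases i <;> simp [j, Fin.sum_univ_two, add_comm]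
    have hij : j ≠ i := by fin_cases i <;> simp [j]
    refine ⟨b j, fun x => ?_⟩
    have hone := (hsum fun k => b.repr 1 k • b k) ▸ b.sum_repr 1
    let u := hi.unit
    have hu : (u : S) = b.repr 1 i := rfl
    have key : ∀ st : S × S, algebraMap S R st.1 + algebraMap S R st.2 * b j = x ↔
        (st.1 * u = b.repr x i ∧ st.1 * b.repr 1 j + st.2 = b.repr x j) := by
      intro st
      rw [Algebra.algebraMap_eq_smul_one, ← Algebra.smul_def]
      constructor
      · rintro rfl
        simp [hu, hij, hij.symm]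
      · rintro ⟨h1, h2⟩
        conv_rhs => rw [← b.sum_repr x, hsum, ← h1, ← h2]
        conv_lhs => rw [← hone]
        simp only [smul_add, add_smul, smul_smul, hu]
        abel
    refine ⟨(b.repr x i * (u⁻¹ : Sˣ), b.repr x j - b.repr x i * (u⁻¹ : Sˣ) * b.repr 1 j), (key _).2 ⟨?_, ?_⟩, ?_⟩
    · simp [mul_assoc]
    · ring
    · intro st hst
      obtain ⟨h1, h2⟩ := (key st).1 hst
      ext
      · simp [← h1, mul_assoc]
      · simp [← h1, ← h2, mul_assoc]
  refine ⟨r, ?_⟩
  obtain ⟨⟨q, p⟩, hpq, -⟩ := hr (r * r)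
  obtain ⟨⟨a, c⟩, hac, -⟩ := hr (lam r)
  simp only at hpq hac
  obtain ⟨t, ht⟩ := exists_trace hlam hS r
  obtain ⟨n, hn⟩ := exists_norm hlam hS r
  have coeff : ∀ s t s' t' : S, algebraMap S R s + algebraMap S R t * r = algebraMap S R s' + algebraMap S R t' * r → t = t' :=
    fun s t s' t' h => congr_arg Prod.snd ((hr _).unique (y₁ := (s, t)) (y₂ := (s', t')) h rfl)
  have hc : c + 1 = 0 := by
    refine coeff a _ t 0 ?_
    rw [map_add, map_one, map_zero, zero_mul, add_zero, ht]
    linear_combination hac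
  have ha : a + c * p = 0 := by
    refine coeff (c * q) _ n 0 ?_
    rw [map_add, map_mul, map_mul, map_zero, zero_mul, add_zero, hn, ← hac]
    linear_combination algebraMap S R c * hpq
  have hd : r - lam r = 2 * r - algebraMap S R p := by
    have hap : a = p := by linear_combination ha - p * hc
    have hc' : c = -1 := by linear_combination hc
    rw [← hac, hap, hc', map_neg, map_one]; ring
  rw [hd]
  by_contra hu
  obtain ⟨M, hM, hdM⟩ := exists_max_ideal_of_mem_nonunits hu
  choose st hst using fun x => (hr x).exists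
  have uni : ∀ x s t, algebraMap S R s + algebraMap S R t * r = x → st x = (s, t) :=
    fun x s t h => (hr x).unique (hst x) h
  let D : R →ₗ[S] R ⧸ M :=
    { toFun := fun x => algebraMap S (R ⧸ M) (st x).2
      map_add' := fun x y => by
        rw [uni (x + y) ((st x).1 + (st y).1) ((st x).2 + (st y).2) (by
          simp only [map_add]; linear_combination hst x + hst y), map_add]
      map_smul' := fun c x => by
        rw [uni (c • x) (c * (st x).1) (c * (st x).2) (by
          rw [Algebra.smul_def]; simp only [map_mul]; linear_combination algebraMap S R c * hst x),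
          map_mul, RingHom.id_apply, Algebra.smul_def] }
  let D' : Derivation S R (R ⧸ M) := Derivation.mk' D fun x y => by
    rcases hx : st x with ⟨s1, t1⟩
    rcases hy : st y with ⟨s2, t2⟩
    have h1 := hst x; have h2 := hst y
    rw [hx] at h1; rw [hy] at h2
    simp only at h1 h2
    change algebraMap S (R ⧸ M) (st (x * y)).2 =
      x • algebraMap S (R ⧸ M) (st y).2 + y • algebraMap S (R ⧸ M) (st x).2
    rw [uni (x * y) (s1 * s2 + q * t1 * t2) (s1 * t2 + t1 * s2 + p * t1 * t2) (by
      rw [← h1, ← h2]; simp only [map_add, map_mul]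
      linear_combination algebraMap S R t1 * algebraMap S R t2 * hpq), hx, hy]
    simp only [IsScalarTower.algebraMap_apply S R (R ⧸ M), Algebra.smul_def, Ideal.Quotient.algebraMap_eq,
      Algebra.algebraMap_self, RingHom.id_apply]
    rw [← map_mul, ← map_mul, ← map_add, Ideal.Quotient.eq]
    rw [← h1, ← h2]
    convert M.mul_mem_left (-(algebraMap S R t1 * algebraMap S R t2)) hdM using 1
    simp only [map_add, map_mul]
    ring
  have hD1 : D' r = 1 := by
    change algebraMap S (R ⧸ M) (st r).2 = 1
    rw [uni r 0 1 (by simp), map_one]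
  rw [← Derivation.liftKaehlerDifferential_comp_D D' r, Subsingleton.elim (KaehlerDifferential.D S R r) 0,
    map_zero] at hD1
  exact zero_ne_one hD1

theorem map_le_jacobson : (IsLocalRing.maximalIdeal S).map (algebraMap S R) ≤ Ring.jacobson R := by
  have := isIntegral hlam hS
  rw [← Ideal.jacobson_bot, Ideal.jacobson]
  refine le_sInf fun M ⟨_, hM⟩ => Ideal.map_le_iff_le_comap.2 ?_
  rw [IsLocalRing.eq_maximalIdeal (Ideal.isMaximal_comap_of_isIntegral_of_isMaximal (R := S) M)]

theorem exists_isUnit_of_notMem_jacobson {r : R} (h : lam r - r ∉ Ring.jacobson R) :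
    IsUnit (r - lam r) := by
  obtain ⟨a, ha⟩ := exists_sq hlam hS r
  by_cases hu : IsUnit a
  · rw [← isUnit_pow_iff two_ne_zero, ← ha]; exact hu.map _
  · exfalso
    have h2 : (lam r - r) ^ 2 ∈ Ring.jacobson R := by
      rw [show (lam r - r) ^ 2 = (r - lam r) ^ 2 by ring, ← ha]
      exact map_le_jacobson hlam hS (Ideal.mem_map_of_mem _ hu)
    rw [← Ideal.jacobson_bot] at h h2
    refine h (Ideal.mem_sInf.2 fun M hM => ?_)
    exact hM.2.isPrime.mem_of_pow_mem _ (Ideal.mem_sInf.1 h2 hM)

theorem isLocalRing_of_forall_mem (h : ∀ r : R, lam r - r ∈ Ring.jacobson R) : IsLocalRing R := by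
  have := isIntegral hlam hS
  have : Nontrivial R := hS.1.nontrivial
  have hj : ∀ (M : Ideal R), M.IsMaximal → ∀ r, lam r - r ∈ M := fun M hM r => by
    have := h r
    rw [← Ideal.jacobson_bot, Ideal.jacobson, Ideal.mem_sInf] at this
    exact this ⟨bot_le, hM⟩
  obtain ⟨M, hM⟩ := Ideal.exists_maximal R
  refine IsLocalRing.of_unique_max_ideal ⟨M, hM, fun M' hM' => hM'.eq_of_le hM.ne_top fun x hx => ?_⟩
  obtain ⟨n, hn⟩ := exists_norm hlam hS x
  have h1 : n ∈ M'.comap (algebraMap S R) := by
    rw [Ideal.mem_comap, hn]; exact M'.mul_mem_right _ hx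
  have e1 := IsLocalRing.eq_maximalIdeal (Ideal.isMaximal_comap_of_isIntegral_of_isMaximal (R := S) M')
  have e2 := IsLocalRing.eq_maximalIdeal (Ideal.isMaximal_comap_of_isIntegral_of_isMaximal (R := S) M)
  rw [e1, ← e2, Ideal.mem_comap, hn] at h1
  rcases hM.isPrime.mem_or_mem h1 with h1 | h1
  · exact h1
  · simpa using M.sub_mem h1 (hj M hM x)

end Local
end Fixed

section Branch

variable (lam' : R ≃ₐ[S] R)

theorem isFixedRing_baseChange (S' : Type w) [CommRing S'] [Algebra S S']
    (hS : RInv.IsFixedRing S R lam'.toRingEquiv) (hl : Function.Involutive lam')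
    (h : Module.Flat S S' ∨ IsUnit (2 : S)) :
    RInv.IsFixedRing S' (S' ⊗[S] R)
      (Algebra.TensorProduct.congr (AlgEquiv.refl : S' ≃ₐ[S] S') lam').toRingEquiv := by
  let L := Algebra.TensorProduct.congr (AlgEquiv.refl : S' ≃ₐ[S] S') lam'
  have key : Function.Injective ((Algebra.linearMap S R).lTensor S') ∧
      Function.Exact ((Algebra.linearMap S R).lTensor S') ((lam'.toLinearMap - LinearMap.id).lTensor S') := by
    rcases h with h | h
    · refine ⟨Module.Flat.lTensor_preserves_injective_linearMap _ hS.1, Module.Flat.lTensor_exact _ fun x => ?_⟩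
      exact sub_eq_zero.trans (hS.2 x)
    · obtain ⟨i, hi⟩ := h.exists_right_inv
      have hrange : ∀ x : R, i • (x + lam' x) ∈ LinearMap.range (Algebra.linearMap S R) := fun x =>
        LinearMap.mem_range.2 ((hS.2 _).1 (by
          change lam' _ = _
          rw [map_smul, map_add, hl x, add_comm]))
      choose ρ hρ using hrange
      let ρ' : R →ₗ[S] S :=
        { toFun := ρ
          map_add' := fun x y => hS.1 (by
            have := hρ (x + y); have := hρ x; have := hρ y
            simp only [Algebra.linearMap_apply] at *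
            simp only [map_add, *]
            module)
          map_smul' := fun c x => hS.1 (by
            have := hρ (c • x); have := hρ x
            simp only [Algebra.linearMap_apply] at *
            simp only [smul_eq_mul, map_mul, RingHom.id_apply, *]
            rw [← Algebra.smul_def, map_smul]
            module) }
      have h1 : ρ' ∘ₗ Algebra.linearMap S R = LinearMap.id := LinearMap.ext fun s => hS.1 (by
        change algebraMap S R (ρ _) = algebraMap S R s
        have := hρ (algebraMap S R s)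
        simp only [Algebra.linearMap_apply, AlgEquiv.commutes] at this ⊢
        rw [this, ← two_mul, Algebra.smul_def, ← map_ofNat (algebraMap S R) 2, ← map_mul, ← map_mul,
          ← mul_assoc, mul_comm i 2, hi, one_mul])
      have h2 : Algebra.linearMap S R ∘ₗ ρ' = LinearMap.id + i • (lam'.toLinearMap - LinearMap.id) :=
        LinearMap.ext fun x => by
          change algebraMap S R (ρ x) = x + i • (lam' x - x)
          have := hρ x
          simp only [Algebra.linearMap_apply] at this
          have h2x : x = (2 * i) • x := by rw [hi, one_smul]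
          rw [this]
          conv_rhs => arg 1; rw [h2x]
          module
      have h1' : ρ'.lTensor S' ∘ₗ (Algebra.linearMap S R).lTensor S' = LinearMap.id := by
        rw [← LinearMap.lTensor_comp, h1, LinearMap.lTensor_id]
      refine ⟨Function.LeftInverse.injective (LinearMap.congr_fun h1'), fun y => ⟨fun hy => ⟨ρ'.lTensor S' y, ?_⟩, ?_⟩⟩
      · rw [← LinearMap.comp_apply, ← LinearMap.lTensor_comp, h2, LinearMap.lTensor_add, LinearMap.lTensor_smul,
          LinearMap.lTensor_id, LinearMap.add_apply, LinearMap.smul_apply, hy, smul_zero, add_zero,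
          LinearMap.id_apply]
      · rintro ⟨z, rfl⟩
        rw [← LinearMap.comp_apply, ← LinearMap.lTensor_comp]
        rw [show (lam'.toLinearMap - LinearMap.id) ∘ₗ Algebra.linearMap S R = 0 from LinearMap.ext fun s => by simp]
        simp
  have e1 : ∀ s' : S', algebraMap S' (S' ⊗[S] R) s' =
      (Algebra.linearMap S R).lTensor S' ((TensorProduct.rid S S').symm s') := fun s' => by
    simp [Algebra.TensorProduct.algebraMap_apply]
  refine ⟨?_, fun x => ?_⟩
  · intro a b hab
    rw [e1, e1] at hab
    exact (TensorProduct.rid S S').symm.injective (key.1 hab)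
  · have e2 : (lam'.toLinearMap - LinearMap.id).lTensor S' x = L x - x := by
      rw [LinearMap.lTensor_sub, LinearMap.sub_apply, LinearMap.lTensor_id, LinearMap.id_apply]
      rfl
    constructor
    · intro hx
      obtain ⟨z, hz⟩ := (key.2 x).1 (by rw [e2]; exact sub_eq_zero.2 hx)
      exact ⟨TensorProduct.rid S S' z, by rw [e1, LinearEquiv.symm_apply_apply, hz]⟩
    · rintro ⟨s', rfl⟩
      exact L.toAlgHom.toRingHom.congr_arg rfl |>.trans (by
        change Algebra.TensorProduct.map (AlgHom.id S S') lam'.toAlgHom (s' ⊗ₜ[S] (1 : R)) = _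
        simp [Algebra.TensorProduct.algebraMap_apply])

/-- `lam` as an `S`-algebra automorphism. -/
noncomputable def algEquiv (hS : RInv.IsFixedRing S R lam) : R ≃ₐ[S] R :=
  AlgEquiv.ofRingEquiv (f := lam) (map_algebraMap hS)

include hlam hS

theorem atPrime_iff (p : PrimeSpectrum S) :
    RInv.IsQuadEtale (Localization.AtPrime p.asIdeal) (Localization.AtPrime p.asIdeal ⊗[S] R) ↔
      ∃ (r : R) (a : S), algebraMap S R a = (r - lam r) ^ 2 ∧ a ∉ p.asIdeal := by
  let Sp := Localization.AtPrime p.asIdeal
  let L := Algebra.TensorProduct.congr (AlgEquiv.refl : Sp ≃ₐ[S] Sp) (algEquiv hS)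
  have hl : Function.Involutive L.toRingEquiv := fun x => by
    change L (L x) = x
    induction x using TensorProduct.induction_on with
    | zero => simp
    | tmul a r => simp [L, algEquiv, hlam r]
    | add x y hx hy => simp [hx, hy]
  have hfix : RInv.IsFixedRing Sp (Sp ⊗[S] R) L.toRingEquiv :=
    isFixedRing_baseChange (algEquiv hS) Sp hS hlam
      (Or.inl (IsLocalization.flat Sp p.asIdeal.primeCompl))
  have hd : ∀ r : R, ((1 : Sp) ⊗ₜ[S] r - L.toRingEquiv ((1 : Sp) ⊗ₜ[S] r)) = (1 : Sp) ⊗ₜ[S] (r - lam r) := by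
    intro r
    rw [TensorProduct.tmul_sub]
    rfl
  have hmap : ∀ (r : R) (a : S), algebraMap S R a = (r - lam r) ^ 2 →
      ((1 : Sp) ⊗ₜ[S] (r - lam r)) ^ 2 = algebraMap Sp (Sp ⊗[S] R) (algebraMap S Sp a) := by
    intro r a ha
    rw [Algebra.TensorProduct.tmul_pow, one_pow, ← ha, Algebra.algebraMap_eq_smul_one (R := S) (A := R),
      TensorProduct.tmul_smul, TensorProduct.smul_tmul', Algebra.TensorProduct.algebraMap_apply,
      ← Algebra.algebraMap_eq_smul_one]
    rfl
  constructor
  · intro h
    obtain ⟨z, hz⟩ := exists_isUnit_of_isQuadEtale hl hfix h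
    obtain ⟨s, r, hr⟩ : ∃ (s : p.asIdeal.primeCompl) (r : R), (s : S) • z = (1 : Sp) ⊗ₜ[S] r := by
      clear hz
      induction z using TensorProduct.induction_on with
      | zero => exact ⟨1, 0, by simp⟩
      | tmul a r =>
        obtain ⟨x, s, rfl⟩ := IsLocalization.exists_mk'_eq p.asIdeal.primeCompl a
        refine ⟨s, x • r, ?_⟩
        rw [TensorProduct.smul_tmul', TensorProduct.tmul_smul, TensorProduct.smul_tmul', Algebra.smul_def,
          IsLocalization.mk'_spec'_mk, Algebra.algebraMap_eq_smul_one]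
      | add x y hx hy =>
        obtain ⟨s, r, hr⟩ := hx
        obtain ⟨s', r', hr'⟩ := hy
        refine ⟨s * s', (s' : S) • r + (s : S) • r', ?_⟩
        rw [TensorProduct.tmul_add, TensorProduct.tmul_smul, TensorProduct.tmul_smul, ← hr, ← hr', smul_add,
          smul_smul, smul_smul, Submonoid.coe_mul, mul_comm (s' : S)]
    obtain ⟨a, ha⟩ := exists_sq hlam hS r
    refine ⟨r, a, ha, fun hap => ?_⟩
    have hu : IsUnit ((1 : Sp) ⊗ₜ[S] (r - lam r)) := by
      rw [← hd, ← hr, show L.toRingEquiv ((s : S) • z) = (s : S) • L.toRingEquiv z from map_smul L _ _,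
        Algebra.smul_def, Algebra.smul_def, ← mul_sub, IsScalarTower.algebraMap_apply S Sp (Sp ⊗[S] R)]
      exact ((IsLocalization.map_units Sp s).map _).mul hz
    have : IsUnit (algebraMap S Sp a) := isUnit_of_isUnit_algebraMap hfix (hmap r a ha ▸ hu.pow 2)
    exact (IsLocalization.AtPrime.isUnit_to_map_iff Sp p.asIdeal a).1 this hap
  · rintro ⟨r, a, ha, hap⟩
    refine isQuadEtale_of_isUnit hl hfix (r := (1 : Sp) ⊗ₜ[S] r) ?_
    rw [hd, ← isUnit_pow_iff two_ne_zero, hmap r a ha]
    exact (IsLocalization.map_units Sp (⟨a, hap⟩ : p.asIdeal.primeCompl)).map _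

theorem mem_iff_of_sq {r : R} {a : S} (ha : algebraMap S R a = (r - lam r) ^ 2) (q : PrimeSpectrum R) :
    a ∈ q.asIdeal.comap (algebraMap S R) ↔ lam r - r ∈ q.asIdeal := by
  rw [Ideal.mem_comap, ha, show (r - lam r) ^ 2 = (lam r - r) ^ 2 by ring,
    q.2.pow_mem_iff_mem 2 (by norm_num)]

theorem eq_of_forall_mem {q q' : PrimeSpectrum R}
    (h : q.asIdeal.comap (algebraMap S R) = q'.asIdeal.comap (algebraMap S R))
    (hq : ∀ r : R, lam r - r ∈ q.asIdeal) (hq' : ∀ r : R, lam r - r ∈ q'.asIdeal) : q = q' := by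
  have key : ∀ q q' : PrimeSpectrum R, q.asIdeal.comap (algebraMap S R) = q'.asIdeal.comap (algebraMap S R) →
      (∀ r : R, lam r - r ∈ q'.asIdeal) → q.asIdeal ≤ q'.asIdeal := by
    intro q q' h hq' x hx
    obtain ⟨n, hn⟩ := exists_norm hlam hS x
    have h1 : n ∈ q.asIdeal.comap (algebraMap S R) := by rw [Ideal.mem_comap, hn]; exact q.asIdeal.mul_mem_right _ hx
    rw [h, Ideal.mem_comap, hn] at h1
    rcases q'.2.mem_or_mem h1 with h1 | h1
    · exact h1
    · simpa using q'.asIdeal.sub_mem h1 (hq' x)
  exact PrimeSpectrum.ext (le_antisymm (key q q' h hq') (key q' q h.symm hq))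

theorem exists_over (p : PrimeSpectrum S) :
    ∃ q : PrimeSpectrum R, q.asIdeal.comap (algebraMap S R) = p.asIdeal := by
  have := isIntegral hlam hS
  obtain ⟨q, -, hq, h⟩ := Ideal.exists_ideal_over_prime_of_isIntegral (R := S) (S := R) p.asIdeal ⊥
    (by rw [← RingHom.ker_eq_comap_bot, (RingHom.injective_iff_ker_eq_bot _).1 hS.1]; exact bot_le)
  exact ⟨⟨q, hq⟩, h⟩

theorem branch_iff (p : PrimeSpectrum S) :
    ¬ RInv.IsQuadEtale (Localization.AtPrime p.asIdeal) (Localization.AtPrime p.asIdeal ⊗[S] R) ↔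
      ∀ (r : R) (a : S), algebraMap S R a = (r - lam r) ^ 2 → a ∈ p.asIdeal := by
  rw [atPrime_iff hlam hS p]; push_neg; rfl

theorem sub_mem_of_branch {p : PrimeSpectrum S}
    (hp : ¬ RInv.IsQuadEtale (Localization.AtPrime p.asIdeal) (Localization.AtPrime p.asIdeal ⊗[S] R))
    {q : PrimeSpectrum R} (hq : q.asIdeal.comap (algebraMap S R) = p.asIdeal) (r : R) :
    lam r - r ∈ q.asIdeal := by
  obtain ⟨a, ha⟩ := exists_sq hlam hS r
  rw [← mem_iff_of_sq hlam hS ha q, hq]
  exact (branch_iff hlam hS p).1 hp r a ha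

theorem sub_mem_radical {W : Set (PrimeSpectrum S)}
    (hW : W = {p : PrimeSpectrum S | ¬ RInv.IsQuadEtale (Localization.AtPrime p.asIdeal) (Localization.AtPrime p.asIdeal ⊗[S] R)})
    (r : R) : lam r - r ∈ ((PrimeSpectrum.vanishingIdeal W).map (algebraMap S R)).radical := by
  obtain ⟨a, ha⟩ := exists_sq hlam hS r
  refine ⟨2, ?_⟩
  rw [show (lam r - r) ^ 2 = (r - lam r) ^ 2 by ring, ← ha]
  refine Ideal.mem_map_of_mem _ ((PrimeSpectrum.mem_vanishingIdeal W a).2 fun p hp => ?_)
  rw [hW] at hp
  exact (branch_iff hlam hS p).1 hp r a ha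

end Branch

end Groth.Agent.Lib.RInvQuad
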