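import Groth.Agent.Lib.RInvQuad
import Groth.Agent.Lib.EtSite.LimTensor
import Groth.Agent.Lib.Henselian.EtaleHom
import Groth.Agent.S15574
import Mathlib

/-!
# A ring with involution at a geometric point of its fixed ring

* `exists_point`: an étale algebra has a point over every geometric point of its image
* `exists_sqrt_of_two`, `exists_sqrt_of_hsq`: units of `Lim S Ω` are squares
* `forall_sub_mem`, `exists_sub_notMem`: ramification of `Lim S Ω ⊗ R` read off on `R`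
-/

universe u v

open scoped TensorProduct
open Groth.Agent.Lib.Henselian.Pointed Groth.Agent.Lib.EtSite.LimTensor

namespace Groth.Agent.Lib.AzInvPoint

variable {S : Type u} [CommRing S]

theorem exists_point {S' : Type u} [CommRing S'] [Algebra S S'] [Algebra.Etale S S'] {p : PrimeSpectrum S}
    (hp : p ∈ Set.range (PrimeSpectrum.comap (algebraMap S S'))) {Ω : Type u} [Field Ω] [IsAlgClosed Ω] [Algebra S Ω]
    (hker : RingHom.ker (algebraMap S Ω) = p.asIdeal) : Nonempty (S' →ₐ[S] Ω) := by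
  obtain ⟨Q, rfl⟩ := hp
  let q := (PrimeSpectrum.comap (algebraMap S S') Q).asIdeal
  let κ := q.ResidueField
  let ι : κ →+* Ω := Ideal.ResidueField.lift q (algebraMap S Ω) (by rw [hker]) (by
    intro x hx
    refine IsUnit.mk0 _ fun h0 => hx ?_
    have : x ∈ RingHom.ker (algebraMap S Ω) := h0
    rwa [hker] at this)
  let K := Q.asIdeal.ResidueField
  let j : κ →+* K := Ideal.ResidueField.map q Q.asIdeal (algebraMap S S') rfl
  let _ : Algebra κ Ω := ι.toAlgebra
  let _ : Algebra κ K := j.toAlgebra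
  let F := Ω ⊗[κ] K
  let _ : Algebra S F := ((Algebra.TensorProduct.includeLeftRingHom (R := κ) (A := Ω) (B := K)).comp (algebraMap S Ω)).toAlgebra
  let f : Ω →ₐ[S] F := { Algebra.TensorProduct.includeLeftRingHom with commutes' := fun s => rfl }
  let g : S' →ₐ[S] F :=
    { (Algebra.TensorProduct.includeRight (R := κ) (A := Ω) (B := K)).toRingHom.comp (algebraMap S' K) with
      commutes' := fun s => by
        change (1 : Ω) ⊗ₜ[κ] algebraMap S' K (algebraMap S S' s) = algebraMap S Ω s ⊗ₜ[κ] (1 : K)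
        have e1 : algebraMap S' K (algebraMap S S' s) = j (algebraMap S κ s) :=
          (Ideal.ResidueField.map_algebraMap q Q.asIdeal (algebraMap S S') rfl s).symm
        have e2 : algebraMap S Ω s = ι (algebraMap S κ s) := (Ideal.ResidueField.lift_algebraMap _ _ _ _ s).symm
        rw [e1, e2, show j (algebraMap S κ s) = algebraMap κ K (algebraMap S κ s) from rfl,
          show ι (algebraMap S κ s) = algebraMap κ Ω (algebraMap S κ s) from rfl,
          Algebra.TensorProduct.tmul_one_eq_one_tmul] }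
  have hne : Nontrivial (Ω ⊗[S] S') := (Algebra.TensorProduct.productMap f g).toRingHom.domain_nontrivial
  obtain ⟨m, hm⟩ := Ideal.exists_maximal (Ω ⊗[S] S')
  let _ : Field ((Ω ⊗[S] S') ⧸ m) := Ideal.Quotient.field m
  let σ : Ω ⊗[S] S' →ₐ[Ω] (Ω ⊗[S] S') ⧸ m := Ideal.Quotient.mkₐ Ω m
  have hsurj : Function.Surjective (algebraMap Ω ((Ω ⊗[S] S') ⧸ m)) := fun y => by
    obtain ⟨z, rfl⟩ := Ideal.Quotient.mk_surjective y
    exact Groth.Agent.Lib.Henselian.EtaleHom.mem_range_of_isSepClosed σ z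
  let e : Ω ≃ₐ[Ω] (Ω ⊗[S] S') ⧸ m :=
    AlgEquiv.ofBijective (Algebra.ofId Ω _) ⟨(algebraMap Ω ((Ω ⊗[S] S') ⧸ m)).injective, hsurj⟩
  exact ⟨((e.symm.toAlgHom.comp σ).restrictScalars S).comp Algebra.TensorProduct.includeRight⟩

section Sqrt

variable {Ω : Type u} [Field Ω] [Algebra S Ω]

theorem exists_sqrt_of_two [IsAlgClosed Ω] (h2 : IsUnit (2 : S)) (x : (Lim S Ω)ˣ) : ∃ y : Lim S Ω, y * y = x := by
  let L := Lim S Ω
  let κ := IsLocalRing.ResidueField L
  have h2L : IsUnit (2 : L) := by have := h2.map (algebraMap S L); rwa [map_ofNat] at this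
  have h2κ : (2 : κ) ≠ 0 := by have := h2L.map (IsLocalRing.residue L); rw [map_ofNat] at this; exact this.ne_zero
  have : NeZero (2 : κ) := ⟨h2κ⟩
  obtain ⟨z, hz⟩ := IsSepClosed.exists_eq_mul_self (IsLocalRing.residue L (x : L))
  obtain ⟨z, rfl⟩ := IsLocalRing.residue_surjective z
  have hzu : IsUnit z := by
    refine IsUnit.of_map (IsLocalRing.residue L) z (IsUnit.mk0 _ fun h0 => ?_)
    rw [h0, mul_zero] at hz
    exact (x.isUnit.map (IsLocalRing.residue L)).ne_zero hz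
  obtain ⟨y, hy, -⟩ := HenselianLocalRing.is_henselian (Polynomial.X ^ 2 - Polynomial.C (x : L))
    (Polynomial.monic_X_pow_sub_C _ two_ne_zero) z
    (by rw [Polynomial.eval_sub, Polynomial.eval_pow, Polynomial.eval_X, Polynomial.eval_C,
          ← Ideal.Quotient.eq, map_pow, pow_two]; exact hz.symm)
    (by simpa [one_add_one_eq_two] using (h2L.mul hzu))
  refine ⟨y, ?_⟩
  rw [Polynomial.IsRoot, Polynomial.eval_sub, Polynomial.eval_pow, Polynomial.eval_X, Polynomial.eval_C, sub_eq_zero,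
    pow_two] at hy
  exact hy

theorem exists_sqrt_of_hsq [IsAlgClosed Ω]
    (hsq : ∀ (S₁ : Type u) [CommRing S₁] [Algebra S S₁] [Algebra.Etale S S₁] (x : S₁ˣ),
      ∃ (S₂ : Type u) (_ : CommRing S₂) (_ : Algebra S₁ S₂) (_ : Algebra.Etale S₁ S₂)
        (_ : Module.FaithfullyFlat S₁ S₂) (y : S₂), y * y = algebraMap S₁ S₂ ↑x)
    (x : (Lim S Ω)ˣ) : ∃ y : Lim S Ω, y * y = x := by
  classical
  obtain ⟨N, -, hN⟩ := Stage.exists_range (Stage.base (R := S) (Ω := Ω)) ({(x : Lim S Ω), ((x⁻¹ : (Lim S Ω)ˣ) : Lim S Ω)})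
  obtain ⟨a, ha⟩ := hN (by simp : (x : Lim S Ω) ∈ _)
  obtain ⟨b, hb⟩ := hN (by simp : ((x⁻¹ : (Lim S Ω)ˣ) : Lim S Ω) ∈ _)
  obtain ⟨K, ψ, hψ⟩ := Stage.exists_eq_zero₁ N (a * b - 1) (by rw [map_sub, map_mul, ha, hb, Units.mul_inv, map_one, sub_self])
  rw [map_sub, map_mul, map_one, sub_eq_zero] at hψ
  obtain ⟨S₂, _, _, _, _, y, hy⟩ := hsq K.S (Units.mkOfMulEqOne _ _ hψ)
  let γ : K.S →ₐ[S] Ω := (Lim.α S Ω).comp K.toLim
  let _ : Algebra K.S Ω := γ.toRingHom.toAlgebra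
  have : IsScalarTower S K.S Ω := IsScalarTower.of_algebraMap_eq fun s => (γ.commutes s).symm
  let P : PrimeSpectrum K.S := ⟨RingHom.ker (algebraMap K.S Ω), RingHom.ker_isPrime _⟩
  obtain ⟨γ₂⟩ := exists_point (S := K.S) (S' := S₂) (p := P)
    (PrimeSpectrum.comap_surjective_of_faithfullyFlat P) (Ω := Ω) rfl
  let _ : Algebra S S₂ := ((algebraMap K.S S₂).comp (algebraMap S K.S)).toAlgebra
  have : IsScalarTower S K.S S₂ := IsScalarTower.of_algebraMap_eq fun _ => rfl
  have : Algebra.Etale S S₂ := Algebra.Etale.comp S K.S S₂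
  obtain ⟨φ, hφ, -⟩ := Lim.existsUnique_map S₂ (γ₂.restrictScalars S)
  have hc : φ.comp (IsScalarTower.toAlgHom S K.S S₂) = K.toLim := by
    refine Groth.Agent.Lib.Henselian.Etale.algHom_ext_of_isLocalHom (Lim.α S Ω : Lim S Ω →+* Ω) _ _ fun z => ?_
    exact (AlgHom.congr_fun hφ (algebraMap K.S S₂ z)).trans (γ₂.commutes z)
  refine ⟨φ y, ?_⟩
  rw [← map_mul, hy, ← ha]
  exact (AlgHom.congr_fun hc (ψ.1 a)).trans (AlgHom.congr_fun ψ.2 a)

theorem comap_maximalIdeal :
    (IsLocalRing.maximalIdeal (Lim S Ω)).comap (algebraMap S (Lim S Ω)) = RingHom.ker (algebraMap S Ω) := by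
  ext s
  rw [Ideal.mem_comap, maximalIdeal_eq_ker, RingHom.mem_ker, RingHom.mem_ker]
  change Lim.α S Ω (algebraMap S (Lim S Ω) s) = 0 ↔ _
  rw [AlgHom.commutes]

variable {R : Type v} [CommRing R] [Algebra S R] (lam : R ≃ₐ[S] R) (hlam : ∀ r, lam (lam r) = r)
  (hfix : RInv.IsFixedRing S R lam.toRingEquiv)

/-- `lam` on `Lim S Ω ⊗ R`. -/
noncomputable abbrev lamL : (Lim S Ω ⊗[S] R) ≃+* (Lim S Ω ⊗[S] R) :=
  (Algebra.TensorProduct.congr (AlgEquiv.refl : Lim S Ω ≃ₐ[S] Lim S Ω) lam).toRingEquiv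

theorem lamL_tmul (a : Lim S Ω) (r : R) : lamL (Ω := Ω) lam (a ⊗ₜ[S] r) = a ⊗ₜ[S] lam r := rfl

include hlam in
theorem lamL_invol : Function.Involutive (lamL (Ω := Ω) lam) := fun x => by
  change Algebra.TensorProduct.congr (AlgEquiv.refl : Lim S Ω ≃ₐ[S] Lim S Ω) lam
    (Algebra.TensorProduct.congr (AlgEquiv.refl : Lim S Ω ≃ₐ[S] Lim S Ω) lam x) = x
  induction x using TensorProduct.induction_on with
  | zero => simp
  | tmul a r => simp [hlam r]
  | add x y hx hy => rw [map_add, map_add, hx, hy]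

include hlam hfix in
theorem lamL_fix : RInv.IsFixedRing (Lim S Ω) (Lim S Ω ⊗[S] R) (lamL lam) :=
  Groth.Agent.Lib.RInvQuad.isFixedRing_baseChange lam (Lim S Ω) hfix hlam (Or.inl inferInstance)

include hlam hfix in
theorem nontrivial : Nontrivial (Lim S Ω ⊗[S] R) := (lamL_fix (Ω := Ω) lam hlam hfix).1.nontrivial

include hlam hfix in
theorem forall_sub_mem
    (h : ∀ (r : R) (a : S), algebraMap S R a = (r - lam r) ^ 2 → a ∈ RingHom.ker (algebraMap S Ω)) :
    ∀ x : Lim S Ω ⊗[S] R, lamL lam x - x ∈ Ring.jacobson (Lim S Ω ⊗[S] R) := fun x => by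
  have hj := Groth.Agent.Lib.RInvQuad.map_le_jacobson (lamL_invol (Ω := Ω) lam hlam) (lamL_fix lam hlam hfix)
  induction x using TensorProduct.induction_on with
  | zero => simp
  | add a b ha hb =>
    rw [map_add, add_sub_add_comm]
    exact add_mem ha hb
  | tmul c r =>
    obtain ⟨a, ha⟩ := Groth.Agent.Lib.RInvQuad.exists_sq (lam := lam.toRingEquiv) hlam hfix r
    have h1 : algebraMap S (Lim S Ω) a ∈ IsLocalRing.maximalIdeal (Lim S Ω) := by
      rw [← Ideal.mem_comap, comap_maximalIdeal]; exact h r a ha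
    have h2 := Ideal.mul_mem_left _ ((c * c) ⊗ₜ[S] (1 : R)) (hj (Ideal.mem_map_of_mem _ h1))
    rw [lamL_tmul, ← TensorProduct.tmul_sub]
    have h3 : (c ⊗ₜ[S] (lam r - r)) ^ 2 = ((c * c) ⊗ₜ[S] (1 : R)) * algebraMap (Lim S Ω) (Lim S Ω ⊗[S] R) (algebraMap S (Lim S Ω) a) := by
      rw [Algebra.TensorProduct.algebraMap_apply, Algebra.algebraMap_self, RingHom.id_apply,
        Algebra.TensorProduct.tmul_mul_tmul, one_mul, Algebra.TensorProduct.tmul_pow, pow_two c,
        Algebra.algebraMap_eq_smul_one, mul_smul_comm, mul_one, TensorProduct.smul_tmul, ← Algebra.algebraMap_eq_smul_one,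
        ha]
      congr 1
      change _ = (r - lam r) ^ 2
      ring
    rw [← h3] at h2
    rw [← Ideal.jacobson_bot] at h2 ⊢
    exact (Ideal.isRadical_jacobson _ : (Ideal.jacobson (⊥ : Ideal (Lim S Ω ⊗[S] R))).IsRadical) ⟨2, h2⟩

include hlam hfix in
theorem exists_sub_notMem (hq : RInv.IsQuadEtale S R) :
    ∃ x : Lim S Ω ⊗[S] R, lamL lam x - x ∉ Ring.jacobson (Lim S Ω ⊗[S] R) := by
  obtain ⟨hf, hp, hu, hr⟩ := hq
  have hqT : RInv.IsQuadEtale (Lim S Ω) (Lim S Ω ⊗[S] R) := ⟨inferInstance, inferInstance, inferInstance,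
    fun P => by rw [Module.rankAtStalk_baseChange, hr]⟩
  obtain ⟨x, hx⟩ := Groth.Agent.S15574.result (Lim S Ω) _ (lamL lam) (lamL_invol lam hlam) (lamL_fix lam hlam hfix) hqT
  have := nontrivial (Ω := Ω) lam hlam hfix
  refine ⟨x, fun h => ?_⟩
  rw [← neg_sub, Ideal.neg_mem_iff] at h
  have h1 := Ideal.eq_top_of_isUnit_mem _ h hx
  rw [← Ideal.jacobson_bot, Ideal.jacobson_eq_top_iff] at h1
  exact bot_ne_top h1

end Sqrt

end Groth.Agent.Lib.AzInvPoint
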