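import Groth.Agent.Lib.AzInvTypeGlobal
import Groth.Agent.Lib.Brauer.InvolutionType
import Mathlib

/-!
# The type at a ramified prime read off the span of the symmetric elements

* `orth_iff_finrank`: `Orth` iff the symmetric elements span a space of dimension `n (n + 1) / 2`
* `sameType_iff`, `exists_nhd`: consequences
-/

universe u v w w'

open scoped TensorProduct
open Matrix Groth.Agent.Lib.Henselian.Pointed Groth.Agent.Lib.EtSite.LimTensor
open Groth.Agent.Lib.AzInvNormal Groth.Agent.Lib.AzInvPoint Groth.Agent.Lib.AzInvType Groth.Agent.Lib.AzInvTypeMain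
open Groth.Agent.Lib.AzInvTypeGlobal Groth.Agent.Lib.Brauer.InvolutionType

namespace Groth.Agent.Lib.AzInvSpan

attribute [local instance] Algebra.TensorProduct.rightAlgebra

theorem choose_ne {n : ℕ} (hn : 0 < n) : Nat.choose n 2 ≠ Nat.choose (n + 1) 2 := by
  have := Nat.choose_succ_succ' n 1
  rw [Nat.choose_one_right] at this
  simp only [show (1 + 1 : ℕ) = 2 from rfl] at this
  omega

/-- `X ↦ W Xᵀ W'`. -/
noncomputable def sW {K : Type u} [Field K] {n : ℕ} (W W' : Matrix (Fin n) (Fin n) K) :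
    Matrix (Fin n) (Fin n) K →ₗ[K] Matrix (Fin n) (Fin n) K :=
  LinearMap.mulLeft K W ∘ₗ LinearMap.mulRight K W' ∘ₗ τ K n

theorem sW_apply {K : Type u} [Field K] {n : ℕ} (W W' X : Matrix (Fin n) (Fin n) K) : sW W W' X = W * (Xᵀ * W') := rfl

theorem finrank_sW_one (K : Type u) [Field K] (n : ℕ) :
    Module.finrank K ↥(LinearMap.ker (sW (1 : Matrix (Fin n) (Fin n) K) 1 - LinearMap.id)) = Nat.choose (n + 1) 2 := by
  rw [show sW (1 : Matrix (Fin n) (Fin n) K) 1 = τ K n from LinearMap.ext fun X => by rw [sW_apply, one_mul, mul_one]; rfl]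
  exact finrank_sym K n

theorem finrank_sW_Jn (K : Type u) [Field K] (h2 : (2 : K) ≠ 0) {n : ℕ} (hev : Even n) :
    Module.finrank K ↥(LinearMap.ker (sW (Jn K n) (-Jn K n) - LinearMap.id)) = Nat.choose n 2 := by
  have hJ := Jn_mul_self K hev
  have hJt := Jn_transpose K n
  let Φ : Matrix (Fin n) (Fin n) K ≃ₗ[K] Matrix (Fin n) (Fin n) K :=
    LinearEquiv.ofLinear (LinearMap.mulRight K (Jn K n)) (LinearMap.mulRight K (-Jn K n))
      (LinearMap.ext fun X => by simp [mul_assoc, hJ]) (LinearMap.ext fun X => by simp [mul_assoc, hJ])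
  rw [← finrank_skew K n h2]
  refine finrank_ker_of_conj _ _ Φ fun X => ?_
  have key : (τ K n + LinearMap.id : Matrix (Fin n) (Fin n) K →ₗ[K] Matrix (Fin n) (Fin n) K) (Φ X) =
      -Φ ((sW (Jn K n) (-Jn K n) - LinearMap.id : Matrix (Fin n) (Fin n) K →ₗ[K] Matrix (Fin n) (Fin n) K) X) := by
    simp only [LinearMap.add_apply, LinearMap.sub_apply, LinearMap.id_apply, sW_apply, Φ,
      LinearEquiv.ofLinear_apply, LinearMap.mulRight_apply, τ, LinearEquiv.coe_coe,
      Matrix.transposeLinearEquiv_apply, Matrix.transposeAddEquiv_apply, Matrix.transpose_mul, hJt]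
    change (X * Jn K n)ᵀ + X * Jn K n = _
    rw [Matrix.transpose_mul, hJt, neg_mul, sub_mul, mul_assoc (Jn K n), mul_assoc Xᵀ (-Jn K n), neg_mul (Jn K n) (Jn K n),
      hJ, neg_neg, mul_one]
    abel
  rw [key, neg_eq_zero, LinearEquiv.map_eq_zero_iff]

variable {S : Type u} {R : Type v} [CommRing S] [CommRing R] [Algebra S R] (lam : R ≃ₐ[S] R)
  (hlam : ∀ r, lam (lam r) = r) (hfix : RInv.IsFixedRing S R lam.toRingEquiv)
  {A : Type w} [Ring A] [Algebra S A] [Algebra R A] [IsScalarTower S R A]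

include hlam hfix

theorem ram_of_prime {q : PrimeSpectrum R} (hq : ∀ r : R, lam r - r ∈ q.asIdeal) (r : R) (a : S)
    (ha : algebraMap S R a = (r - lam r) ^ 2) : a ∈ q.asIdeal.comap (algebraMap S R) := by
  rw [Ideal.mem_comap, ha]
  refine Ideal.pow_mem_of_mem _ ?_ 2 two_pos
  rw [← neg_sub, Ideal.neg_mem_iff]
  exact hq r

theorem mem_of_forall {Ω : Type u} [Field Ω] [Algebra S Ω]
    (hid : ∀ x : Lim S Ω ⊗[S] R, lamL lam x - x ∈ Ring.jacobson (Lim S Ω ⊗[S] R)) (r : R) (a : S)
    (ha : algebraMap S R a = (r - lam r) ^ 2) : a ∈ RingHom.ker (algebraMap S Ω) := by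
  by_contra hne
  have := AzInvPoint.nontrivial (Ω := Ω) lam hlam hfix
  have hu : IsUnit (algebraMap S (Lim S Ω) a) := by
    rw [← comap_maximalIdeal (Ω := Ω), Ideal.mem_comap, IsLocalRing.mem_maximalIdeal, mem_nonunits_iff, not_not] at hne
    exact hne
  have hx := hid ((1 : Lim S Ω) ⊗ₜ[S] r)
  rw [lamL_tmul, ← TensorProduct.tmul_sub] at hx
  have hu' : IsUnit (algebraMap S (Lim S Ω ⊗[S] R) a) := by
    rw [IsScalarTower.algebraMap_apply S (Lim S Ω) (Lim S Ω ⊗[S] R)]; exact hu.map _
  have he : algebraMap S (Lim S Ω ⊗[S] R) a = ((1 : Lim S Ω) ⊗ₜ[S] (lam r - r)) ^ 2 := by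
    rw [← (Algebra.TensorProduct.includeRight : R →ₐ[S] Lim S Ω ⊗[S] R).commutes a,
      Algebra.TensorProduct.includeRight_apply, ha, Algebra.TensorProduct.tmul_pow, one_pow]
    congr 1
    ring
  have h1 := Ideal.eq_top_of_isUnit_mem _ hx ((isUnit_pow_iff two_ne_zero).1 (he ▸ hu'))
  rw [← Ideal.jacobson_bot, Ideal.jacobson_eq_top_iff] at h1
  exact bot_ne_top h1

theorem orth_iff_finrank (h2 : IsUnit (2 : S)) {n : ℕ} (hn : 0 < n) (hA : AzInv.IsAzumayaDeg R A n)
    (t : AzInv.LamInv R A lam) (q : PrimeSpectrum R) (hq : ∀ r : R, lam r - r ∈ q.asIdeal)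
    {Ω : Type u} [Field Ω] [IsAlgClosed Ω] [Algebra S Ω]
    (hker : RingHom.ker (algebraMap S Ω) = q.asIdeal.comap (algebraMap S R)) :
    Orth lam Ω t n ↔ Module.finrank q.asIdeal.ResidueField
      (Submodule.span q.asIdeal.ResidueField
        (Set.range fun a : {a : A // t a = a} => (1 : q.asIdeal.ResidueField) ⊗ₜ[R] (a : A))) = Nat.choose (n + 1) 2 := by
  have := hA.1
  let T := Lim S Ω ⊗[S] R
  have hid := forall_sub_mem (Ω := Ω) lam hlam hfix (fun r a ha => hker ▸ ram_of_prime lam hlam hfix hq r a ha)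
  have h2T := isUnit_two (Ω := Ω) lam hlam hfix h2
  have hloc := Groth.Agent.Lib.RInvQuad.isLocalRing_of_forall_mem (lamL_invol (Ω := Ω) lam hlam) (lamL_fix lam hlam hfix) hid
  have hidM : ∀ x : T, lamL lam x - x ∈ IsLocalRing.maximalIdeal T := fun x => by
    have := hid x
    rwa [← Ideal.jacobson_bot, IsLocalRing.jacobson_eq_maximalIdeal ⊥ bot_ne_top] at this
  let K := IsLocalRing.ResidueField T
  let red : T →+* K := IsLocalRing.residue T
  have hred : ∀ x : T, red (lamL lam x) = red x := fun x => Ideal.Quotient.eq.2 (hidM x)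
  let ρ : R →+* K := red.comp (algebraMap R T)
  have hQ : q = ⟨RingHom.ker ρ, RingHom.ker_isPrime ρ⟩ := by
    refine Groth.Agent.Lib.RInvQuad.eq_of_forall_mem (lam := lam.toRingEquiv) hlam hfix ?_ hq fun r => ?_
    · ext s
      rw [← hker, Ideal.mem_comap, ← comap_maximalIdeal (Ω := Ω), Ideal.mem_comap]
      change _ ↔ red (algebraMap R T (algebraMap S R s)) = 0
      rw [← IsScalarTower.algebraMap_apply S R T, IsScalarTower.algebraMap_apply S (Lim S Ω) T, IsLocalRing.residue_eq_zero_iff,
        IsLocalRing.mem_maximalIdeal, IsLocalRing.mem_maximalIdeal, mem_nonunits_iff, mem_nonunits_iff, not_iff_not]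
      exact ⟨fun h => h.map _, fun h => Groth.Agent.Lib.RInvQuad.isUnit_of_isUnit_algebraMap (lamL_fix lam hlam hfix) h⟩
    · change red (algebraMap R T (lam r - r)) = 0
      rw [map_sub, ← lamL_algebraMap lam Ω r, map_sub, hred, sub_self]
  let κ := q.asIdeal.ResidueField
  let j : κ →+* K := Ideal.ResidueField.lift q.asIdeal ρ (hQ ▸ le_rfl) (by
    intro x hx
    refine IsUnit.mk0 _ fun h0 => hx ?_
    rw [hQ]
    exact h0)
  let _ : Algebra κ K := j.toAlgebra
  have : IsScalarTower R κ K := IsScalarTower.of_algebraMap_eq fun r => (Ideal.ResidueField.lift_algebraMap _ _ _ _ r).symm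
  let red' : T →ₐ[R] K := IsScalarTower.toAlgHom R T K
  have : IsAzumaya K (K ⊗[R] A) := Groth.Agent.Lib.Azumaya.BaseChange.isAzumaya_baseChange K A (R := R)
  have : NeZero n := ⟨hn.ne'⟩
  have := IsAzumaya.matrix K (Fin n)
  have : Module.Finite κ (κ ⊗[R] A) := inferInstance
  have key : ∀ W W' : Matrix (Fin n) (Fin n) T, W * W' = 1 → ∀ h : A →ₐ[R] Matrix (Fin n) (Fin n) T,
      Inter (lamL lam) t h W →
      Module.finrank κ (Submodule.span κ (Set.range fun a : {a : A // t a = a} => (1 : κ) ⊗ₜ[R] (a : A))) =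
        Module.finrank K ↥(LinearMap.ker (sW (W.map red) (W'.map red) - LinearMap.id)) := by
    intro W W' hWW' h hh
    let g : A →ₐ[R] Matrix (Fin n) (Fin n) K := red'.mapMatrix.comp h
    have hWr : W.map red * W'.map red = 1 := by rw [← Matrix.map_mul, hWW', Matrix.map_one _ (map_zero red) (map_one red)]
    have hgs : ∀ a, sW (W.map red) (W'.map red) (g a) = g (t a) := fun a => by
      have h1 := congr_arg (fun X => X.map red) (hh a)
      simp only [Matrix.map_mul] at h1
      have h2 : (((h a).map (lamL lam))ᵀ).map red = (g a)ᵀ := by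
        ext i k; exact hred _
      rw [h2] at h1
      rw [sW_apply, ← mul_assoc, ← h1, mul_assoc, hWr, mul_one]
      rfl
    let F : K ⊗[R] A →ₐ[K] Matrix (Fin n) (Fin n) K :=
      Algebra.TensorProduct.lift (Algebra.ofId K _) g fun s a => Algebra.commutes s _
    have hF : Function.Bijective F := Groth.Agent.Lib.AzInvLoc.bijective_of_azumaya (fun P => by
      rw [Module.rankAtStalk_baseChange, hA.2, Module.rankAtStalk_eq_finrank_of_free, Pi.natCast_apply, Nat.cast_id,
        Module.finrank_matrix, Module.finrank_self, Fintype.card_fin, mul_one, pow_two]) F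
    let Θ : K ⊗[κ] (κ ⊗[R] A) ≃ₗ[K] Matrix (Fin n) (Fin n) K :=
      (TensorProduct.AlgebraTensorModule.cancelBaseChange R κ K K A).trans (LinearEquiv.ofBijective F.toLinearMap hF)
    have hΘ : ∀ a, Θ ((1 : K) ⊗ₜ[κ] ((1 : κ) ⊗ₜ[R] a)) = g a := fun a => by
      simp only [Θ, LinearEquiv.trans_apply, TensorProduct.AlgebraTensorModule.cancelBaseChange_tmul, one_smul]
      change algebraMap K (Matrix (Fin n) (Fin n) K) 1 * g a = g a
      rw [map_one, one_mul]
    let V := Submodule.span κ (Set.range fun a : {a : A // t a = a} => (1 : κ) ⊗ₜ[R] (a : A))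
    have hVd : Module.finrank κ V = Module.finrank K ↥((Submodule.baseChange K V).map Θ.toLinearMap) := by
      rw [LinearEquiv.finrank_map_eq]
      have hinj : Function.Injective (V.subtype.baseChange K) := by
        change Function.Injective ⇑(V.subtype.lTensor K)
        exact Module.Flat.lTensor_preserves_injective_linearMap _ (Submodule.injective_subtype _)
      rw [Submodule.baseChange_eq_span]
      calc Module.finrank κ V = Module.finrank K (K ⊗[κ] V) := Module.finrank_baseChange.symm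
        _ = Module.finrank K (LinearMap.range (V.subtype.baseChange K)) := (LinearMap.finrank_range_of_inj hinj).symm
        _ = _ := by rw [← Submodule.baseChange_eq_span, Submodule.baseChange]
    change Module.finrank κ V = _
    rw [hVd]
    let sy : Set (Matrix (Fin n) (Fin n) K) := Set.range fun a : {a : A // t a = a} => g a
    have hspan : (Submodule.baseChange K V).map Θ.toLinearMap = Submodule.span K sy := by
      rw [Submodule.baseChange_span, Submodule.map_span]
      congr 1
      rw [← Set.range_comp, ← Set.range_comp]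
      exact congr_arg Set.range (funext fun a => hΘ a)
    rw [hspan]
    have h2K : (2 : K) ≠ 0 := by
      have := h2T.map red; rw [map_ofNat] at this; exact this.ne_zero
    let s := sW (W.map red) (W'.map red)
    suffices hsk : Submodule.span K sy = LinearMap.ker (s - LinearMap.id) by rw [hsk]
    refine le_antisymm (Submodule.span_le.2 ?_) fun X hX => ?_
    · rintro _ ⟨a, rfl⟩
      rw [SetLike.mem_coe, LinearMap.mem_ker, LinearMap.sub_apply, LinearMap.id_apply, sub_eq_zero]
      change s (g a) = g a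
      rw [hgs, a.2]
    · have hgen : ∀ z : K ⊗[R] A, F z + s (F z) ∈ Submodule.span K sy := fun z => by
        induction z using TensorProduct.induction_on with
        | zero => simp
        | add a b ha hb => rw [map_add, map_add, add_add_add_comm]; exact add_mem ha hb
        | tmul c a =>
          have hF1 : F (c ⊗ₜ[R] a) = c • g a := (Algebra.smul_def c (g a)).symm
          rw [hF1, map_smul, hgs, ← smul_add, ← map_add]
          exact Submodule.smul_mem _ _ (Submodule.subset_span ⟨⟨a + t a, by rw [t.map_add, t.invol, add_comm]⟩, rfl⟩)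
      obtain ⟨z, hz⟩ := hF.2 X
      have h1 := hgen z
      rw [LinearMap.mem_ker, LinearMap.sub_apply, LinearMap.id_apply, sub_eq_zero] at hX
      rw [hz, hX, ← two_smul K] at h1
      exact (Submodule.smul_mem_iff _ h2K).1 h1
  have h2K : (2 : K) ≠ 0 := by
    have := h2T.map red; rw [map_ofNat] at this; exact this.ne_zero
  constructor
  · rintro ⟨h, hh⟩
    rw [key 1 1 (mul_one 1) h hh, Matrix.map_one _ (map_zero red) (map_one red)]
    exact finrank_sW_one K n
  · intro hd
    refine (classify lam hlam hfix hn hA t (exists_sqrt_of_two (Ω := Ω) h2) (Or.inr (Or.inl h2))).resolve_right ?_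
    rintro ⟨-, -, hev, h, hh⟩
    rw [key _ (-Jn T n) (by rw [mul_neg, Jn_mul_self _ hev, neg_neg]) h hh, Matrix.map_neg _ (map_neg red),
      Jn_map, finrank_sW_Jn K h2K hev] at hd
    exact choose_ne hn hd

variable {A' : Type w'} [Ring A'] [Algebra S A'] [Algebra R A'] [IsScalarTower S R A']

theorem sameType_iff (h2 : IsUnit (2 : S)) {n n' : ℕ} (hn : 0 < n) (hn' : 0 < n') (hA : AzInv.IsAzumayaDeg R A n)
    (hA' : AzInv.IsAzumayaDeg R A' n') (t : AzInv.LamInv R A lam) (t' : AzInv.LamInv R A' lam) :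
    AzInv.SameType S lam t t' ↔
      ∀ q : PrimeSpectrum R, (∀ r : R, lam r - r ∈ q.asIdeal) →
        (Module.finrank q.asIdeal.ResidueField
            (Submodule.span q.asIdeal.ResidueField
              (Set.range fun a : {a : A // t a = a} => (1 : q.asIdeal.ResidueField) ⊗ₜ[R] (a : A))) = Nat.choose (n + 1) 2 ↔
          Module.finrank q.asIdeal.ResidueField
            (Submodule.span q.asIdeal.ResidueField
              (Set.range fun a : {a : A' // t' a = a} => (1 : q.asIdeal.ResidueField) ⊗ₜ[R] (a : A'))) = Nat.choose (n' + 1) 2) := by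
  constructor
  · intro h q hq
    obtain ⟨Ω, _, _, _, hker⟩ := exists_geom (PrimeSpectrum.comap (algebraMap S R) q)
    rw [← orth_iff_finrank lam hlam hfix h2 hn hA t q hq hker, ← orth_iff_finrank lam hlam hfix h2 hn' hA' t' q hq hker]
    exact orth_iff_of_sameType lam hlam hfix hn hn' hA hA' (p := PrimeSpectrum.comap (algebraMap S R) q) hker
      (exists_sqrt_of_two (Ω := Ω) h2) (Or.inr (Or.inl h2)) h
  · intro h
    have hN : n * n' = n' * n := Nat.mul_comm n n'
    refine ⟨n', n, hn', hn, locIsoEt_of_types lam (Nat.mul_pos hn' hn) (matrix_deg hn' hA) (hN ▸ matrix_deg hn hA')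
      fun p Ω _ _ _ hker => ?_⟩
    rcases classify lam hlam hfix hn hA t (exists_sqrt_of_two (Ω := Ω) h2) (Or.inr (Or.inl h2)) with h1 | ⟨hid, h2T, hev, h1⟩
    · rcases classify lam hlam hfix hn' hA' t' (exists_sqrt_of_two (Ω := Ω) h2) (Or.inr (Or.inl h2)) with h3 | ⟨hid, h2T, hev', h3⟩
      · exact Or.inl ⟨orth_matrix lam rfl h1, orth_matrix lam hN h3⟩
      · exfalso
        obtain ⟨q, hqp⟩ := Groth.Agent.Lib.RInvQuad.exists_over (lam := lam.toRingEquiv) hlam hfix p
        have hq : ∀ r : R, lam r - r ∈ q.asIdeal := fun r => by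
          obtain ⟨a, ha⟩ := Groth.Agent.Lib.RInvQuad.exists_sq (lam := lam.toRingEquiv) hlam hfix r
          refine (Groth.Agent.Lib.RInvQuad.mem_iff_of_sq (lam := lam.toRingEquiv) hlam hfix ha q).1 ?_
          rw [hqp, ← hker]
          exact mem_of_forall lam hlam hfix hid r a ha
        have hk := hker.trans hqp.symm
        refine not_both' lam hlam hfix hn' hev' hA' t' hid h2T ?_ h3
        rw [orth_iff_finrank lam hlam hfix h2 hn' hA' t' q hq hk, ← h q hq, ← orth_iff_finrank lam hlam hfix h2 hn hA t q hq hk]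
        exact h1
    · rcases classify lam hlam hfix hn' hA' t' (exists_sqrt_of_two (Ω := Ω) h2) (Or.inr (Or.inl h2)) with h3 | ⟨-, -, hev', h3⟩
      · exfalso
        obtain ⟨q, hqp⟩ := Groth.Agent.Lib.RInvQuad.exists_over (lam := lam.toRingEquiv) hlam hfix p
        have hq : ∀ r : R, lam r - r ∈ q.asIdeal := fun r => by
          obtain ⟨a, ha⟩ := Groth.Agent.Lib.RInvQuad.exists_sq (lam := lam.toRingEquiv) hlam hfix r
          refine (Groth.Agent.Lib.RInvQuad.mem_iff_of_sq (lam := lam.toRingEquiv) hlam hfix ha q).1 ?_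
          rw [hqp, ← hker]
          exact mem_of_forall lam hlam hfix hid r a ha
        have hk := hker.trans hqp.symm
        refine not_both' lam hlam hfix hn hev hA t hid h2T ?_ h1
        rw [orth_iff_finrank lam hlam hfix h2 hn hA t q hq hk, h q hq, ← orth_iff_finrank lam hlam hfix h2 hn' hA' t' q hq hk]
        exact h3
      · exact Or.inr ⟨hev.mul_left n', symp_matrix lam rfl hev h1, symp_matrix lam hN hev' h3⟩

theorem exists_nhd (h2 : IsUnit (2 : S)) {n : ℕ} (hn : 0 < n) (hA : AzInv.IsAzumayaDeg R A n) (t : AzInv.LamInv R A lam)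
    (q : PrimeSpectrum R) (hq : ∀ r : R, lam r - r ∈ q.asIdeal) :
    ∃ f : R, f ∉ q.asIdeal ∧ ∀ q' : PrimeSpectrum R, (∀ r : R, lam r - r ∈ q'.asIdeal) → f ∉ q'.asIdeal →
      (Module.finrank q'.asIdeal.ResidueField
          (Submodule.span q'.asIdeal.ResidueField
            (Set.range fun a : {a : A // t a = a} => (1 : q'.asIdeal.ResidueField) ⊗ₜ[R] (a : A))) = Nat.choose (n + 1) 2 ↔
        Module.finrank q.asIdeal.ResidueField
            (Submodule.span q.asIdeal.ResidueField
              (Set.range fun a : {a : A // t a = a} => (1 : q.asIdeal.ResidueField) ⊗ₜ[R] (a : A))) = Nat.choose (n + 1) 2) := by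
  let p := PrimeSpectrum.comap (algebraMap S R) q
  obtain ⟨Ω, _, _, _, hker⟩ := exists_geom p
  have hiff := orth_iff_finrank lam hlam hfix h2 hn hA t q hq hker
  have nhd : ∀ {U : Set (PrimeSpectrum S)}, IsOpen U → p ∈ U → ∃ f : R, f ∉ q.asIdeal ∧
      ∀ q' : PrimeSpectrum R, f ∉ q'.asIdeal → PrimeSpectrum.comap (algebraMap S R) q' ∈ U := fun {U} hU hp => by
    obtain ⟨_, ⟨g, rfl⟩, hg, hsub⟩ := PrimeSpectrum.isTopologicalBasis_basic_opens.exists_subset_of_mem_open hp hU
    exact ⟨algebraMap S R g, hg, fun q' hq' => hsub hq'⟩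
  rcases classify lam hlam hfix hn hA t (exists_sqrt_of_two (Ω := Ω) h2) (Or.inr (Or.inl h2)) with h1 | ⟨hid, h2T, hev, h1⟩
  · obtain ⟨U, hU, hp, hOU⟩ := orth_open lam hlam hfix hn hA t hker h1
    obtain ⟨f, hf, hfU⟩ := nhd hU hp
    refine ⟨f, hf, fun q' hq' hf' => iff_of_true ?_ (hiff.1 h1)⟩
    obtain ⟨Ω', _, _, _, hker'⟩ := exists_geom (PrimeSpectrum.comap (algebraMap S R) q')
    exact (orth_iff_finrank lam hlam hfix h2 hn hA t q' hq' hker').1 (hOU _ (hfU q' hf') Ω' hker')
  · obtain ⟨U, hU, hp, hSU⟩ := symp_open lam hlam hfix hn hev hA t hker h1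
    obtain ⟨f, hf, hfU⟩ := nhd hU hp
    refine ⟨f, hf, fun q' hq' hf' => iff_of_false ?_ fun hd => not_both' lam hlam hfix hn hev hA t hid h2T (hiff.2 hd) h1⟩
    obtain ⟨Ω', _, _, _, hker'⟩ := exists_geom (PrimeSpectrum.comap (algebraMap S R) q')
    intro hd
    refine not_both' lam hlam hfix hn hev hA t
      (forall_sub_mem lam hlam hfix fun r a ha => hker' ▸ ram_of_prime lam hlam hfix hq' r a ha)
      (isUnit_two lam hlam hfix h2) ?_ (hSU _ (hfU q' hf') Ω' hker')
    exact (orth_iff_finrank lam hlam hfix h2 hn hA t q' hq' hker').2 hd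

end Groth.Agent.Lib.AzInvSpan
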