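import Groth.Agent.Lib.AzInvNormal
import Groth.Agent.Lib.AzInvPoint
import Groth.Agent.Lib.AzInvSplit
import Groth.Agent.Lib.AzInvLoc
import Groth.Agent.Lib.Brauer.AzumayaBasics
import Mathlib

/-!
# Local types of involutions of Azumaya algebras at the geometric points of the fixed ring

* `NF`: a normal form `W` at a point, `Orth`, `Symp` for `W = 1`, `W = Jn`
* `classify`, `not_both'`: exactly one of them
* `hom_of_nf`, `nf_of_hom`, `exists_open`, `hom_of_locIsoEt`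
* `nf_matrix`: matrix algebras
-/

universe u v w w'

open scoped TensorProduct
open Matrix Groth.Agent.Lib.Henselian.Pointed Groth.Agent.Lib.EtSite.LimTensor
open Groth.Agent.Lib.AzInvNormal Groth.Agent.Lib.AzInvPoint

namespace Groth.Agent.Lib.AzInvType

attribute [local instance] Algebra.TensorProduct.rightAlgebra
attribute [local instance 50] Groth.Agent.Lib.AzInvLoc.algR

variable {S : Type u} {R : Type v} [CommRing S] [CommRing R] [Algebra S R] (lam : R ≃ₐ[S] R)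
  {A : Type w} [Ring A] [Algebra R A]
  (Ω : Type u) [Field Ω] [Algebra S Ω]

/-- A normal form `W` of `t` at the point `Ω`. -/
def NF {n : ℕ} (t : AzInv.LamInv R A lam) (W : Matrix (Fin n) (Fin n) (Lim S Ω ⊗[S] R)) : Prop :=
  ∃ h : A →ₐ[R] Matrix (Fin n) (Fin n) (Lim S Ω ⊗[S] R), Inter (lamL lam) t h W

/-- `t` is orthogonal at `Ω`. -/
def Orth (t : AzInv.LamInv R A lam) (n : ℕ) : Prop :=
  NF lam Ω t (1 : Matrix (Fin n) (Fin n) (Lim S Ω ⊗[S] R))

/-- `t` is symplectic at `Ω`. -/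
def Symp (t : AzInv.LamInv R A lam) (n : ℕ) : Prop :=
  NF lam Ω t (Jn (Lim S Ω ⊗[S] R) n)

theorem lamL_algebraMap (r : R) :
    lamL (Ω := Ω) lam (algebraMap R (Lim S Ω ⊗[S] R) r) = algebraMap R (Lim S Ω ⊗[S] R) (lam r) := rfl

variable (hlam : ∀ r, lam (lam r) = r) (hfix : RInv.IsFixedRing S R lam.toRingEquiv)
include hlam hfix

variable {Ω} {n : ℕ}

theorem classify [IsAlgClosed Ω] (hn : 0 < n) (hA : AzInv.IsAzumayaDeg R A n) (t : AzInv.LamInv R A lam)
    (hsqL : ∀ x : (Lim S Ω)ˣ, ∃ y : Lim S Ω, y * y = x)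
    (hc : (∃ x : Lim S Ω ⊗[S] R, lamL lam x - x ∉ Ring.jacobson (Lim S Ω ⊗[S] R)) ∨ IsUnit (2 : S) ∨ Odd n) :
    Orth lam Ω t n ∨ ((∀ x : Lim S Ω ⊗[S] R, lamL lam x - x ∈ Ring.jacobson (Lim S Ω ⊗[S] R)) ∧
      IsUnit (2 : Lim S Ω ⊗[S] R) ∧ Even n ∧ Symp lam Ω t n) := by
  have := hA.1
  obtain ⟨h⟩ := Groth.Agent.Lib.AzInvSplit.exists_local n lam hlam hfix hA.2 Ω
  exact exists_normal (lamL_invol lam hlam) (lamL_fix lam hlam hfix) hsqL hn hA.2 (lamL_algebraMap lam Ω) t h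
    (hc.imp_right (Or.imp_left fun h2 => by
      have := h2.map (algebraMap S (Lim S Ω ⊗[S] R))
      rwa [map_ofNat] at this))

theorem not_both' (hn : 0 < n) (hev : Even n) (hA : AzInv.IsAzumayaDeg R A n) (t : AzInv.LamInv R A lam)
    (hid : ∀ x : Lim S Ω ⊗[S] R, lamL lam x - x ∈ Ring.jacobson (Lim S Ω ⊗[S] R))
    (h2 : IsUnit (2 : Lim S Ω ⊗[S] R)) (hO : Orth lam Ω t n) (hS : Symp lam Ω t n) : False := by
  have := hA.1
  obtain ⟨h, hh⟩ := hO
  obtain ⟨h', hh'⟩ := hS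
  have := Groth.Agent.Lib.RInvQuad.isLocalRing_of_forall_mem (lamL_invol lam hlam) (lamL_fix lam hlam hfix) hid
  rw [← Ideal.jacobson_bot, IsLocalRing.jacobson_eq_maximalIdeal ⊥ bot_ne_top] at hid
  exact not_both (lamL_invol lam hlam) (lamL_fix lam hlam hfix) hid h2 hn hev hA.2 t hh hh'

omit hlam hfix

variable {A' : Type w'} [Ring A'] [Algebra S A'] [Algebra R A'] [IsScalarTower S R A']

variable (Ω) in
theorem exists_phi (t' : AzInv.LamInv R A' lam) {N : ℕ} (h' : A' →ₐ[R] Matrix (Fin N) (Fin N) (Lim S Ω ⊗[S] R)) :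
    ∃ Φ : Lim S Ω ⊗[S] A' →ₐ[R] Matrix (Fin N) (Fin N) (Lim S Ω ⊗[S] R),
      (∀ W, Inter (lamL lam) t' h' W → ∀ z, Φ (t'.bc S lam (Lim S Ω) z) * W = W * ((Φ z).map (lamL lam))ᵀ) ∧
      (∀ [IsAzumaya R A'], 0 < N → (∀ q : PrimeSpectrum R, Module.rankAtStalk (R := R) A' q = N ^ 2) →
        Function.Bijective Φ) := by
  let L := Lim S Ω
  let T := L ⊗[S] R
  obtain ⟨e, he⟩ := Groth.Agent.Lib.AzInvLoc.exists_cancel (S := S) R A' L
  let G : T ⊗[R] A' →ₐ[T] Matrix (Fin N) (Fin N) T :=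
    Algebra.TensorProduct.lift (Algebra.ofId T _) h' fun s a => Algebra.commutes s _
  have hG : ∀ (x : T) a, G (x ⊗ₜ[R] a) = x • h' a := fun x a => (Algebra.smul_def x (h' a)).symm
  let Φ : L ⊗[S] A' →ₐ[R] Matrix (Fin N) (Fin N) T :=
    { G.toRingHom.comp e.toRingHom with
      commutes' := fun r => by
        change G (e ((1 : L) ⊗ₜ[S] algebraMap R A' r)) = _
        rw [he, hG, ← Algebra.TensorProduct.one_def, one_smul, AlgHom.commutes] }
  have hΦ : ∀ s a, Φ (s ⊗ₜ[S] a) = (s ⊗ₜ[S] (1 : R) : T) • h' a := fun s a => by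
    change G (e (s ⊗ₜ[S] a)) = _
    rw [he, hG]
  refine ⟨Φ, fun W hW z => ?_, fun hN hrk => ?_⟩
  · induction z using TensorProduct.induction_on with
    | zero => simp
    | add a b ha hb =>
      rw [map_add, map_add, map_add, Matrix.map_add _ (map_add (lamL lam)), transpose_add, add_mul, mul_add, ha, hb]
    | tmul s a =>
      rw [AzInv.LamInv.bc_tmul, hΦ, hΦ, smul_mul_assoc, hW a, tr_smul, mul_smul_comm, lamL_tmul, map_one]
  · have : NeZero N := ⟨hN.ne'⟩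
    have := IsAzumaya.matrix T (Fin N)
    have := Groth.Agent.Lib.Azumaya.BaseChange.isAzumaya_baseChange T A' (R := R)
    have hb := Groth.Agent.Lib.AzInvLoc.bijective_of_azumaya (fun P => by
      have : Nontrivial T := ⟨0, 1, fun e => P.2.ne_top (Ideal.eq_top_of_isUnit_mem _ P.1.zero_mem (e ▸ isUnit_one))⟩
      rw [Module.rankAtStalk_baseChange, hrk, Module.rankAtStalk_eq_finrank_of_free, Pi.natCast_apply, Nat.cast_id,
        Module.finrank_matrix, Module.finrank_self, Fintype.card_fin, mul_one, pow_two]) G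
    exact hb.comp e.bijective

theorem hom_of_nf {t : AzInv.LamInv R A lam} {t' : AzInv.LamInv R A' lam} (hn : 0 < n)
    (hA' : AzInv.IsAzumayaDeg R A' n) {W W' : Matrix (Fin n) (Fin n) (Lim S Ω ⊗[S] R)} (hWW' : W * W' = 1)
    (h : NF lam Ω t W) (h' : NF lam Ω t' W) :
    Nonempty (Groth.Agent.Lib.AzInvLoc.Hom lam (Lim S Ω) t t') := by
  have := hA'.1
  obtain ⟨h, hh⟩ := h
  obtain ⟨h', hh'⟩ := h'
  obtain ⟨Φ, hΦ, hb⟩ := exists_phi lam Ω t' h'
  let E := AlgEquiv.ofBijective Φ (hb hn hA'.2)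
  refine ⟨⟨E.symm.toAlgHom.comp h, fun a => E.injective ?_⟩⟩
  change E (E.symm (h (t a))) = Φ (t'.bc S lam (Lim S Ω) (E.symm (h a)))
  have h1 := hΦ W hh' (E.symm (h a))
  rw [show Φ (E.symm (h a)) = E (E.symm (h a)) from rfl, E.apply_symm_apply, ← hh a] at h1
  rw [E.apply_symm_apply]
  calc h (t a) = h (t a) * W * W' := by rw [mul_assoc, hWW', mul_one]
    _ = _ := by rw [← h1, mul_assoc, hWW', mul_one]

theorem nf_of_hom {t : AzInv.LamInv R A lam} {t' : AzInv.LamInv R A' lam}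
    (ψ : Groth.Agent.Lib.AzInvLoc.Hom lam (Lim S Ω) t t') {W : Matrix (Fin n) (Fin n) (Lim S Ω ⊗[S] R)}
    (h' : NF lam Ω t' W) : NF lam Ω t W := by
  obtain ⟨h', hh'⟩ := h'
  obtain ⟨Φ, hΦ, -⟩ := exists_phi lam Ω t' h'
  exact ⟨Φ.comp ψ.toAlgHom, fun a => by rw [AlgHom.comp_apply, AlgHom.comp_apply, ψ.map_inv]; exact hΦ W hh' _⟩

include hlam hfix in
theorem le_of_algHom [IsAzumaya R A] {M N : ℕ} (hrk : ∀ q : PrimeSpectrum R, Module.rankAtStalk (R := R) A q = M ^ 2)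
    (f : A →ₐ[R] Matrix (Fin N) (Fin N) (Lim S Ω ⊗[S] R)) (hN : 0 < N) : M ≤ N := by
  let T := Lim S Ω ⊗[S] R
  have := AzInvPoint.nontrivial (Ω := Ω) lam hlam hfix
  obtain ⟨m, hm⟩ := Ideal.exists_maximal T
  let K := T ⧸ m
  let _ : Field K := Ideal.Quotient.field m
  let q : T →ₐ[R] K := Ideal.Quotient.mkₐ R m
  obtain ⟨-, hs⟩ := Groth.Agent.Lib.Azumaya.Criterion.central_simple_baseChange (R := R) A K
  let F : K ⊗[R] A →ₐ[K] Matrix (Fin N) (Fin N) K :=
    Algebra.TensorProduct.lift (Algebra.ofId K _) (q.mapMatrix.comp f) fun s a => Algebra.commutes s _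
  have hd : Module.finrank K (K ⊗[R] A) = M ^ 2 := by
    have h1 := congr_fun (Module.rankAtStalk_eq_finrank_of_free (R := K) (M := K ⊗[R] A)) ⟨⊥, Ideal.isPrime_bot⟩
    rw [Module.rankAtStalk_baseChange, hrk] at h1
    simpa using h1.symm
  have : NeZero N := ⟨hN.ne'⟩
  have hinj : Function.Injective F := F.toRingHom.injective
  have hle := LinearMap.finrank_le_finrank_of_injective (f := F.toLinearMap) hinj
  rw [hd, Module.finrank_matrix, Module.finrank_self, Fintype.card_fin, mul_one, ← pow_two] at hle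
  exact (Nat.pow_le_pow_iff_left two_ne_zero).1 hle

variable [Algebra S A] [IsScalarTower S R A]

include hlam hfix in
theorem deg_le [IsAlgClosed Ω] {t : AzInv.LamInv R A lam} {t' : AzInv.LamInv R A' lam} {M N : ℕ} (hN : 0 < N)
    (hA : AzInv.IsAzumayaDeg R A M) (hA' : AzInv.IsAzumayaDeg R A' N)
    (ψ : Groth.Agent.Lib.AzInvLoc.Hom lam (Lim S Ω) t t') : M ≤ N := by
  have := hA.1
  have := hA'.1
  obtain ⟨h'⟩ := Groth.Agent.Lib.AzInvSplit.exists_local N lam hlam hfix hA'.2 Ω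
  obtain ⟨Φ, -, -⟩ := exists_phi lam Ω t' h'
  exact le_of_algHom lam hlam hfix hA.2 (Φ.comp ψ.toAlgHom) hN

theorem exists_open {t : AzInv.LamInv R A lam} {t' : AzInv.LamInv R A' lam} [Module.Finite R A] [Module.Projective R A]
    {p : PrimeSpectrum S} (hker : RingHom.ker (algebraMap S Ω) = p.asIdeal)
    (ψ : Groth.Agent.Lib.AzInvLoc.Hom lam (Lim S Ω) t t') :
    ∃ U : Set (PrimeSpectrum S), IsOpen U ∧ p ∈ U ∧ ∀ q ∈ U, ∀ (Ω' : Type u) [Field Ω'] [IsAlgClosed Ω'] [Algebra S Ω'],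
      RingHom.ker (algebraMap S Ω') = q.asIdeal → Nonempty (Groth.Agent.Lib.AzInvLoc.Hom lam (Lim S Ω') t t') := by
  obtain ⟨N, ⟨φ⟩⟩ := Groth.Agent.Lib.AzInvLoc.exists_descend t t' ψ
  refine ⟨Set.range (PrimeSpectrum.comap (algebraMap S N.S)),
    (PrimeSpectrum.isOpenMap_comap_of_hasGoingDown_of_finitePresentation (R := S) (S := N.S)).isOpen_range, ?_,
    fun q hq Ω' _ _ _ hq' => ?_⟩
  · let γ : N.S →ₐ[S] Ω := (Lim.α S Ω).comp N.toLim
    refine ⟨⟨RingHom.ker γ, RingHom.ker_isPrime _⟩, PrimeSpectrum.ext ?_⟩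
    ext s
    simp only [PrimeSpectrum.comap_asIdeal, Ideal.mem_comap, RingHom.mem_ker]
    rw [AlgHom.commutes, ← RingHom.mem_ker, hker]
  · obtain ⟨γ⟩ := AzInvPoint.exists_point hq hq'
    obtain ⟨θ, -⟩ := Lim.existsUnique_map N.S γ
    exact ⟨⟨(Groth.Agent.Lib.AzInvLoc.tr (R := R) θ).comp φ.toAlgHom, fun a => by
      rw [AlgHom.comp_apply, AlgHom.comp_apply, φ.map_inv, Groth.Agent.Lib.AzInvLoc.bc_tr]⟩⟩

theorem hom_of_locIsoEt [IsAlgClosed Ω] {t : AzInv.LamInv R A lam} {t' : AzInv.LamInv R A' lam}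
    {p : PrimeSpectrum S} (hker : RingHom.ker (algebraMap S Ω) = p.asIdeal) (h : AzInv.LocIsoEt S lam t t') :
    Nonempty (Groth.Agent.Lib.AzInvLoc.Hom lam (Lim S Ω) t t') ∧
      Nonempty (Groth.Agent.Lib.AzInvLoc.Hom lam (Lim S Ω) t' t) := by
  obtain ⟨S', _, _, _, _, f, hfR, hft⟩ := h
  obtain ⟨γ⟩ := AzInvPoint.exists_point (S' := S') (PrimeSpectrum.comap_surjective_of_faithfullyFlat p) hker
  obtain ⟨θ, -⟩ := Lim.existsUnique_map S' γ
  have hfR' : ∀ r : R, f ((1 : S') ⊗ₜ[S] algebraMap R A r) = (1 : S') ⊗ₜ[S] algebraMap R A' r := fun r => by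
    simpa using hfR r 1
  let i : A →ₐ[R] S' ⊗[S] A' :=
    { f.toRingEquiv.toRingHom.comp (Algebra.TensorProduct.includeRight : A →ₐ[S] S' ⊗[S] A).toRingHom with
      commutes' := fun r => hfR' r }
  let i' : A' →ₐ[R] S' ⊗[S] A :=
    { f.symm.toRingEquiv.toRingHom.comp (Algebra.TensorProduct.includeRight : A' →ₐ[S] S' ⊗[S] A').toRingHom with
      commutes' := fun r => by
        change f.symm ((1 : S') ⊗ₜ[S] algebraMap R A' r) = _
        rw [← hfR', f.symm_apply_apply]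
        rfl }
  refine ⟨⟨⟨(Groth.Agent.Lib.AzInvLoc.tr (R := R) θ).comp i, fun a => ?_⟩⟩,
    ⟨⟨(Groth.Agent.Lib.AzInvLoc.tr (R := R) θ).comp i', fun a => ?_⟩⟩⟩
  · rw [AlgHom.comp_apply, AlgHom.comp_apply, Groth.Agent.Lib.AzInvLoc.bc_tr]
    congr 1
    change f ((1 : S') ⊗ₜ[S] t a) = t'.bc S lam S' (f ((1 : S') ⊗ₜ[S] a))
    rw [← hft, AzInv.LamInv.bc_tmul]
  · rw [AlgHom.comp_apply, AlgHom.comp_apply, Groth.Agent.Lib.AzInvLoc.bc_tr]
    congr 1
    change f.symm ((1 : S') ⊗ₜ[S] t' a) = t.bc S lam S' (f.symm ((1 : S') ⊗ₜ[S] a))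
    apply f.injective
    rw [f.apply_symm_apply, hft, f.apply_symm_apply, AzInv.LamInv.bc_tmul]

omit [Algebra S A] [IsScalarTower S R A]

theorem matrix_deg {m : ℕ} (hm : 0 < m) (hA : AzInv.IsAzumayaDeg R A n) :
    AzInv.IsAzumayaDeg R (Matrix (Fin m) (Fin m) A) (m * n) := by
  have := hA.1
  have : NeZero m := ⟨hm.ne'⟩
  have := IsAzumaya.matrix R (Fin m)
  have := Groth.Agent.Lib.Brauer.AzumayaBasics.tensor R A (Matrix (Fin m) (Fin m) R)
  let e := matrixEquivTensor (Fin m) R A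
  refine ⟨IsAzumaya.of_AlgEquiv R _ _ e.symm, fun q => ?_⟩
  have : Nontrivial R := ⟨0, 1, fun h => q.2.ne_top (Ideal.eq_top_of_isUnit_mem _ q.1.zero_mem (h ▸ isUnit_one))⟩
  rw [Module.rankAtStalk_eq_of_equiv e.toLinearEquiv, Module.rankAtStalk_tensorProduct, Pi.mul_apply, hA.2,
    Module.rankAtStalk_eq_finrank_of_free, Pi.natCast_apply, Nat.cast_id, Module.finrank_matrix, Module.finrank_self,
    Fintype.card_fin, mul_one, mul_pow, mul_comm, pow_two m]

/-- `1 ⊗ W`. -/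
def blk {T : Type*} [CommRing T] {m N : ℕ} (hN : m * n = N) (W : Matrix (Fin n) (Fin n) T) : Matrix (Fin N) (Fin N) T :=
  Matrix.reindex (finProdFinEquiv.trans (finCongr hN)) (finProdFinEquiv.trans (finCongr hN))
    (Matrix.comp (Fin m) (Fin m) (Fin n) (Fin n) T (Matrix.diagonal fun _ => W))

theorem blk_one {T : Type*} [CommRing T] {m N : ℕ} (hN : m * n = N) :
    blk hN (1 : Matrix (Fin n) (Fin n) T) = 1 := by
  have : Matrix.comp (Fin m) (Fin m) (Fin n) (Fin n) T (Matrix.diagonal fun _ => (1 : Matrix (Fin n) (Fin n) T)) = 1 := by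
    rw [Matrix.diagonal_one]; exact map_one (Matrix.compRingEquiv (Fin m) (Fin n) T)
  rw [blk, this, Matrix.reindex_apply, Matrix.submatrix_one_equiv]

theorem blk_Jn {T : Type*} [CommRing T] {m N : ℕ} (hN : m * n = N) (hev : Even n) :
    blk hN (Jn T n) = Jn T N := by
  obtain ⟨c, rfl⟩ := hev
  subst hN
  ext p p'
  obtain ⟨⟨i, x⟩, rfl⟩ := (finProdFinEquiv).surjective p
  obtain ⟨⟨j, y⟩, rfl⟩ := (finProdFinEquiv).surjective p'
  have hx := x.isLt
  have hy := y.isLt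
  have hd : ∀ (a b : ℕ), (a + (c + c) * b) / 2 = a / 2 + c * b ∧ (a + (c + c) * b) % 2 = a % 2 := fun a b => by
    rw [show (c + c) * b = 2 * (c * b) by ring]; omega
  simp only [blk, finCongr_refl, Equiv.trans_refl, Matrix.reindex_apply, Matrix.submatrix_apply, Equiv.symm_apply_apply,
    Matrix.comp_apply, Jn, finProdFinEquiv_apply_val, (hd _ _).1, (hd _ _).2]
  by_cases hij : i = j
  · subst hij
    rw [Matrix.diagonal_apply_eq]
    simp [Jn, Nat.add_right_cancel_iff]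
  · have : ¬ (x.val / 2 + c * i.val = y.val / 2 + c * j.val) := fun h => by
      apply hij
      ext
      have h1 : (x.val / 2 + c * i.val) / c = i.val := by
        rw [Nat.add_mul_div_left _ _ (by omega : 0 < c), Nat.div_eq_of_lt (by omega : x.val / 2 < c), zero_add]
      have h2 : (y.val / 2 + c * j.val) / c = j.val := by
        rw [Nat.add_mul_div_left _ _ (by omega : 0 < c), Nat.div_eq_of_lt (by omega : y.val / 2 < c), zero_add]
      rw [← h1, ← h2, h]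
    rw [if_neg this, Matrix.diagonal_apply_ne _ hij]
    rfl

theorem nf_matrix {t : AzInv.LamInv R A lam} {m N : ℕ} (hN : m * n = N)
    {W : Matrix (Fin n) (Fin n) (Lim S Ω ⊗[S] R)} (h : NF lam Ω t W) :
    NF lam Ω (t.matrix (Fin m)) (blk hN W) := by
  obtain ⟨h, hh⟩ := h
  let T := Lim S Ω ⊗[S] R
  let e := finProdFinEquiv.trans (finCongr hN)
  let K : Matrix (Fin m) (Fin m) (Matrix (Fin n) (Fin n) T) ≃ₐ[R] Matrix (Fin N) (Fin N) T :=
    (Matrix.compAlgEquiv (Fin m) (Fin n) T R).trans (Matrix.reindexAlgEquiv R T e)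
  refine ⟨K.toAlgHom.comp h.mapMatrix, fun M => ?_⟩
  let Q : Matrix (Fin m) (Fin m) (Matrix (Fin n) (Fin n) T) := Matrix.of fun i j => ((h (M j i)).map (lamL lam))ᵀ
  have h1 : h.mapMatrix (t.matrix (Fin m) M) * Matrix.diagonal (fun _ => W) = Matrix.diagonal (fun _ => W) * Q := by
    ext i j : 1
    rw [Matrix.mul_diagonal, Matrix.diagonal_mul, AlgHom.mapMatrix_apply, Matrix.map_apply, AzInv.LamInv.matrix_apply, hh]
    rfl
  have h2 : K Q = ((K (h.mapMatrix M)).map (lamL lam))ᵀ := by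
    ext p p'
    simp [K, Q]
  change K (h.mapMatrix (t.matrix (Fin m) M)) * K (Matrix.diagonal fun _ => W) = K (Matrix.diagonal fun _ => W) * _
  rw [← map_mul, h1, map_mul, h2]
  rfl

theorem orth_matrix {t : AzInv.LamInv R A lam} {m N : ℕ} (hN : m * n = N) (h : Orth lam Ω t n) :
    Orth lam Ω (t.matrix (Fin m)) N := by
  have := nf_matrix lam hN h
  rwa [blk_one] at this

theorem symp_matrix {t : AzInv.LamInv R A lam} {m N : ℕ} (hN : m * n = N) (hev : Even n) (h : Symp lam Ω t n) :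
    Symp lam Ω (t.matrix (Fin m)) N := by
  have := nf_matrix lam hN h
  rwa [blk_Jn hN hev] at this

theorem nf_std_conj (hlam : ∀ r, lam (lam r) = r) (w : (Matrix (Fin n) (Fin n) R)ˣ) (e : R)
    (hw : AzInv.LamInv.transpose lam (Fin n) hlam (↑w : Matrix (Fin n) (Fin n) R) = e • (↑w : Matrix (Fin n) (Fin n) R))
    (he : lam e * e = 1) :
    NF lam Ω ((AzInv.LamInv.transpose lam (Fin n) hlam).conj w e hw he)
      ((w : Matrix (Fin n) (Fin n) R).map (algebraMap R (Lim S Ω ⊗[S] R))) := by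
  refine ⟨(Algebra.ofId R (Lim S Ω ⊗[S] R)).mapMatrix, fun X => ?_⟩
  let f : Matrix (Fin n) (Fin n) R →+* Matrix (Fin n) (Fin n) (Lim S Ω ⊗[S] R) := (algebraMap R _).mapMatrix
  change f ((w : Matrix (Fin n) (Fin n) R) * AzInv.LamInv.transpose lam (Fin n) hlam X * ((w⁻¹ : (Matrix (Fin n) (Fin n) R)ˣ) : Matrix (Fin n) (Fin n) R)) * f w = f w * _
  rw [← map_mul, mul_assoc, Units.inv_mul, mul_one, map_mul]
  congr 1

theorem orth_transpose (hlam : ∀ r, lam (lam r) = r) :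
    Orth lam Ω (AzInv.LamInv.transpose lam (Fin n) hlam) n :=
  ⟨(Algebra.ofId R (Lim S Ω ⊗[S] R)).mapMatrix, fun X => by rw [mul_one, one_mul]; rfl⟩

theorem orth_self_matrix (hlam : ∀ r, lam (lam r) = r) :
    Orth lam Ω ((AzInv.LamInv.self lam hlam).matrix (Fin n)) n :=
  orth_transpose lam hlam

include hlam hfix in
theorem orth_iff_of_sameType [IsAlgClosed Ω] {A : Type w} [Ring A] [Algebra S A] [Algebra R A] [IsScalarTower S R A]
    {n n' : ℕ} (hn : 0 < n) (hn' : 0 < n') (hA : AzInv.IsAzumayaDeg R A n) (hA' : AzInv.IsAzumayaDeg R A' n')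
    {t : AzInv.LamInv R A lam} {t' : AzInv.LamInv R A' lam} {p : PrimeSpectrum S}
    (hker : RingHom.ker (algebraMap S Ω) = p.asIdeal) (hsqL : ∀ x : (Lim S Ω)ˣ, ∃ y : Lim S Ω, y * y = x)
    (hc : (∃ x : Lim S Ω ⊗[S] R, lamL lam x - x ∉ Ring.jacobson (Lim S Ω ⊗[S] R)) ∨ IsUnit (2 : S) ∨ (Odd n ∧ Odd n'))
    (h : AzInv.SameType S lam t t') : Orth lam Ω t n ↔ Orth lam Ω t' n' := by
  obtain ⟨m, m', hm, hm', hloc⟩ := h
  obtain ⟨⟨ψ⟩, ⟨ψ'⟩⟩ := hom_of_locIsoEt lam hker hloc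
  have hB := matrix_deg hm hA
  have hB' := matrix_deg hm' hA'
  have hN : m' * n' = m * n := le_antisymm (deg_le lam hlam hfix (Nat.mul_pos hm hn) hB' hB ψ')
    (deg_le lam hlam hfix (Nat.mul_pos hm' hn') hB hB' ψ)
  constructor <;> intro hO
  · refine (classify lam hlam hfix hn' hA' t' hsqL (hc.imp_right (Or.imp_right (·.2)))).resolve_right ?_
    rintro ⟨hid, h2, hev, hS⟩
    exact not_both' lam hlam hfix (Nat.mul_pos hm hn) (hN ▸ hev.mul_left m') hB _ hid h2 (orth_matrix lam rfl hO)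
      (nf_of_hom lam ψ (symp_matrix lam hN hev hS))
  · refine (classify lam hlam hfix hn hA t hsqL (hc.imp_right (Or.imp_right (·.1)))).resolve_right ?_
    rintro ⟨hid, h2, hev, hS⟩
    exact not_both' lam hlam hfix (Nat.mul_pos hm hn) (hev.mul_left m) hB _ hid h2
      (nf_of_hom lam ψ (orth_matrix lam hN hO)) (symp_matrix lam rfl hev hS)

end Groth.Agent.Lib.AzInvType
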