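import Groth.Agent.Lib.AzInvTypeMain
import Mathlib

/-!
# The orthogonal and symplectic loci

* `exists_idem`: on a totally ramified base the orthogonal locus is cut out by an idempotent
* `transpose_conj`: every involution is locally a conjugated transpose
* `sameType_self_or_symp`, `not_sameType`: the two types when the spectrum is connected
-/

universe u v w w'

open scoped TensorProduct
open Matrix Groth.Agent.Lib.Henselian.Pointed Groth.Agent.Lib.EtSite.LimTensor
open Groth.Agent.Lib.AzInvNormal Groth.Agent.Lib.AzInvPoint Groth.Agent.Lib.AzInvType Groth.Agent.Lib.AzInvTypeMain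

namespace Groth.Agent.Lib.AzInvTypeGlobal

attribute [local instance] Algebra.TensorProduct.rightAlgebra

/-- `Jn` as a unit. -/
def JnU (T : Type*) [CommRing T] {n : ℕ} (hev : Even n) : (Matrix (Fin n) (Fin n) T)ˣ :=
  ⟨Jn T n, -Jn T n, by rw [mul_neg, Jn_mul_self T hev, neg_neg], by rw [neg_mul, Jn_mul_self T hev, neg_neg]⟩

/-- An algebraically closed point over a prime. -/
theorem exists_geom {S : Type u} [CommRing S] (p : PrimeSpectrum S) :
    ∃ (Ω : Type u) (_ : Field Ω) (_ : IsAlgClosed Ω) (_ : Algebra S Ω), RingHom.ker (algebraMap S Ω) = p.asIdeal := by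
  let Ω := AlgebraicClosure p.asIdeal.ResidueField
  let _ : Algebra S Ω := ((algebraMap p.asIdeal.ResidueField Ω).comp (algebraMap S p.asIdeal.ResidueField)).toAlgebra
  refine ⟨Ω, inferInstance, inferInstance, inferInstance, ?_⟩
  ext s
  rw [RingHom.mem_ker]
  exact (map_eq_zero (algebraMap p.asIdeal.ResidueField Ω)).trans Ideal.algebraMap_residueField_eq_zero

variable {S : Type u} {R : Type v} [CommRing S] [CommRing R] [Algebra S R] (lam : R ≃ₐ[S] R)
  (hlam : ∀ r, lam (lam r) = r)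

theorem transpose_Jn (n : ℕ) :
    AzInv.LamInv.transpose lam (Fin n) hlam (Jn R n) = (-1 : R) • Jn R n := by
  change ((Jn R n).map lam)ᵀ = _
  rw [show (Jn R n).map lam = Jn R n from Jn_map lam.toRingHom n, Jn_transpose, neg_one_smul]

theorem symp_conj_Jn {Ω : Type u} [Field Ω] [Algebra S Ω] {n : ℕ} (hev : Even n) :
    Symp lam Ω ((AzInv.LamInv.transpose lam (Fin n) hlam).conj (JnU R hev) (-1) (transpose_Jn lam hlam n)
      (by simp)) n := by
  have := nf_std_conj (Ω := Ω) lam hlam (JnU R hev) (-1) (transpose_Jn lam hlam n) (by simp)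
  rw [show ((JnU R hev : (Matrix (Fin n) (Fin n) R)ˣ) : Matrix (Fin n) (Fin n) R).map (algebraMap R (Lim S Ω ⊗[S] R)) =
    Jn (Lim S Ω ⊗[S] R) n from Jn_map (algebraMap R (Lim S Ω ⊗[S] R)) n] at this
  exact this

variable (hfix : RInv.IsFixedRing S R lam.toRingEquiv)
  {A : Type w} [Ring A] [Algebra S A] [Algebra R A] [IsScalarTower S R A]

include hlam hfix

theorem isUnit_two {Ω : Type u} [Field Ω] [Algebra S Ω] (h2 : IsUnit (2 : S)) : IsUnit (2 : Lim S Ω ⊗[S] R) := by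
  have := h2.map (algebraMap S (Lim S Ω ⊗[S] R))
  rwa [map_ofNat] at this

theorem orth_open {n : ℕ} (hn : 0 < n) (hA : AzInv.IsAzumayaDeg R A n) (t : AzInv.LamInv R A lam)
    {p : PrimeSpectrum S} {Ω : Type u} [Field Ω] [IsAlgClosed Ω] [Algebra S Ω]
    (hker : RingHom.ker (algebraMap S Ω) = p.asIdeal) (hO : Orth lam Ω t n) :
    ∃ U : Set (PrimeSpectrum S), IsOpen U ∧ p ∈ U ∧ ∀ q ∈ U, ∀ (Ω' : Type u) [Field Ω'] [IsAlgClosed Ω'] [Algebra S Ω'],
      RingHom.ker (algebraMap S Ω') = q.asIdeal → Orth lam Ω' t n := by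
  have := hA.1
  obtain ⟨ψ⟩ := hom_of_nf lam hn (std_deg R hn) (mul_one 1) hO (orth_transpose lam hlam)
  obtain ⟨U, hU, hp, h⟩ := exists_open lam hker ψ
  exact ⟨U, hU, hp, fun q hq Ω' _ _ _ hq' => (h q hq Ω' hq').elim fun ψ' => nf_of_hom lam ψ' (orth_transpose lam hlam)⟩

theorem symp_open {n : ℕ} (hn : 0 < n) (hev : Even n) (hA : AzInv.IsAzumayaDeg R A n) (t : AzInv.LamInv R A lam)
    {p : PrimeSpectrum S} {Ω : Type u} [Field Ω] [IsAlgClosed Ω] [Algebra S Ω]
    (hker : RingHom.ker (algebraMap S Ω) = p.asIdeal) (hO : Symp lam Ω t n) :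
    ∃ U : Set (PrimeSpectrum S), IsOpen U ∧ p ∈ U ∧ ∀ q ∈ U, ∀ (Ω' : Type u) [Field Ω'] [IsAlgClosed Ω'] [Algebra S Ω'],
      RingHom.ker (algebraMap S Ω') = q.asIdeal → Symp lam Ω' t n := by
  have := hA.1
  obtain ⟨ψ⟩ := hom_of_nf lam hn (std_deg R hn) (W' := -Jn _ n) (by rw [mul_neg, Jn_mul_self _ hev, neg_neg]) hO
    (symp_conj_Jn lam hlam hev)
  obtain ⟨U, hU, hp, h⟩ := exists_open lam hker ψ
  exact ⟨U, hU, hp, fun q hq Ω' _ _ _ hq' => (h q hq Ω' hq').elim fun ψ' => nf_of_hom lam ψ' (symp_conj_Jn lam hlam hev)⟩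

theorem exists_idem {n : ℕ} (hn : 0 < n) (hev : Even n) (hA : AzInv.IsAzumayaDeg R A n) (t : AzInv.LamInv R A lam)
    (hsqL : ∀ (Ω : Type u) [Field Ω] [IsAlgClosed Ω] [Algebra S Ω] (x : (Lim S Ω)ˣ), ∃ y : Lim S Ω, y * y = x)
    (h2 : IsUnit (2 : S))
    (hram : ∀ (p : PrimeSpectrum S) (r : R) (a : S), algebraMap S R a = (r - lam r) ^ 2 → a ∈ p.asIdeal) :
    ∃ ε : S, IsIdempotentElem ε ∧ ∀ (p : PrimeSpectrum S) (Ω : Type u) [Field Ω] [IsAlgClosed Ω] [Algebra S Ω],
      RingHom.ker (algebraMap S Ω) = p.asIdeal → (ε ∉ p.asIdeal → Orth lam Ω t n) ∧ (ε ∈ p.asIdeal → Symp lam Ω t n) := by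
  let O : Set (PrimeSpectrum S) := {p | ∀ (Ω : Type u) [Field Ω] [IsAlgClosed Ω] [Algebra S Ω],
    RingHom.ker (algebraMap S Ω) = p.asIdeal → Orth lam Ω t n}
  have hex : ∀ (p : PrimeSpectrum S) (Ω : Type u) [Field Ω] [IsAlgClosed Ω] [Algebra S Ω],
      RingHom.ker (algebraMap S Ω) = p.asIdeal → Orth lam Ω t n → Symp lam Ω t n → False := fun p Ω _ _ _ hker =>
    not_both' lam hlam hfix hn hev hA t (forall_sub_mem lam hlam hfix fun r a ha => hker ▸ hram p r a ha)
      (isUnit_two lam hlam hfix h2)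
  have hO : IsOpen O := isOpen_iff_forall_mem_open.2 fun p hp => by
    obtain ⟨Ω, _, _, _, hker⟩ := exists_geom p
    obtain ⟨U, hU, hpU, h⟩ := orth_open lam hlam hfix hn hA t hker (hp Ω hker)
    exact ⟨U, h, hU, hpU⟩
  have hOc : IsOpen Oᶜ := isOpen_iff_forall_mem_open.2 fun p hp => by
    simp only [O, Set.mem_compl_iff, Set.mem_setOf_eq, not_forall] at hp
    obtain ⟨Ω, _, _, _, hker, hnO⟩ := hp
    obtain ⟨-, -, -, hS⟩ := (classify lam hlam hfix hn hA t (hsqL Ω) (Or.inr (Or.inl h2))).resolve_left hnO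
    obtain ⟨U, hU, hpU, h⟩ := symp_open lam hlam hfix hn hev hA t hker hS
    refine ⟨U, fun q hq hqO => ?_, hU, hpU⟩
    obtain ⟨Ω', _, _, _, hker'⟩ := exists_geom q
    exact hex q Ω' hker' (hqO Ω' hker') (h q hq Ω' hker')
  obtain ⟨ε, hε, hεO⟩ := PrimeSpectrum.isClopen_iff.1 (⟨⟨hOc⟩, hO⟩ : IsClopen O)
  refine ⟨ε, hε, fun p Ω _ _ _ hker => ⟨fun h => ?_, fun h => ?_⟩⟩
  · have : p ∈ O := by rw [hεO]; exact h
    exact this Ω hker
  · have : p ∉ O := by rw [hεO]; exact fun h' => h' h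
    rcases classify lam hlam hfix hn hA t (hsqL Ω) (Or.inr (Or.inl h2)) with hor | ⟨-, -, -, hS⟩
    · exfalso
      obtain ⟨U, -, hpU, h'⟩ := orth_open lam hlam hfix hn hA t hker hor
      exact this fun Ω' _ _ _ hq' => h' p hpU Ω' hq'
    · exact hS

theorem transpose_conj {n : ℕ} (hn : 0 < n) (hA : AzInv.IsAzumayaDeg R A n) (t : AzInv.LamInv R A lam)
    (hsqL : ∀ (Ω : Type u) [Field Ω] [IsAlgClosed Ω] [Algebra S Ω] (x : (Lim S Ω)ˣ), ∃ y : Lim S Ω, y * y = x)
    (hram : (IsUnit (2 : S) ∧ ∀ p : PrimeSpectrum S,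
        ¬ RInv.IsQuadEtale (Localization.AtPrime p.asIdeal) (Localization.AtPrime p.asIdeal ⊗[S] R)) ∨
      RInv.IsQuadEtale S R) :
    ∃ (w : (Matrix (Fin n) (Fin n) R)ˣ) (e : R)
      (hw : AzInv.LamInv.transpose lam (Fin n) hlam (↑w : Matrix (Fin n) (Fin n) R) = e • (↑w : Matrix (Fin n) (Fin n) R))
      (he : lam e * e = 1),
      AzInv.LocIsoEt S lam t ((AzInv.LamInv.transpose lam (Fin n) hlam).conj w e hw he) := by
  by_cases hall : ∀ (p : PrimeSpectrum S) (Ω : Type u) [Field Ω] [IsAlgClosed Ω] [Algebra S Ω],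
      RingHom.ker (algebraMap S Ω) = p.asIdeal → Orth lam Ω t n
  · refine ⟨1, 1, by simp, by simp, locIsoEt_of_types lam hn hA (std_deg R hn) fun p Ω _ _ _ hker =>
      Or.inl ⟨hall p Ω hker, ?_⟩⟩
    have := nf_std_conj (Ω := Ω) lam hlam (1 : (Matrix (Fin n) (Fin n) R)ˣ) 1 (by simp) (by simp)
    unfold Orth
    convert this using 1
    exact (Matrix.map_one _ (map_zero _) (map_one _)).symm
  rcases hram with ⟨h2, hb⟩ | hq
  swap
  · refine (hall fun p Ω _ _ _ hker => ?_).elim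
    obtain ⟨x, hx⟩ := exists_sub_notMem (Ω := Ω) lam hlam hfix hq
    exact (classify lam hlam hfix hn hA t (hsqL Ω) (Or.inl ⟨x, hx⟩)).resolve_right fun h => hx (h.1 x)
  have hev : Even n := by
    by_contra hodd
    refine hall fun p Ω _ _ _ hker => ?_
    exact (classify lam hlam hfix hn hA t (hsqL Ω) (Or.inr (Or.inl h2))).resolve_right fun h => hodd h.2.2.1
  obtain ⟨ε, hε, hεp⟩ := exists_idem lam hlam hfix hn hev hA t hsqL h2 fun p r a ha =>
    (Groth.Agent.Lib.RInvQuad.branch_iff (lam := lam.toRingEquiv) hlam hfix p).1 (hb p) r a ha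
  let c := algebraMap S R ε
  have hc : c * c = c := (hε.map (algebraMap S R)).eq
  let J := Jn R n
  have hJ : J * J = -1 := Jn_mul_self R hev
  let W := c • (1 : Matrix (Fin n) (Fin n) R) + (1 - c) • J
  let W' := c • (1 : Matrix (Fin n) (Fin n) R) - (1 - c) • J
  have hWW' : W * W' = 1 ∧ W' * W = 1 := by
    have e1 : c * c + (1 - c) * (1 - c) = 1 := by linear_combination 2 * hc
    have e1' : c * c + (1 - c) = 1 := by linear_combination hc
    have e2 : c * (1 - c) = 0 := by linear_combination -hc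
    have e3 : (1 - c) * c = 0 := by linear_combination -hc
    constructor <;>
      simp only [W, W', add_mul, mul_add, sub_mul, mul_sub, smul_mul_smul_comm, one_mul, mul_one, hJ, e2, e3, zero_smul,
        sub_zero, add_zero, zero_add, zero_sub, smul_neg, neg_neg, sub_neg_eq_add, ← add_smul, e1, e1', one_smul]
  let w : (Matrix (Fin n) (Fin n) R)ˣ := ⟨W, W', hWW'.1, hWW'.2⟩
  have hlc : lam c = c := lam.commutes ε
  have hw : AzInv.LamInv.transpose lam (Fin n) hlam (↑w : Matrix (Fin n) (Fin n) R) = (2 * c - 1) • (↑w : Matrix (Fin n) (Fin n) R) := by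
    change AzInv.LamInv.transpose lam (Fin n) hlam W = _ • W
    simp only [W, AzInv.LamInv.map_add, AzInv.LamInv.map_smul, AzInv.LamInv.map_one, transpose_Jn lam hlam n, J,
      map_sub, map_one, hlc, smul_add, smul_smul]
    congr 2 <;> first | linear_combination -2 * hc | linear_combination 2 * hc
  have he : lam (2 * c - 1) * (2 * c - 1) = 1 := by
    rw [map_sub, map_mul, map_ofNat, hlc, map_one]
    linear_combination 4 * hc
  refine ⟨w, 2 * c - 1, hw, he, locIsoEt_of_types lam hn hA (std_deg R hn) fun p Ω _ _ _ hker => ?_⟩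
  · have hnf := nf_std_conj (Ω := Ω) lam hlam w (2 * c - 1) hw he
    let T := Lim S Ω ⊗[S] R
    have hmap : ∀ d : T, algebraMap R T c = d → W.map (algebraMap R T) = d • 1 + (1 - d) • Jn T n := by
      intro d hd
      have h1 : (algebraMap R T).mapMatrix W = d • 1 + (1 - d) • Jn T n := by
        ext i j
        simp [W, J, ← Jn_map (algebraMap R T) n, Matrix.one_apply, apply_ite (algebraMap R T), hd]
      exact h1
    have hidem := hε.map (algebraMap S (Lim S Ω))
    have hcT : algebraMap R T c = algebraMap S T ε := by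
      change (1 : Lim S Ω) ⊗ₜ[S] algebraMap S R ε = _
      rw [Algebra.TensorProduct.algebraMap_apply, ← Algebra.TensorProduct.tmul_one_eq_one_tmul]
    have key : algebraMap S (Lim S Ω) ε = 0 ∨ algebraMap S (Lim S Ω) ε = 1 := by
      rcases IsLocalRing.isUnit_or_isUnit_one_sub_self (algebraMap S (Lim S Ω) ε) with h | h
      · exact Or.inr (h.mul_left_cancel (hidem.eq.trans (mul_one _).symm))
      · exact Or.inl (h.mul_left_cancel (by rw [hidem.one_sub_mul_self, mul_zero]))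
    have hmem : ε ∈ p.asIdeal ↔ algebraMap S (Lim S Ω) ε = 0 := by
      rw [← hker, ← comap_maximalIdeal (Ω := Ω), Ideal.mem_comap]
      refine ⟨fun h => key.resolve_right fun h1 => ?_, fun h => h ▸ zero_mem _⟩
      exact (IsLocalRing.maximalIdeal.isMaximal _).ne_top ((Ideal.eq_top_iff_one _).2 (h1 ▸ h))
    by_cases hp : ε ∈ p.asIdeal
    · refine Or.inr ⟨hev, (hεp p Ω hker).2 hp, ?_⟩
      have e0 : algebraMap R T c = 0 := by
        rw [hcT, IsScalarTower.algebraMap_apply S (Lim S Ω) T, hmem.1 hp, map_zero]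
      rw [show (w : Matrix (Fin n) (Fin n) R) = W from rfl, hmap _ e0, zero_smul, zero_add, sub_zero, one_smul] at hnf
      exact hnf
    · refine Or.inl ⟨(hεp p Ω hker).1 hp, ?_⟩
      have e1 : algebraMap R T c = 1 := by
        rw [hcT, IsScalarTower.algebraMap_apply S (Lim S Ω) T, key.resolve_left (mt hmem.2 hp), map_one]
      rw [show (w : Matrix (Fin n) (Fin n) R) = W from rfl, hmap _ e1, one_smul, sub_self, zero_smul, add_zero] at hnf
      exact hnf

variable (J : (Matrix (Fin 2) (Fin 2) R)ˣ) (hJ : (↑J : Matrix (Fin 2) (Fin 2) R) = Matrix.of ![![0, -1], ![1, 0]])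
    (hJt : AzInv.LamInv.transpose lam (Fin 2) hlam (↑J : Matrix (Fin 2) (Fin 2) R) = (-1 : R) • (↑J : Matrix (Fin 2) (Fin 2) R))
    (hneg : lam (-1) * (-1) = 1)

omit hfix
include hJ

theorem symp_J {Ω : Type u} [Field Ω] [Algebra S Ω] :
    Symp lam Ω ((AzInv.LamInv.transpose lam (Fin 2) hlam).conj J (-1) hJt hneg) 2 := by
  obtain ⟨h, hh⟩ := nf_std_conj (Ω := Ω) lam hlam J (-1) hJt hneg
  refine ⟨h, ?_⟩
  have e : (-1 : Lim S Ω ⊗[S] R) • ((J : Matrix (Fin 2) (Fin 2) R).map (algebraMap R (Lim S Ω ⊗[S] R))) =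
      Jn (Lim S Ω ⊗[S] R) 2 := by
    ext i j
    fin_cases i <;> fin_cases j <;> simp [hJ, Jn]
  exact e ▸ hh.smul (lamL_invol (Ω := Ω) lam hlam) (-1)

include hfix

theorem sameType_self_or_symp {n : ℕ} (hn : 0 < n) (hA : AzInv.IsAzumayaDeg R A n) (t : AzInv.LamInv R A lam)
    (hsqL : ∀ (Ω : Type u) [Field Ω] [IsAlgClosed Ω] [Algebra S Ω] (x : (Lim S Ω)ˣ), ∃ y : Lim S Ω, y * y = x)
    (h2 : IsUnit (2 : S))
    (hram : ∀ (p : PrimeSpectrum S) (r : R) (a : S), algebraMap S R a = (r - lam r) ^ 2 → a ∈ p.asIdeal)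
    [ConnectedSpace (PrimeSpectrum S)] :
    AzInv.SameType S lam t (AzInv.LamInv.self lam hlam) ∨
      AzInv.SameType S lam t ((AzInv.LamInv.transpose lam (Fin 2) hlam).conj J (-1) hJt hneg) := by
  by_cases hev : Even n
  swap
  · exact Or.inl (sameType_self lam hlam hfix hn hA t fun p Ω _ _ _ _ =>
      (classify lam hlam hfix hn hA t (hsqL Ω) (Or.inr (Or.inl h2))).resolve_right fun h => hev h.2.2.1)
  obtain ⟨ε, hε, hεp⟩ := exists_idem lam hlam hfix hn hev hA t hsqL h2 hram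
  have hcl : IsClopen (PrimeSpectrum.basicOpen ε : Set (PrimeSpectrum S)) :=
    PrimeSpectrum.isClopen_iff.2 ⟨ε, hε, rfl⟩
  rcases isClopen_iff.1 hcl with h0 | h1
  · right
    obtain ⟨k, hk⟩ := hev
    have hkn : k * 2 = n := by omega
    have hB := matrix_deg (m := 1) Nat.one_pos hA
    rw [one_mul] at hB
    have hB' := matrix_deg (m := k) (by omega) (std_deg R (n := 2) Nat.two_pos)
    rw [hkn] at hB'
    refine ⟨1, k, Nat.one_pos, by omega, locIsoEt_of_types lam hn hB hB' fun p Ω _ _ _ hker => ?_⟩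
    have hp : ε ∈ p.asIdeal := by
      by_contra hp
      exact Set.notMem_empty p (h0 ▸ hp)
    exact Or.inr ⟨⟨k, hk⟩, symp_matrix lam (one_mul n) ⟨k, hk⟩ ((hεp p Ω hker).2 hp),
      symp_matrix lam hkn even_two (symp_J lam hlam J hJ hJt hneg)⟩
  · exact Or.inl (sameType_self lam hlam hfix hn hA t fun p Ω _ _ _ hker =>
      (hεp p Ω hker).1 (show p ∈ (PrimeSpectrum.basicOpen ε : Set (PrimeSpectrum S)) by rw [h1]; trivial))

theorem not_sameType [Nontrivial S]
    (hsqL : ∀ (Ω : Type u) [Field Ω] [IsAlgClosed Ω] [Algebra S Ω] (x : (Lim S Ω)ˣ), ∃ y : Lim S Ω, y * y = x)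
    (h2 : IsUnit (2 : S))
    (hram : ∀ (p : PrimeSpectrum S) (r : R) (a : S), algebraMap S R a = (r - lam r) ^ 2 → a ∈ p.asIdeal) :
    ¬ AzInv.SameType S lam (AzInv.LamInv.self lam hlam) ((AzInv.LamInv.transpose lam (Fin 2) hlam).conj J (-1) hJt hneg) := by
  intro h
  obtain ⟨p⟩ : Nonempty (PrimeSpectrum S) := inferInstance
  obtain ⟨Ω, _, _, _, hker⟩ := exists_geom p
  have hR : AzInv.IsAzumayaDeg R R 1 := ⟨IsAzumaya.id R, fun q => by
    have : Nontrivial R := ⟨0, 1, fun h => q.2.ne_top (Ideal.eq_top_of_isUnit_mem _ q.1.zero_mem (h ▸ isUnit_one))⟩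
    simp [Module.rankAtStalk_eq_finrank_of_free]⟩
  have hO : Orth lam Ω (AzInv.LamInv.self lam hlam) 1 := ⟨Algebra.ofId R _, fun r => by
    rw [mul_one, one_mul]
    change algebraMap R (Matrix (Fin 1) (Fin 1) _) (lam r) = ((algebraMap R (Matrix (Fin 1) (Fin 1) (Lim S Ω ⊗[S] R)) r).map _)ᵀ
    ext i j
    simp only [Subsingleton.elim i j, Matrix.transpose_apply, Matrix.map_apply, Matrix.algebraMap_matrix_apply, if_true]
    exact (lamL_algebraMap lam Ω r).symm⟩
  have h2' := (orth_iff_of_sameType lam hlam hfix Nat.one_pos Nat.two_pos hR (std_deg R Nat.two_pos) hker (hsqL Ω)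
    (Or.inr (Or.inl h2)) h).1 hO
  exact not_both' lam hlam hfix Nat.two_pos even_two (std_deg R Nat.two_pos) _
    (forall_sub_mem lam hlam hfix fun r a ha => hker ▸ hram p r a ha) (isUnit_two lam hlam hfix h2) h2'
    (symp_J lam hlam J hJ hJt hneg)

end Groth.Agent.Lib.AzInvTypeGlobal
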