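import Groth.Agent.Lib.AzInvType
import Mathlib

/-!
# Types of involutions: gluing the local types

* `sameType_of_local`: `SameType` from equal local types
* `locIsoEt_of_types`: `LocIsoEt` from equal local types in equal degree
-/

universe u v w w'

open scoped TensorProduct
open Groth.Agent.Lib.Henselian.Pointed Groth.Agent.Lib.EtSite.LimTensor
open Groth.Agent.Lib.AzInvNormal Groth.Agent.Lib.AzInvPoint Groth.Agent.Lib.AzInvType

namespace Groth.Agent.Lib.AzInvTypeMain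

attribute [local instance] Algebra.TensorProduct.rightAlgebra

theorem std_deg (R : Type v) [CommRing R] {n : ℕ} (hn : 0 < n) : AzInv.IsAzumayaDeg R (Matrix (Fin n) (Fin n) R) n := by
  have : NeZero n := ⟨hn.ne'⟩
  refine ⟨IsAzumaya.matrix R (Fin n), fun q => ?_⟩
  have : Nontrivial R := ⟨0, 1, fun h => q.2.ne_top (Ideal.eq_top_of_isUnit_mem _ q.1.zero_mem (h ▸ isUnit_one))⟩
  rw [Module.rankAtStalk_eq_finrank_of_free, Pi.natCast_apply, Nat.cast_id, Module.finrank_matrix, Module.finrank_self,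
    Fintype.card_fin, mul_one, pow_two]

variable {S : Type u} {R : Type v} [CommRing S] [CommRing R] [Algebra S R] (lam : R ≃ₐ[S] R)
  {A : Type w} [Ring A] [Algebra S A] [Algebra R A] [IsScalarTower S R A]
  {A' : Type w'} [Ring A'] [Algebra S A'] [Algebra R A'] [IsScalarTower S R A']

theorem locIsoEt_of_types {n : ℕ} (hn : 0 < n) (hA : AzInv.IsAzumayaDeg R A n) (hA' : AzInv.IsAzumayaDeg R A' n)
    {t : AzInv.LamInv R A lam} {t' : AzInv.LamInv R A' lam}
    (h : ∀ p : PrimeSpectrum S, ∀ (Ω : Type u) [Field Ω] [IsAlgClosed Ω] [Algebra S Ω],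
      RingHom.ker (algebraMap S Ω) = p.asIdeal →
        (Orth lam Ω t n ∧ Orth lam Ω t' n) ∨ (Even n ∧ Symp lam Ω t n ∧ Symp lam Ω t' n)) :
    AzInv.LocIsoEt S lam t t' := by
  have := hA.1
  have := hA'.1
  refine Groth.Agent.Lib.AzInvLoc.locIsoEt_of_local (fun q => (hA.2 q).trans (hA'.2 q).symm) fun p Ω _ _ _ hker => ?_
  rcases h p Ω hker with ⟨h1, h2⟩ | ⟨hev, h1, h2⟩
  · exact hom_of_nf lam hn hA' (mul_one 1) h1 h2
  · exact hom_of_nf lam hn hA' (W' := -Jn _ n) (by rw [mul_neg, Jn_mul_self _ hev, neg_neg]) h1 h2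

variable (hlam : ∀ r, lam (lam r) = r) (hfix : RInv.IsFixedRing S R lam.toRingEquiv)
include hlam hfix

theorem sameType_self {n : ℕ} (hn : 0 < n) (hA : AzInv.IsAzumayaDeg R A n) (t : AzInv.LamInv R A lam)
    (h : ∀ p : PrimeSpectrum S, ∀ (Ω : Type u) [Field Ω] [IsAlgClosed Ω] [Algebra S Ω],
      RingHom.ker (algebraMap S Ω) = p.asIdeal → Orth lam Ω t n) :
    AzInv.SameType S lam t (AzInv.LamInv.self lam hlam) := by
  have hB := matrix_deg (m := 1) Nat.one_pos hA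
  rw [one_mul] at hB
  exact ⟨1, n, Nat.one_pos, hn, locIsoEt_of_types lam hn hB (std_deg R hn) fun p Ω _ _ _ hker =>
    Or.inl ⟨orth_matrix lam (one_mul n) (h p Ω hker), orth_self_matrix lam hlam⟩⟩

theorem locIsoEt_of_sameType {n : ℕ} (hn : 0 < n) (hA : AzInv.IsAzumayaDeg R A n) (hA' : AzInv.IsAzumayaDeg R A' n)
    {t : AzInv.LamInv R A lam} {t' : AzInv.LamInv R A' lam}
    (hsqL : ∀ (Ω : Type u) [Field Ω] [IsAlgClosed Ω] [Algebra S Ω] (x : (Lim S Ω)ˣ), ∃ y : Lim S Ω, y * y = x)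
    (hc : IsUnit (2 : S) ∨ RInv.IsQuadEtale S R ∨ Odd n) (h : AzInv.SameType S lam t t') :
    AzInv.LocIsoEt S lam t t' := by
  refine locIsoEt_of_types lam hn hA hA' fun p Ω _ _ _ hker => ?_
  have hc' : (∃ x : Lim S Ω ⊗[S] R, lamL lam x - x ∉ Ring.jacobson (Lim S Ω ⊗[S] R)) ∨ IsUnit (2 : S) ∨ Odd n := by
    rcases hc with h | h | h
    · exact Or.inr (Or.inl h)
    · exact Or.inl (exists_sub_notMem lam hlam hfix h)
    · exact Or.inr (Or.inr h)
  have hiff := orth_iff_of_sameType lam hlam hfix hn hn hA hA' hker (hsqL Ω)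
    (hc'.imp_right (Or.imp_right fun h => ⟨h, h⟩)) h
  rcases classify lam hlam hfix hn hA t (hsqL Ω) hc' with h1 | ⟨hid, h2, hev, h1⟩
  · exact Or.inl ⟨h1, hiff.1 h1⟩
  · rcases classify lam hlam hfix hn hA' t' (hsqL Ω) hc' with h3 | ⟨-, -, -, h3⟩
    · exact (not_both' lam hlam hfix hn hev hA t hid h2 (hiff.2 h3) h1).elim
    · exact Or.inr ⟨hev, h1, h3⟩

end Groth.Agent.Lib.AzInvTypeMain
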