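import Groth.Agent.H22.LG
import Groth.Agent.H22.Nil
import Groth.Agent.Lib.CSA.SimpleModule
import Groth.Agent.Lib.Azumaya.Criterion
import Mathlib.RingTheory.Flat.Rank
import Mathlib.Algebra.Module.Projective
import Mathlib

/-!
# Projective modules over Azumaya algebras over LG-rings

* `exists_surjective`: rank comparison gives an epimorphism
* `nonempty_linearEquiv`: equal ranks give an isomorphism
-/

universe u v w w'

open TensorProduct LinearMap Groth.Agent.H22

namespace Groth.Agent.Lib.AzumayaLG

theorem exists_surjective_of_finrank_le {k : Type u} [Field k] {B : Type v} [Ring B] [Algebra k B] [IsSimpleRing B]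
    [FiniteDimensional k B] {M : Type w} [AddCommGroup M] [Module B M] [Module k M] [IsScalarTower k B M]
    [FiniteDimensional k M] {N : Type w'} [AddCommGroup N] [Module B N] [Module k N] [IsScalarTower k B N]
    [FiniteDimensional k N] (h : Module.finrank k N ≤ Module.finrank k M) :
    ∃ f : M →ₗ[B] N, Function.Surjective f := by
  have := IsArtinianRing.of_finite k B
  obtain ⟨I, hI⟩ := IsAtomic.exists_atom (Submodule B B)
  have : IsSimpleModule B I := isSimpleModule_iff_isAtom.mpr hI
  have : Module.Finite B M := Module.Finite.of_restrictScalars_finite k B M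
  have : Module.Finite B N := Module.Finite.of_restrictScalars_finite k B N
  obtain ⟨a, ⟨ea⟩⟩ := CSA.SimpleModule.exists_pow_equiv k I M
  obtain ⟨b, ⟨eb⟩⟩ := CSA.SimpleModule.exists_pow_equiv k I N
  have : Module.Finite k I := Module.Finite.of_injective
    ((Submodule.subtype I).restrictScalars k) Subtype.val_injective
  have : Nontrivial I := IsSimpleModule.nontrivial B I
  rw [(ea.restrictScalars k).finrank_eq, (eb.restrictScalars k).finrank_eq, Module.finrank_pi_fintype,
    Module.finrank_pi_fintype] at h
  simp only [Finset.sum_const, Finset.card_univ, Fintype.card_fin, smul_eq_mul] at h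
  have hba : b ≤ a := Nat.le_of_mul_le_mul_right h Module.finrank_pos
  refine ⟨(eb.symm.toLinearMap ∘ₗ LinearMap.funLeft B I (Fin.castLE hba)) ∘ₗ ea.toLinearMap, ?_⟩
  exact (eb.symm.surjective.comp (LinearMap.funLeft_surjective_of_injective B I _ (Fin.castLE_injective hba))).comp ea.surjective

variable {R : Type u} [CommRing R] {A : Type v} [Ring A] [Algebra R A] [IsAzumaya R A]
  {M : Type w} [AddCommGroup M] [Module A M] [Module R M] [IsScalarTower R A M] [Module.Finite A M] [Module.Projective A M]
  {N : Type w'} [AddCommGroup N] [Module A N] [Module R N] [IsScalarTower R A N] [Module.Finite A N] [Module.Projective A N]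

theorem finite_projective {R : Type u} [CommRing R] (A : Type v) [Ring A] [Algebra R A] [IsAzumaya R A]
    {M : Type w} [AddCommGroup M] [Module A M] [Module R M] [IsScalarTower R A M] [Module.Finite A M]
    [Module.Projective A M] : Module.Finite R M ∧ Module.Projective R M := by
  obtain ⟨n, π, i, -, -, hπi⟩ := Module.Finite.exists_comp_eq_id_of_projective A M
  have : Module.Projective R (Fin n → A) := Module.Projective.of_equiv (TensorProduct.piScalarRight R R A (Fin n))
  exact ⟨Module.Finite.trans A M, Module.Projective.of_split (i.restrictScalars R) (π.restrictScalars R)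
    (LinearMap.ext fun x => LinearMap.congr_fun hπi x)⟩

/-- `k ⊗ M` as a module over `k ⊗ A`. -/
noncomputable def act (k : Type*) [CommRing k] [Algebra R k] :
    k ⊗[R] A →ₐ[k] Module.End k (k ⊗[R] M) :=
  Algebra.TensorProduct.lift (Algebra.ofId k _)
    ((Module.End.baseChangeHom R k M).comp (Algebra.lsmul R R M : A →ₐ[R] Module.End R M))
    fun _ _ => Algebra.commutes _ _

theorem act_tmul (k : Type*) [CommRing k] [Algebra R k] (c : k) (a : A) (d : k) (x : M) :
    act (A := A) (M := M) k (c ⊗ₜ[R] a) (d ⊗ₜ[R] x) = (c * d) ⊗ₜ[R] (a • x) := by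
  simp only [act, Algebra.TensorProduct.lift_tmul, AlgHom.comp_apply]
  change algebraMap k (Module.End k (k ⊗[R] M)) c ((Algebra.lsmul R R M a).baseChange k (d ⊗ₜ[R] x)) = _
  rw [LinearMap.baseChange_tmul, Module.algebraMap_end_apply, TensorProduct.smul_tmul', smul_eq_mul]
  rfl

theorem exists_lift_surjective (m : Ideal R) [m.IsMaximal]
    (hr : Module.rankAtStalk N (⟨m, inferInstance⟩ : PrimeSpectrum R) ≤ Module.rankAtStalk M (⟨m, inferInstance⟩ : PrimeSpectrum R)) :
    ∃ (f : M →ₗ[A] N) (g : N →ₗ[A] M), ((f ∘ₗ g).restrictScalars R).baseChange (R ⧸ m) = LinearMap.id := by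
  let k := R ⧸ m
  let _ : Field k := Ideal.Quotient.field m
  let B := k ⊗[R] A
  obtain ⟨-, hB⟩ := Azumaya.Criterion.central_simple_baseChange (R := R) A k
  obtain ⟨hMf, hMp⟩ := finite_projective (R := R) (M := M) A
  obtain ⟨hNf, hNp⟩ := finite_projective (R := R) (M := N) A
  letI : Module B (k ⊗[R] M) := Module.compHom _ (act (A := A) (M := M) k).toRingHom
  letI : Module B (k ⊗[R] N) := Module.compHom _ (act (A := A) (M := N) k).toRingHom
  have : IsScalarTower k B (k ⊗[R] M) := ⟨fun c b x => by
    change act (A := A) (M := M) k (c • b) x = c • act (A := A) (M := M) k b x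
    rw [map_smul]; rfl⟩
  have : IsScalarTower k B (k ⊗[R] N) := ⟨fun c b x => by
    change act (A := A) (M := N) k (c • b) x = c • act (A := A) (M := N) k b x
    rw [map_smul]; rfl⟩
  have hrank : Module.finrank k (k ⊗[R] N) ≤ Module.finrank k (k ⊗[R] M) := by
    have hM := Module.rankAtStalk_baseChange (R := R) (M := M) (S := k) (⟨⊥, Ideal.isPrime_bot⟩ : PrimeSpectrum k)
    have hN := Module.rankAtStalk_baseChange (R := R) (M := N) (S := k) (⟨⊥, Ideal.isPrime_bot⟩ : PrimeSpectrum k)
    rw [Module.rankAtStalk_eq_finrank_of_free] at hM hN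
    simp only [Pi.natCast_apply, Nat.cast_id] at hM hN
    have hp : PrimeSpectrum.comap (algebraMap R k) ⟨⊥, Ideal.isPrime_bot⟩ = (⟨m, inferInstance⟩ : PrimeSpectrum R) :=
      PrimeSpectrum.ext (Ideal.mk_ker (I := m))
    rw [hp] at hM hN
    rwa [hM, hN]
  obtain ⟨φ, hφ⟩ := exists_surjective_of_finrank_le (k := k) (B := B) hrank
  letI : Module A (k ⊗[R] M) := Module.compHom _ (Algebra.TensorProduct.includeRight : A →ₐ[R] B).toRingHom
  letI : Module A (k ⊗[R] N) := Module.compHom _ (Algebra.TensorProduct.includeRight : A →ₐ[R] B).toRingHom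
  let ιM : M →ₗ[A] k ⊗[R] M :=
    { toFun := fun x => (1 : k) ⊗ₜ[R] x
      map_add' := fun x y => TensorProduct.tmul_add _ _ _
      map_smul' := fun a x => by
        change _ = act (A := A) (M := M) k (1 ⊗ₜ[R] a) (1 ⊗ₜ[R] x)
        rw [act_tmul, mul_one] }
  let ιN : N →ₗ[A] k ⊗[R] N :=
    { toFun := fun x => (1 : k) ⊗ₜ[R] x
      map_add' := fun x y => TensorProduct.tmul_add _ _ _
      map_smul' := fun a x => by
        change _ = act (A := A) (M := N) k (1 ⊗ₜ[R] a) (1 ⊗ₜ[R] x)
        rw [act_tmul, mul_one] }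
  let φA : k ⊗[R] M →ₗ[A] k ⊗[R] N :=
    { toFun := φ, map_add' := φ.map_add, map_smul' := fun a x => φ.map_smul _ x }
  have hιN : Function.Surjective ιN := TensorProduct.mk_surjective R N k Ideal.Quotient.mk_surjective
  have hιM : Function.Surjective ιM := TensorProduct.mk_surjective R M k Ideal.Quotient.mk_surjective
  obtain ⟨f, hf⟩ := Module.projective_lifting_property ιN (φA ∘ₗ ιM) hιN
  obtain ⟨g, hg⟩ := Module.projective_lifting_property (φA ∘ₗ ιM) ιN (hφ.comp hιM)
  refine ⟨f, g, ?_⟩
  refine TensorProduct.AlgebraTensorModule.curry_injective (LinearMap.ext_ring (LinearMap.ext fun y => ?_))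
  exact (LinearMap.congr_fun hf (g y)).trans (LinearMap.congr_fun hg y)

/-- Over an LG-ring, rank comparison gives an epimorphism. -/
theorem exists_surjective (hR : LGRing.IsLGRing R)
    (h : ∀ p : PrimeSpectrum R, Module.rankAtStalk N p ≤ Module.rankAtStalk M p) :
    ∃ f : M →ₗ[A] N, Function.Surjective f := by
  classical
  obtain ⟨hMf, hMp⟩ := finite_projective (R := R) (M := M) A
  obtain ⟨hNf, hNp⟩ := finite_projective (R := R) (M := N) A
  obtain ⟨k, π', hπ'⟩ := Module.Finite.exists_fin' R N
  obtain ⟨s', hs'⟩ := Module.projective_lifting_property π' (LinearMap.id : N →ₗ[R] N) hπ'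
  have hfin₁ : Module.Finite R (M →ₗ[A] N) := by
    obtain ⟨n, π, i, -, -, hπi⟩ := Module.Finite.exists_comp_eq_id_of_projective A M
    let F : (M →ₗ[A] N) →ₗ[R] (Fin n → N) :=
      { toFun := fun f j => f (π (Pi.single j 1))
        map_add' := fun f g => rfl
        map_smul' := fun r f => rfl }
    let G : (Fin n → N) →ₗ[R] (M →ₗ[A] N) :=
      { toFun := fun v => ((Fintype.linearCombination A v) ∘ₗ i)
        map_add' := fun f g => by
          ext x; simp [Fintype.linearCombination_apply, Finset.sum_add_distrib]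
        map_smul' := fun r f => by
          ext x; simp [Fintype.linearCombination_apply, Finset.smul_sum, smul_comm r] }
    refine Module.Finite.of_surjective G fun f => ⟨F f, ?_⟩
    ext x
    change Fintype.linearCombination A (F f) (i x) = f x
    conv_rhs => rw [← LinearMap.id_apply (R := A) x, ← hπi, LinearMap.comp_apply, pi_eq_sum_univ' (i x)]
    simp [F, Fintype.linearCombination_apply, map_sum]
  have hfin₂ : Module.Finite R (N →ₗ[A] M) := by
    obtain ⟨n, π, i, -, -, hπi⟩ := Module.Finite.exists_comp_eq_id_of_projective A N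
    let G : (Fin n → M) →ₗ[R] (N →ₗ[A] M) :=
      { toFun := fun v => ((Fintype.linearCombination A v) ∘ₗ i)
        map_add' := fun f g => by
          ext x; simp [Fintype.linearCombination_apply, Finset.sum_add_distrib]
        map_smul' := fun r f => by
          ext x; simp [Fintype.linearCombination_apply, Finset.smul_sum, smul_comm r] }
    refine Module.Finite.of_surjective G fun f => ⟨fun j => f (π (Pi.single j 1)), ?_⟩
    ext x
    change Fintype.linearCombination A _ (i x) = f x
    conv_rhs => rw [← LinearMap.id_apply (R := A) x, ← hπi, LinearMap.comp_apply, pi_eq_sum_univ' (i x)]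
    simp [Fintype.linearCombination_apply, map_sum]
  obtain ⟨p, a, ha⟩ := Module.Finite.exists_fin' R (M →ₗ[A] N)
  obtain ⟨q, b, hb⟩ := Module.Finite.exists_fin' R (N →ₗ[A] M)
  let α := fun i => a (Pi.single i 1)
  let β := fun j => b (Pi.single j 1)
  have e₂ : ∀ (x : Fin p → R) (y : Fin q → R),
      LG.mat s' π' ((a x ∘ₗ b y).restrictScalars R) =
        ∑ i, ∑ j, (x i * y j) • LG.mat s' π' ((α i ∘ₗ β j).restrictScalars R) := by
    intro x y
    have hx : a x = ∑ i, x i • α i := by
      conv_lhs => rw [pi_eq_sum_univ' x]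
      simp [α]
    have hy : b y = ∑ j, y j • β j := by
      conv_lhs => rw [pi_eq_sum_univ' y]
      simp [β]
    have : (a x ∘ₗ b y).restrictScalars R = ∑ i, ∑ j, (x i * y j) • ((α i ∘ₗ β j).restrictScalars R) := by
      ext v
      simp [hx, hy, LinearMap.sum_apply, map_sum, Finset.smul_sum, smul_smul, LinearMap.map_smul_of_tower]
      try rw [Finset.sum_comm]
      try simp only [mul_comm]
    simp only [this, map_sum, map_smul]
  let A₀ := LinearMap.toMatrix' (LinearMap.id - s' ∘ₗ π')
  obtain ⟨x, y, hu, -⟩ := LG.exists_isUnit_det hR A₀ (fun i j => LG.mat s' π' ((α i ∘ₗ β j).restrictScalars R))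
    A₀ (fun i j => LG.mat s' π' ((α i ∘ₗ β j).restrictScalars R)) fun m hm => by
      obtain ⟨f, g, hfg⟩ := exists_lift_surjective (A := A) (M := M) (N := N) m (h _)
      obtain ⟨x, rfl⟩ := ha f
      obtain ⟨y, rfl⟩ := hb g
      have := LG.det_not_mem s' π' (LinearMap.congr_fun hs') m _ hfg
      rw [e₂] at this
      exact ⟨x, y, this, this⟩
  rw [← e₂] at hu
  have hbij := LG.bijective_of_isUnit_det s' π' (LinearMap.congr_fun hs') _ hu
  exact ⟨a x, Function.Surjective.of_comp (g := b y) hbij.2⟩

/-- Over an LG-ring, equal ranks give an isomorphism. -/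
theorem nonempty_linearEquiv (hR : LGRing.IsLGRing R)
    (h : ∀ p : PrimeSpectrum R, Module.rankAtStalk M p = Module.rankAtStalk N p) :
    Nonempty (M ≃ₗ[A] N) := by
  obtain ⟨f, hf⟩ := exists_surjective (A := A) (M := M) (N := N) hR fun p => (h p).ge
  obtain ⟨g, hg⟩ := exists_surjective (A := A) (M := N) (N := M) hR fun p => (h p).le
  obtain ⟨hMf, hMp⟩ := finite_projective (R := R) (M := M) A
  have hgf : Function.Injective ((g ∘ₗ f).restrictScalars R) :=
    OrzechProperty.injective_of_surjective_endomorphism _ (hg.comp hf)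
  exact ⟨LinearEquiv.ofBijective f ⟨Function.Injective.of_comp (f := g) hgf, hf⟩⟩

end Groth.Agent.Lib.AzumayaLG
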