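import Groth.Agent.Lib.AzumayaLG
import Groth.Agent.Lib.Brauer.AzumayaBasics
import Mathlib

/-!
# Cancellation of Azumaya algebras over LG-rings

* `rho`, `iota`: the commuting actions of `A ⊗ End P` and `Aᵐᵒᵖ` on `A ⊗ P`
* `range_iota`: `Aᵐᵒᵖ` is the whole commutant
* `nonempty_algEquiv`: `A ⊗ End P ≃ B ⊗ End Q` with `A`, `B` of equal rank gives `A ≃ B`
-/

universe u v w

open TensorProduct LinearMap Groth.Agent.H22 MulOpposite

namespace Groth.Agent.Lib.AzumayaLG

variable (R : Type u) [CommRing R] (A : Type v) [Ring A] [Algebra R A] (P : Type w) [AddCommGroup P] [Module R P]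

/-- `A ⊗ End P` acting on `A ⊗ P`. -/
noncomputable def rho : A ⊗[R] Module.End R P →ₐ[R] Module.End R (A ⊗[R] P) :=
  Algebra.TensorProduct.lift
    ((Module.End.rTensorAlgHom R A P).comp (Algebra.lsmul R R A : A →ₐ[R] Module.End R A))
    (Module.End.lTensorAlgHom R P A) fun a u => TensorProduct.ext' fun b p => rfl

/-- `Aᵐᵒᵖ` acting on `A ⊗ P`. -/
noncomputable def iota : Aᵐᵒᵖ →ₐ[R] Module.End R (A ⊗[R] P) :=
  (Module.End.rTensorAlgHom R A P).comp (Algebra.lsmul R R A : Aᵐᵒᵖ →ₐ[R] Module.End R A)

variable {R A P}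

theorem rho_tmul (a b : A) (u : Module.End R P) (p : P) :
    rho R A P (a ⊗ₜ u) (b ⊗ₜ p) = (a * b) ⊗ₜ u p := by
  simp only [rho, Algebra.TensorProduct.lift_tmul, Module.End.mul_apply]
  rfl

theorem iota_tmul (a : Aᵐᵒᵖ) (b : A) (p : P) : iota R A P a (b ⊗ₜ p) = (b * a.unop) ⊗ₜ p := by
  rfl

/-- `v ↦ φ v • q`. -/
def elem (φ : Module.Dual R P) : P →ₗ[R] Module.End R P where
  toFun q := φ.smulRight q
  map_add' q q' := by ext v; simp
  map_smul' r q := by ext v; simp [smul_comm r]

theorem elem_apply (φ : Module.Dual R P) (q v : P) : elem φ q v = φ v • q := rfl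

theorem iota_injective (hR : LGRing.IsLGRing R) [Module.Finite R P] [Module.Projective R P] [FaithfulSMul R P] :
    Function.Injective (iota R A P) := by
  obtain ⟨x, φ, hφ⟩ := LG.exists_unimodular (M := P) hR
  intro a b h
  apply unop_injective
  have := congr_arg ((TensorProduct.rid R A).toLinearMap ∘ₗ φ.lTensor A) (LinearMap.congr_fun h ((1 : A) ⊗ₜ x))
  simpa [iota_tmul, hφ] using this

theorem range_iota (hR : LGRing.IsLGRing R) [Module.Finite R P] [Module.Projective R P] [FaithfulSMul R P] :
    (iota R A P).range = Subalgebra.centralizer R (Set.range (rho R A P)) := by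
  refine le_antisymm ?_ fun f hf => ?_
  · rintro _ ⟨a, rfl⟩
    rw [Subalgebra.mem_centralizer_iff]
    rintro _ ⟨c, rfl⟩
    induction c using TensorProduct.induction_on with
    | zero => simp
    | add c d hc hd => rw [map_add, add_mul, mul_add, hc, hd]
    | tmul b u => exact TensorProduct.ext' fun d p => by simp [rho_tmul, iota_tmul, mul_assoc]
  · rw [Subalgebra.mem_centralizer_iff] at hf
    obtain ⟨x, φ, hφ⟩ := LG.exists_unimodular (M := P) hR
    refine ⟨op ((TensorProduct.rid R A) (φ.lTensor A (f ((1 : A) ⊗ₜ x)))), TensorProduct.ext' fun b p => ?_⟩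
    have h1 : ∀ z : A ⊗[R] P, rho R A P (b ⊗ₜ elem φ p) z =
        (b * TensorProduct.rid R A (φ.lTensor A z)) ⊗ₜ p := fun z => by
      induction z using TensorProduct.induction_on with
      | zero => simp
      | add c d hc hd => simp only [map_add, hc, hd, mul_add, TensorProduct.add_tmul]
      | tmul c q => simp [rho_tmul, elem_apply, TensorProduct.smul_tmul, Algebra.mul_smul_comm]
    have h2 := LinearMap.congr_fun (hf _ ⟨b ⊗ₜ elem φ p, rfl⟩) ((1 : A) ⊗ₜ x)
    simp only [Module.End.mul_apply] at h2
    rw [h1, rho_tmul, mul_one, elem_apply, hφ, one_smul] at h2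
    change iota R A P (op _) (b ⊗ₜ p) = _
    rw [iota_tmul, unop_op, h2]

/-- `A ⊗ End P` is projective and `A ⊗ P` is a summand of it. -/
theorem finite_projective_rho (hR : LGRing.IsLGRing R) [Module.Finite R P] [Module.Projective R P] [FaithfulSMul R P]
    {C : Type*} [Ring C] [Algebra R C] (e : C ≃ₐ[R] A ⊗[R] Module.End R P) [Module C (A ⊗[R] P)]
    (hsmul : ∀ (c : C) (z : A ⊗[R] P), c • z = rho R A P (e c) z) :
    Module.Finite C (A ⊗[R] P) ∧ Module.Projective C (A ⊗[R] P) := by
  obtain ⟨x, φ, hφ⟩ := LG.exists_unimodular (M := P) hR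
  let π : C →ₗ[C] A ⊗[R] P := LinearMap.toSpanSingleton C _ ((1 : A) ⊗ₜ x)
  have key : ∀ (w : A ⊗[R] Module.End R P) (z : A ⊗[R] P),
      (elem φ).lTensor A (rho R A P w z) = w * (elem φ).lTensor A z := fun w z => by
    induction w using TensorProduct.induction_on with
    | zero => simp
    | add c d hc hd => rw [map_add, LinearMap.add_apply, map_add, hc, hd, add_mul]
    | tmul a u =>
      induction z using TensorProduct.induction_on with
      | zero => simp
      | add c d hc hd => rw [map_add, map_add, map_add, hc, hd, mul_add]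
      | tmul b p =>
        rw [rho_tmul, LinearMap.lTensor_tmul, LinearMap.lTensor_tmul, Algebra.TensorProduct.tmul_mul_tmul]
        congr 1
        ext v
        simp [elem_apply]
  let i : A ⊗[R] P →ₗ[C] C :=
    { toFun := fun z => e.symm ((elem φ).lTensor A z)
      map_add' := fun z z' => by rw [map_add, map_add]
      map_smul' := fun c z => by
        rw [hsmul, key, map_mul, e.symm_apply_apply]; rfl }
  have hπi : π ∘ₗ i = LinearMap.id := LinearMap.ext fun z => by
    change e.symm _ • ((1 : A) ⊗ₜ[R] x) = z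
    rw [hsmul, e.apply_symm_apply]
    induction z using TensorProduct.induction_on with
    | zero => simp
    | add c d hc hd => rw [map_add, map_add, LinearMap.add_apply, hc, hd]
    | tmul b p => rw [LinearMap.lTensor_tmul, rho_tmul, mul_one, elem_apply, hφ, one_smul]
  exact ⟨Module.Finite.of_surjective π fun z => ⟨i z, LinearMap.congr_fun hπi z⟩, Module.Projective.of_split i π hπi⟩

theorem rankAtStalk_dual (M : Type w) [AddCommGroup M] [Module R M] [Module.Finite R M]
    [Module.Projective R M] (q : PrimeSpectrum R) :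
    Module.rankAtStalk (M →ₗ[R] R) q = Module.rankAtStalk M q := by
  haveI : Module.FinitePresentation R M := Module.finitePresentation_of_projective R M
  haveI : Module.Free (Localization.AtPrime q.asIdeal) (LocalizedModule q.asIdeal.primeCompl M) :=
    Module.free_of_flat_of_isLocalRing
  haveI : Module.Free (Localization.AtPrime q.asIdeal) (LocalizedModule q.asIdeal.primeCompl R) :=
    Module.free_of_flat_of_isLocalRing
  haveI : Nontrivial R := q.nontrivial
  have h1 : Module.rankAtStalk (R := R) R q = 1 := by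
    rw [Module.rankAtStalk_eq_finrank_of_free, Module.finrank_self]
    simp
  unfold Module.rankAtStalk at h1 ⊢
  rw [((Module.FinitePresentation.linearEquivMapExtendScalars q.asIdeal.primeCompl
      (M := M) (N := R)).extendScalarsOfIsLocalization q.asIdeal.primeCompl
        (Localization.AtPrime q.asIdeal)).finrank_eq,
    Module.finrank_linearMap, h1, mul_one]

theorem rankAtStalk_end [Module.Finite R P] [Module.Projective R P] (p : PrimeSpectrum R) :
    Module.rankAtStalk (Module.End R P) p = Module.rankAtStalk P p * Module.rankAtStalk P p := by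
  have := Module.finitePresentation_of_projective R P
  let e : Module.Dual R P ⊗[R] P ≃ₗ[R] Module.End R P := dualTensorHomEquiv R P P
  rw [← Module.rankAtStalk_eq_of_equiv (M := Module.Dual R P ⊗[R] P) (N := Module.End R P) e, Module.rankAtStalk_tensorProduct,
    Pi.mul_apply, rankAtStalk_dual]

/-- Cancellation. -/
theorem nonempty_algEquiv (hR : LGRing.IsLGRing R) [IsAzumaya R A] {B : Type v} [Ring B] [Algebra R B] [IsAzumaya R B]
    (hdeg : ∀ p : PrimeSpectrum R, Module.rankAtStalk A p = Module.rankAtStalk B p)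
    [Module.Finite R P] [Module.Projective R P] [FaithfulSMul R P]
    {Q : Type w} [AddCommGroup Q] [Module R Q] [Module.Finite R Q] [Module.Projective R Q] [FaithfulSMul R Q]
    (hEQ : IsAzumaya R (Module.End R Q))
    (e : A ⊗[R] Module.End R P ≃ₐ[R] B ⊗[R] Module.End R Q) : Nonempty (A ≃ₐ[R] B) := by
  let C := B ⊗[R] Module.End R Q
  have : IsAzumaya R C := Brauer.AzumayaBasics.tensor R B (Module.End R Q)
  letI : Module C (A ⊗[R] P) := Module.compHom _ ((rho R A P).comp e.symm.toAlgHom).toRingHom
  letI : Module C (B ⊗[R] Q) := Module.compHom _ (rho R B Q).toRingHom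
  have : IsScalarTower R C (A ⊗[R] P) := ⟨fun r c z => by
    change rho R A P (e.symm (r • c)) z = r • rho R A P (e.symm c) z
    rw [map_smul, map_smul]; rfl⟩
  have : IsScalarTower R C (B ⊗[R] Q) := ⟨fun r c z => by
    change rho R B Q (r • c) z = r • rho R B Q c z
    rw [map_smul]; rfl⟩
  obtain ⟨hPf, hPp⟩ := finite_projective_rho (A := A) (P := P) hR e.symm fun c z => rfl
  obtain ⟨hQf, hQp⟩ := finite_projective_rho (A := B) (P := Q) hR (AlgEquiv.refl : C ≃ₐ[R] C) fun c z => rfl
  have hr : ∀ p : PrimeSpectrum R,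
      Module.rankAtStalk (A ⊗[R] P) p = Module.rankAtStalk (B ⊗[R] Q) p := fun p => by
    have hFP : Module.Projective R (Module.End R P) := Module.Projective.of_equiv (dualTensorHomEquiv R P P)
    have hFQ : Module.Projective R (Module.End R Q) := Module.Projective.of_equiv (dualTensorHomEquiv R Q Q)
    have : Module.Finite R (Module.End R P) := Module.Finite.equiv (dualTensorHomEquiv R P P)
    have : Module.Finite R (Module.End R Q) := Module.Finite.equiv (dualTensorHomEquiv R Q Q)
    have h1 := congrFun (Module.rankAtStalk_eq_of_equiv e.toLinearEquiv) p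
    rw [Module.rankAtStalk_tensorProduct, Module.rankAtStalk_tensorProduct, Pi.mul_apply, Pi.mul_apply, rankAtStalk_end,
      rankAtStalk_end, hdeg] at h1
    rw [Module.rankAtStalk_tensorProduct, Module.rankAtStalk_tensorProduct, Pi.mul_apply, Pi.mul_apply, hdeg]
    have hb : 0 < Module.rankAtStalk B p := LG.rankAtStalk_pos (M := B) p
    rw [Nat.mul_left_cancel_iff hb] at h1
    rw [Nat.mul_self_inj.1 h1]
  obtain ⟨g⟩ := nonempty_linearEquiv (A := C) (M := A ⊗[R] P) (N := B ⊗[R] Q) hR hr
  let E : Module.End R (A ⊗[R] P) ≃ₐ[R] Module.End R (B ⊗[R] Q) := (g.restrictScalars R).conjAlgEquiv R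
  have hg : ∀ c, E (rho R A P (e.symm c)) = rho R B Q c := fun c => LinearMap.ext fun z => by
    change g (c • g.symm z) = c • z
    rw [map_smul, g.apply_symm_apply]
  have hrange : (E.toAlgHom.comp (iota R A P)).range = (iota R B Q).range := by
    rw [AlgHom.range_comp, range_iota hR, range_iota hR]
    refine le_antisymm ?_ fun f hf => ?_
    · rintro _ ⟨f, hf, rfl⟩
      rw [Subalgebra.mem_centralizer_iff]
      rintro _ ⟨c, rfl⟩
      rw [← hg]
      change E _ * E f = E f * E _
      rw [← map_mul E, ← map_mul E]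
      exact congrArg E ((Subalgebra.mem_centralizer_iff R).1 hf _ ⟨_, rfl⟩)
    · refine ⟨E.symm f, (Subalgebra.mem_centralizer_iff R).2 ?_, E.apply_symm_apply f⟩
      rintro _ ⟨c, rfl⟩
      apply E.injective
      rw [map_mul, map_mul, E.apply_symm_apply, ← e.symm_apply_apply c, hg]
      exact (Subalgebra.mem_centralizer_iff R).1 hf _ ⟨_, rfl⟩
  let eA := AlgEquiv.ofInjective (E.toAlgHom.comp (iota R A P)) (E.injective.comp (iota_injective hR))
  let eB := AlgEquiv.ofInjective (iota R B Q) (iota_injective hR)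
  exact ⟨AlgEquiv.op.symm ((eA.trans (Subalgebra.equivOfEq _ _ hrange)).trans eB.symm)⟩

end Groth.Agent.Lib.AzumayaLG
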