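import Groth.Agent.Lib.Brauer.TPow
import Groth.Agent.Lib.Brauer.AzumayaBasics
import Groth.Agent.Lib.AzInvLoc
import Groth.Agent.Lib.AzInvSplit
import Groth.Agent.Lib.Brauer.SplitCharpoly
import Groth.Agent.Lib.AzumayaLGCancel
import Mathlib

/-!
# Tensor powers of Azumaya algebras in a splitting

* `isAzumaya_tpow`: `A^{⊗m}` is Azumaya of rank `(rank A)^m`
* `exists_split`: a faithfully flat splitting
* `rho`: the representation of `A^{⊗m}` on tuples
* `exists_antisym`: an element acting as the antisymmetriser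
-/

universe u v w

open scoped TensorProduct
open Matrix

namespace Groth.Agent.Lib.AzumayaTPow

variable (R : Type u) [CommRing R] (A : Type u) [Ring A] [Algebra R A] [IsAzumaya R A]

theorem isAzumaya_tpow : ∀ m : ℕ, IsAzumaya R (⨂[R] _ : Fin m, A) ∧
    ∀ p : PrimeSpectrum R, Module.rankAtStalk (R := R) (⨂[R] _ : Fin m, A) p = Module.rankAtStalk (R := R) A p ^ m
  | 0 => by
    let e : (⨂[R] _ : Fin 0, A) ≃ₐ[R] R := Groth.Agent.Lib.Brauer.TPow.emptyEquiv _
    have := IsAzumaya.id R
    refine ⟨IsAzumaya.of_AlgEquiv R _ _ e.symm, fun p => ?_⟩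
    have : Nontrivial R := p.nontrivial
    rw [Module.rankAtStalk_eq_of_equiv e.toLinearEquiv, Module.rankAtStalk_eq_finrank_of_free]
    simp
  | m + 1 => by
    obtain ⟨hm, hr⟩ := isAzumaya_tpow m
    let e : (⨂[R] _ : Fin (m + 1), A) ≃ₐ[R] (⨂[R] _ : Fin m, A) ⊗[R] A :=
      ((Groth.Agent.Lib.Brauer.TPow.sumEquiv (k := R) (fun _ : Fin m ⊕ Fin 1 => A)).trans
        (Groth.Agent.Lib.Brauer.TPow.reindexConst A finSumFinEquiv)).symm.trans
        (Algebra.TensorProduct.congr AlgEquiv.refl (Groth.Agent.Lib.Brauer.TPow.uniqueEquiv 0 _))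
    have := Groth.Agent.Lib.Brauer.AzumayaBasics.tensor R (⨂[R] _ : Fin m, A) A
    refine ⟨IsAzumaya.of_AlgEquiv R _ _ e.symm, fun p => ?_⟩
    rw [Module.rankAtStalk_eq_of_equiv e.toLinearEquiv, Module.rankAtStalk_tensorProduct, Pi.mul_apply, hr, pow_succ]

/-- `S ⊗ R → S`. -/
noncomputable def ridHom (S : Type u) [CommRing S] [Algebra R S] : S ⊗[R] R →+* S :=
  (Algebra.TensorProduct.rid R R S).toRingEquiv.toRingHom

theorem ridHom_one_tmul (S : Type u) [CommRing S] [Algebra R S] (r : R) :
    ridHom R S ((1 : S) ⊗ₜ[R] r) = algebraMap R S r := by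
  simp [ridHom, Algebra.algebraMap_eq_smul_one]

attribute [local instance] Algebra.TensorProduct.rightAlgebra in
theorem exists_split (n : ℕ) (hrk : ∀ p : PrimeSpectrum R, Module.rankAtStalk (R := R) A p = n ^ 2) :
    ∃ (S : Type u) (_ : CommRing S) (_ : Algebra R S) (_ : Module.FaithfullyFlat R S),
      Nonempty (A →ₐ[R] Matrix (Fin n) (Fin n) S) := by
  obtain ⟨S, _, _, _, hff, ⟨h⟩⟩ := Groth.Agent.Lib.AzInvSplit.exists_cover (S := R) (R := R) n AlgEquiv.refl
    (fun _ => rfl) ⟨fun _ _ h => h, fun r => ⟨fun _ => ⟨r, rfl⟩, fun _ => rfl⟩⟩ hrk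
  refine ⟨S, inferInstance, inferInstance, hff,
    ⟨{ (ridHom R S).mapMatrix.comp h.toRingHom with commutes' := fun r => ?_ }⟩⟩
  change (ridHom R S).mapMatrix (h (algebraMap R A r)) = _
  rw [h.commutes]
  ext i j
  by_cases hij : i = j
  · subst hij; simp [Matrix.algebraMap_matrix_apply, Algebra.TensorProduct.right_algebraMap_apply, ridHom_one_tmul]
  · simp [Matrix.algebraMap_matrix_apply, hij]

variable {R A} {S : Type u} [CommRing S] [Algebra R S] {n : ℕ}

theorem lift_bijective (hn : 0 < n) (hrk : ∀ p : PrimeSpectrum R, Module.rankAtStalk (R := R) A p = n ^ 2)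
    (h : A →ₐ[R] Matrix (Fin n) (Fin n) S) :
    Function.Bijective (Algebra.TensorProduct.lift (Algebra.ofId S (Matrix (Fin n) (Fin n) S)) h fun s a => Algebra.commutes s _) := by
  have : NeZero n := ⟨hn.ne'⟩
  have := IsAzumaya.matrix S (Fin n)
  have := Groth.Agent.Lib.Azumaya.BaseChange.isAzumaya_baseChange S A (R := R)
  refine Groth.Agent.Lib.AzInvLoc.bijective_of_azumaya (fun P => ?_) _
  have : Nontrivial S := P.nontrivial
  rw [Module.rankAtStalk_baseChange, hrk, Module.rankAtStalk_eq_finrank_of_free, Pi.natCast_apply, Nat.cast_id,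
    Module.finrank_matrix, Module.finrank_self, Fintype.card_fin, mul_one, pow_two]

/-- A linear reduced trace. -/
theorem exists_trd [Module.FaithfullyFlat R S] (hn : 0 < n)
    (hrk : ∀ p : PrimeSpectrum R, Module.rankAtStalk (R := R) A p = n ^ 2)
    (h : A →ₐ[R] Matrix (Fin n) (Fin n) S) :
    ∃ τ : A →ₗ[R] R, ∀ a, algebraMap R S (τ a) = (h a).trace := by
  have : NeZero n := ⟨hn.ne'⟩
  let φ := AlgEquiv.ofBijective _ (lift_bijective hn hrk h)
  have hφ : ∀ a, φ ((1 : S) ⊗ₜ[R] a) = h a := fun a => by
    change algebraMap S (Matrix (Fin n) (Fin n) S) 1 * h a = h a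
    rw [map_one, one_mul]
  have key : ∀ a, ∃ r, algebraMap R S r = (h a).trace := fun a => by
    obtain ⟨p, hp, -, -⟩ := Groth.Agent.Lib.Brauer.SplitCharpoly.main φ φ a
    rw [hφ] at hp
    refine ⟨-p.coeff (n - 1), ?_⟩
    rw [map_neg, ← Polynomial.coeff_map, hp, Matrix.trace_eq_neg_charpoly_coeff, Fintype.card_fin]
  choose τ hτ using key
  have hinj := FaithfulSMul.algebraMap_injective R S
  exact ⟨{ toFun := τ
           map_add' := fun a b => hinj (by rw [map_add, hτ, hτ, hτ, map_add, Matrix.trace_add])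
           map_smul' := fun r a => hinj (by
             rw [hτ, RingHom.id_apply, smul_eq_mul, map_mul, hτ, map_smul, Matrix.trace_smul, Algebra.smul_def]) }, hτ⟩

/-- The permutation matrix on tuples. -/
def perm (S : Type u) [CommRing S] {m : ℕ} (n : ℕ) (σ : Equiv.Perm (Fin m)) :
    Matrix (Fin m → Fin n) (Fin m → Fin n) S :=
  Matrix.of fun I J => if I ∘ σ = J then 1 else 0

theorem perm_mul {m : ℕ} (σ τ : Equiv.Perm (Fin m)) : perm S n σ * perm S n τ = perm S n (σ * τ) := by
  ext I K
  simp only [perm, Matrix.mul_apply, Matrix.of_apply, Equiv.Perm.coe_mul, ite_mul, one_mul, zero_mul,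
    Finset.sum_ite_eq, Finset.mem_univ, if_true, Function.comp_assoc]
  rfl

theorem perm_one {m : ℕ} : perm S n (1 : Equiv.Perm (Fin m)) = 1 := by
  ext I J
  simp [perm, Matrix.one_apply]

/-- `A^{⊗m}` acting on tuples. -/
noncomputable def rho (h : A →ₐ[R] Matrix (Fin n) (Fin n) S) (m : ℕ) :
    (⨂[R] _ : Fin m, A) →ₐ[R] Matrix (Fin m → Fin n) (Fin m → Fin n) S :=
  PiTensorProduct.liftAlgHom
    { toFun := fun a => Matrix.of fun I J => ∏ i, h (a i) (I i) (J i)
      map_update_add' := fun {_} a i x y => by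
        ext I J
        simp only [Matrix.add_apply, Matrix.of_apply]
        rw [← Finset.mul_prod_erase _ _ (Finset.mem_univ i), ← Finset.mul_prod_erase _ _ (Finset.mem_univ i),
          ← Finset.mul_prod_erase _ _ (Finset.mem_univ i)]
        simp only [Function.update_self, map_add, Matrix.add_apply, add_mul]
        congr 2 <;>
          exact Finset.prod_congr rfl fun j hj => by simp [Function.update_of_ne (Finset.ne_of_mem_erase hj)]
      map_update_smul' := fun {_} a i c x => by
        ext I J
        simp only [Matrix.smul_apply, Matrix.of_apply]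
        rw [← Finset.mul_prod_erase _ _ (Finset.mem_univ i), ← Finset.mul_prod_erase _ _ (Finset.mem_univ i)]
        simp only [Function.update_self, map_smul, Matrix.smul_apply, smul_mul_assoc]
        congr 2
        exact Finset.prod_congr rfl fun j hj => by simp [Function.update_of_ne (Finset.ne_of_mem_erase hj)] }
    (by
      ext I J
      simp only [MultilinearMap.coe_mk, Pi.one_apply, map_one, Matrix.of_apply, Matrix.one_apply, Finset.prod_boole,
        Finset.mem_univ, true_implies, funext_iff])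
    (fun x y => by
      ext I J
      simp only [MultilinearMap.coe_mk, Pi.mul_apply, map_mul, Matrix.of_apply, Matrix.mul_apply, ← Finset.prod_mul_distrib]
      rw [Finset.prod_univ_sum, Fintype.piFinset_univ])

theorem rho_tprod (h : A →ₐ[R] Matrix (Fin n) (Fin n) S) {m : ℕ} (a : Fin m → A) (I J : Fin m → Fin n) :
    rho h m (PiTensorProduct.tprod R a) I J = ∏ i, h (a i) (I i) (J i) := by
  simp [rho, PiTensorProduct.liftAlgHom]

theorem rho_single (h : A →ₐ[R] Matrix (Fin n) (Fin n) S) {m : ℕ} {i j : Fin m} (hij : i ≠ j) (a b : A) :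
    rho h m (PiTensorProduct.singleAlgHom (A := fun _ : Fin m => A) i a * PiTensorProduct.singleAlgHom (A := fun _ : Fin m => A) j b) =
      Matrix.of fun I J => if ∀ k, k ≠ i → k ≠ j → I k = J k then h a (I i) (J i) * h b (I j) (J j) else 0 := by
  ext I J
  have : PiTensorProduct.singleAlgHom (R := R) (A := fun _ : Fin m => A) i a * PiTensorProduct.singleAlgHom (A := fun _ : Fin m => A) j b =
      PiTensorProduct.tprod R (Pi.mulSingle i a * Pi.mulSingle j b) := PiTensorProduct.tprod_mul_tprod ..
  rw [this, rho_tprod, Matrix.of_apply,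
    ← Finset.prod_sdiff (Finset.subset_univ ({i, j} : Finset (Fin m))), Finset.prod_pair hij]
  simp only [Pi.mul_apply, Pi.mulSingle_eq_same, Pi.mulSingle_eq_of_ne hij, Pi.mulSingle_eq_of_ne hij.symm, one_mul, mul_one]
  have h1 : ∀ k ∈ Finset.univ \ ({i, j} : Finset (Fin m)),
      h ((Pi.mulSingle i a * Pi.mulSingle j b : Fin m → A) k) (I k) (J k) = if I k = J k then 1 else 0 := fun k hk => by
    simp only [Finset.mem_sdiff, Finset.mem_univ, Finset.mem_insert, Finset.mem_singleton, not_or, true_and] at hk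
    simp [Pi.mulSingle_eq_of_ne hk.1, Pi.mulSingle_eq_of_ne hk.2, Matrix.one_apply]
  simp only [Pi.mul_apply] at h1
  rw [Finset.prod_congr rfl h1, Finset.prod_boole]
  simp only [Finset.mem_sdiff, Finset.mem_univ, Finset.mem_insert, Finset.mem_singleton, not_or, true_and, and_imp]
  split_ifs <;> simp

theorem exists_goldman [Module.FaithfullyFlat R S] (hn : 0 < n)
    (hrk : ∀ p : PrimeSpectrum R, Module.rankAtStalk (R := R) A p = n ^ 2)
    (h : A →ₐ[R] Matrix (Fin n) (Fin n) S) :
    ∃ (s : Finset (A × Aᵐᵒᵖ)), ∀ p q r t : Fin n,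
      ∑ x ∈ s, h x.1 p q * h x.2.unop r t = if p = t ∧ q = r then 1 else 0 := by
  classical
  obtain ⟨τ, hτ⟩ := exists_trd hn hrk h
  obtain ⟨u, hu⟩ := (IsAzumaya.bij (R := R) (A := A)).2 (τ.smulRight (1 : A))
  obtain ⟨s, hs⟩ := TensorProduct.exists_finset u
  have hval : ∀ a : A, ∑ x ∈ s, x.1 * a * x.2.unop = τ a • (1 : A) := fun a => by
    have := LinearMap.congr_fun hu a
    rw [hs, map_sum, LinearMap.sum_apply] at this
    simpa using this
  let Φ := Algebra.TensorProduct.lift (Algebra.ofId S (Matrix (Fin n) (Fin n) S)) h fun s a => Algebra.commutes s _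
  have hΦ : ∀ (c : S) (a : A), Φ (c ⊗ₜ[R] a) = c • h a := fun c a => (Algebra.smul_def c (h a)).symm
  have key : ∀ X : Matrix (Fin n) (Fin n) S,
      ∑ x ∈ s, h x.1 * X * h x.2.unop = X.trace • (1 : Matrix (Fin n) (Fin n) S) := fun X => by
    obtain ⟨z, rfl⟩ := (lift_bijective hn hrk h).2 X
    change ∑ x ∈ s, h x.1 * Φ z * h x.2.unop = (Φ z).trace • _
    induction z using TensorProduct.induction_on with
    | zero => simp
    | add c d hc hd => simp only [map_add, mul_add, add_mul, Finset.sum_add_distrib, Matrix.trace_add, add_smul, hc, hd]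
    | tmul c a =>
      simp only [hΦ, mul_smul_comm, smul_mul_assoc, Matrix.trace_smul, smul_eq_mul, ← smul_smul, ← Finset.smul_sum]
      congr 1
      have h1 := congrArg h (hval a)
      simp only [map_sum, map_mul, map_smul, map_one] at h1
      rw [h1, ← hτ, algebraMap_smul]
  refine ⟨s, fun p q r t => ?_⟩
  have h1 := congr_fun₂ (key (Matrix.single q r 1)) p t
  simp only [Matrix.sum_apply, Matrix.smul_apply, smul_eq_mul, Matrix.one_apply] at h1
  have h2 : ∀ M N : Matrix (Fin n) (Fin n) S, (M * Matrix.single q r (1 : S) * N) p t = M p q * N r t := fun M N => by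
    rw [Matrix.mul_apply, Finset.sum_eq_single r]
    · simp [Matrix.mul_apply, Matrix.single_apply]
    · intro b _ hb
      simp [Matrix.mul_apply, Matrix.single_apply, Ne.symm hb]
    · simp
  simp only [h2] at h1
  rw [h1]
  by_cases hqr : q = r
  · subst hqr; simp [Matrix.trace_single_eq_same]
  · simp [Matrix.trace_single_eq_of_ne _ _ _ hqr, hqr]

theorem exists_perm [Module.FaithfullyFlat R S] (hn : 0 < n)
    (hrk : ∀ p : PrimeSpectrum R, Module.rankAtStalk (R := R) A p = n ^ 2)
    (h : A →ₐ[R] Matrix (Fin n) (Fin n) S) {m : ℕ} (σ : Equiv.Perm (Fin m)) :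
    ∃ x, rho h m x = perm S n σ := by
  classical
  induction σ using Equiv.Perm.swap_induction_on with
  | one => exact ⟨1, by rw [map_one, perm_one]⟩
  | swap_mul f i j hij ih =>
    obtain ⟨x, hx⟩ := ih
    obtain ⟨s, hs⟩ := exists_goldman hn hrk h
    refine ⟨(∑ y ∈ s, PiTensorProduct.singleAlgHom (A := fun _ : Fin m => A) i y.1 *
      PiTensorProduct.singleAlgHom (A := fun _ : Fin m => A) j y.2.unop) * x, ?_⟩
    rw [map_mul, hx, ← perm_mul]
    congr 1
    ext I J
    rw [map_sum, Matrix.sum_apply]
    simp only [rho_single h hij, Matrix.of_apply, perm]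
    by_cases hIJ : ∀ k, k ≠ i → k ≠ j → I k = J k
    · simp only [if_pos hIJ, hs]
      refine if_congr ?_ rfl rfl
      rw [funext_iff]
      refine ⟨fun h' k => ?_, fun h' => ?_⟩
      · simp only [Function.comp_apply]
        by_cases hki : k = i
        · subst hki; rw [Equiv.swap_apply_left]; exact h'.2.symm
        · by_cases hkj : k = j
          · subst hkj; rw [Equiv.swap_apply_right]; exact h'.1
          · rw [Equiv.swap_apply_of_ne_of_ne hki hkj]; exact hIJ k hki hkj
      · have h1 := h' i
        have h2 := h' j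
        simp only [Function.comp_apply, Equiv.swap_apply_left, Equiv.swap_apply_right] at h1 h2
        exact ⟨h2, h1.symm⟩
    · simp only [if_neg hIJ, Finset.sum_const_zero]
      rw [if_neg]
      intro h'
      exact hIJ fun k hki hkj => by rw [← h', Function.comp_apply, Equiv.swap_apply_of_ne_of_ne hki hkj]

/-- The sign of a tuple. -/
noncomputable def omega (S : Type u) [CommRing S] {n : ℕ} (I : Fin n → Fin n) : S :=
  (Matrix.of fun p q => if I p = q then (1 : S) else 0).det

theorem omega_id : omega S (id : Fin n → Fin n) = 1 := by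
  rw [omega]
  convert Matrix.det_one (n := Fin n) (R := S)
  ext p q
  simp [Matrix.one_apply]

theorem exists_antisym [Module.FaithfullyFlat R S] (hn : 0 < n)
    (hrk : ∀ p : PrimeSpectrum R, Module.rankAtStalk (R := R) A p = n ^ 2)
    (h : A →ₐ[R] Matrix (Fin n) (Fin n) S) :
    ∃ e, rho h n e = Matrix.vecMulVec (omega S) (omega S) := by
  choose x hx using fun σ : Equiv.Perm (Fin n) => exists_perm hn hrk h σ
  refine ⟨∑ σ, ((Equiv.Perm.sign σ : ℤˣ) : ℤ) • x σ, ?_⟩
  ext I J
  simp only [map_sum, map_zsmul, hx, Matrix.sum_apply, Matrix.smul_apply, perm, Matrix.of_apply, Matrix.vecMulVec_apply]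
  rw [omega, omega, ← Matrix.det_transpose (Matrix.of fun p q => if J p = q then (1 : S) else 0), ← Matrix.det_mul,
    Matrix.det_apply]
  refine Finset.sum_congr rfl fun σ _ => ?_
  rw [Units.smul_def]
  congr 1
  simp only [Matrix.mul_apply, Matrix.of_apply, Matrix.transpose_apply, ite_mul, one_mul, zero_mul, Finset.sum_ite_eq,
    Finset.mem_univ, if_true, Finset.prod_boole, true_implies, funext_iff, Function.comp_apply]
  exact if_congr ⟨fun h k => (h k).symm, fun h k => (h k).symm⟩ rfl rfl

theorem rho_lift_bijective (hn : 0 < n) (hrk : ∀ p : PrimeSpectrum R, Module.rankAtStalk (R := R) A p = n ^ 2)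
    (h : A →ₐ[R] Matrix (Fin n) (Fin n) S) (m : ℕ) :
    Function.Bijective (Algebra.TensorProduct.lift (Algebra.ofId S (Matrix (Fin m → Fin n) (Fin m → Fin n) S)) (rho h m)
      fun s a => Algebra.commutes s _) := by
  obtain ⟨hT, hr⟩ := isAzumaya_tpow R A m
  have : NeZero n := ⟨hn.ne'⟩
  have := IsAzumaya.matrix S (Fin m → Fin n)
  have := Groth.Agent.Lib.Azumaya.BaseChange.isAzumaya_baseChange S (⨂[R] _ : Fin m, A) (R := R)
  refine Groth.Agent.Lib.AzInvLoc.bijective_of_azumaya (fun P => ?_) _
  have : Nontrivial S := P.nontrivial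
  rw [Module.rankAtStalk_baseChange, hr, hrk, Module.rankAtStalk_eq_finrank_of_free, Pi.natCast_apply, Nat.cast_id,
    Module.finrank_matrix, Module.finrank_self, Fintype.card_fun, Fintype.card_fin, Fintype.card_fin, mul_one,
    ← pow_mul, ← pow_add]
  ring_nf

/-- `A^{⊗n}` is a split algebra. -/
theorem exists_end (hn : 0 < n) (hrk : ∀ p : PrimeSpectrum R, Module.rankAtStalk (R := R) A p = n ^ 2) :
    ∃ (E : Type u) (_ : AddCommGroup E) (_ : Module R E), Module.Finite R E ∧ Module.Projective R E ∧
      (∀ p : PrimeSpectrum R, Module.rankAtStalk (R := R) E p = n ^ n) ∧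
      Nonempty ((⨂[R] _ : Fin n, A) ≃ₐ[R] Module.End R E) := by
  classical
  obtain ⟨S, _, _, _, ⟨h⟩⟩ := exists_split R A n hrk
  obtain ⟨hT, hTr⟩ := isAzumaya_tpow R A n
  let T := ⨂[R] _ : Fin n, A
  obtain ⟨e, he⟩ := exists_antisym hn hrk h
  let G := Algebra.TensorProduct.lift (Algebra.ofId S (Matrix (Fin n → Fin n) (Fin n → Fin n) S)) (rho h n)
    fun s a => Algebra.commutes s _
  have hG : Function.Bijective G := rho_lift_bijective hn hrk h n
  have hG1 : ∀ (s : S) (t : T), G (s ⊗ₜ[R] t) = s • rho h n t := fun s t => (Algebra.smul_def s _).symm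
  let ω := omega S (n := n)
  let δ : (Fin n → Fin n) → S := Pi.single id 1
  have hδ : ω ⬝ᵥ δ = 1 := by simp [δ, ω, omega_id]
  have hδ' : δ ⬝ᵥ ω = 1 := by rw [dotProduct_comm, hδ]
  -- a quasi-inverse of `e`
  obtain ⟨y, hy⟩ : ∃ y : T, e * y * e = e := by
    let L : T →ₗ[R] T := LinearMap.mulLeft R e ∘ₗ LinearMap.mulRight R e
    suffices hmem : e ∈ LinearMap.range L by
      obtain ⟨y, hy⟩ := hmem
      exact ⟨y, by rw [mul_assoc]; exact hy⟩
    obtain ⟨Y, hY⟩ := hG.2 (Matrix.vecMulVec δ δ)
    have h1 : L.baseChange S Y = (1 : S) ⊗ₜ[R] e := by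
      apply hG.1
      have h2 : ∀ z, G (L.baseChange S z) = rho h n e * G z * rho h n e := fun z => by
        induction z using TensorProduct.induction_on with
        | zero => simp
        | add a b ha hb => rw [map_add, map_add, map_add, ha, hb, mul_add, add_mul]
        | tmul s t =>
          rw [LinearMap.baseChange_tmul, hG1, hG1]
          simp [L, mul_assoc]
      rw [h2, hY, hG1, one_smul, he, Matrix.vecMulVec_mul_vecMulVec, hδ, one_smul, Matrix.vecMulVec_mul_vecMulVec, hδ',
        one_smul]
    have h3 : ((LinearMap.range L).mkQ).baseChange S ((1 : S) ⊗ₜ[R] e) = 0 := by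
      rw [← h1, ← LinearMap.comp_apply, ← LinearMap.baseChange_comp,
        show (LinearMap.range L).mkQ ∘ₗ L = 0 from LinearMap.range_le_ker_iff.1 (by rw [Submodule.ker_mkQ]),
        LinearMap.baseChange_zero, LinearMap.zero_apply]
    rw [LinearMap.baseChange_tmul] at h3
    exact (Submodule.Quotient.mk_eq_zero _).1 (Module.FaithfullyFlat.one_tmul_eq_zero_iff R _ _ |>.1 h3)
  let q : T := y * e
  have hq : q * q = q := by
    change y * e * (y * e) = y * e
    rw [mul_assoc, ← mul_assoc e, hy]
  let E : Submodule R T := LinearMap.range (LinearMap.mulRight R q)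
  let π : T →ₗ[R] E := (LinearMap.mulRight R q).codRestrict E fun t => LinearMap.mem_range_self _ t
  have hπi : π ∘ₗ E.subtype = LinearMap.id := by
    refine LinearMap.ext ?_
    rintro ⟨_, t, rfl⟩
    refine Subtype.ext ?_
    change t * q * q = t * q
    rw [mul_assoc, hq]
  have hEf : Module.Finite R E := Module.Finite.of_surjective π fun x => ⟨x, LinearMap.congr_fun hπi x⟩
  have hEp : Module.Projective R E := Module.Projective.of_split E.subtype π hπi
  have hrE : ∀ p : PrimeSpectrum R, Module.rankAtStalk (R := R) E p = n ^ n := fun p => by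
    obtain ⟨P, hP⟩ := PrimeSpectrum.comap_surjective_of_faithfullyFlat (A := R) (B := S) p
    have : Nontrivial S := P.nontrivial
    let Λ : S ⊗[R] E →ₗ[S] ((Fin n → Fin n) → S) :=
      ((LinearMap.proj (id : Fin n → Fin n)).comp (Matrix.transposeLinearEquiv (Fin n → Fin n) (Fin n → Fin n) S S).toLinearMap)
        ∘ₗ G.toLinearMap ∘ₗ E.subtype.baseChange S
    have hρq : rho h n q = rho h n y * Matrix.vecMulVec ω ω := by rw [map_mul, he]
    have hωq : Matrix.vecMulVec ω ω * rho h n q = Matrix.vecMulVec ω ω := by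
      rw [← he, ← map_mul, show e * q = e * y * e from (mul_assoc e y e).symm, hy]
    have hfix : ∀ z, G (E.subtype.baseChange S z) * rho h n q = G (E.subtype.baseChange S z) := fun z => by
      induction z using TensorProduct.induction_on with
      | zero => simp
      | add a b ha hb => rw [map_add, map_add, add_mul, ha, hb]
      | tmul s x =>
        obtain ⟨_, t, rfl⟩ := x
        rw [LinearMap.baseChange_tmul, hG1]
        change s • rho h n (t * q) * rho h n q = s • rho h n (t * q)
        rw [smul_mul_assoc, ← map_mul, mul_assoc, hq]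
    have hΛ : ∀ z, G (E.subtype.baseChange S z) = Matrix.vecMulVec (Λ z) ω := fun z => by
      let X := G (E.subtype.baseChange S z)
      have hX : X = Matrix.vecMulVec ((X * rho h n y) *ᵥ ω) ω := by
        rw [← Matrix.mul_vecMulVec, mul_assoc, ← hρq]
        exact (hfix z).symm
      have hcol : Λ z = (X * rho h n y) *ᵥ ω := by
        funext I
        change X I id = _
        conv_lhs => rw [hX]
        simp [ω, Matrix.vecMulVec_apply, omega_id]
      rw [hcol]
      exact hX
    have hinj : Function.Injective Λ := fun a b hab => by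
      have h1 : Function.Injective (E.subtype.baseChange S) := fun c d hcd => by
        have := congrArg (π.baseChange S) hcd
        rwa [← LinearMap.comp_apply, ← LinearMap.comp_apply, ← LinearMap.baseChange_comp, hπi, LinearMap.baseChange_id] at this
      exact h1 (hG.1 (by rw [hΛ, hΛ, hab]))
    have hsurj : Function.Surjective Λ := fun v => by
      obtain ⟨Z, hZ⟩ := hG.2 (Matrix.vecMulVec v δ * rho h n e)
      refine ⟨π.baseChange S Z, ?_⟩
      have h2 : ∀ z, G (E.subtype.baseChange S (π.baseChange S z)) = G z * rho h n q := fun z => by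
        induction z using TensorProduct.induction_on with
        | zero => simp
        | add a b ha hb => simp only [map_add, ha, hb, add_mul]
        | tmul s t =>
          rw [LinearMap.baseChange_tmul, LinearMap.baseChange_tmul, hG1, hG1]
          change s • rho h n (t * q) = _
          rw [map_mul, smul_mul_assoc]
      funext I
      change G (E.subtype.baseChange S (π.baseChange S Z)) I id = v I
      rw [h2, hZ, mul_assoc, he, hωq, Matrix.vecMulVec_mul_vecMulVec, hδ', one_smul, Matrix.vecMulVec_apply]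
      simp [ω, omega_id]
    let Ee := LinearEquiv.ofBijective Λ ⟨hinj, hsurj⟩
    rw [← hP, ← Module.rankAtStalk_baseChange (R := R) (M := E) P, Module.rankAtStalk_eq_of_equiv Ee,
      Module.rankAtStalk_eq_finrank_of_free]
    simp
  have hfaith : FaithfulSMul R E := ⟨fun {r r'} hrr => by
    have h1 : r • q = r' • q := congrArg Subtype.val (hrr ⟨q, q, hq⟩)
    have h2 : ∀ x : R, Matrix.vecMulVec ω ω * rho h n (x • q) = x • Matrix.vecMulVec ω ω := fun x => by
      rw [map_smul, mul_smul_comm]
      congr 1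
      rw [← he, ← map_mul, show e * q = e * y * e from (mul_assoc e y e).symm, hy]
    have h3 := congr_fun₂ ((h2 r).symm.trans ((congrArg (fun z => Matrix.vecMulVec ω ω * rho h n z) h1).trans (h2 r'))) id id
    simp only [Matrix.smul_apply, Matrix.vecMulVec_apply, ω, omega_id, mul_one] at h3
    rw [← Algebra.algebraMap_eq_smul_one, ← Algebra.algebraMap_eq_smul_one] at h3
    exact FaithfulSMul.algebraMap_injective R S h3⟩
  have hEnd := Groth.Agent.Lib.Brauer.AzumayaBasics.moduleEnd R E
  let Φ : T →ₐ[R] Module.End R E :=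
    AlgHom.ofLinearMap
      { toFun := fun t => (π ∘ₗ LinearMap.mulLeft R t ∘ₗ E.subtype)
        map_add' := fun a b => LinearMap.ext fun x => by simp [add_mul]
        map_smul' := fun r a => LinearMap.ext fun x => by simp }
      (LinearMap.ext fun x => by
        change π ((1 : T) * x) = x
        rw [one_mul]; exact LinearMap.congr_fun hπi x)
      (fun a b => LinearMap.ext fun x => Subtype.ext (by
        obtain ⟨_, t, rfl⟩ := x
        change a * b * (t * q) * q = a * (b * (t * q) * q) * q
        simp only [mul_assoc, hq]))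
  refine ⟨E, inferInstance, inferInstance, hEf, hEp, hrE, ⟨AlgEquiv.ofBijective Φ ?_⟩⟩
  refine @Groth.Agent.Lib.AzInvLoc.bijective_of_azumaya R _ T (Module.End R E) _ _ hT _ _ hEnd (fun P => ?_) Φ
  rw [hTr, hrk, Groth.Agent.Lib.AzumayaLG.rankAtStalk_end, hrE]
  ring

end Groth.Agent.Lib.AzumayaTPow
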