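import Groth.Prelude.Def_NonAbH2
import Mathlib.AlgebraicGeometry.Sites.Fpqc
import Mathlib.CategoryTheory.Sites.Canonical
import Mathlib.CategoryTheory.Limits.Shapes.Pullback.IsPullback.Basic
import Mathlib.Tactic.Group

/-!
# Morphisms of rigidified bitorsors between extensions
-/

set_option autoImplicit false

universe u

open CategoryTheory CategoryTheory.Limits MonoidalCategory CartesianMonoidalCategory MonObj AlgebraicGeometry

namespace Groth.Agent.Lib.BitorsExt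

variable {S : Scheme.{u}}

section descent

variable {X Y Z : Over S} (q : X ⟶ Y) (R : Sieve Y.left) (hR : R ∈ Scheme.fppfTopology Y.left)
  (hq : ∀ ⦃T : Scheme.{u}⦄ (t : T ⟶ Y.left), R t →
    ∃ s : Over.mk (t ≫ Y.hom) ⟶ X, s ≫ q = Over.homMk t rfl)

include R hR hq

theorem epi_of_local {a b : Y ⟶ Z} (h : q ≫ a = q ≫ b) : a = b := by
  refine Over.OverMorphism.ext ?_
  refine (GrothendieckTopology.Subcanonical.isSheaf_of_isRepresentable (J := Scheme.fppfTopology)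
    (yoneda.obj Z.left) R hR).isSeparatedFor.ext fun T t ht => ?_
  obtain ⟨s, hs⟩ := hq t ht
  have h1 := congrArg CommaMorphism.left (congrArg (s ≫ ·) h)
  simp only [← Category.assoc, hs] at h1
  exact h1

theorem exists_desc (c : X ⟶ Z) (hinv : ∀ (T : Over S) (x x' : T ⟶ X), x ≫ q = x' ≫ q → x ≫ c = x' ≫ c) :
    ∃ d : Y ⟶ Z, q ≫ d = c := by
  choose s hs using hq
  let fam : Presieve.FamilyOfElements (yoneda.obj Z.left) (R : Presieve Y.left) :=
    fun T t ht => (s t ht ≫ c).left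
  have hc : fam.Compatible := by
    intro T₁ T₂ W g₁ g₂ f₁ f₂ h₁ h₂ hgf
    let m₁ : Over.mk ((g₁ ≫ f₁) ≫ Y.hom) ⟶ Over.mk (f₁ ≫ Y.hom) := Over.homMk g₁ (by simp)
    let m₂ : Over.mk ((g₁ ≫ f₁) ≫ Y.hom) ⟶ Over.mk (f₂ ≫ Y.hom) := Over.homMk g₂ (by simp [reassoc_of% hgf])
    have key := congrArg CommaMorphism.left (hinv _ (m₁ ≫ s f₁ h₁) (m₂ ≫ s f₂ h₂)
      ((Category.assoc _ _ _).trans ((congrArg (m₁ ≫ ·) (hs f₁ h₁)).trans
        ((Over.OverMorphism.ext hgf).trans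
          ((congrArg (m₂ ≫ ·) (hs f₂ h₂)).symm.trans (Category.assoc _ _ _).symm)))))
    simp only [Category.assoc] at key
    exact key
  have hsh := GrothendieckTopology.Subcanonical.isSheaf_of_isRepresentable (J := Scheme.fppfTopology)
    (yoneda.obj Z.left) R hR
  let d₀ : Y.left ⟶ Z.left := hsh.amalgamate fam hc
  have hd₀ : ∀ ⦃T : Scheme.{u}⦄ (t : T ⟶ Y.left) (ht : R t), t ≫ d₀ = (s t ht ≫ c).left :=
    fun T t ht => hsh.valid_glue hc t ht
  have hhom : d₀ ≫ Z.hom = Y.hom := by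
    refine (GrothendieckTopology.Subcanonical.isSheaf_of_isRepresentable (J := Scheme.fppfTopology)
      (yoneda.obj S) R hR).isSeparatedFor.ext fun T t ht => ?_
    change t ≫ d₀ ≫ Z.hom = t ≫ Y.hom
    rw [← Category.assoc, hd₀ t ht]
    exact Over.w (s t ht ≫ c)
  refine ⟨Over.homMk d₀ hhom, Over.OverMorphism.ext ?_⟩
  refine (GrothendieckTopology.Subcanonical.isSheaf_of_isRepresentable (J := Scheme.fppfTopology)
    (yoneda.obj Z.left) _ (GrothendieckTopology.pullback_stable _ q.left hR)).isSeparatedFor.ext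
    fun T t ht => ?_
  change t ≫ q.left ≫ d₀ = t ≫ c.left
  rw [← Category.assoc, hd₀ (t ≫ q.left) ht]
  let x : Over.mk ((t ≫ q.left) ≫ Y.hom) ⟶ X := Over.homMk t (by simp)
  exact congrArg CommaMorphism.left (hinv _ (s (t ≫ q.left) ht) x
    ((hs (t ≫ q.left) ht).trans (Over.OverMorphism.ext rfl)))

end descent

section ext

variable {G E P : Over S} [GrpObj G] [GrpObj E] [GrpObj P] (u : G ⟶ E) (v : E ⟶ P)

theorem exists_lift_kernel (hex : NonAbH1.IsExactSeq Scheme.fppfPrecoverage u v) {T : Over S} (x x' : T ⟶ E)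
    (h : x ≫ v = x' ≫ v) : ∃ g : T ⟶ G, x' = x * (g ≫ u) := by
  obtain ⟨-, -, -, hp, -⟩ := hex
  refine ⟨hp.lift x x' h ≫ snd E G, ?_⟩
  have h2 : (E ◁ u) ≫ μ[E] = fst E G * (snd E G ≫ u) := by
    rw [Hom.mul_def]; congr 1
  have h1 := ((congrArg (hp.lift x x' h ≫ ·) h2).symm.trans (hp.lift_snd x x' h))
  rw [MonObj.comp_mul, hp.lift_fst] at h1
  rw [Category.assoc]
  exact h1.symm

theorem kernel_injective (hex : NonAbH1.IsExactSeq Scheme.fppfPrecoverage u v) {T : Over S} (g g' : T ⟶ G)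
    (h : g ≫ u = g' ≫ u) : g = g' := by
  obtain ⟨-, -, huv, hp, -⟩ := hex
  have h2 : (E ◁ u) ≫ μ[E] = fst E G * (snd E G ≫ u) := by
    rw [Hom.mul_def]; congr 1
  have key : lift (1 : T ⟶ E) g = lift (1 : T ⟶ E) g' := by
    refine hp.hom_ext (by simp) ?_
    rw [h2, MonObj.comp_mul, MonObj.comp_mul]
    simp [h]
  simpa using congrArg (· ≫ snd E G) key

theorem prod_local (hex : NonAbH1.IsExactSeq Scheme.fppfPrecoverage u v) :
    ∃ R ∈ Scheme.fppfTopology (P ⊗ P).left, ∀ ⦃T : Scheme.{u}⦄ (t : T ⟶ (P ⊗ P).left), R t →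
      ∃ s : Over.mk (t ≫ (P ⊗ P).hom) ⟶ E ⊗ E, s ≫ (v ⊗ₘ v) = Over.homMk t rfl := by
  obtain ⟨-, -, -, -, R₀, hR₀, hsec⟩ := hex
  refine ⟨(Sieve.generate R₀).pullback (fst P P).left ⊓ (Sieve.generate R₀).pullback (snd P P).left,
    GrothendieckTopology.intersection_covering _
      (GrothendieckTopology.pullback_stable _ _ (Precoverage.generate_mem_toGrothendieck hR₀))
      (GrothendieckTopology.pullback_stable _ _ (Precoverage.generate_mem_toGrothendieck hR₀)), ?_⟩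
  rintro T t ⟨⟨W₁, a₁, f₁, hf₁, e₁⟩, ⟨W₂, a₂, f₂, hf₂, e₂⟩⟩
  obtain ⟨s₁, hs₁⟩ := hsec f₁ hf₁
  obtain ⟨s₂, hs₂⟩ := hsec f₂ hf₂
  replace hs₁ : s₁ ≫ v.left = f₁ := hs₁
  replace hs₂ : s₂ ≫ v.left = f₂ := hs₂
  have w₁ : (a₁ ≫ s₁) ≫ E.hom = t ≫ (P ⊗ P).hom := by
    rw [← Over.w v, Category.assoc, reassoc_of% hs₁, reassoc_of% e₁, Over.w]
  have w₂ : (a₂ ≫ s₂) ≫ E.hom = t ≫ (P ⊗ P).hom := by
    rw [← Over.w v, Category.assoc, reassoc_of% hs₂, reassoc_of% e₂, Over.w]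
  refine ⟨lift (Over.homMk (a₁ ≫ s₁) w₁) (Over.homMk (a₂ ≫ s₂) w₂), ?_⟩
  rw [lift_map]
  refine CartesianMonoidalCategory.hom_ext _ _ ?_ ?_
  · rw [lift_fst]
    refine Over.OverMorphism.ext ?_
    change (a₁ ≫ s₁) ≫ v.left = t ≫ (fst P P).left
    rw [Category.assoc, hs₁, e₁]
  · rw [lift_snd]
    refine Over.OverMorphism.ext ?_
    change (a₂ ≫ s₂) ≫ v.left = t ≫ (snd P P).left
    rw [Category.assoc, hs₂, e₂]

variable {E' : Over S} [GrpObj E'] [IsCommMonObj G]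

theorem isMonHom_of_bitorsor (hex : NonAbH1.IsExactSeq Scheme.fppfPrecoverage u v)
    (u' : G ⟶ E') (v' : E' ⟶ P) (hex' : NonAbH1.IsExactSeq Scheme.fppfPrecoverage u' v')
    (hPP : ∀ c : P ⊗ P ⟶ G, lift (𝟙 P) (toUnit P ≫ η[P]) ≫ c = 1 → lift (toUnit P ≫ η[P]) (𝟙 P) ≫ c = 1 → c = 1)
    (f : E ⟶ E') (hv : f ≫ v' = v) (h1 : η[E] ≫ f = η[E'])
    (hl : ∀ (T : Over S) (g : T ⟶ G) (x : T ⟶ E), ((g ≫ u) * x) ≫ f = (g ≫ u') * (x ≫ f))
    (hr : ∀ (T : Over S) (g : T ⟶ G) (x : T ⟶ E), (x * (g ≫ u)) ≫ f = (x ≫ f) * (g ≫ u')) :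
    IsMonHom f := by
  have := hex.2.1
  have := hex'.2.1
  have := hex'.1
  -- the defect
  let D : ∀ {T : Over S}, (T ⟶ E) → (T ⟶ E) → (T ⟶ E') := fun x y =>
    ((x * y) ≫ f) * ((x ≫ f) * (y ≫ f))⁻¹
  have hD : D (fst E E) (snd E E) ≫ v' = 1 := by
    simp only [D, MonObj.mul_comp, GrpObj.inv_comp, Category.assoc, hv, mul_inv_cancel]
  obtain ⟨c₀, hc₀⟩ : ∃ c₀ : E ⊗ E ⟶ G, c₀ ≫ u' = D (fst E E) (snd E E) := by
    obtain ⟨g, hg⟩ := exists_lift_kernel u' v' hex' 1 (D (fst E E) (snd E E)) (by rw [hD, MonObj.one_comp])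
    exact ⟨g, by rw [hg, _root_.one_mul]⟩
  have hpt : ∀ {T : Over S} (w : T ⟶ E ⊗ E), (w ≫ c₀) ≫ u' = D (w ≫ fst E E) (w ≫ snd E E) := fun w => by
    rw [Category.assoc, hc₀]
    simp only [D, MonObj.comp_mul, GrpObj.comp_inv, ← Category.assoc]
  have hD₂ : ∀ {T : Over S} (g : T ⟶ G) (x y : T ⟶ E), D x (y * (g ≫ u)) = D x y := fun g x y => by
    simp only [D, ← _root_.mul_assoc, hr]
    group
  have hD₁ : ∀ {T : Over S} (g : T ⟶ G) (x y : T ⟶ E), D (x * (g ≫ u)) y = D x y := fun g x y => by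
    obtain ⟨g', hg'⟩ := exists_lift_kernel u v hex y ((g ≫ u) * y) (by
      rw [MonObj.mul_comp, Category.assoc, hex.2.2.1, MonObj.comp_one, _root_.one_mul])
    have e : (g ≫ u') * (y ≫ f) = (y ≫ f) * (g' ≫ u') := by rw [← hl, hg', hr]
    simp only [D, hr]
    rw [_root_.mul_assoc x, hg', ← _root_.mul_assoc x, hr, _root_.mul_assoc (x ≫ f) (g ≫ u'), e]
    group
  obtain ⟨R, hR, hq⟩ := prod_local u v hex
  obtain ⟨c, hc⟩ := exists_desc (v ⊗ₘ v) R hR hq c₀ (fun T w w' hw => by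
    refine kernel_injective u' v' hex' _ _ ?_
    rw [hpt, hpt]
    have hw1 : (w ≫ fst E E) ≫ v = (w' ≫ fst E E) ≫ v := by simpa using congrArg (· ≫ fst P P) hw
    have hw2 : (w ≫ snd E E) ≫ v = (w' ≫ snd E E) ≫ v := by simpa using congrArg (· ≫ snd P P) hw
    obtain ⟨g₁, hg₁⟩ := exists_lift_kernel u v hex _ _ hw1
    obtain ⟨g₂, hg₂⟩ := exists_lift_kernel u v hex _ _ hw2
    rw [hg₁, hg₂, hD₁, hD₂])
  have hηv : (1 : E ⟶ E) ≫ v = toUnit E ≫ η[P] := by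
    rw [MonObj.one_comp]; exact Hom.one_def
  have h1f : (1 : E ⟶ E) ≫ f = 1 := by
    rw [Hom.one_def, Category.assoc, h1]; exact Hom.one_def.symm
  obtain ⟨-, -, -, -, R₀, hR₀, hsec⟩ := hex
  have hv_local : ∀ ⦃T : Scheme.{u}⦄ (t : T ⟶ P.left), Sieve.generate R₀ t →
      ∃ s : Over.mk (t ≫ P.hom) ⟶ E, s ≫ v = Over.homMk t rfl := by
    rintro T t ⟨W, a, f₁, hf₁, rfl⟩
    obtain ⟨s, hs⟩ := hsec f₁ hf₁
    replace hs : s ≫ v.left = f₁ := hs
    refine ⟨Over.homMk (a ≫ s) ?_, Over.OverMorphism.ext ?_⟩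
    · change (a ≫ s) ≫ E.hom = (a ≫ f₁) ≫ P.hom
      rw [← Over.w v, Category.assoc, reassoc_of% hs, Category.assoc]
    · change (a ≫ s) ≫ v.left = a ≫ f₁
      rw [Category.assoc, hs]
  have hc1 : c = 1 := by
    refine hPP c ?_ ?_
    · refine epi_of_local v _ (Precoverage.generate_mem_toGrothendieck hR₀) hv_local ?_
      have e : v ≫ lift (𝟙 P) (toUnit P ≫ η[P]) = lift (𝟙 E) (1 : E ⟶ E) ≫ (v ⊗ₘ v) := by
        rw [comp_lift, lift_map, Category.id_comp, Category.comp_id, comp_toUnit_assoc, hηv]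
      rw [← Category.assoc, e, Category.assoc, hc, MonObj.comp_one]
      refine kernel_injective u' v' hex' _ _ ?_
      rw [hpt, lift_fst, lift_snd, MonObj.one_comp]
      simp only [D, _root_.mul_one, h1f, mul_inv_cancel]
    · refine epi_of_local v _ (Precoverage.generate_mem_toGrothendieck hR₀) hv_local ?_
      have e : v ≫ lift (toUnit P ≫ η[P]) (𝟙 P) = lift (1 : E ⟶ E) (𝟙 E) ≫ (v ⊗ₘ v) := by
        rw [comp_lift, lift_map, Category.id_comp, Category.comp_id, comp_toUnit_assoc, hηv]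
      rw [← Category.assoc, e, Category.assoc, hc, MonObj.comp_one]
      refine kernel_injective u' v' hex' _ _ ?_
      rw [hpt, lift_fst, lift_snd, MonObj.one_comp]
      simp only [D, _root_.one_mul, h1f, mul_inv_cancel]
  have h3 : D (fst E E) (snd E E) = 1 := by
    rw [← hc₀, ← hc, hc1, MonObj.comp_one, MonObj.one_comp]
  refine ⟨h1, ?_⟩
  have h4 := mul_inv_eq_one.1 h3
  have h5 : (fst E E * snd E E : E ⊗ E ⟶ E) = μ[E] := by rw [Hom.mul_def, lift_fst_snd, Category.id_comp]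
  rw [h5] at h4
  rw [h4, Hom.mul_def, lift_fst_comp_snd_comp]

end ext

end Groth.Agent.Lib.BitorsExt
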