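import Groth.Prelude.Def_W4c2gerbepatchBitors
import Mathlib.CategoryTheory.Sites.CoversTop.Basic
import Mathlib.Algebra.Group.Int.Defs
import Mathlib.Algebra.Group.ULift

/-!
# Right structures versus isomorphism families
-/

set_option autoImplicit false

universe w v u

open CategoryTheory Opposite Bitors

namespace Groth.Agent.Lib.BitorsFam

variable {C : Type u} [Category.{v} C] {J : GrothendieckTopology C} {G H : Sheaf J GrpCat.{w}}

/-- Sections of a sheaf of groups agreeing on a cover are equal. -/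
theorem grp_ext (G : Sheaf J GrpCat.{w}) {U : C} (S : Sieve U) (hS : S ∈ J U) (x y : G.obj.obj (op U))
    (h : ∀ (V : C) (t : V ⟶ U), S t → G.obj.map t.op x = G.obj.map t.op y) : x = y := by
  let hom : G.obj.obj (op U) → (GrpCat.of (Multiplicative (ULift.{w} ℤ)) ⟶ G.obj.obj (op U)) := fun z =>
    GrpCat.ofHom ((zpowersHom (G.obj.obj (op U)) z).comp
      (AddMonoidHom.toMultiplicative (AddEquiv.ulift : ULift.{w} ℤ ≃+ ℤ).toAddMonoidHom))
  have hval : ∀ z, hom z (Multiplicative.ofAdd (ULift.up 1)) = z := fun z => by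
    change z ^ (1 : ℤ) = z; simp
  have key : hom x = hom y := by
    refine ((G.property (GrpCat.of (Multiplicative (ULift.{w} ℤ)))).isSeparated S hS).ext fun V t ht => ?_
    refine GrpCat.hom_ext (MonoidHom.ext fun n => ?_)
    change G.obj.map t.op (x ^ (Multiplicative.toAdd n).down) = G.obj.map t.op (y ^ (Multiplicative.toAdd n).down)
    rw [map_zpow, map_zpow, h V t ht]
  rw [← hval x, key, hval]

variable {P : NonAbH1.GSheaf G}

theorem smul_cancel (hP : P.IsPseudoTorsor) {U : Cᵒᵖ} {p : P.P.obj.obj U} {a b : G.obj.obj U}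
    (h : P.smul a p = P.smul b p) : a = b :=
  (hP U p (P.smul b p)).unique h rfl

theorem rightStr_ext {ρ ρ' : RightStr P H}
    (h : ∀ (U : Cᵒᵖ) (p : P.P.obj.obj U) (x : H.obj.obj U), ρ.rsmul p x = ρ'.rsmul p x) : ρ = ρ' := by
  obtain ⟨r, _, _, _, _, _⟩ := ρ
  obtain ⟨r', _, _, _, _, _⟩ := ρ'
  obtain rfl : @r = @r' := by
    funext U p x
    exact h U p x
  rfl

theorem isomFamily_ext {φ φ' : IsomFamily P H}
    (h : ∀ (U : Cᵒᵖ) (p : P.P.obj.obj U) (x : H.obj.obj U), φ.φ p x = φ'.φ p x) : φ = φ' := by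
  obtain ⟨f, _, _⟩ := φ
  obtain ⟨f', _, _⟩ := φ'
  obtain rfl : @f = @f' := by
    funext U p
    exact MulEquiv.ext (h U p)
  rfl

/-- The right structure of an isomorphism family. -/
def toRightStr (hP : P.IsPseudoTorsor) (φ : IsomFamily P H) : RightStr P H where
  rsmul p x := P.smul (φ.φ p x) p
  rsmul_one p := by simp [map_one, P.one_smul]
  rsmul_mul p x x' := by
    rw [φ.φ_smul, ← P.mul_smul, map_mul]
    simp [mul_assoc]
  map_rsmul f p x := by rw [P.map_smul, φ.map_φ]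
  smul_rsmul g p x := by
    rw [φ.φ_smul, ← P.mul_smul, ← P.mul_smul]
    simp [mul_assoc]
  existsUnique_rsmul p q := by
    obtain ⟨g, hg, hu⟩ := hP _ p q
    refine ⟨(φ.φ p).symm g, ?_, fun x hx => ?_⟩
    · simpa using hg
    · rw [← hu _ hx, MulEquiv.symm_apply_apply]

variable (hP : P.IsPseudoTorsor) (ρ : RightStr P H)

/-- The element translating `p` to `p · x`. -/
noncomputable def elt {U : Cᵒᵖ} (p : P.P.obj.obj U) (x : H.obj.obj U) : G.obj.obj U :=
  (hP U p (ρ.rsmul p x)).choose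

theorem smul_elt {U : Cᵒᵖ} (p : P.P.obj.obj U) (x : H.obj.obj U) :
    P.smul (elt hP ρ p x) p = ρ.rsmul p x :=
  (hP U p (ρ.rsmul p x)).choose_spec.1

theorem elt_mul {U : Cᵒᵖ} (p : P.P.obj.obj U) (x y : H.obj.obj U) :
    elt hP ρ p (x * y) = elt hP ρ p x * elt hP ρ p y :=
  smul_cancel hP (p := p) (by
    rw [smul_elt, P.mul_smul, smul_elt, ← ρ.smul_rsmul, smul_elt, ρ.rsmul_mul])

theorem elt_bijective {U : Cᵒᵖ} (p : P.P.obj.obj U) : Function.Bijective (elt hP ρ p) := by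
  refine ⟨fun x y hxy => ?_, fun g => ?_⟩
  · exact (ρ.existsUnique_rsmul p (ρ.rsmul p y)).unique
      (by rw [← smul_elt hP ρ p x, hxy, smul_elt]) rfl
  · obtain ⟨x, hx, -⟩ := ρ.existsUnique_rsmul p (P.smul g p)
    exact ⟨x, smul_cancel hP ((smul_elt hP ρ p x).trans hx)⟩

/-- The isomorphism family of a right structure. -/
noncomputable def toFamily : IsomFamily P H where
  φ p := MulEquiv.ofBijective (MonoidHom.mk' (elt hP ρ p) (elt_mul hP ρ p)) (elt_bijective hP ρ p)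
  map_φ {U V} f p x := smul_cancel hP (p := P.P.obj.map f p) (by
    change P.smul (G.obj.map f (elt hP ρ p x)) _ = P.smul (elt hP ρ _ _) _
    rw [← P.map_smul, smul_elt, smul_elt, ρ.map_rsmul])
  φ_smul {U} g p x := smul_cancel hP (p := P.smul g p) (by
    change P.smul (elt hP ρ (P.smul g p) x) _ = P.smul (g * elt hP ρ p x * g⁻¹) _
    rw [smul_elt, ρ.smul_rsmul, ← P.mul_smul (_ * _ * _), ← smul_elt hP ρ p x, ← P.mul_smul]
    simp [mul_assoc])

theorem hom_rsmul_iff {P' : NonAbH1.GSheaf G} (hP' : P'.IsPseudoTorsor) (ρ : RightStr P H) (ρ' : RightStr P' H)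
    (φ : IsomFamily P H) (φ' : IsomFamily P' H)
    (hρ : ∀ (U : Cᵒᵖ) (p : P.P.obj.obj U) (h : H.obj.obj U), ρ.rsmul p h = P.smul (φ.φ p h) p)
    (hρ' : ∀ (U : Cᵒᵖ) (p : P'.P.obj.obj U) (h : H.obj.obj U), ρ'.rsmul p h = P'.smul (φ'.φ p h) p)
    (f : P ⟶ P') :
    (∀ (U : Cᵒᵖ) (p : P.P.obj.obj U) (h : H.obj.obj U),
        f.hom.hom.app U (ρ.rsmul p h) = ρ'.rsmul (f.hom.hom.app U p) h) ↔
      ∀ (U : Cᵒᵖ) (p : P.P.obj.obj U) (h : H.obj.obj U),
        φ.φ p h = φ'.φ (f.hom.hom.app U p) h := by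
  refine ⟨fun hh U p h => ?_, fun hh U p h => ?_⟩
  · have := hh U p h
    rw [hρ, hρ', f.map_smul] at this
    exact smul_cancel hP' this
  · rw [hρ, hρ', f.map_smul, hh]

end Groth.Agent.Lib.BitorsFam
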