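import Groth.Agent.H22.BlowUpAmple
import Groth.Agent.H22.BlowUpComp.Cover
import Groth.Agent.Lib.PProj.Chart
import Groth.Agent.Lib.PProj.Gen

/-!
# Blow-ups in finite type ideals are projective (over an arbitrary base)
-/

set_option autoImplicit false
set_option linter.style.haveILetI false

noncomputable section

universe u

open CategoryTheory CategoryTheory.Limits AlgebraicGeometry Opposite TopologicalSpace

namespace Groth.Agent.Lib.BlowUpProj

open BlowUpExists PProj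

variable {X : Scheme.{u}} {I : X.IdealSheafData}

/-- The image of a chart. -/
abbrev Rng (i : Idx I) : (bl I).Opens := (incl i).opensRange

theorem rng_le (i : Idx I) : Rng i ≤ blProj I ⁻¹ᵁ i.1.1 := by
  rintro _ ⟨z, rfl⟩
  exact blProj_incl_mem i z

/-- Pull back of a function. -/
abbrev pb {U : X.Opens} {O : (bl I).Opens} (e : O ≤ blProj I ⁻¹ᵁ U) : Γ(X, U) →+* Γ(bl I, O) :=
  ((blProj I).appLE U O e).hom

theorem rX_pb {U : X.Opens} {O O' : (bl I).Opens} (e : O ≤ blProj I ⁻¹ᵁ U) (h : O' ≤ O) (r : Γ(X, U)) :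
    rX h (pb e r) = pb (h.trans e) r :=
  appLE_res (blProj I) h e r

theorem pb_rX {U V : X.Opens} {O : (bl I).Opens} (hV : V ≤ U) (e : O ≤ blProj I ⁻¹ᵁ V) (r : Γ(X, U)) :
    pb e (rX hV r) = pb (fun z hz => hV (e hz)) r := by
  simp only [pb, rX]
  rw [← CommRingCat.comp_apply, Scheme.Hom.map_appLE]

theorem exists_nhd (a : Idx I) {O : (bl I).Opens} (hO : O ≤ Rng a) {z : bl I} (hz : z ∈ O) :
    ∃ (W : (bl I).affineOpens) (h : W.1 ≤ O), z ∈ W.1 ∧
      (I.comap (blProj I)).ideal W = Ideal.span {pb (h.trans (hO.trans (rng_le a))) a.2.1} ∧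
      pb (h.trans (hO.trans (rng_le a))) a.2.1 ∈ nonZeroDivisors Γ(bl I, W.1) := by
  obtain ⟨W, e, hzW, hle, hW⟩ :=
    GenAt.exists_le ((H22.BlowUpAmple.genAt_blProj_iff a z).2 (hO hz)) hz
  exact ⟨W, hle, hzW, hW, gen_mem_nonZeroDivisors (localData I).Q_proj hW⟩

theorem cancel (a : Idx I) {O : (bl I).Opens} (hO : O ≤ Rng a) {c c' : Γ(bl I, O)}
    (h : c * pb (hO.trans (rng_le a)) a.2.1 = c' * pb (hO.trans (rng_le a)) a.2.1) : c = c' := by
  choose W hW hzW _ hnzd using fun z : O => exists_nhd a hO z.2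
  refine PProj.eq_of_cover (B := fun z => (W z).1) hW
    (fun z hz => Opens.mem_iSup.2 ⟨⟨z, hz⟩, hzW _⟩) fun z => ?_
  refine (mul_cancel_right_mem_nonZeroDivisors (hnzd z)).mp ?_
  rw [← rX_pb (hO.trans (rng_le a)) (hW z), ← map_mul, ← map_mul, h]

theorem exists_div (a : Idx I) {O : (bl I).Opens} (hO : O ≤ Rng a) {U : X.affineOpens}
    (hU : O ≤ blProj I ⁻¹ᵁ U.1) {b : Γ(X, U.1)} (hb : b ∈ I.ideal U) :
    ∃ c : Γ(bl I, O), c * pb (hO.trans (rng_le a)) a.2.1 = pb hU b := by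
  choose W hW hzW hgen hnzd using fun z : O => exists_nhd a hO z.2
  have hmem : ∀ z : O, pb ((hW z).trans hU) b ∈ (I.comap (blProj I)).ideal (W z) := fun z => by
    rw [Lib.Ideal.Comap.ideal_comap (blProj I) I U (W z) ((hW z).trans hU)]
    exact Ideal.mem_map_of_mem _ hb
  choose c hc using fun z => Ideal.mem_span_singleton'.1 (hgen z ▸ hmem z)
  have hcompat : TopCat.Presheaf.IsCompatible (bl I).sheaf.1 (fun z => (W z).1) c := fun z z' => by
    refine cancel a (O := (W z).1 ⊓ (W z').1) (inf_le_left.trans ((hW z).trans hO)) ?_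
    show rX (inf_le_left : (W z).1 ⊓ (W z').1 ≤ (W z).1) (c z) * _ =
      rX (inf_le_right : (W z).1 ⊓ (W z').1 ≤ (W z').1) (c z') * _
    have h1 := congrArg (rX (inf_le_left : (W z).1 ⊓ (W z').1 ≤ (W z).1)) (hc z)
    have h2 := congrArg (rX (inf_le_right : (W z).1 ⊓ (W z').1 ≤ (W z').1)) (hc z')
    rw [map_mul, rX_pb, rX_pb] at h1 h2
    exact h1.trans h2.symm
  obtain ⟨s, hs, -⟩ := (bl I).sheaf.existsUnique_gluing' (fun z => (W z).1) O
    (fun z => homOfLE (hW z)) (fun z hz => Opens.mem_iSup.2 ⟨⟨z, hz⟩, hzW _⟩) c hcompat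
  refine ⟨s, PProj.eq_of_cover (B := fun z => (W z).1) hW
    (fun z hz => Opens.mem_iSup.2 ⟨⟨z, hz⟩, hzW _⟩) fun z => ?_⟩
  rw [map_mul, rX_pb, rX_pb, show rX (hW z) s = c z from hs z]
  exact hc z

/-- The fraction `b / a`. -/
def dv (a : Idx I) {O : (bl I).Opens} (hO : O ≤ Rng a) {U : X.affineOpens}
    (hU : O ≤ blProj I ⁻¹ᵁ U.1) {b : Γ(X, U.1)} (hb : b ∈ I.ideal U) : Γ(bl I, O) :=
  (exists_div a hO hU hb).choose

theorem dv_mul (a : Idx I) {O : (bl I).Opens} (hO : O ≤ Rng a) {U : X.affineOpens}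
    (hU : O ≤ blProj I ⁻¹ᵁ U.1) {b : Γ(X, U.1)} (hb : b ∈ I.ideal U) :
    dv a hO hU hb * pb (hO.trans (rng_le a)) a.2.1 = pb hU b :=
  (exists_div a hO hU hb).choose_spec

theorem rX_dv (a : Idx I) {O O' : (bl I).Opens} (h : O' ≤ O) (hO : O ≤ Rng a) {U : X.affineOpens}
    (hU : O ≤ blProj I ⁻¹ᵁ U.1) {b : Γ(X, U.1)} (hb : b ∈ I.ideal U) :
    rX h (dv a hO hU hb) = dv a (h.trans hO) (h.trans hU) hb := by
  refine cancel a (h.trans hO) ?_
  have h1 := congrArg (rX h) (dv_mul a hO hU hb)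
  rw [map_mul, rX_pb, rX_pb] at h1
  rw [h1, dv_mul]

/-- The locus where the fraction is a unit. -/
theorem mem_basicOpen_dv_iff (a : Idx I) {O : (bl I).Opens} (hO : O ≤ Rng a) {U : X.affineOpens}
    (hU : O ≤ blProj I ⁻¹ᵁ U.1) {b : Γ(X, U.1)} (hb : b ∈ I.ideal U) {x : bl I} (hx : x ∈ O) :
    x ∈ (bl I).basicOpen (dv a hO hU hb) ↔ x ∈ Rng (⟨U, b, hb⟩ : Idx I) := by
  show _ ↔ x ∈ Set.range (incl (⟨U, b, hb⟩ : Idx I))
  rw [← H22.BlowUpAmple.genAt_blProj_iff]
  constructor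
  · intro h
    obtain ⟨W, hW, hxW, hgen, -⟩ := exists_nhd a (((bl I).basicOpen_le _).trans hO) h
    have hWO : W.1 ≤ O := hW.trans ((bl I).basicOpen_le _)
    refine ⟨W, hWO.trans hU, hxW, ?_⟩
    show _ = Ideal.span {pb (hWO.trans hU) b}
    rw [← dv_mul a (hWO.trans hO) (hWO.trans hU) hb, ← rX_dv a hWO hO hU hb, hgen]
    exact (Ideal.span_singleton_mul_left_unit (PProj.isUnit_rX hWO hW) _).symm
  · intro h
    obtain ⟨W, hWO, hxW, hgen, hnzd⟩ := exists_nhd a hO hx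
    obtain ⟨W', e', hxW', hle, hW'⟩ := GenAt.exists_le h hxW
    have h1 : (I.comap (blProj I)).ideal W' =
        Ideal.span {pb ((hle.trans hWO).trans (hO.trans (rng_le a))) a.2.1} := by
      rw [ideal_eq_span_of_genAt_le hle ((hWO).trans (hO.trans (rng_le a))) hgen]
    have hn := gen_mem_nonZeroDivisors (localData I).Q_proj h1
    obtain ⟨d, hd⟩ := Ideal.mem_span_singleton'.1 (hW' ▸ h1 ▸ Ideal.mem_span_singleton_self _)
    have hu : IsUnit (dv a ((hle.trans hWO).trans hO) ((hle.trans hWO).trans hU) hb) := by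
      refine IsUnit.of_mul_eq_one d ((mul_cancel_right_mem_nonZeroDivisors hn).mp ?_)
      rw [one_mul, mul_comm _ d, mul_assoc, dv_mul]
      exact hd
    rw [(bl I).mem_basicOpen _ x hx,
      ← TopCat.Presheaf.germ_res_apply (bl I).presheaf (homOfLE (hle.trans hWO)) x hxW']
    refine IsUnit.map _ ?_
    show IsUnit (rX (hle.trans hWO) (dv a hO hU hb))
    rwa [rX_dv]

theorem closure_rng (i : Idx I) {n : ℕ} (s : Fin n → Γ(X, i.1.1))
    (hs : Ideal.span (Set.range s) = I.ideal i.1) :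
    Subring.closure (Set.range ((blProj I).appLE i.1.1 (Rng i) (rng_le i)) ∪
      Set.range (fun k => dv i le_rfl (rng_le i) (hs ▸ Ideal.subset_span ⟨k, rfl⟩ : s k ∈ I.ideal i.1))) = ⊤ := by
  have e : (⊤ : (chart i).Opens) ≤ incl i ⁻¹ᵁ Rng i := fun z _ => ⟨z, rfl⟩
  let Ψ : Γ(bl I, Rng i) →+* chartRing i :=
    ((incl i).appLE (Rng i) ⊤ e ≫ (Scheme.ΓSpecIso (chartRing i)).hom).hom
  have hΨ : Function.Bijective Ψ := by
    haveI := (incl i).isIso_app (Rng i) le_rfl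
    have : IsIso ((incl i).appLE (Rng i) ⊤ e) := by
      rw [Scheme.Hom.appLE,
        show (homOfLE e).op = (eqToHom (top_le_iff.1 e).symm).op from rfl]
      infer_instance
    exact ConcreteCategory.bijective_of_isIso ((incl i).appLE (Rng i) ⊤ e ≫ (Scheme.ΓSpecIso (chartRing i)).hom)
  have hbase : ∀ x, Ψ (pb (rng_le i) x) = (chartRingMap i).hom x := by
    intro x
    show (((blProj I).appLE i.1.1 (Rng i) (rng_le i)) ≫ (incl i).appLE (Rng i) ⊤ e ≫
      (Scheme.ΓSpecIso (chartRing i)).hom).hom x = _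
    rw [Scheme.Hom.appLE_comp_appLE_assoc]
    have : (incl i ≫ blProj I).appLE i.1.1 ⊤ (e.trans (fun z hz => rng_le i hz)) =
        chartRingMap i ≫ (Scheme.ΓSpecIso _).inv := by
      simp only [incl_proj, appLE_chartMap]
    rw [this, Category.assoc, Iso.inv_hom_id, Category.comp_id]
  have hfrac : ∀ k, Ψ (dv i le_rfl (rng_le i) (hs ▸ Ideal.subset_span ⟨k, rfl⟩ : s k ∈ I.ideal i.1)) =
      frac i (hs ▸ Ideal.subset_span ⟨k, rfl⟩ : s k ∈ I.ideal i.1) := by
    intro k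
    refine (mul_cancel_right_mem_nonZeroDivisors (chartRingMap_gen_mem_nonZeroDivisors i)).mp ?_
    rw [frac_spec, ← hbase, ← hbase, ← map_mul]
    exact congrArg Ψ (dv_mul i le_rfl (rng_le i) _)
  refine eq_top_iff.2 fun z _ => ?_
  set C := Subring.closure (Set.range ((blProj I).appLE i.1.1 (Rng i) (rng_le i)) ∪
    Set.range (fun k => dv i le_rfl (rng_le i) (hs ▸ Ideal.subset_span ⟨k, rfl⟩ : s k ∈ I.ideal i.1)))
  have htop : C.map Ψ = ⊤ := by
    refine subring_eq_top i _ (fun x => ⟨pb (rng_le i) x, Subring.subset_closure (Or.inl ⟨x, rfl⟩), hbase x⟩)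
      hs ?_
    rintro _ ⟨k, rfl⟩
    exact ⟨_, Subring.subset_closure (Or.inr ⟨k, rfl⟩), hfrac k⟩
  obtain ⟨z', hz', he⟩ := htop.ge (Subring.mem_top (Ψ z))
  exact hΨ.1 he ▸ hz'

/-- The coordinate system of generators over an affine open. -/
def sys (U : X.affineOpens) {n : ℕ} (s : Fin n → Γ(X, U.1)) (hs : Ideal.span (Set.range s) = I.ideal U) :
    Sys (blProj I) (fun a : Idx I => Rng a) U.1 :=
  have hmem : ∀ k, s k ∈ I.ideal U := fun k => hs ▸ Ideal.subset_span ⟨k, rfl⟩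
  { n := n
    c := fun k a => dv a inf_le_left inf_le_right (hmem k)
    L := fun k => Rng (⟨U, s k, hmem k⟩ : Idx I)
    L_le := fun k => rng_le _
    affine := fun k => isAffineOpen_opensRange _
    cover := fun x hx => by
      obtain ⟨_, ⟨k, rfl⟩, h⟩ := exists_mem_range_incl (I := I) x hx hs
      exact Opens.mem_iSup.2 ⟨k, h⟩
    L_inf := fun k a => by
      refine le_antisymm (fun x hx => ?_) fun x hx => ?_
      · exact (mem_basicOpen_dv_iff a inf_le_left inf_le_right (hmem k) ⟨hx.2, rng_le _ hx.1⟩).2 hx.1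
      · have hxp := (bl I).basicOpen_le _ hx
        exact ⟨(mem_basicOpen_dv_iff a inf_le_left inf_le_right (hmem k) hxp).1 hx, hxp.1⟩
    u := fun j k => dv (⟨U, s j, hmem j⟩ : Idx I) le_rfl (rng_le _) (hmem k)
    rel := fun j k a => by
      have hle : Rng (⟨U, s j, hmem j⟩ : Idx I) ⊓ Rng a ≤ Rng a ⊓ blProj I ⁻¹ᵁ U.1 :=
        le_inf inf_le_right (inf_le_left.trans (rng_le _))
      refine cancel a (inf_le_right) ?_
      rw [rX_dv, rX_dv, rX_dv, mul_assoc, dv_mul, dv_mul]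
      exact (dv_mul (⟨U, s j, hmem j⟩ : Idx I) inf_le_left _ (hmem k)).symm
    gen := fun j => closure_rng (⟨U, s j, hmem j⟩ : Idx I) s hs }

theorem exists_gens (hI : ∀ U, (I.ideal U).FG) (U : X.affineOpens) :
    ∃ (n : ℕ) (s : Fin n → Γ(X, U.1)), Ideal.span (Set.range s) = I.ideal U := by
  obtain ⟨n, s, hs⟩ := Submodule.fg_iff_exists_fin_generating_family.1 (hI U)
  exact ⟨n, s, hs⟩

/-- The coordinate data of a blow-up. -/
theorem nonempty_pdata (hI : ∀ U, (I.ideal U).FG) : Nonempty (PData (blProj I)) := by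
  classical
  choose n s hs using exists_gens hI
  refine ⟨{
    I := Idx I
    P := fun a => Rng a
    P_cover := fun x => ?_
    J := X.affineOpens
    U := fun U => U.1
    affine := fun U => U.2
    cover := fun x => ?_
    sys := fun U => sys U (s U) (hs U)
    compat := fun U U' j y hy hy' => ?_ }⟩
  · obtain ⟨i, z, rfl⟩ := incl_jointly_surjective x
    exact ⟨i, z, rfl⟩
  · obtain ⟨V, hV, hx, -⟩ := exists_isAffineOpen_mem_and_subset (X := X) (x := x) (U := ⊤) trivial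
    exact ⟨⟨V, hV⟩, hx⟩
  obtain ⟨V, hV, hyV, hle⟩ := exists_isAffineOpen_mem_and_subset (show y ∈ U.1 ⊓ U'.1 from ⟨hy, hy'⟩)
  have hVU : V ≤ U.1 := fun z hz => (hle hz).1
  have hVU' : V ≤ U'.1 := fun z hz => (hle hz).2
  have hmem : rX hVU' (s U' j) ∈ I.ideal ⟨V, hV⟩ := by
    rw [← I.map_ideal (U := ⟨V, hV⟩) (V := U') hVU']
    exact Ideal.mem_map_of_mem _ (hs U' ▸ Ideal.subset_span ⟨j, rfl⟩)
  rw [← I.map_ideal (U := ⟨V, hV⟩) (V := U) hVU, ← hs U, Ideal.map_span, ← Set.range_comp] at hmem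
  obtain ⟨l, hl⟩ := (Submodule.mem_span_range_iff_exists_fun _).1 hmem
  refine ⟨V, hVU, hVU', hyV, l, ?_⟩
  funext a
  refine cancel a (inf_le_left : piece (blProj I) (fun a => Rng a) a V ≤ Rng a) ?_
  simp only [lin, Finset.sum_mul, vres_apply, sys]
  simp only [rX_dv, mul_assoc, dv_mul, base]
  rw [← pb_rX hVU' (inf_le_right : piece (blProj I) (fun a => Rng a) a V ≤ blProj I ⁻¹ᵁ V), ← hl, map_sum]
  refine Finset.sum_congr rfl fun k _ => ?_
  rw [smul_eq_mul, map_mul]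
  exact congrArg (_ * ·) (pb_rX hVU _ _)

theorem isProjective_iso_comp {Y Z : Scheme.{u}} (k : Y ⟶ Z) [IsIso k] {f : Z ⟶ X}
    (h : RelProj.IsProjective f) : RelProj.IsProjective (k ≫ f) := by
  obtain ⟨𝒮, P, p, chart, e, h1, h2, h3, h4⟩ := h
  exact ⟨𝒮, P, p, chart, asIso k ≪≫ e, h1, h2, h3, by
    simp only [Iso.trans_hom, asIso_hom, Category.assoc, h4]⟩

theorem isProjective_of_isBlowUp {X' : Scheme.{u}} (hI : ∀ U, (I.ideal U).FG) {b : X' ⟶ X}
    (hb : BlowUp.IsBlowUp b I) : RelProj.IsProjective b := by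
  obtain ⟨k, hk, hkb⟩ := H22.BlowUpComp.exists_iso hb
  obtain ⟨D⟩ := nonempty_pdata hI
  rw [← hkb]
  exact isProjective_iso_comp k D.isProjective

end Groth.Agent.Lib.BlowUpProj
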