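import Mathlib

set_option autoImplicit false
universe u v
open scoped TensorProduct

namespace Groth.Agent.Lib.BrauerSepBase

/-- Descent of a central simple division algebra along a field extension from structure constants. -/
theorem exists_descent (E : Type u) (F' : Type u) (D : Type u) [Field E] [Field F'] [Algebra E F']
    [DivisionRing D] [Algebra F' D] [Algebra E D] [IsScalarTower E F' D] [Algebra.IsCentral F' D]
    [FiniteDimensional F' D] {ι : Type v} [Fintype ι] (b : Module.Basis ι F' D)
    (h1 : ∀ i, b.repr 1 i ∈ Set.range (algebraMap E F'))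
    (h2 : ∀ i j l, b.repr (b i * b j) l ∈ Set.range (algebraMap E F')) :
    ∃ (D₀ : Type u) (_ : DivisionRing D₀) (_ : Algebra E D₀) (_ : Algebra.IsCentral E D₀)
      (_ : FiniteDimensional E D₀), Nonempty ((F' ⊗[E] D₀) ≃ₐ[F'] D) := by
  classical
  let V := Submodule.span E (Set.range b)
  have hmem : ∀ x : D, (∀ i, b.repr x i ∈ Set.range (algebraMap E F')) → x ∈ V := fun x hx => by
    rw [← b.sum_repr x]
    refine sum_mem fun i _ => ?_
    obtain ⟨c, hc⟩ := hx i
    rw [← hc, algebraMap_smul]
    exact Submodule.smul_mem _ _ (Submodule.subset_span ⟨i, rfl⟩)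
  have hone : (1 : D) ∈ V := hmem 1 h1
  have hmul : ∀ x ∈ V, ∀ y ∈ V, x * y ∈ V := fun x hx y hy => by
    induction hx using Submodule.span_induction with
    | mem u hu =>
      obtain ⟨i, rfl⟩ := hu
      induction hy using Submodule.span_induction with
      | mem w hw =>
        obtain ⟨j, rfl⟩ := hw
        exact hmem _ (h2 i j)
      | zero => simp
      | add _ _ _ _ h1 h2 => rw [mul_add]; exact add_mem h1 h2
      | smul c _ _ h => rw [mul_smul_comm]; exact Submodule.smul_mem _ c h
    | zero => simp
    | add _ _ _ _ h1 h2 => rw [add_mul]; exact add_mem h1 h2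
    | smul c _ _ h => rw [smul_mul_assoc]; exact Submodule.smul_mem _ c h
  let D₀ : Subalgebra E D := V.toSubalgebra hone fun x y hx hy => hmul x hx y hy
  have hli : LinearIndependent E b := LinearIndependent.restrict_scalars' E b.linearIndependent
  have hV : Module.finrank E D₀ = Module.finrank F' D := by
    change Module.finrank E V = _
    rw [finrank_span_eq_card hli, Module.finrank_eq_card_basis b]
  have : FiniteDimensional E D₀ := FiniteDimensional.span_of_finite E (Set.finite_range b)
  let _ : DivisionRing D₀ := divisionRingOfFiniteDimensional E D₀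
  let μ : F' ⊗[E] D₀ →ₐ[F'] D :=
    Algebra.TensorProduct.lift (Algebra.ofId F' D) D₀.val fun c x => Algebra.commutes c _
  have hμ : Function.Surjective μ := fun y => by
    refine ⟨∑ i, (b.repr y i) ⊗ₜ[E] (⟨b i, Submodule.subset_span ⟨i, rfl⟩⟩ : D₀), ?_⟩
    rw [map_sum]
    conv_rhs => rw [← b.sum_repr y]
    exact Finset.sum_congr rfl fun i _ => (Algebra.smul_def _ _).symm
  have hμb : Function.Bijective μ := ⟨(LinearMap.injective_iff_surjective_of_finrank_eq_finrank
    (f := μ.toLinearMap) (by rw [Module.finrank_baseChange, hV])).2 hμ, hμ⟩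
  have : Algebra.IsCentral E D₀ := ⟨fun x hx => by
    have hc : (x : D) ∈ Subalgebra.center F' D := Subalgebra.mem_center_iff.2 fun y => by
      obtain ⟨z, rfl⟩ := hμ y
      induction z using TensorProduct.induction_on with
      | zero => simp
      | add u v hu hv => rw [map_add, add_mul, mul_add, hu, hv]
      | tmul c w =>
        change algebraMap F' D c * (w : D) * (x : D) = (x : D) * (algebraMap F' D c * (w : D))
        rw [mul_assoc, show (w : D) * (x : D) = (x : D) * (w : D) from
          congrArg Subtype.val (Subalgebra.mem_center_iff.1 hx w),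
          ← mul_assoc, Algebra.commutes c (x : D), mul_assoc]
    rw [Algebra.IsCentral.center_eq_bot, Algebra.mem_bot] at hc
    obtain ⟨c, hc⟩ := hc
    have h1' : μ (c ⊗ₜ[E] (1 : D₀)) = μ ((1 : F') ⊗ₜ[E] x) := by
      change algebraMap F' D c * 1 = algebraMap F' D 1 * (x : D)
      rw [mul_one, map_one, one_mul, hc]
    have h2' := hμb.1 h1'
    by_contra hne
    have hli : LinearIndependent E ![(1 : D₀), x] := by
      refine (LinearIndependent.pair_iff' one_ne_zero).2 fun a ha => hne ?_
      rw [← ha, ← Algebra.algebraMap_eq_smul_one]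
      exact Subalgebra.algebraMap_mem _ a
    have hli' := Module.Flat.linearIndependent_one_tmul (S := F') hli
    rw [Fintype.linearIndependent_iff] at hli'
    have h3 := hli' ![c, -1] (by
      simp [Fin.sum_univ_two, TensorProduct.smul_tmul', h2', TensorProduct.neg_tmul])
    exact neg_ne_zero.2 one_ne_zero (h3 1)⟩
  exact ⟨D₀, inferInstance, inferInstance, inferInstance, inferInstance, ⟨AlgEquiv.ofBijective μ hμb⟩⟩

end Groth.Agent.Lib.BrauerSepBase
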