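import Groth.Agent.Lib.CSA.Splitting
import Groth.Agent.Lib.CSA.Simple
import Groth.Agent.Lib.Regular.Quotient
import Mathlib

set_option autoImplicit false
universe u v
open scoped TensorProduct
open IsLocalRing

namespace Groth.Agent.Lib.BrauerSpecialize

/-- A central simple algebra with a left ideal of dimension equal to its degree is split. -/
theorem split_of_leftIdeal {κ : Type u} [Field κ] {A : Type v} [Ring A] [Algebra κ A] [IsSimpleRing A]
    [FiniteDimensional κ A] (n : ℕ) (hn : n ≠ 0) (hA : Module.finrank κ A = n * n)
    (J : Submodule κ A) (hJ : ∀ a : A, ∀ x ∈ J, a * x ∈ J) (hdim : Module.finrank κ J = n) :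
    Nonempty (A ≃ₐ[κ] Matrix (Fin n) (Fin n) κ) := by
  let ρ : A →ₐ[κ] Module.End κ J :=
    { toFun := fun a => (LinearMap.mulLeft κ a).restrict (hJ a)
      map_one' := LinearMap.ext fun x => Subtype.ext (one_mul _)
      map_mul' := fun a b => LinearMap.ext fun x => Subtype.ext (mul_assoc _ _ _)
      map_zero' := LinearMap.ext fun x => Subtype.ext (zero_mul _)
      map_add' := fun a b => LinearMap.ext fun x => Subtype.ext (add_mul _ _ _)
      commutes' := fun r => LinearMap.ext fun x => Subtype.ext (Algebra.smul_def r (x : A)).symm }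
  have : Nontrivial J := Module.nontrivial_of_finrank_pos (R := κ) (by rw [hdim]; exact Nat.pos_of_ne_zero hn)
  have hinj : Function.Injective ρ := RingHom.injective ρ.toRingHom
  have heq : Module.finrank κ A = Module.finrank κ (J →ₗ[κ] J) := by
    rw [hA, Module.finrank_linearMap, hdim]
  have hsurj : Function.Surjective (ρ.toLinearMap) :=
    (LinearMap.injective_iff_surjective_of_finrank_eq_finrank (V := A) (V₂ := Module.End κ J) heq).1 hinj
  have hbij : Function.Bijective ρ := ⟨hinj, hsurj⟩
  exact ⟨(AlgEquiv.ofBijective ρ hbij).trans (algEquivMatrix (Module.finBasisOfFinrankEq κ J hdim))⟩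

/-- A split algebra has a left ideal of dimension equal to its degree. -/
theorem exists_leftIdeal {K : Type u} [Field K] {A : Type v} [Ring A] [Algebra K A] (n : ℕ) (hn : n ≠ 0)
    (e : A ≃ₐ[K] Matrix (Fin n) (Fin n) K) :
    ∃ I : Submodule K A, (∀ a : A, ∀ x ∈ I, a * x ∈ I) ∧ Module.finrank K I = n := by
  have : NeZero n := ⟨hn⟩
  let c : (Fin n → K) →ₗ[K] Matrix (Fin n) (Fin n) K :=
    { toFun := fun v => Matrix.of fun i j => if j = 0 then v i else 0
      map_add' := fun v w => by ext i j; by_cases h : j = 0 <;> simp [h]
      map_smul' := fun r v => by ext i j; by_cases h : j = 0 <;> simp [h] }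
  have hc : Function.Injective c := fun v w h => funext fun i => by simpa [c] using congr_fun₂ h i 0
  refine ⟨(LinearMap.range c).comap e.toLinearMap, fun a x hx => ?_, ?_⟩
  · obtain ⟨v, hv⟩ := hx
    refine ⟨(e a).mulVec v, ?_⟩
    change _ = e (a * x)
    rw [map_mul, show e x = c v from hv.symm]
    ext i j
    by_cases h : j = 0 <;> simp [c, h, Matrix.mul_apply, Matrix.mulVec, dotProduct]
  · change Module.finrank K ((LinearMap.range c).comap (e.toLinearEquiv : A →ₗ[K] _) : Submodule K A) = n
    rw [Submodule.comap_equiv_eq_map_symm, LinearEquiv.finrank_map_eq, LinearMap.finrank_range_of_inj hc,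
      Module.finrank_fin_fun]

variable {k : Type u} [Field k]

/-- Splitting over the fraction field of a discrete valuation ring implies splitting over the
residue field. -/
theorem splits_residueField_of_dvr {O : Type u} [CommRing O] [IsDomain O] [IsDiscreteValuationRing O] [Algebra k O]
    {K : Type u} [Field K] [Algebra O K] [IsFractionRing O K] [Algebra k K] [IsScalarTower k O K]
    {B : Type v} [Ring B] [Algebra k B] [Algebra.IsCentral k B] [IsSimpleRing B] [FiniteDimensional k B]
    (h : Curves.Splits k B K) : Curves.Splits k B (ResidueField O) := by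
  classical
  obtain ⟨n, hn, ⟨e⟩⟩ := h
  have hB : Module.finrank k B = n * n := by
    rw [← Module.finrank_baseChange (R := K) (S := k) (M' := B), e.toLinearEquiv.finrank_eq, Module.finrank_matrix,
      Module.finrank_self, Fintype.card_fin, mul_one]
  obtain ⟨I, hI, hIdim⟩ := exists_leftIdeal n hn e
  let φ : O ⊗[k] B →ₐ[k] K ⊗[k] B := Algebra.TensorProduct.map (IsScalarTower.toAlgHom k O K) (AlgHom.id k B)
  let ψ : O ⊗[k] B →ₐ[k] ResidueField O ⊗[k] B :=
    Algebra.TensorProduct.map (IsScalarTower.toAlgHom k O (ResidueField O)) (AlgHom.id k B)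
  have hφ : ∀ (r : O) (x : O ⊗[k] B), φ (r • x) = algebraMap O K r • φ x := fun r x => by
    induction x using TensorProduct.induction_on with
    | zero => simp
    | tmul a b => simp [φ, TensorProduct.smul_tmul', Algebra.smul_def]
    | add x y hx hy => simp only [smul_add, map_add, hx, hy]
  have hψ : ∀ (r : O) (x : O ⊗[k] B), ψ (r • x) = algebraMap O (ResidueField O) r • ψ x := fun r x => by
    induction x using TensorProduct.induction_on with
    | zero => simp
    | tmul a b => simp [ψ, TensorProduct.smul_tmul', Algebra.smul_def]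
    | add x y hx hy => simp only [smul_add, map_add, hx, hy]
  have hψsurj : Function.Surjective ψ := fun z => by
    induction z using TensorProduct.induction_on with
    | zero => exact ⟨0, map_zero _⟩
    | tmul a b =>
      obtain ⟨a, rfl⟩ := IsLocalRing.residue_surjective a
      exact ⟨a ⊗ₜ[k] b, by simp [ψ]⟩
    | add x y hx hy =>
      obtain ⟨x, rfl⟩ := hx
      obtain ⟨y, rfl⟩ := hy
      exact ⟨x + y, map_add _ _ _⟩
  let L : Submodule O (O ⊗[k] B) :=
    { carrier := {x | φ x ∈ I}
      add_mem' := fun ha hb => by simp only [Set.mem_setOf_eq, map_add] at *; exact add_mem ha hb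
      zero_mem' := by simp
      smul_mem' := fun r x hx => by
        simp only [Set.mem_setOf_eq, hφ] at *
        exact I.smul_mem _ hx }
  have : Module.IsTorsionFree O ((O ⊗[k] B) ⧸ L) := by
    refine ⟨fun r hr x y hxy => ?_⟩
    obtain ⟨x, rfl⟩ := Submodule.Quotient.mk_surjective _ x
    obtain ⟨y, rfl⟩ := Submodule.Quotient.mk_surjective _ y
    have hr0 : r ≠ 0 := hr.ne_zero
    change r • Submodule.Quotient.mk x = r • Submodule.Quotient.mk y at hxy
    rw [← Submodule.Quotient.mk_smul, ← Submodule.Quotient.mk_smul, Submodule.Quotient.eq, ← smul_sub] at hxy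
    rw [Submodule.Quotient.eq]
    change φ (r • (x - y)) ∈ I at hxy
    rw [hφ] at hxy
    change φ (x - y) ∈ I
    have := I.smul_mem (algebraMap O K r)⁻¹ hxy
    rwa [smul_smul, inv_mul_cancel₀ ((map_ne_zero_iff _ (IsFractionRing.injective O K)).2 hr0), one_smul] at this
  have : Module.Free O ((O ⊗[k] B) ⧸ L) := Module.free_of_finite_type_torsion_free'
  obtain ⟨s, hs⟩ := L.mkQ.exists_rightInverse_of_surjective (LinearMap.range_eq_top.2 L.mkQ_surjective)
  let bL := Module.Free.chooseBasis O L
  let bQ := Module.Free.chooseBasis O ((O ⊗[k] B) ⧸ L)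
  let v : Module.Free.ChooseBasisIndex O L ⊕ Module.Free.ChooseBasisIndex O ((O ⊗[k] B) ⧸ L) → O ⊗[k] B :=
    Sum.elim (fun i => (bL i : O ⊗[k] B)) (fun j => s (bQ j))
  have hspan : ∀ x : O ⊗[k] B, x ∈ Submodule.span O (Set.range v) := fun x => by
    have hxL : x - s (L.mkQ x) ∈ L := by
      rw [← Submodule.Quotient.mk_eq_zero, Submodule.Quotient.mk_sub]
      exact sub_eq_zero.2 (LinearMap.congr_fun hs (L.mkQ x)).symm
    rw [← sub_add_cancel x (s (L.mkQ x))]
    refine add_mem ?_ ?_
    · have : (⟨_, hxL⟩ : L) ∈ Submodule.span O (Set.range bL) := bL.mem_span _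
      have h2 := Submodule.mem_map_of_mem (f := L.subtype) this
      rw [Submodule.map_span, ← Set.range_comp] at h2
      refine Submodule.span_mono ?_ h2
      rintro _ ⟨i, rfl⟩
      exact ⟨Sum.inl i, rfl⟩
    · have : L.mkQ x ∈ Submodule.span O (Set.range bQ) := bQ.mem_span _
      have h2 := Submodule.mem_map_of_mem (f := s) this
      rw [Submodule.map_span, ← Set.range_comp] at h2
      refine Submodule.span_mono ?_ h2
      rintro _ ⟨i, rfl⟩
      exact ⟨Sum.inr i, rfl⟩
  have hcard : Fintype.card (Module.Free.ChooseBasisIndex O L ⊕ Module.Free.ChooseBasisIndex O ((O ⊗[k] B) ⧸ L)) =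
      n * n := by
    rw [Fintype.card_sum, ← Module.finrank_eq_card_chooseBasisIndex, ← Module.finrank_eq_card_chooseBasisIndex,
      add_comm, Submodule.finrank_quotient_add_finrank, Module.finrank_baseChange, hB]
  have hliκ : LinearIndependent (ResidueField O) (ψ ∘ v) := by
    refine linearIndependent_of_top_le_span_of_card_eq_finrank (fun z hz => ?_) ?_
    · clear hz
      obtain ⟨x, rfl⟩ := hψsurj z
      induction hspan x using Submodule.span_induction with
      | mem x hx => obtain ⟨i, rfl⟩ := hx; exact Submodule.subset_span ⟨i, rfl⟩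
      | zero => simp
      | add _ _ _ _ h1 h2 => rw [map_add]; exact add_mem h1 h2
      | smul c _ _ h => rw [hψ]; exact Submodule.smul_mem _ _ h
    · rw [hcard, Module.finrank_baseChange, hB]
  have hliK : LinearIndependent K (φ ∘ v) := by
    refine linearIndependent_of_top_le_span_of_card_eq_finrank (fun z _ => ?_) ?_
    · induction z using TensorProduct.induction_on with
      | zero => simp
      | add x y hx hy => exact add_mem (hx trivial) (hy trivial)
      | tmul a b =>
        have h1 : φ ((1 : O) ⊗ₜ[k] b) ∈ Submodule.span K (Set.range (φ ∘ v)) := by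
          have hw := hspan ((1 : O) ⊗ₜ[k] b)
          generalize ((1 : O) ⊗ₜ[k] b) = w at hw ⊢
          induction hw using Submodule.span_induction with
          | mem x hx => obtain ⟨i, rfl⟩ := hx; exact Submodule.subset_span ⟨i, rfl⟩
          | zero => simp
          | add _ _ _ _ h1 h2 => rw [map_add]; exact add_mem h1 h2
          | smul c _ _ h => rw [hφ]; exact Submodule.smul_mem _ _ h
        have := Submodule.smul_mem _ a h1
        simpa [φ, TensorProduct.smul_tmul'] using this
    · rw [hcard, Module.finrank_baseChange, hB]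
  have hLdim : Fintype.card (Module.Free.ChooseBasisIndex O L) = n := by
    have hle : Submodule.span K (Set.range fun i => φ (bL i : O ⊗[k] B)) = I := by
      refine le_antisymm (Submodule.span_le.2 ?_) fun z hz => ?_
      · rintro _ ⟨i, rfl⟩
        exact (bL i).2
      · -- clear denominators
        have hclear : ∀ z : K ⊗[k] B, ∃ r : O, r ≠ 0 ∧ ∃ x, φ x = algebraMap O K r • z := by
          intro z
          induction z using TensorProduct.induction_on with
          | zero => exact ⟨1, one_ne_zero, 0, by simp⟩
          | add x y hx hy =>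
            obtain ⟨r, hr, x', hx'⟩ := hx
            obtain ⟨t, ht, y', hy'⟩ := hy
            refine ⟨r * t, mul_ne_zero hr ht, t • x' + r • y', ?_⟩
            rw [map_add, hφ, hφ, hx', hy', smul_smul, smul_smul, ← map_mul, ← map_mul, smul_add, mul_comm t r]
          | tmul a b =>
            obtain ⟨p, q, hq, rfl⟩ := IsFractionRing.div_surjective (A := O) a
            refine ⟨q, nonZeroDivisors.ne_zero hq, p ⊗ₜ[k] b, ?_⟩
            simp only [φ, Algebra.TensorProduct.map_tmul, IsScalarTower.coe_toAlgHom', AlgHom.id_apply,
              TensorProduct.smul_tmul', smul_eq_mul]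
            rw [mul_div_cancel₀ _ ((map_ne_zero_iff _ (IsFractionRing.injective O K)).2 (nonZeroDivisors.ne_zero hq))]
        obtain ⟨r, hr, x, hx⟩ := hclear z
        have hxL : x ∈ L := by
          change φ x ∈ I
          rw [hx]
          exact I.smul_mem _ hz
        have hmem : φ x ∈ Submodule.span K (Set.range fun i => φ (bL i : O ⊗[k] B)) := by
          have : (⟨x, hxL⟩ : L) ∈ Submodule.span O (Set.range bL) := bL.mem_span _
          suffices ∀ w : L, w ∈ Submodule.span O (Set.range bL) →
              φ (w : O ⊗[k] B) ∈ Submodule.span K (Set.range fun i => φ (bL i : O ⊗[k] B)) from this _ ‹_›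
          intro w hw
          induction hw using Submodule.span_induction with
          | mem w hw => obtain ⟨i, rfl⟩ := hw; exact Submodule.subset_span ⟨i, rfl⟩
          | zero => simp
          | add _ _ _ _ h1 h2 => rw [Submodule.coe_add, map_add]; exact add_mem h1 h2
          | smul c _ _ h => rw [Submodule.coe_smul, hφ]; exact Submodule.smul_mem _ _ h
        rw [hx] at hmem
        exact (Submodule.smul_mem_iff _ ((map_ne_zero_iff _ (IsFractionRing.injective O K)).2 hr)).1 hmem
    have h1 := finrank_span_eq_card (hliK.comp Sum.inl Sum.inl_injective)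
    rw [show (φ ∘ v) ∘ Sum.inl = fun i => φ (bL i : O ⊗[k] B) from rfl, hle, hIdim] at h1
    exact h1.symm
  let J : Submodule (ResidueField O) (ResidueField O ⊗[k] B) :=
    Submodule.span (ResidueField O) (Set.range fun i => ψ (bL i : O ⊗[k] B))
  have hJmem : ∀ x ∈ L, ψ x ∈ J := by
    intro x hx
    have : (⟨x, hx⟩ : L) ∈ Submodule.span O (Set.range bL) := bL.mem_span _
    suffices ∀ w : L, w ∈ Submodule.span O (Set.range bL) → ψ (w : O ⊗[k] B) ∈ J from this _ ‹_›
    intro w hw
    induction hw using Submodule.span_induction with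
    | mem w hw => obtain ⟨i, rfl⟩ := hw; exact Submodule.subset_span ⟨i, rfl⟩
    | zero => simp
    | add _ _ _ _ h1 h2 => rw [Submodule.coe_add, map_add]; exact add_mem h1 h2
    | smul c _ _ h => rw [Submodule.coe_smul, hψ]; exact Submodule.smul_mem _ _ h
  have hJ : ∀ a, ∀ x ∈ J, a * x ∈ J := fun a x hx => by
    obtain ⟨a, rfl⟩ := hψsurj a
    induction hx using Submodule.span_induction with
    | mem x hx =>
      obtain ⟨i, rfl⟩ := hx
      rw [← map_mul]
      refine hJmem _ ?_
      change φ (a * (bL i : O ⊗[k] B)) ∈ I
      rw [map_mul]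
      exact hI _ _ (bL i).2
    | zero => simp
    | add _ _ _ _ h1 h2 => rw [mul_add]; exact add_mem h1 h2
    | smul c _ _ h => rw [mul_smul_comm]; exact Submodule.smul_mem _ _ h
  have hJdim : Module.finrank (ResidueField O) J = n :=
    (finrank_span_eq_card (hliκ.comp Sum.inl Sum.inl_injective)).trans hLdim
  have : IsSimpleRing (ResidueField O ⊗[k] B) := Groth.Agent.Lib.CSA.Simple.isSimpleRing_baseChange k (ResidueField O) B
  exact ⟨n, hn, split_of_leftIdeal n hn (by rw [Module.finrank_baseChange, hB]) J hJ hJdim⟩

/-- Splitting over the fraction field of a regular local algebra implies splitting over its residue field. -/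
theorem splits_residueField_aux (B : Type v) [Ring B] [Algebra k B] [Algebra.IsCentral k B] [IsSimpleRing B]
    [FiniteDimensional k B] : ∀ (d : ℕ) (R : Type u) [CommRing R] [Algebra k R] [IsRegularLocalRing R]
      (K : Type u) [Field K] [Algebra R K] [IsFractionRing R K] [Algebra k K] [IsScalarTower k R K],
      (maximalIdeal R).spanFinrank = d → Curves.Splits k B K → Curves.Splits k B (ResidueField R) := by
  intro d
  induction d with
  | zero =>
    intro R _ _ _ K _ _ _ _ _ hd h
    have := Regular.Quotient.isDomain R
    have hbot : maximalIdeal R = ⊥ :=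
      (Submodule.spanFinrank_eq_zero_iff_eq_bot (IsNoetherian.noetherian _)).1 hd
    have hinj : Function.Injective (algebraMap R (ResidueField R)) := by
      rw [RingHom.injective_iff_ker_eq_bot, ← hbot]
      exact IsLocalRing.ker_residue
    exact CSA.Splitting.splits_mono (k := k) (A := B) (L := K) (K := ResidueField R) (IsFractionRing.liftAlgHom (A := R) (K := K)
      (g := IsScalarTower.toAlgHom k R (ResidueField R)) hinj) h
  | succ d ih =>
    intro R _ _ _ K _ _ _ _ _ hd h
    have := Regular.Quotient.isDomain R
    have hne : maximalIdeal R ≠ ⊥ := fun hbot => by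
      rw [hbot, Submodule.spanFinrank_bot] at hd
      omega
    obtain ⟨x, hx, hx2⟩ : ∃ x ∈ maximalIdeal R, x ∉ maximalIdeal R ^ 2 := by
      by_contra hcon
      push Not at hcon
      have hle : maximalIdeal R ≤ maximalIdeal R • maximalIdeal R := by
        intro y hy
        rw [smul_eq_mul, ← sq]
        exact hcon y hy
      exact hne (Submodule.eq_bot_of_le_smul_of_le_jacobson_bot _ _ (IsNoetherian.noetherian _) hle
        (IsLocalRing.maximalIdeal_le_jacobson _))
    obtain ⟨hreg, hdim, -⟩ := Regular.Quotient.quotient_singleton hx hx2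
    have hd' : (maximalIdeal (R ⧸ Ideal.span {x})).spanFinrank = d := by
      have h1 := (IsRegularLocalRing.spanFinrank_maximalIdeal (R := R ⧸ Ideal.span {x}))
      have h2 := (IsRegularLocalRing.spanFinrank_maximalIdeal (R := R))
      rw [hd, ← hdim, ← h1] at h2
      norm_cast at h2
      omega
    have := Regular.Quotient.isDomain (R ⧸ Ideal.span {x})
    have : (Ideal.span {x}).IsPrime := (Ideal.Quotient.isDomain_iff_prime _).1 inferInstance
    let O := Localization.AtPrime (Ideal.span {x})
    have hmax : maximalIdeal O = Ideal.span {algebraMap R O x} := by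
      rw [← Localization.AtPrime.map_eq_maximalIdeal, Ideal.map_span, Set.image_singleton]
    have : IsDomain O := IsLocalization.isDomain_localization (Ideal.span {x}).primeCompl_le_nonZeroDivisors
    have : IsNoetherianRing O := IsLocalization.isNoetherianRing (Ideal.span {x}).primeCompl O inferInstance
    have hxO : algebraMap R O x ≠ 0 := by
      rw [map_ne_zero_iff _ (IsLocalization.injective O (Ideal.span {x}).primeCompl_le_nonZeroDivisors)]
      rintro rfl
      exact hx2 (zero_mem _)
    have : IsDiscreteValuationRing O := by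
      have hnf : ¬ IsField O := fun hf => by
        rw [IsLocalRing.isField_iff_maximalIdeal_eq, hmax, Ideal.span_singleton_eq_bot] at hf
        exact hxO hf
      exact (((IsDiscreteValuationRing.TFAE O hnf).out 0 4 : IsDiscreteValuationRing O ↔ (maximalIdeal O).IsPrincipal)).2 ⟨⟨_, hmax⟩⟩
    let i : O →+* K := IsLocalization.lift (M := (Ideal.span {x}).primeCompl) (g := algebraMap R K) fun y =>
      isUnit_iff_ne_zero.2 ((map_ne_zero_iff _ (IsFractionRing.injective R K)).2 fun h0 => y.2 (h0 ▸ zero_mem _))
    let _ : Algebra O K := i.toAlgebra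
    have : IsScalarTower R O K := IsScalarTower.of_algebraMap_eq fun r => (IsLocalization.lift_eq _ r).symm
    have : IsScalarTower k O K := IsScalarTower.of_algebraMap_eq fun r => by
      rw [IsScalarTower.algebraMap_apply k R K, IsScalarTower.algebraMap_apply k R O,
        IsScalarTower.algebraMap_apply R O K]
    have : IsFractionRing O K :=
      IsFractionRing.isFractionRing_of_isDomain_of_isLocalization (Ideal.span {x}).primeCompl O K
    have h' : Curves.Splits k B (Ideal.ResidueField (Ideal.span {x})) := splits_residueField_of_dvr (O := O) h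
    have h'' := ih (R ⧸ Ideal.span {x}) (Ideal.ResidueField (Ideal.span {x})) hd' h'
    let g : R ⧸ Ideal.span {x} →+* ResidueField R := Ideal.Quotient.lift _ (residue R) fun a ha => by
      rw [residue_eq_zero_iff]
      exact (Ideal.span_singleton_le_iff_mem _).2 hx ha
    have hg : IsLocalHom g := ⟨fun a ha => by
      obtain ⟨a, rfl⟩ := Ideal.Quotient.mk_surjective a
      rw [Ideal.Quotient.lift_mk] at ha
      exact ((IsLocalRing.residue_ne_zero_iff_isUnit a).1 ha.ne_zero).map _⟩
    let j : ResidueField (R ⧸ Ideal.span {x}) →ₐ[k] ResidueField R :=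
      { ResidueField.lift g with
        commutes' := fun r => by
          change ResidueField.lift g (residue _ (Ideal.Quotient.mk _ (algebraMap k R r))) = _
          rw [ResidueField.lift_residue_apply, Ideal.Quotient.lift_mk]
          rfl }
    exact CSA.Splitting.splits_mono (k := k) (A := B) (L := ResidueField (R ⧸ Ideal.span {x})) (K := ResidueField R) j h''

theorem splits_residueField (R : Type u) [CommRing R] [Algebra k R] [IsRegularLocalRing R]
    (K : Type u) [Field K] [Algebra R K] [IsFractionRing R K] [Algebra k K] [IsScalarTower k R K]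
    (B : Type v) [Ring B] [Algebra k B] [Algebra.IsCentral k B] [IsSimpleRing B] [FiniteDimensional k B]
    (h : Curves.Splits k B K) : Curves.Splits k B (ResidueField R) :=
  splits_residueField_aux B _ R K rfl h

end Groth.Agent.Lib.BrauerSpecialize
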