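import Mathlib.LinearAlgebra.RootSystem.Base
import Mathlib.LinearAlgebra.RootSystem.Finite.Nondegenerate
import Mathlib.RingTheory.SimpleModule.Basic
import Mathlib.RingTheory.Noetherian.Basic

/-!
# Surjectivity of the codimension two component map of a Cartan matrix

The integer system `C i j + C j i - a j i * C j j = d i j` is solvable: modulo every prime a dual
solution would give a set of simple roots on which the symmetrised Cartan form is not positive.
-/

noncomputable section

open Function Set Submodule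

namespace Groth.Agent.CartanSurj99

variable {ι R M N : Type*} [CommRing R] [IsDomain R] [CharZero R]
  [AddCommGroup M] [Module R M] [AddCommGroup N] [Module R N]
  (P : RootPairing ι R M N) [Finite ι] [P.IsCrystallographic]

theorem exists_row_sum_pos (b : P.Base) (T : Finset ι) (hT : T ⊆ b.support) (hne : T.Nonempty) :
    ∃ j ∈ T, 0 < ∑ i ∈ T, P.pairingIn ℤ j i := by
  cases nonempty_fintype ι
  by_contra hle
  push_neg at hle
  let Q := P.flip
  let B := Q.posRootForm ℤ
  let v : Q.rootSpan ℤ := ∑ i ∈ T, Q.rootSpanMem ℤ i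
  have hv : v ≠ 0 := by
    intro h0
    have h1 : ∑ i ∈ T, (1 : R) • P.coroot i = 0 := by
      have := congrArg Subtype.val h0
      simpa [v, Q, RootPairing.rootSpanMem] using this
    obtain ⟨j, hj⟩ := hne
    have := linearIndepOn_finset_iff.mp (b.linearIndepOn_coroot.mono (by exact_mod_cast hT))
      (fun _ => (1 : R)) h1 j hj
    exact one_ne_zero this
  have hpos : 0 < B.posForm v v := Q.posRootForm_posForm_pos_of_ne_zero ℤ hv
  have hlen : ∀ i j, 2 * B.posForm (Q.rootSpanMem ℤ i) (Q.rootSpanMem ℤ j) =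
      P.pairingIn ℤ j i * B.rootLength j := by
    intro i j
    apply FaithfulSMul.algebraMap_injective ℤ R
    simp only [map_mul, map_ofNat, RootPairing.RootPositiveForm.algebraMap_posForm,
      RootPairing.RootPositiveForm.algebraMap_rootLength, RootPairing.algebraMap_pairingIn]
    exact B.two_mul_apply_root_root i j
  have h2 : 2 * B.posForm v v = ∑ j ∈ T, (∑ i ∈ T, P.pairingIn ℤ j i) * B.rootLength j := by
    simp only [v, map_sum, LinearMap.coe_sum, Finset.sum_apply, Finset.mul_sum, Finset.sum_mul]
    refine Finset.sum_congr rfl fun j _ => ?_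
    refine Finset.sum_congr rfl fun i _ => ?_
    exact hlen i j
  have h3 : ∑ j ∈ T, (∑ i ∈ T, P.pairingIn ℤ j i) * B.rootLength j ≤ 0 :=
    Finset.sum_nonpos fun j hj =>
      mul_nonpos_of_nonpos_of_nonneg (hle j hj) (B.rootLength_pos j).le
  omega

theorem exists_coeffs (b : P.Base) (d : ι → ι → ℤ)
    (hd : ∀ i ∈ b.support, ∀ j ∈ b.support, i ≠ j → P.pairingIn ℤ i j = 0 → d i j = d j i) :
    ∃ C : ι → ι → ℤ, ∀ i ∈ b.support, ∀ j ∈ b.support, i ≠ j →
      C i j + C j i - P.pairingIn ℤ j i * C j j = d i j := by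
  classical
  cases nonempty_fintype ι
  let a : ι → ι → ℤ := fun i j => P.pairingIn ℤ i j
  have hsymm : ∀ i j, a i j = 0 → a j i = 0 := by
    intro i j h
    let B := P.posRootForm ℤ
    have h1 := B.pairingIn_mul_eq_pairingIn_mul_swap i j
    rw [show P.pairingIn ℤ i j = 0 from h, zero_mul] at h1
    exact (mul_eq_zero.mp h1).resolve_right (B.rootLength_pos i).ne'
  let R0 : Submodule ℤ (↥b.support × ↥b.support → ℤ) :=
    { carrier := {w | ∃ C : ↥b.support × ↥b.support → ℤ, ∀ p, p.1 ≠ p.2 → a p.1 p.2 ≠ 0 →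
        w p = C p + C p.swap - a p.2 p.1 * C (p.2, p.2)}
      zero_mem' := ⟨0, by simp⟩
      add_mem' := by
        rintro w w' ⟨C, hC⟩ ⟨C', hC'⟩
        refine ⟨C + C', fun p h h' => ?_⟩
        simp only [Pi.add_apply, hC p h h', hC' p h h']
        ring
      smul_mem' := by
        rintro z w ⟨C, hC⟩
        refine ⟨z • C, fun p h h' => ?_⟩
        simp only [Pi.smul_apply, smul_eq_mul, hC p h h']
        ring }
  have htop : R0 = ⊤ := by
    rcases eq_top_or_exists_le_coatom R0 with h | ⟨m, hm, hle⟩
    · exact h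
    exfalso
    haveI : IsSimpleModule ℤ ((↥b.support × ↥b.support → ℤ) ⧸ m) :=
      isSimpleModule_iff_isCoatom.mpr hm
    obtain ⟨I, hI, ⟨e⟩⟩ := isSimpleModule_iff_quot_maximal.mp this
    let φ := e.toLinearMap ∘ₗ m.mkQ
    let y : ↥b.support × ↥b.support → ℤ ⧸ I := fun p => φ (Pi.single p 1)
    have hφ : ∀ w, φ w = ∑ p, w p • y p := by
      intro w
      conv_lhs => rw [← Finset.univ_sum_single w]
      rw [map_sum]
      refine Finset.sum_congr rfl fun p _ => ?_
      rw [← map_smul φ, ← Pi.single_smul]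
      simp
    have hker : ∀ w ∈ R0, ∑ p, w p • y p = 0 := by
      intro w hw
      rw [← hφ]
      show e (m.mkQ w) = 0
      rw [Submodule.mkQ_apply, (Submodule.Quotient.mk_eq_zero m).mpr (hle hw), map_zero]
    have hy0 : ∀ p : ↥b.support × ↥b.support, (p.1 = p.2 ∨ a p.1 p.2 = 0) → y p = 0 := by
      intro p hp
      have := hker (Pi.single p 1) ⟨0, fun q hq hq' => ?_⟩
      · simpa [Pi.single_apply] using this
      · have hne : q ≠ p := by
          rintro rfl
          tauto
        simp [Pi.single_apply, hne]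
    have hanti : ∀ p : ↥b.support × ↥b.support, y p + y p.swap = 0 := by
      intro p
      by_cases hp : p.1 = p.2
      · have hs : p.swap.1 = p.swap.2 := hp.symm
        rw [hy0 p (Or.inl hp), hy0 p.swap (Or.inl hs), add_zero]
      have := hker (Pi.single p 1 + Pi.single p.swap 1) ⟨Pi.single p 1, fun q hq _ => ?_⟩
      · simpa [add_smul, Finset.sum_add_distrib, Pi.single_apply] using this
      · have h1 : (q.2, q.2) ≠ p := fun h => hp (by rw [← h])
        simp only [Pi.add_apply, Pi.single_apply, h1, if_false, mul_zero, sub_zero]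
        congr 1
        exact if_congr ⟨fun h => by simp [h], fun h => by simp [← h]⟩ rfl rfl
    have hcol : ∀ j : ↥b.support, ∑ i : ↥b.support, a j i • y (i, j) = 0 := by
      intro j
      have := hker (fun q => if q.1 ≠ q.2 ∧ q.2 = j then -a q.2 q.1 else 0)
        ⟨Pi.single (j, j) 1, fun q hq _ => ?_⟩
      · rw [Fintype.sum_prod_type] at this
        have e1 : ∀ i : ↥b.support, (∑ k : ↥b.support,
            (if i ≠ k ∧ k = j then -a k i else 0) • y (i, k)) = -(a j i • y (i, j)) := by
          intro i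
          rw [Finset.sum_eq_single j]
          · by_cases hij : i = j
            · subst hij
              simp [hy0 (i, i) (Or.inl rfl)]
            · simp [hij]
          · intro k _ hk
            simp [hk]
          · simp
        rw [Finset.sum_congr rfl (fun i _ => e1 i), Finset.sum_neg_distrib, neg_eq_zero] at this
        exact this
      · have h1 : q ≠ (j, j) := by
          rintro rfl
          exact hq rfl
        have h2 : q.swap ≠ (j, j) := by
          intro h
          exact h1 (by rw [← Prod.swap_swap q, h, Prod.swap_prod_mk])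
        by_cases hj : q.2 = j
        · have h3 : q.1 ≠ j := fun h => hq (h.trans hj.symm)
          simp [Pi.single_apply, h1, h2, h3, hj]
        · simp [Pi.single_apply, h1, h2, hj]
    obtain ⟨p0, hp0⟩ : ∃ p, y p ≠ 0 := by
      by_contra hall
      push_neg at hall
      obtain ⟨w, hw⟩ : ∃ w, w ∉ m := by
        by_contra hw
        push_neg at hw
        exact hm.1 (eq_top_iff.mpr fun x _ => hw x)
      apply hw
      have h0 : φ w = 0 := by rw [hφ]; simp [hall]
      rw [← Submodule.Quotient.mk_eq_zero]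
      exact e.injective (by rw [map_zero]; exact h0)
    let T : Finset ↥b.support := Finset.univ.filter fun j => ∃ i, y (i, j) ≠ 0
    obtain ⟨j, hjT, hj⟩ := exists_row_sum_pos P b (T.map (Embedding.subtype _))
      (by intro x hx; simp only [Finset.mem_map, Embedding.coe_subtype] at hx
          obtain ⟨z, _, rfl⟩ := hx; exact z.2)
      (Finset.Nonempty.map ⟨p0.2, by simp only [T, Finset.mem_filter]
                                     exact ⟨Finset.mem_univ _, p0.1, hp0⟩⟩)
    obtain ⟨j, hjT', rfl⟩ := Finset.mem_map.mp hjT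
    rw [Finset.sum_map] at hj
    simp only [Embedding.coe_subtype] at hj
    have hmem : ∀ i, y (i, j) ≠ 0 → i ∈ T.erase j ∧ a j i ≤ -1 := by
      intro i hi
      have h1 : i ≠ j := fun h => hi (hy0 _ (Or.inl h))
      have h2 : a i j ≠ 0 := fun h => hi (hy0 _ (Or.inr h))
      have h3 : a j i ≠ 0 := fun h => h2 (hsymm _ _ h)
      have h4 : a j i ≤ 0 :=
        b.pairingIn_le_zero_of_ne (fun h => h1 (Subtype.ext h).symm) j.2 i.2
      refine ⟨Finset.mem_erase.mpr ⟨h1, Finset.mem_filter.mpr ⟨Finset.mem_univ _, j, ?_⟩⟩, by omega⟩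
      intro h
      apply hi
      have := hanti (i, j)
      rwa [Prod.swap_prod_mk, h, add_zero] at this
    obtain ⟨i0, hi0⟩ := (Finset.mem_filter.mp hjT').2
    have hnonpos : ∀ i ∈ T.erase j, a j i ≤ 0 := fun i hi =>
      b.pairingIn_le_zero_of_ne (fun h => (Finset.mem_erase.mp hi).1 (Subtype.ext h).symm) j.2 i.2
    have hneg : ∑ i ∈ T.erase j, a j i ≤ -2 := by
      by_cases h2 : ∃ i1, i1 ≠ i0 ∧ y (i1, j) ≠ 0
      · obtain ⟨i1, hne, hi1⟩ := h2
        rw [← Finset.add_sum_erase _ _ (hmem i0 hi0).1,
          ← Finset.add_sum_erase _ _ (Finset.mem_erase.mpr ⟨hne, (hmem i1 hi1).1⟩)]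
        have h3 := (hmem i0 hi0).2
        have h4 := (hmem i1 hi1).2
        have h5 : ∑ i ∈ ((T.erase j).erase i0).erase i1, a j i ≤ 0 :=
          Finset.sum_nonpos fun i hi =>
            hnonpos i (Finset.mem_of_mem_erase (Finset.mem_of_mem_erase hi))
        omega
      · push_neg at h2
        have h3 := hcol j
        rw [Finset.sum_eq_single i0 (fun i _ hi => by rw [h2 i hi, smul_zero]) (by simp)] at h3
        have h4 : a j i0 ≠ -1 := by
          intro h
          rw [h, neg_one_zsmul, neg_eq_zero] at h3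
          exact hi0 h3
        rw [← Finset.add_sum_erase _ _ (hmem i0 hi0).1]
        have h5 := (hmem i0 hi0).2
        have h6 : ∑ i ∈ (T.erase j).erase i0, a j i ≤ 0 :=
          Finset.sum_nonpos fun i hi => hnonpos i (Finset.mem_of_mem_erase hi)
        omega
    rw [← Finset.add_sum_erase _ _ hjT'] at hj
    have h2 : a j j = 2 := P.pairingIn_same ℤ j
    have : P.pairingIn ℤ (j : ι) j + ∑ i ∈ T.erase j, P.pairingIn ℤ (j : ι) i ≤ 0 := by
      show a j j + ∑ i ∈ T.erase j, a j i ≤ 0
      omega
    omega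
  obtain ⟨C, hC⟩ : (fun p : ↥b.support × ↥b.support => d p.1 p.2) ∈ R0 := htop ▸ Submodule.mem_top
  obtain ⟨n, ⟨f⟩⟩ := Finite.exists_equiv_fin ι
  refine ⟨fun i j => if i ≠ j ∧ a i j = 0 then (if f i < f j then d i j else 0) else
    (if h : i ∈ b.support ∧ j ∈ b.support then C (⟨i, h.1⟩, ⟨j, h.2⟩) else 0), ?_⟩
  intro i hi j hj hij
  by_cases h0 : a i j = 0
  · have h0' : a j i = 0 := hsymm i j h0
    simp only [if_pos (And.intro hij h0), if_pos (And.intro hij.symm h0')]
    show _ + _ - a j i * _ = _
    rw [h0', zero_mul, sub_zero]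
    rcases lt_trichotomy (f i) (f j) with h | h | h
    · rw [if_pos h, if_neg h.not_gt, add_zero]
    · exact absurd (f.injective h) hij
    · rw [if_neg h.not_gt, if_pos h, zero_add]
      exact (hd i hi j hj hij h0).symm
  · have h0' : a j i ≠ 0 := fun h => h0 (hsymm j i h)
    simp only [if_neg (fun h : i ≠ j ∧ a i j = 0 => h0 h.2),
      if_neg (fun h : j ≠ i ∧ a j i = 0 => h0' h.2), if_neg (fun h : j ≠ j ∧ a j j = 0 => h.1 rfl),
      dif_pos (And.intro hi hj), dif_pos (And.intro hj hi), dif_pos (And.intro hj hj)]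
    exact (hC (⟨i, hi⟩, ⟨j, hj⟩) (fun h => hij (congrArg Subtype.val h)) h0).symm

end Groth.Agent.CartanSurj99
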