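import Mathlib.AlgebraicGeometry.Sites.BigZariski
import Mathlib.AlgebraicGeometry.Morphisms.QuasiCompact
import Mathlib.AlgebraicGeometry.Morphisms.Affine
import Mathlib.CategoryTheory.Sites.Over
import Mathlib.CategoryTheory.Sites.Canonical
import Mathlib.CategoryTheory.Extensive
import Mathlib.AlgebraicGeometry.Limits

/-!
# Topologies on schemes over a base generated by a class of quasi-compact morphisms
-/

noncomputable section

universe v u

open CategoryTheory Limits AlgebraicGeometry Opposite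

namespace Groth.Agent.ClassTop99

variable {S : Scheme.{u}} (C : MorphismProperty Scheme.{u})

/-- Finite affine `C`-covering data of an open of `X` by members of `R`. -/
def Datum (X : Over S) (R : Sieve X) (U : X.left.Opens) : Prop :=
  ∃ (κ : Type u) (_ : Finite κ) (V : κ → Over S) (φ : ∀ j, V j ⟶ X)
    (ψ : ∀ j, (V j).left ⟶ (U : Scheme.{u})),
    (∀ j, IsAffine (V j).left) ∧ (∀ j, R.arrows (φ j)) ∧ (∀ j, ψ j ≫ U.ι = (φ j).left) ∧
      C (Limits.Sigma.desc ψ)

/-- Affine locally finite `C`-covering sieves. -/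
def Covering (X : Over S) (R : Sieve X) : Prop :=
  ∃ (ι : Type u) (U : ι → X.left.Opens), (∀ i, IsAffineOpen (U i)) ∧ ⨆ i, U i = ⊤ ∧
    ∀ i, Datum C X R (U i)

section

variable [C.IsStableUnderBaseChange]

lemma sigma_pullback {A B : Scheme.{u}} (g : A ⟶ B) {κ : Type u} [Finite κ] {V : κ → Scheme.{u}}
    (ψ : ∀ j, V j ⟶ B) (h : C (Sigma.desc ψ)) :
    C (Sigma.desc fun j => pullback.fst g (ψ j)) := by
  have hP := FinitaryPreExtensive.isPullback_sigmaDesc (fun _ : PUnit.{u + 1} => g) ψ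
  have h1 := C.of_isPullback hP.flip h
  haveI : IsIso (Sigma.desc fun _ : PUnit.{u + 1} => 𝟙 A) :=
    ⟨Sigma.ι (fun _ : PUnit.{u + 1} => A) PUnit.unit, by
      constructor
      · ext i
        cases i
        simp
      · simp⟩
  let r : (∐ fun j => pullback g (ψ j)) ⟶
      ∐ fun p : PUnit.{u + 1} × κ => pullback ((fun _ : PUnit.{u + 1} => g) p.1) (ψ p.2) :=
    Sigma.desc fun j =>
      Sigma.ι (fun p : PUnit.{u + 1} × κ => pullback ((fun _ : PUnit.{u + 1} => g) p.1) (ψ p.2))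
        (PUnit.unit, j)
  haveI : IsIso r :=
    ⟨Sigma.desc fun p => Sigma.ι (fun j => pullback g (ψ j)) p.2, by
      constructor
      · ext j
        simp [r]
      · ext ⟨i, j⟩
        cases i
        simp [r]⟩
  have h2 := (C.cancel_left_of_respectsIso r _).mpr
    ((C.cancel_right_of_respectsIso _ (Sigma.desc fun _ : PUnit.{u + 1} => 𝟙 A)).mpr h1)
  convert h2 using 1
  ext j
  simp [r]

lemma sigma_comp [C.IsStableUnderComposition]
    (hcoprod : ∀ (κ : Type u) [Finite κ] (A B : κ → Scheme.{u}) (f : ∀ j, A j ⟶ B j),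
      (∀ j, C (f j)) → C (Limits.Sigma.map f))
    {B : Scheme.{u}} {κ : Type u} [Finite κ] {V : κ → Scheme.{u}} (ψ : ∀ j, V j ⟶ B)
    (h : C (Sigma.desc ψ)) {α : κ → Type u} [∀ j, Finite (α j)] {T : ∀ j, α j → Scheme.{u}}
    (χ : ∀ j a, T j a ⟶ V j) (hχ : ∀ j, C (Sigma.desc (χ j))) :
    C (Sigma.desc fun p : Σ j, α j => χ p.1 p.2 ≫ ψ p.1) := by
  have h1 := C.comp_mem _ _ (hcoprod κ _ _ (fun j => Sigma.desc (χ j)) hχ) h
  have h2 := (C.cancel_left_of_respectsIso (sigmaSigmaIso α T).inv _).mpr h1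
  convert h2 using 1
  ext ⟨j, a⟩
  simp [sigmaSigmaIso]

variable (haff : ∀ (U : Scheme.{u}) [IsAffine U] (κ : Type u) [Finite κ] (V : κ → U.Opens),
      (∀ j, IsAffineOpen (V j)) → ⨆ j, V j = ⊤ → C (Limits.Sigma.desc fun j => (V j).ι))

include haff in
lemma of_isIso_affine {A B : Scheme.{u}} [IsAffine B] (f : A ⟶ B) [IsIso f] : C f := by
  have h := haff B PUnit.{u + 1} (fun _ => ⊤) (fun _ => isAffineOpen_top B) (by simp)
  haveI : IsIso (Sigma.desc fun _ : PUnit.{u + 1} => (⊤ : B.Opens).ι) := by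
    haveI : IsIso (⊤ : B.Opens).ι := by
      rw [← Scheme.topIso_hom]; infer_instance
    exact ⟨inv (⊤ : B.Opens).ι ≫
      Sigma.ι (fun _ : PUnit.{u + 1} => ((⊤ : B.Opens) : Scheme.{u})) PUnit.unit, by
      constructor
      · ext i
        cases i
        simp
      · simp⟩
  refine (C.arrow_mk_iso_iff ?_).mp h
  exact Arrow.isoMk (asIso (Sigma.desc fun _ : PUnit.{u + 1} => (⊤ : B.Opens).ι) ≪≫ (asIso f).symm)
    (Iso.refl B) (by simp)

include haff in
lemma single_affine {A B : Scheme.{u}} [IsAffine B] (f : A ⟶ B) [IsIso f] :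
    C (Sigma.desc fun _ : PUnit.{u + 1} => f) := by
  haveI : IsIso (Sigma.desc fun _ : PUnit.{u + 1} => f) :=
    ⟨inv f ≫ Sigma.ι (fun _ : PUnit.{u + 1} => A) PUnit.unit, by
      constructor
      · ext i
        cases i
        simp
      · simp⟩
  exact of_isIso_affine C haff _

include haff in
lemma datum_of_mem {X : Over S} {R : Sieve X} {U : X.left.Opens} (hU : IsAffineOpen U)
    (h : R.arrows (Over.homMk U.ι : Over.mk (U.ι ≫ X.hom) ⟶ X)) : Datum C X R U := by
  haveI : IsAffine (U : Scheme.{u}) := hU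
  exact ⟨PUnit, inferInstance, fun _ => Over.mk (U.ι ≫ X.hom), fun _ => Over.homMk U.ι,
    fun _ => 𝟙 _, fun _ => hU, fun _ => h, fun _ => Category.id_comp _,
    single_affine C haff (𝟙 _)⟩

lemma datum_pullback {X Y : Over S} (f : Y ⟶ X) {R : Sieve X} {U : X.left.Opens}
    (hU : IsAffineOpen U) (h : Datum C X R U) {W : Y.left.Opens} (hW : IsAffineOpen W)
    (hle : W ≤ f.left ⁻¹ᵁ U) : Datum C Y (R.pullback f) W := by
  obtain ⟨κ, hκ, V, φ, ψ, hV, hR, hψ, hC⟩ := h
  haveI : IsAffine (U : Scheme.{u}) := hU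
  haveI : IsAffine (W : Scheme.{u}) := hW
  let g : (W : Scheme.{u}) ⟶ (U : Scheme.{u}) := f.left.resLE U W hle
  refine ⟨κ, hκ, fun j => Over.mk (pullback.fst g (ψ j) ≫ W.ι ≫ Y.hom),
    fun j => Over.homMk (pullback.fst g (ψ j) ≫ W.ι) (by simp),
    fun j => pullback.fst g (ψ j), fun j => ?_, fun j => ?_, fun j => rfl,
    sigma_pullback C g ψ hC⟩
  · haveI := hV j
    show IsAffine (pullback g (ψ j))
    infer_instance
  · let q : Over.mk (pullback.fst g (ψ j) ≫ W.ι ≫ Y.hom) ⟶ V j :=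
      Over.homMk (pullback.snd g (ψ j)) (by
        show pullback.snd g (ψ j) ≫ (V j).hom = pullback.fst g (ψ j) ≫ W.ι ≫ Y.hom
        rw [← Over.w (φ j), ← hψ j, Category.assoc, ← pullback.condition_assoc,
          Scheme.Hom.resLE_comp_ι_assoc, Over.w f])
    have e : (Over.homMk (pullback.fst g (ψ j) ≫ W.ι) (by simp) :
        Over.mk (pullback.fst g (ψ j) ≫ W.ι ≫ Y.hom) ⟶ Y) ≫ f = q ≫ φ j := by
      ext1
      show (pullback.fst g (ψ j) ≫ W.ι) ≫ f.left = pullback.snd g (ψ j) ≫ (φ j).left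
      rw [← hψ j, ← pullback.condition_assoc, Scheme.Hom.resLE_comp_ι, Category.assoc]
    show R.arrows _
    rw [e]
    exact R.downward_closed (hR j) q

lemma covering_pullback {X Y : Over S} (f : Y ⟶ X) {R : Sieve X} (h : Covering C X R) :
    Covering C Y (R.pullback f) := by
  obtain ⟨ι, U, hU, hcov, hD⟩ := h
  have hx : ∀ y : Y.left, ∃ W : Y.left.Opens, IsAffineOpen W ∧ y ∈ W ∧
      ∃ i, W ≤ f.left ⁻¹ᵁ U i := by
    intro y
    obtain ⟨i, hi⟩ := TopologicalSpace.Opens.mem_iSup.mp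
      (show f.left y ∈ ⨆ i, U i by rw [hcov]; trivial)
    obtain ⟨W, hW, hyW, hWU⟩ := exists_isAffineOpen_mem_and_subset
      (show y ∈ f.left ⁻¹ᵁ U i from hi)
    exact ⟨W, hW, hyW, i, hWU⟩
  choose W hW hyW i hi using hx
  refine ⟨Y.left, W, hW, eq_top_iff.mpr fun y _ => TopologicalSpace.Opens.mem_iSup.mpr ⟨y, hyW y⟩,
    fun y => datum_pullback C f (hU _) (hD _) (hW y) (hi y)⟩

include haff in
lemma covering_transitive [C.IsStableUnderComposition]
    (hcoprod : ∀ (κ : Type u) [Finite κ] (A B : κ → Scheme.{u}) (f : ∀ j, A j ⟶ B j),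
      (∀ j, C (f j)) → C (Limits.Sigma.map f))
    {X : Over S} {R R' : Sieve X} (h : Covering C X R)
    (h' : ∀ ⦃Y : Over S⦄ ⦃f : Y ⟶ X⦄, R f → Covering C Y (R'.pullback f)) :
    Covering C X R' := by
  classical
  obtain ⟨ι, U, hU, hcov, hD⟩ := h
  refine ⟨ι, U, hU, hcov, fun i => ?_⟩
  obtain ⟨κ, hκ, V, φ, ψ, hV, hR, hψ, hC⟩ := hD i
  choose ι' U' hU' hcov' hD' using fun j => h' (hR j)
  have hfin : ∀ j, ∃ t : Finset (ι' j), ⨆ l : t, U' j l = ⊤ := by
    intro j
    haveI := hV j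
    obtain ⟨t, ht⟩ := isCompact_univ.elim_finite_subcover (fun l => (U' j l : Set (V j).left))
      (fun l => (U' j l).isOpen) (fun x _ => by
        have : x ∈ ⨆ l, U' j l := by rw [hcov' j]; trivial
        simpa using this)
    refine ⟨t, eq_top_iff.mpr fun x _ => ?_⟩
    obtain ⟨l, hl, hxl⟩ := Set.mem_iUnion₂.mp (ht (Set.mem_univ x))
    exact TopologicalSpace.Opens.mem_iSup.mpr ⟨⟨l, hl⟩, hxl⟩
  choose t ht using hfin
  choose κ' hκ' V' φ' ψ' hV' hR' hψ' hC' using fun (j : κ) (l : ↥(t j)) => hD' j l.1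
  haveI := fun j l => hκ' j l
  have hinner : ∀ j, C (Sigma.desc fun p : Σ l : ↥(t j), κ' j l => ψ' j p.1 p.2 ≫ (U' j p.1).ι) :=
    fun j => by
      haveI := hV j
      exact sigma_comp C hcoprod (fun l : ↥(t j) => (U' j l.1).ι)
        (haff (V j).left _ (fun l : ↥(t j) => U' j l.1) (fun l => hU' j _) (ht j))
        (ψ' j) (hC' j)
  refine ⟨Σ j, Σ l : ↥(t j), κ' j l, inferInstance, fun p => V' p.1 p.2.1 p.2.2,
    fun p => φ' p.1 p.2.1 p.2.2 ≫ φ p.1,
    fun p => (ψ' p.1 p.2.1 p.2.2 ≫ (U' p.1 p.2.1).ι) ≫ ψ p.1,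
    fun p => hV' _ _ _, fun p => hR' _ _ _, fun p => ?_,
    sigma_comp C hcoprod ψ hC _ hinner⟩
  simp [hψ, reassoc_of% hψ', hψ']

/-- The topology of affine locally finite `C`-coverings. -/
def topology [C.IsStableUnderComposition]
    (hcoprod : ∀ (κ : Type u) [Finite κ] (A B : κ → Scheme.{u}) (f : ∀ j, A j ⟶ B j),
      (∀ j, C (f j)) → C (Limits.Sigma.map f)) : GrothendieckTopology (Over S) where
  sieves X := {R | Covering C X R}
  top_mem' X := by
    refine ⟨{U : X.left.Opens // IsAffineOpen U}, Subtype.val, fun U => U.2, ?_,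
      fun U => datum_of_mem C haff U.2 trivial⟩
    exact eq_top_iff.mpr fun x _ => TopologicalSpace.Opens.mem_iSup.mpr <| by
      obtain ⟨W, hW, hxW, -⟩ := exists_isAffineOpen_mem_and_subset
        (U := (⊤ : X.left.Opens)) (x := x) trivial
      exact ⟨⟨W, hW⟩, hxW⟩
  pullback_stable' _ _ _ f h := covering_pullback C f h
  transitive' _ _ hR R' h' := covering_transitive C haff hcoprod hR h'

include haff in
lemma covering_of_zariski {X : Over S} {R : Sieve X}
    (hR : R ∈ Scheme.zariskiTopology.over S X) : Covering C X R := by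
  rw [GrothendieckTopology.mem_over_iff, Scheme.mem_grothendieckTopology_iff] at hR
  obtain ⟨𝒰, h𝒰⟩ := hR
  have hx : ∀ x : X.left, ∃ W : X.left.Opens, IsAffineOpen W ∧ x ∈ W ∧
      R.arrows (Over.homMk W.ι : Over.mk (W.ι ≫ X.hom) ⟶ X) := by
    intro x
    obtain ⟨i, y, hy⟩ := 𝒰.exists_eq x
    haveI : IsOpenImmersion (𝒰.f i) := 𝒰.map_prop i
    obtain ⟨W, hW, hxW, hWU⟩ := exists_isAffineOpen_mem_and_subset
      (show x ∈ (𝒰.f i).opensRange from ⟨y, hy⟩)
    refine ⟨W, hW, hxW, ?_⟩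
    rw [← Sieve.overEquiv_iff]
    have hl := IsOpenImmersion.lift_fac (𝒰.f i) W.ι
      (by rintro _ ⟨z, rfl⟩; exact hWU z.2)
    rw [← hl]
    exact (Sieve.overEquiv X R).downward_closed (h𝒰 _ _ (.mk i)) _
  choose W hW hxW hRW using hx
  exact ⟨X.left, W, hW, eq_top_iff.mpr fun x _ => TopologicalSpace.Opens.mem_iSup.mpr ⟨x, hxW x⟩,
    fun x => datum_of_mem C haff (hW x) (hRW x)⟩

include haff in
lemma covering_singleton
    (hqc : ∀ {A B : Scheme.{u}} (f : A ⟶ B), C f → QuasiCompact f)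
    (hres : ∀ (W X' : Scheme.{u}) [IsAffine W] (f : X' ⟶ W), C f →
      ∀ (κ : Type u) [Finite κ] (A : κ → X'.Opens), (∀ l, IsAffineOpen (A l)) → ⨆ l, A l = ⊤ →
        C (Limits.Sigma.desc fun l => (A l).ι ≫ f))
    {X X' : Over S} (f : X' ⟶ X) (hf : C f.left) :
    Covering C X (Sieve.generate (Presieve.singleton f)) := by
  classical
  refine ⟨{U : X.left.Opens // IsAffineOpen U}, Subtype.val, fun U => U.2, ?_, fun U => ?_⟩
  · exact eq_top_iff.mpr fun x _ => TopologicalSpace.Opens.mem_iSup.mpr <| by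
      obtain ⟨W, hW, hxW, -⟩ := exists_isAffineOpen_mem_and_subset
        (U := (⊤ : X.left.Opens)) (x := x) trivial
      exact ⟨⟨W, hW⟩, hxW⟩
  haveI : IsAffine (U.1 : Scheme.{u}) := U.2
  let P := f.left ⁻¹ᵁ U.1
  let g : (P : Scheme.{u}) ⟶ (U.1 : Scheme.{u}) := f.left ∣_ U.1
  have hg : C g := C.of_isPullback (isPullback_morphismRestrict f.left U.1).flip hf
  haveI := hqc g hg
  haveI : CompactSpace (P : Scheme.{u}) := (quasiCompact_iff_compactSpace g).mp inferInstance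
  obtain ⟨t, ht⟩ := isCompact_univ.elim_finite_subcover
    (fun A : {A : (P : Scheme.{u}).Opens // IsAffineOpen A} => (A.1 : Set (P : Scheme.{u})))
    (fun A => A.1.isOpen) (fun x _ => by
      obtain ⟨W, hW, hxW, -⟩ := exists_isAffineOpen_mem_and_subset
        (U := (⊤ : (P : Scheme.{u}).Opens)) (x := x) trivial
      exact Set.mem_iUnion.mpr ⟨⟨W, hW⟩, hxW⟩)
  refine ⟨↥t, inferInstance, fun A => Over.mk (A.1.1.ι ≫ P.ι ≫ X'.hom),
    fun A => (Over.homMk (A.1.1.ι ≫ P.ι) : Over.mk (A.1.1.ι ≫ P.ι ≫ X'.hom) ⟶ X') ≫ f,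
    fun A => A.1.1.ι ≫ g, fun A => A.1.2, fun A => ⟨X', _, f, Presieve.singleton_self f, rfl⟩,
    fun A => ?_, ?_⟩
  · simp [g, P, morphismRestrict_ι]
  · refine hres _ _ g hg ↥t (fun A => A.1.1) (fun A => A.1.2) (eq_top_iff.mpr fun x _ => ?_)
    obtain ⟨l, hl, hxl⟩ := Set.mem_iUnion₂.mp (ht (Set.mem_univ x))
    exact TopologicalSpace.Opens.mem_iSup.mpr ⟨⟨l, hl⟩, hxl⟩

omit [C.IsStableUnderBaseChange] in
lemma mem_zariski_over {X : Over S} {κ : Type u} (Z : κ → Over S) (g : ∀ j, Z j ⟶ X)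
    (hg : ∀ j, IsOpenImmersion (g j).left) (h : ∀ x : X.left, ∃ j, x ∈ Set.range (g j).left) :
    Sieve.ofArrows Z g ∈ Scheme.zariskiTopology.over S X := by
  rw [GrothendieckTopology.mem_over_iff, Sieve.overEquiv_ofArrows,
    Scheme.mem_grothendieckTopology_iff]
  refine ⟨Scheme.Cover.mkOfCovers κ (fun j => (Z j).left) (fun j => (g j).left)
    (fun x => h x) hg, ?_⟩
  rintro T q ⟨j⟩
  exact Sieve.ofArrows_mk _ _ j

lemma mem_finest_singleton (F : (Over S)ᵒᵖ ⥤ Type v)
    (hF : ∀ (X X' : Over S) (f : X' ⟶ X), C f.left → Presieve.IsSheafFor F (Presieve.singleton f))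
    {X X' : Over S} (f : X' ⟶ X) (hf : C f.left) :
    Sieve.generate (Presieve.singleton f) ∈ Sheaf.finestTopologySingle F X := by
  intro Z g
  let P : Over S := Over.mk (pullback.fst g.left f.left ≫ Z.hom)
  let f' : P ⟶ Z := Over.homMk (pullback.fst g.left f.left)
  have e : Sieve.pullback g (Sieve.generate (Presieve.singleton f)) =
      Sieve.generate (Presieve.singleton f') := by
    ext T h
    constructor
    · rintro ⟨W, a, b, hb, hab⟩
      obtain ⟨⟩ := hb
      have hw : h.left ≫ g.left = a.left ≫ f.left := by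
        rw [← Over.comp_left, ← Over.comp_left, hab]
      refine ⟨P, Over.homMk (pullback.lift h.left a.left hw)
        (by simp [P, pullback.lift_fst_assoc]), f', Presieve.singleton_self f', ?_⟩
      ext1
      simp [f', pullback.lift_fst]
    · rintro ⟨W, a, b, hb, rfl⟩
      obtain ⟨⟩ := hb
      refine ⟨X', Over.homMk (a.left ≫ pullback.snd g.left f.left) ?_, f,
        Presieve.singleton_self f, ?_⟩
      · rw [Category.assoc, ← Over.w f, ← pullback.condition_assoc, Over.w g]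
        exact Over.w a
      · ext1
        simp [f', pullback.condition]
  rw [e, ← Presieve.isSheafFor_iff_generate]
  exact hF Z P f' (MorphismProperty.pullback_fst _ _ hf)

lemma mem_finest_of_covering (F : (Over S)ᵒᵖ ⥤ Type v)
    (hZ : Presieve.IsSheaf (Scheme.zariskiTopology.over S) F)
    (hF : ∀ (X X' : Over S) (f : X' ⟶ X), C f.left → Presieve.IsSheafFor F (Presieve.singleton f))
    {X : Over S} {R : Sieve X} (h : Covering C X R) :
    R ∈ Sheaf.finestTopologySingle F X := by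
  have hzar : ∀ (Z : Over S) (T : Sieve Z), T ∈ Scheme.zariskiTopology.over S Z →
      T ∈ Sheaf.finestTopologySingle F Z :=
    fun Z T hT Y g => hZ _ ((Scheme.zariskiTopology.over S).pullback_stable g hT)
  obtain ⟨ι, U, hU, hcov, hD⟩ := h
  refine (Sheaf.finestTopologySingle F).transitive
    (hzar _ _ (mem_zariski_over (fun i => Over.mk ((U i).ι ≫ X.hom))
      (fun i => Over.homMk (U i).ι) (fun i => (inferInstance : IsOpenImmersion (U i).ι))
      fun x => ?_)) R ?_
  · obtain ⟨i, hi⟩ := TopologicalSpace.Opens.mem_iSup.mp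
      (show x ∈ ⨆ i, U i by rw [hcov]; trivial)
    exact ⟨i, ⟨x, hi⟩, rfl⟩
  rintro Y _ ⟨_, a, _, ⟨i⟩, rfl⟩
  rw [Sieve.pullback_comp]
  refine (Sheaf.finestTopologySingle F).pullback_stable _ ?_
  obtain ⟨κ, hκ, V, φ, ψ, hV, hR, hψ, hC⟩ := hD i
  let Ui : Over S := Over.mk ((U i).ι ≫ X.hom)
  let T : Over S := Over.mk (Sigma.desc ψ ≫ (U i).ι ≫ X.hom)
  let d : T ⟶ Ui := Over.homMk (Sigma.desc ψ)
  refine (Sheaf.finestTopologySingle F).transitive (mem_finest_singleton C F hF d hC) _ ?_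
  rintro Y' _ ⟨_, b, _, hb, rfl⟩
  obtain ⟨⟩ := hb
  rw [Sieve.pullback_comp]
  refine (Sheaf.finestTopologySingle F).pullback_stable _ ?_
  have hw : ∀ j, Sigma.ι (fun j => (V j).left) j ≫ T.hom = (V j).hom := by
    intro j
    simp only [T, Over.mk_hom]
    rw [colimit.ι_desc_assoc, Cofan.mk_ι_app, reassoc_of% (hψ j), Over.w]
  refine (Sheaf.finestTopologySingle F).superset_covering ?_
    (hzar T _ (mem_zariski_over V (fun j => (Over.homMk (Sigma.ι (fun j => (V j).left) j) (hw j) : V j ⟶ T))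
      (fun j => (inferInstance : IsOpenImmersion (Sigma.ι (fun j => (V j).left) j))) fun x => ?_))
  · rw [Sieve.ofArrows, Sieve.generate_le_iff]
    rintro Z _ ⟨j⟩
    show R.arrows _
    convert hR j using 1
    ext1
    simp [d, hψ j]
  · obtain ⟨j, y, hy⟩ := (sigmaOpenCover fun j => (V j).left).exists_eq x
    exact ⟨j, y, hy⟩

include haff in
theorem isSheaf_iff
    (hqc : ∀ {A B : Scheme.{u}} (f : A ⟶ B), C f → QuasiCompact f)
    (hres : ∀ (W X' : Scheme.{u}) [IsAffine W] (f : X' ⟶ W), C f →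
      ∀ (κ : Type u) [Finite κ] (A : κ → X'.Opens), (∀ l, IsAffineOpen (A l)) → ⨆ l, A l = ⊤ →
        C (Limits.Sigma.desc fun l => (A l).ι ≫ f))
    (J : GrothendieckTopology (Over S))
    (hJ : ∀ (X : Over S) (R : Sieve X), R ∈ J X ↔ Covering C X R)
    (F : (Over S)ᵒᵖ ⥤ Type v) :
    Presieve.IsSheaf J F ↔
      (Presieve.IsSheaf (Scheme.zariskiTopology.over S) F ∧
        ∀ (X X' : Over S) (f : X' ⟶ X), C f.left →
          Presieve.IsSheafFor F (Presieve.singleton f)) := by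
  constructor
  · intro h
    refine ⟨fun X R hR => h R ((hJ X R).mpr (covering_of_zariski C haff hR)), fun X X' f hf => ?_⟩
    rw [Presieve.isSheafFor_iff_generate]
    exact h _ ((hJ _ _).mpr (covering_singleton C haff hqc hres f hf))
  · rintro ⟨hZ, hF⟩ X R hR
    have := mem_finest_of_covering C F hZ hF ((hJ X R).mp hR) X (𝟙 X)
    rwa [Sieve.pullback_id] at this

end

end Groth.Agent.ClassTop99
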