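import Mathlib.AlgebraicGeometry.Sites.Fpqc
import Mathlib.CategoryTheory.Comma.Over.Pullback

/-!
# Colimits are local for subcanonical covers
-/

noncomputable section

universe w v u

open CategoryTheory Limits

namespace Groth.Agent.ColimLocal99

variable {C : Type u} [Category.{v} C] [HasPullbacks C] {J : Type*} [Category* J]
  {D : J ⥤ C} (c : Cocone D)

/-- The base change of the diagram to `Z`. -/
abbrev pullDiag {Z : C} (g : Z ⟶ c.pt) : J ⥤ Over Z :=
  D.toOver c.pt (fun j => c.ι.app j) (fun k => c.w k) ⋙ Over.pullback g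

/-- The base change of a cocone `s` to `Z`. -/
def pullCocone (s : Cocone D) {Z : C} (g : Z ⟶ c.pt) : Cocone (pullDiag c g ⋙ Over.forget Z) where
  pt := s.pt
  ι :=
    { app := fun j => pullback.fst (c.ι.app j) g ≫ s.ι.app j
      naturality := fun i j k => by
        refine (pullback.lift_fst_assoc _ _ _ _).trans ?_
        refine Eq.trans ?_ (Category.comp_id _).symm
        exact (Category.assoc _ _ _).trans (congrArg _ (s.w k)) }

theorem nonempty_isColimit (K : Precoverage C) [K.IsStableUnderBaseChange]
    [K.toGrothendieck.Subcanonical] (F : PreZeroHypercover.{w} c.pt) (hF : F.presieve₀ ∈ K c.pt)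
    (h1 : ∀ a : F.I₀, Nonempty (IsColimit ((Over.forgetCocone (F.X a)).whisker (pullDiag c (F.f a)))))
    (h2 : ∀ a b : F.I₀, Nonempty (IsColimit ((Over.forgetCocone (pullback (F.f a) (F.f b))).whisker
      (pullDiag c (pullback.fst (F.f a) (F.f b) ≫ F.f a))))) :
    Nonempty (IsColimit c) := by
  have hsheaf : ∀ T : C, Presieve.IsSheafFor (yoneda.obj T) (Presieve.ofArrows F.X F.f) := fun T =>
    (Presieve.isSheafFor_iff_generate _).mpr
      (GrothendieckTopology.Subcanonical.isSheaf_of_isRepresentable (J := K.toGrothendieck)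
        (yoneda.obj T) _ (Precoverage.generate_mem_toGrothendieck hF))
  have key : ∀ s : Cocone D, ∃! t : c.pt ⟶ s.pt, ∀ j, c.ι.app j ≫ t = s.ι.app j := by
    intro s
    let h : ∀ a, F.X a ⟶ s.pt := fun a => (h1 a).some.desc (pullCocone c s (F.f a))
    have hh : ∀ a j, pullback.snd (c.ι.app j) (F.f a) ≫ h a =
        pullback.fst (c.ι.app j) (F.f a) ≫ s.ι.app j :=
      fun a j => (h1 a).some.fac (pullCocone c s (F.f a)) j
    have hcompat : ∀ a b, pullback.fst (F.f a) (F.f b) ≫ h a =
        pullback.snd (F.f a) (F.f b) ≫ h b := by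
      intro a b
      refine (h2 a b).some.hom_ext fun j => ?_
      show pullback.snd (c.ι.app j) (pullback.fst (F.f a) (F.f b) ≫ F.f a) ≫ _ =
        pullback.snd (c.ι.app j) (pullback.fst (F.f a) (F.f b) ≫ F.f a) ≫ _
      have e1 : pullback.snd (c.ι.app j) (pullback.fst (F.f a) (F.f b) ≫ F.f a) ≫
          pullback.fst (F.f a) (F.f b) ≫ h a =
          pullback.fst (c.ι.app j) (pullback.fst (F.f a) (F.f b) ≫ F.f a) ≫ s.ι.app j := by
        let l := pullback.lift (pullback.fst (c.ι.app j) (pullback.fst (F.f a) (F.f b) ≫ F.f a))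
          (pullback.snd (c.ι.app j) (pullback.fst (F.f a) (F.f b) ≫ F.f a) ≫
            pullback.fst (F.f a) (F.f b)) (f := c.ι.app j) (g := F.f a)
          (pullback.condition.trans (Category.assoc _ _ _).symm)
        have := congrArg (l ≫ ·) (hh a j)
        exact ((Category.assoc _ _ _).symm.trans (pullback.lift_snd_assoc _ _ _ _).symm).trans
          (this.trans (pullback.lift_fst_assoc _ _ _ _))
      have e2 : pullback.snd (c.ι.app j) (pullback.fst (F.f a) (F.f b) ≫ F.f a) ≫
          pullback.snd (F.f a) (F.f b) ≫ h b =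
          pullback.fst (c.ι.app j) (pullback.fst (F.f a) (F.f b) ≫ F.f a) ≫ s.ι.app j := by
        let l := pullback.lift (pullback.fst (c.ι.app j) (pullback.fst (F.f a) (F.f b) ≫ F.f a))
          (pullback.snd (c.ι.app j) (pullback.fst (F.f a) (F.f b) ≫ F.f a) ≫
            pullback.snd (F.f a) (F.f b)) (f := c.ι.app j) (g := F.f b)
          ((pullback.condition.trans (congrArg (_ ≫ ·) pullback.condition)).trans
            (Category.assoc _ _ _).symm)
        have := congrArg (l ≫ ·) (hh b j)
        exact ((Category.assoc _ _ _).symm.trans (pullback.lift_snd_assoc _ _ _ _).symm).trans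
          (this.trans (pullback.lift_fst_assoc _ _ _ _))
      exact e1.trans e2.symm
    obtain ⟨t, ht, huniq⟩ := (Presieve.isSheafFor_arrows_iff (yoneda.obj s.pt) F.f).mp
      (hsheaf s.pt) h (fun a b Z ga gb e => by
        show ga ≫ h a = gb ≫ h b
        have := congrArg (pullback.lift ga gb e ≫ ·) (hcompat a b)
        exact ((pullback.lift_fst_assoc ga gb e (h a)).symm.trans this).trans
          (pullback.lift_snd_assoc ga gb e (h b)))
    refine ⟨t, fun j => ?_, fun t' ht' => huniq t' fun a => ?_⟩
    · have hpull : Presieve.ofArrows (fun a => pullback (c.ι.app j) (F.f a))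
          (fun a => pullback.fst (c.ι.app j) (F.f a)) ∈ K (D.obj j) :=
        Precoverage.mem_coverings_of_isPullback F.f hF (c.ι.app j) _
          (fun a => pullback.snd (c.ι.app j) (F.f a))
          (fun a => IsPullback.of_hasPullback _ _)
      have hs := ((Presieve.isSheafFor_iff_generate _).mpr
        (GrothendieckTopology.Subcanonical.isSheaf_of_isRepresentable (J := K.toGrothendieck)
          (yoneda.obj s.pt) _ (Precoverage.generate_mem_toGrothendieck hpull))).isSeparatedFor
      refine hs.ext ?_
      rintro Z _ ⟨a⟩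
      show pullback.fst (c.ι.app j) (F.f a) ≫ c.ι.app j ≫ t =
        pullback.fst (c.ι.app j) (F.f a) ≫ s.ι.app j
      rw [pullback.condition_assoc, ← hh a j]
      exact congrArg _ (ht a)
    · show F.f a ≫ t' = h a
      refine (h1 a).some.hom_ext fun j => ?_
      show pullback.snd (c.ι.app j) (F.f a) ≫ F.f a ≫ t' = pullback.snd (c.ι.app j) (F.f a) ≫ h a
      rw [← pullback.condition_assoc, ht', hh]
  choose t ht huniq using key
  exact ⟨{ desc := t, fac := ht, uniq := fun s m hm => huniq s m hm }⟩

end Groth.Agent.ColimLocal99
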