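import Mathlib

set_option autoImplicit false
universe u
open scoped TensorProduct

namespace Groth.Agent.Lib.CompletionEqualizer

variable {K L : Type u} [Field K] [Field L] [Algebra K L]

/-- `x ⊗ 1 - 1 ⊗ x` -/
noncomputable def dd (x : L) : L ⊗[K] L := x ⊗ₜ[K] (1 : L) - (1 : L) ⊗ₜ[K] x

theorem of_eq_iff (x : L) :
    AdicCompletion.of (KaehlerDifferential.ideal K L) (L ⊗[K] L) (x ⊗ₜ[K] (1 : L)) =
        AdicCompletion.of (KaehlerDifferential.ideal K L) (L ⊗[K] L) ((1 : L) ⊗ₜ[K] x) ↔
      ∀ n : ℕ, dd x ∈ (KaehlerDifferential.ideal K L) ^ n • (⊤ : Submodule (L ⊗[K] L) (L ⊗[K] L)) := by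
  rw [AdicCompletion.ext_iff]
  refine forall_congr' fun n => ?_
  rw [AdicCompletion.of_apply, AdicCompletion.of_apply, Submodule.mkQ_apply, Submodule.mkQ_apply,
    Submodule.Quotient.eq]
  rfl

theorem dd_mem (x : L) : dd (K := K) x ∈ KaehlerDifferential.ideal K L := by
  simp [KaehlerDifferential.ideal, RingHom.mem_ker, dd]

theorem pow_mem_of_separable {x : L} (hx : IsSeparable K x) (n : ℕ) :
    dd (K := K) x ∈ (KaehlerDifferential.ideal K L) ^ n := by
  let f := minpoly K x
  let il : L →ₐ[K] L ⊗[K] L := Algebra.TensorProduct.includeLeft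
  let ir : L →ₐ[K] L ⊗[K] L := Algebra.TensorProduct.includeRight
  have hsep : f.Separable := hx
  obtain ⟨k, hk⟩ := Polynomial.binomExpansion (f.map (algebraMap K (L ⊗[K] L))) (ir x) (dd x)
  have h0 : ir x + dd x = il x := by simp [il, ir, dd]
  rw [h0, Polynomial.derivative_map, Polynomial.eval_map, Polynomial.eval_map, Polynomial.eval_map,
    ← Polynomial.aeval_def, ← Polynomial.aeval_def, ← Polynomial.aeval_def,
    Polynomial.aeval_algHom_apply, Polynomial.aeval_algHom_apply, Polynomial.aeval_algHom_apply,
    minpoly.aeval, map_zero, map_zero, zero_add] at hk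
  have hu : IsUnit (ir (Polynomial.aeval x f.derivative)) :=
    (isUnit_iff_ne_zero.2 (hsep.aeval_derivative_ne_zero (minpoly.aeval K x))).map ir
  obtain ⟨v, hv⟩ := hu.exists_left_inv
  have hd : dd (K := K) x = (-(v * k)) * (dd x * dd x) := by
    linear_combination (-v) * hk - dd (K := K) x * hv
  induction n with
  | zero => simp
  | succ m ih =>
    rw [hd, pow_succ]
    exact Ideal.mul_mem_left _ _ (Ideal.mul_mem_mul ih (dd_mem x))

/-- Evaluation of an `L`-polynomial at `1 ⊗ x` in `L ⊗ E`. -/
noncomputable def piMap (E : IntermediateField K L) (x : E) : Polynomial L →ₐ[L] L ⊗[K] E :=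
  Polynomial.aeval ((1 : L) ⊗ₜ[K] x)

theorem piMap_eq_zero (E : IntermediateField K L) (x : E) (n : ℕ) (hli : LinearIndependent K fun i : Fin n => x ^ (i : ℕ))
    (P : Polynomial L) (hP : P.degree < n) (h : piMap E x P = 0) : P = 0 := by
  by_contra hne
  have hdeg : P.natDegree < n := (Polynomial.natDegree_lt_iff_degree_lt hne).2 hP
  have hli' := Module.Flat.linearIndependent_one_tmul (S := L) hli
  rw [Fintype.linearIndependent_iff] at hli'
  have h1 := hli' (fun i => P.coeff i) (by
    rw [piMap, Polynomial.aeval_eq_sum_range' hdeg, ← Fin.sum_univ_eq_sum_range] at h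
    simpa [Algebra.TensorProduct.tmul_pow] using h)
  exact hne (Polynomial.ext fun i => by
    rw [Polynomial.coeff_zero]
    by_cases hi : i < n
    · exact h1 ⟨i, hi⟩
    · exact Polynomial.coeff_eq_zero_of_natDegree_lt (by omega))

/-- Multiplication `L ⊗ E → L`. -/
noncomputable def mE (E : IntermediateField K L) : L ⊗[K] E →ₐ[L] L :=
  Algebra.TensorProduct.lift (AlgHom.id L L) E.val fun _ _ => Commute.all _ _

theorem mE_piMap (E : IntermediateField K L) (x : E) (P : Polynomial L) :
    mE E (piMap E x P) = P.eval (x : L) := by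
  rw [piMap, ← Polynomial.aeval_algHom_apply, Polynomial.coe_aeval_eq_eval]
  simp [mE]

open Polynomial in
theorem mE_eq_zero_of_annihilates {x : L} (hx : ¬ IsSeparable K x) :
    ∀ u : L ⊗[K] (IntermediateField.adjoin K ({x} : Set L)),
      (x ⊗ₜ[K] (1 : IntermediateField.adjoin K ({x} : Set L)) -
        (1 : L) ⊗ₜ[K] IntermediateField.AdjoinSimple.gen K x) * u = 0 →
      mE (IntermediateField.adjoin K ({x} : Set L)) u = 0 := by
  set E := IntermediateField.adjoin K ({x} : Set L)
  set g : E := IntermediateField.AdjoinSimple.gen K x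
  have hgx : (g : L) = x := IntermediateField.AdjoinSimple.coe_gen K x
  have hd : piMap E g (C x - X) = x ⊗ₜ[K] (1 : E) - (1 : L) ⊗ₜ[K] g := by
    simp [piMap, Algebra.TensorProduct.algebraMap_apply]
  intro u hu
  rw [← hd] at hu
  have haev : ∀ q : K[X], piMap E g (q.map (algebraMap K L)) = (1 : L) ⊗ₜ[K] (aeval g q) := fun q => by
    rw [piMap, aeval_map_algebraMap]
    exact aeval_algHom_apply (Algebra.TensorProduct.includeRight : E →ₐ[K] L ⊗[K] E) g q
  have hval : ∀ q : K[X], ((aeval g q : E) : L) = aeval x q := fun q => by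
    rw [← hgx]
    exact (aeval_algHom_apply E.val g q).symm
  by_cases hint : IsIntegral K x
  · have hsurj : Function.Surjective (piMap E g) := by
      intro z
      induction z using TensorProduct.induction_on with
      | zero => exact ⟨0, map_zero _⟩
      | add a b ha hb =>
        obtain ⟨A, rfl⟩ := ha
        obtain ⟨B, rfl⟩ := hb
        exact ⟨A + B, map_add _ _ _⟩
      | tmul a e =>
        have he : (e : L) ∈ (IntermediateField.adjoin K ({x} : Set L)).toSubalgebra := e.2
        rw [IntermediateField.adjoin_simple_toSubalgebra_of_isAlgebraic hint.isAlgebraic,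
          Algebra.adjoin_singleton_eq_range_aeval] at he
        obtain ⟨q, hq⟩ := he
        refine ⟨C a * q.map (algebraMap K L), ?_⟩
        rw [map_mul, haev, show aeval g q = e from Subtype.ext ((hval q).trans hq)]
        simp [piMap, Algebra.TensorProduct.algebraMap_apply]
    obtain ⟨P, rfl⟩ := hsurj u
    let f := (minpoly K x).map (algebraMap K L)
    have hf0 : piMap E g f = 0 := by
      rw [haev, show aeval g (minpoly K x) = 0 from Subtype.ext ((hval _).trans (minpoly.aeval K x)),
        TensorProduct.tmul_zero]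
    have hmon : f.Monic := (minpoly.monic hint).map _
    have hker : ∀ Q, piMap E g Q = 0 → f ∣ Q := fun Q hQ => by
      rw [← modByMonic_eq_zero_iff_dvd hmon]
      refine piMap_eq_zero E g (minpoly K x).natDegree ?_ _ ?_ ?_
      · have hg : minpoly K g = minpoly K x := by
          rw [← hgx]; exact (minpoly.algHom_eq E.val E.val.injective g).symm
        have := linearIndependent_pow (K := K) g
        rwa [hg] at this
      · refine lt_of_lt_of_le (degree_modByMonic_lt Q hmon) ?_
        rw [degree_map]
        exact degree_le_natDegree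
      · rw [modByMonic_eq_sub_mul_div, map_sub, map_mul, hQ, hf0, zero_mul, sub_zero]
    have hdvd := hker ((C x - X) * P) (by rw [map_mul]; exact hu)
    obtain ⟨h, hh⟩ : (X - C x) ∣ f := dvd_iff_isRoot.2 (by simp [f, IsRoot, eval_map, ← aeval_def, minpoly.aeval])
    have hder : (minpoly K x).derivative = 0 := by
      by_contra hne
      exact hx ((separable_iff_derivative_ne_zero (minpoly.irreducible hint)).2 hne)
    have hh0 : h.eval x = 0 := by
      have h1 := congrArg (fun q => (derivative q).eval x) hh
      simp only [f, derivative_map, hder, Polynomial.map_zero, eval_zero, derivative_mul, derivative_sub,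
        derivative_X, derivative_C, sub_zero, one_mul, eval_add, eval_mul, eval_sub, eval_X, eval_C, sub_self,
        zero_mul, add_zero] at h1
      exact h1.symm
    obtain ⟨c, hc⟩ : h ∣ P := by
      have : (X - C x) * h ∣ (X - C x) * P := by
        rw [← hh, ← neg_sub (C x) X, neg_mul]; exact hdvd.neg_right
      exact (mul_dvd_mul_iff_left (X_sub_C_ne_zero x)).1 this
    rw [mE_piMap, hgx, hc, eval_mul, hh0, zero_mul]
  · have hne : ∀ q : K[X], q ≠ 0 → aeval x q ≠ 0 := fun q hq h0 =>
      hint (IsAlgebraic.isIntegral ⟨q, hq, h0⟩)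
    have hinj : Function.Injective (piMap E g) := (injective_iff_map_eq_zero _).2 fun P hP => by
      refine piMap_eq_zero E g (P.natDegree + 1) ?_ P ?_ hP
      · rw [Fintype.linearIndependent_iff]
        intro c hc i
        have h1 : ∑ j, C (c j) * (X : K[X]) ^ (j : ℕ) = 0 := by
          by_contra hne0
          apply hne _ hne0
          rw [← hval, map_sum]
          simpa [Algebra.smul_def] using congrArg (fun e : E => (e : L)) hc
        have h2 := congrArg (fun q => coeff q i) h1
        simpa [coeff_X_pow, Fin.val_inj] using h2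
      · exact lt_of_le_of_lt degree_le_natDegree (by exact_mod_cast Nat.lt_succ_self _)
    have hfrac : ∀ z : L ⊗[K] E, ∃ q : K[X], q ≠ 0 ∧ ∃ P, z * ((1 : L) ⊗ₜ[K] aeval g q) = piMap E g P := by
      intro z
      induction z using TensorProduct.induction_on with
      | zero => exact ⟨1, one_ne_zero, 0, by simp⟩
      | add a b ha hb =>
        obtain ⟨q, hq, P, hP⟩ := ha
        obtain ⟨q', hq', P', hP'⟩ := hb
        refine ⟨q * q', mul_ne_zero hq hq', P * q'.map (algebraMap K L) + P' * q.map (algebraMap K L), ?_⟩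
        simp only [map_add, map_mul, haev, ← hP, ← hP']
        rw [
          show (1 : L) ⊗ₜ[K] (aeval g q * aeval g q') = ((1 : L) ⊗ₜ[K] aeval g q) * ((1 : L) ⊗ₜ[K] aeval g q') by simp]
        ring
      | tmul a e =>
        obtain ⟨r, s, hrs⟩ := (IntermediateField.mem_adjoin_simple_iff K (e : L)).1 e.2
        by_cases hs : s = 0
        · refine ⟨1, one_ne_zero, 0, ?_⟩
          have : e = 0 := Subtype.ext (by rw [hrs, hs]; simp)
          simp [this]
        · refine ⟨s, hs, C a * r.map (algebraMap K L), ?_⟩
          rw [map_mul, haev]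
          have he : e * aeval g s = aeval g r := Subtype.ext (by
            rw [IntermediateField.coe_mul, hval, hval, hrs, div_mul_cancel₀ _ (hne s hs)])
          rw [Algebra.TensorProduct.tmul_mul_tmul, mul_one, he]
          simp [piMap, Algebra.TensorProduct.algebraMap_apply]
    obtain ⟨q, hq, P, hP⟩ := hfrac u
    have h1 : piMap E g ((C x - X) * P) = 0 := by
      rw [map_mul, ← hP, ← mul_assoc, hu, zero_mul]
    have hP0 : P = 0 := by
      rcases mul_eq_zero.1 (hinj (h1.trans (map_zero _).symm)) with h | h
      · exact absurd ((neg_sub (C x) X).symm.trans (by rw [h, neg_zero])) (X_sub_C_ne_zero x)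
      · exact h
    rw [hP0, map_zero] at hP
    have h2 := congrArg (mE E) hP
    rw [map_mul, map_zero] at h2
    refine (mul_eq_zero.1 h2).resolve_right ?_
    simpa [mE, hval] using hne q hq

theorem mem_ideal_of_annihilates {x : L} (hx : ¬ IsSeparable K x) (c : L ⊗[K] L) (hc : dd x * c = 0) :
    c ∈ KaehlerDifferential.ideal K L := by
  classical
  set E := IntermediateField.adjoin K ({x} : Set L)
  set g : E := IntermediateField.AdjoinSimple.gen K x
  let b := Module.Free.chooseBasis E L
  let Φ : Module.Free.ChooseBasisIndex E L → (L ⊗[K] L →ₗ[K] L ⊗[K] E) :=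
    fun i => ((b.coord i).restrictScalars K).lTensor L
  let j : L ⊗[K] E →ₐ[K] L ⊗[K] L := Algebra.TensorProduct.map (AlgHom.id K L) E.val
  have hlin : ∀ i (u : L ⊗[K] E) (z : L ⊗[K] L), Φ i (j u * z) = u * Φ i z := by
    intro i u z
    induction u using TensorProduct.induction_on with
    | zero => simp
    | add a b ha hb => rw [map_add, add_mul, map_add, ha, hb, add_mul]
    | tmul a e =>
      induction z using TensorProduct.induction_on with
      | zero => simp
      | add p q hp hq => rw [mul_add, map_add, hp, hq, map_add, mul_add]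
      | tmul p q =>
        simp only [j, Φ, Algebra.TensorProduct.map_tmul, Algebra.TensorProduct.tmul_mul_tmul,
          LinearMap.lTensor_tmul, LinearMap.restrictScalars_apply, AlgHom.id_apply]
        change (a * p) ⊗ₜ[K] b.coord i (e • q) = (a * p) ⊗ₜ[K] (e * b.coord i q)
        rw [map_smul, smul_eq_mul]
  have hjd : j (x ⊗ₜ[K] (1 : E) - (1 : L) ⊗ₜ[K] g) = dd x := by
    simp [j, dd, g, E]
  have hΦ : ∀ i, mE E (Φ i c) = 0 := fun i => mE_eq_zero_of_annihilates hx _ (by
    rw [← hlin i, hjd, hc, map_zero])
  have key : ∀ z : L ⊗[K] L, ∃ s : Finset _, ∀ s', s ⊆ s' →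
      Algebra.TensorProduct.lmul' K (S := L) z = ∑ i ∈ s', mE E (Φ i z) * b i := by
    intro z
    induction z using TensorProduct.induction_on with
    | zero => exact ⟨∅, fun s' _ => by simp⟩
    | add p q hp hq =>
      obtain ⟨s, hs⟩ := hp
      obtain ⟨t, ht⟩ := hq
      refine ⟨s ∪ t, fun s' h => ?_⟩
      rw [map_add, hs s' (Finset.subset_union_left.trans h), ht s' (Finset.subset_union_right.trans h),
        ← Finset.sum_add_distrib]
      simp [add_mul]
    | tmul p q =>
      refine ⟨(b.repr q).support, fun s' h => ?_⟩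
      conv_lhs => rw [Algebra.TensorProduct.lmul'_apply_tmul, ← b.linearCombination_repr q,
        Finsupp.linearCombination_apply, Finsupp.sum_of_support_subset (b.repr q) h (fun i a => a • b i) (fun i _ => zero_smul _ _),
        Finset.mul_sum]
      refine Finset.sum_congr rfl fun i _ => ?_
      simp [Φ, mE, Algebra.smul_def, mul_assoc]
  obtain ⟨s, hs⟩ := key c
  rw [KaehlerDifferential.ideal, RingHom.mem_ker]
  exact (hs s subset_rfl).trans (Finset.sum_eq_zero fun i _ => by rw [hΦ, zero_mul])

theorem main (hfg : (⊤ : IntermediateField K L).FG) (x : L) :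
    AdicCompletion.of (KaehlerDifferential.ideal K L) (L ⊗[K] L) (x ⊗ₜ[K] (1 : L)) =
        AdicCompletion.of (KaehlerDifferential.ideal K L) (L ⊗[K] L) ((1 : L) ⊗ₜ[K] x) ↔
      x ∈ separableClosure K L := by
  rw [of_eq_iff, mem_separableClosure_iff]
  constructor
  · intro h
    by_contra hx
    have : Algebra.EssFiniteType K L := IntermediateField.fg_top_iff.1 hfg
    have : IsNoetherianRing (L ⊗[K] L) := Algebra.EssFiniteType.isNoetherianRing L _
    obtain ⟨⟨a, ha⟩, h1⟩ := (Ideal.mem_iInf_smul_pow_eq_bot_iff _ _).1 ((Submodule.mem_iInf _).2 h)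
    change a • dd x = dd x at h1
    rw [smul_eq_mul] at h1
    have h2 := mem_ideal_of_annihilates hx (1 - a) (by rw [mul_sub, mul_one, mul_comm, h1, sub_self])
    have h3 := add_mem h2 ha
    rw [sub_add_cancel, KaehlerDifferential.ideal, RingHom.mem_ker, map_one] at h3
    exact one_ne_zero h3
  · intro hx n
    rw [smul_eq_mul, Ideal.mul_top]
    exact pow_mem_of_separable hx n

end Groth.Agent.Lib.CompletionEqualizer
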