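import Groth.Agent.Lib.OverDescent
import Groth.Agent.Lib.BitorsExt

/-!
# Extensions with no bilinear-type maps are central and commutative
-/

set_option autoImplicit false

universe u

open CategoryTheory CategoryTheory.Limits MonoidalCategory CartesianMonoidalCategory MonObj AlgebraicGeometry
open Groth.Agent.Lib.OverDescent Groth.Agent.Lib.BitorsExt

namespace Groth.Agent.Lib.ExtCentral

variable {S : Scheme.{u}} {P G E : Over S} [GrpObj P] [GrpObj G] [GrpObj E] [IsCommMonObj G]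
  (u : G ⟶ E) (v : E ⟶ P)

omit [GrpObj E] [GrpObj P] in
theorem mul_comm_pts {T : Over S} (a b : T ⟶ G) : a * b = b * a := by
  letI : CommMonoid (T ⟶ G) := Hom.commMonoid
  exact _root_.mul_comm a b

theorem comm_mul_central {M : Type*} [Group M] {a b : M} (ha : ∀ z, a * z = z * a) (hb : ∀ z, b * z = z * b)
    (x y : M) : x * a * (y * b) * (x * a)⁻¹ * (y * b)⁻¹ = x * y * x⁻¹ * y⁻¹ := by
  have e1 : x * a * (y * b) = x * y * (a * b) := by
    rw [_root_.mul_assoc x a, ← _root_.mul_assoc a y, ha y]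
    group
  have e2 : y * b * (x * a) = y * x * (a * b) := by
    rw [_root_.mul_assoc y b, ← _root_.mul_assoc b x, hb x, _root_.mul_assoc x b a, hb a]
    group
  rw [_root_.mul_assoc (x * a * (y * b)), ← _root_.mul_inv_rev, e1, e2]
  group

theorem central_and_comm (hex : NonAbH1.IsExactSeq Scheme.fppfPrecoverage u v)
    (hPG : ∀ f : P ⊗ G ⟶ G, lift (𝟙 P) (toUnit P ≫ η[G]) ≫ f = 1 → lift (toUnit G ≫ η[P]) (𝟙 G) ≫ f = 1 → f = 1) :
    (∀ (T : Over S) (g : T ⟶ G) (x : T ⟶ E), (g ≫ u) * x = x * (g ≫ u)) ∧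
      (IsCommMonObj P →
        (∀ f : P ⊗ P ⟶ G, lift (𝟙 P) (toUnit P ≫ η[P]) ≫ f = 1 → lift (toUnit P ≫ η[P]) (𝟙 P) ≫ f = 1 → f = 1) →
          IsCommMonObj E) := by
  have := hex.1
  have := hex.2.1
  have hker : ∀ {T : Over S} (d : T ⟶ E), d ≫ v = 1 → ∃ g : T ⟶ G, g ≫ u = d := fun d hd => by
    obtain ⟨g, hg⟩ := exists_lift_kernel u v hex 1 d (by rw [hd, MonObj.one_comp])
    exact ⟨g, by rw [hg, _root_.one_mul]⟩
  have hv : LocallySplit Scheme.fppfTopology v :=
    locallySplit_of_isLocallyTrivialFor _ Scheme.fppfPrecoverage le_rfl v hex.2.2.2.2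
  have hηv : (1 : E ⟶ E) ≫ v = toUnit E ≫ η[P] := by rw [MonObj.one_comp]; exact Hom.one_def
  have central : ∀ (T : Over S) (g : T ⟶ G) (x : T ⟶ E), (g ≫ u) * x = x * (g ≫ u) := by
    let D : ∀ {T : Over S}, (T ⟶ E) → (T ⟶ G) → (T ⟶ E) := fun x g => x * (g ≫ u) * x⁻¹ * (g ≫ u)⁻¹
    obtain ⟨c₀, hc₀⟩ : ∃ c₀ : E ⊗ G ⟶ G, c₀ ≫ u = D (fst E G) (snd E G) := hker _ (by
      simp only [D, MonObj.mul_comp, GrpObj.inv_comp, Category.assoc, hex.2.2.1, MonObj.comp_one, _root_.mul_one,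
        mul_inv_cancel, inv_one])
    have hpt : ∀ {T : Over S} (w : T ⟶ E ⊗ G), (w ≫ c₀) ≫ u = D (w ≫ fst E G) (w ≫ snd E G) := fun w => by
      rw [Category.assoc, hc₀]
      simp only [D, MonObj.comp_mul, GrpObj.comp_inv, ← Category.assoc]
    obtain ⟨c, hc⟩ := exists_desc (locallySplit_tensor _ hv (locallySplit_id _ G)) c₀ (fun T w w' hw => by
      refine kernel_injective u v hex _ _ ?_
      rw [hpt, hpt]
      have hw1 : (w ≫ fst E G) ≫ v = (w' ≫ fst E G) ≫ v := by simpa using congrArg (· ≫ fst P G) hw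
      have hw2 : w ≫ snd E G = w' ≫ snd E G := by simpa using congrArg (· ≫ snd P G) hw
      obtain ⟨h, hh⟩ := exists_lift_kernel u v hex _ _ hw1
      have hcomm : (h ≫ u) * ((w ≫ snd E G) ≫ u) = ((w ≫ snd E G) ≫ u) * (h ≫ u) := by
        rw [← MonObj.mul_comp, mul_comm_pts, MonObj.mul_comp]
      rw [← hw2, hh]
      simp only [D]
      rw [_root_.mul_assoc (w ≫ fst E G) (h ≫ u), hcomm]
      group)
    have hc1 : c = 1 := by
      refine hPG c ?_ ?_
      · refine epi_of_local hv ?_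
        have e : v ≫ lift (𝟙 P) (toUnit P ≫ η[G]) = lift (𝟙 E) (1 : E ⟶ G) ≫ (v ⊗ₘ 𝟙 G) := by
          rw [comp_lift, lift_map, Category.id_comp, Category.comp_id, Category.comp_id, comp_toUnit_assoc]
          rfl
        rw [← Category.assoc, e, Category.assoc, hc, MonObj.comp_one]
        refine kernel_injective u v hex _ _ ?_
        rw [hpt, lift_fst, lift_snd, MonObj.one_comp]
        simp only [D, MonObj.one_comp]
        group
      · have e : lift (toUnit G ≫ η[P]) (𝟙 G) = lift (1 : G ⟶ E) (𝟙 G) ≫ (v ⊗ₘ 𝟙 G) := by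
          rw [lift_map, Category.id_comp, MonObj.one_comp]
          rfl
        rw [e, Category.assoc, hc]
        refine kernel_injective u v hex _ _ ?_
        rw [hpt, lift_fst, lift_snd, MonObj.one_comp]
        simp only [D]
        group
    intro T g x
    have h0 : D x g = 1 := by
      have := hpt (lift x g)
      rw [lift_fst, lift_snd, ← hc, hc1, MonObj.comp_one, MonObj.comp_one, MonObj.one_comp] at this
      exact this.symm
    exact (mul_inv_eq_iff_eq_mul.1 (mul_inv_eq_one.1 h0)).symm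
  refine ⟨central, fun hP hPP => ?_⟩
  have hPc : ∀ {T : Over S} (a b : T ⟶ P), a * b = b * a := fun a b => mul_comm_pts a b
  let D : ∀ {T : Over S}, (T ⟶ E) → (T ⟶ E) → (T ⟶ E) := fun x y => x * y * x⁻¹ * y⁻¹
  obtain ⟨c₀, hc₀⟩ : ∃ c₀ : E ⊗ E ⟶ G, c₀ ≫ u = D (fst E E) (snd E E) := hker _ (by
    simp only [D, MonObj.mul_comp, GrpObj.inv_comp]
    rw [hPc (fst E E ≫ v) (snd E E ≫ v)]
    group)
  have hpt : ∀ {T : Over S} (w : T ⟶ E ⊗ E), (w ≫ c₀) ≫ u = D (w ≫ fst E E) (w ≫ snd E E) := fun w => by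
    rw [Category.assoc, hc₀]
    simp only [D, MonObj.comp_mul, GrpObj.comp_inv, ← Category.assoc]
  have hD : ∀ {T : Over S} (g h : T ⟶ G) (x y : T ⟶ E), D (x * (g ≫ u)) (y * (h ≫ u)) = D x y := fun g h x y => by
    exact comm_mul_central (fun z => central _ g z) (fun z => central _ h z) x y
  obtain ⟨c, hc⟩ := exists_desc (locallySplit_tensor _ hv hv) c₀ (fun T w w' hw => by
    refine kernel_injective u v hex _ _ ?_
    rw [hpt, hpt]
    have hw1 : (w ≫ fst E E) ≫ v = (w' ≫ fst E E) ≫ v := by simpa using congrArg (· ≫ fst P P) hw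
    have hw2 : (w ≫ snd E E) ≫ v = (w' ≫ snd E E) ≫ v := by simpa using congrArg (· ≫ snd P P) hw
    obtain ⟨g, hg⟩ := exists_lift_kernel u v hex _ _ hw1
    obtain ⟨h, hh⟩ := exists_lift_kernel u v hex _ _ hw2
    rw [hg, hh, hD])
  have hc1 : c = 1 := by
    refine hPP c ?_ ?_
    · refine epi_of_local hv ?_
      have e : v ≫ lift (𝟙 P) (toUnit P ≫ η[P]) = lift (𝟙 E) (1 : E ⟶ E) ≫ (v ⊗ₘ v) := by
        rw [comp_lift, lift_map, Category.id_comp, Category.comp_id, comp_toUnit_assoc, hηv]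
      rw [← Category.assoc, e, Category.assoc, hc, MonObj.comp_one]
      refine kernel_injective u v hex _ _ ?_
      rw [hpt, lift_fst, lift_snd, MonObj.one_comp]
      simp only [D]
      group
    · refine epi_of_local hv ?_
      have e : v ≫ lift (toUnit P ≫ η[P]) (𝟙 P) = lift (1 : E ⟶ E) (𝟙 E) ≫ (v ⊗ₘ v) := by
        rw [comp_lift, lift_map, Category.id_comp, Category.comp_id, comp_toUnit_assoc, hηv]
      rw [← Category.assoc, e, Category.assoc, hc, MonObj.comp_one]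
      refine kernel_injective u v hex _ _ ?_
      rw [hpt, lift_fst, lift_snd, MonObj.one_comp]
      simp only [D]
      group
  have h3 : D (fst E E) (snd E E) = 1 := by
    rw [← hc₀, ← hc, hc1, MonObj.comp_one, MonObj.one_comp]
  have h4 := mul_inv_eq_iff_eq_mul.1 (mul_inv_eq_one.1 h3)
  have h5 : (fst E E * snd E E : E ⊗ E ⟶ E) = μ[E] := by rw [Hom.mul_def, lift_fst_snd, Category.id_comp]
  refine ⟨?_⟩
  rw [← h5, MonObj.comp_mul, braiding_hom_fst, braiding_hom_snd]
  exact h4.symm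

end Groth.Agent.Lib.ExtCentral
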