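import Groth.Prelude.Def_Frob
import Groth.Agent.Lib.UnivHomeo.Basic
import Groth.Agent.Lib.Perfection.Basic
import Mathlib.RingTheory.RingHom.PurelyInseparable
import Mathlib.AlgebraicGeometry.ResidueField

/-!
# Absolute and relative Frobenius are universal homeomorphisms
-/

set_option autoImplicit false
universe u

open CategoryTheory CategoryTheory.Limits AlgebraicGeometry

namespace Groth.Agent.Lib.H58FrobHomeo

variable (p : ℕ) [Fact p.Prime]

theorem isIntegralHom_frob (X : Scheme.{u}) [FrobSch.IsCharP X p] : IsIntegralHom (FrobSch.frob X p) := by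
  haveI : IsAffineHom (FrobSch.frob X p) := ⟨fun U hU => by rwa [FrobSch.frob_preimage]⟩
  refine ⟨fun U _ => fun s => ?_⟩
  let s' : Γ(X, U) := s
  refine ⟨Polynomial.X ^ p - Polynomial.C s', Polynomial.monic_X_pow_sub_C s' (Fact.out : p.Prime).ne_zero, ?_⟩
  rw [Polynomial.eval₂_sub, Polynomial.eval₂_pow, Polynomial.eval₂_X, Polynomial.eval₂_C, sub_eq_zero]
  rfl

theorem isUnivHomeo_frob (X : Scheme.{u}) [FrobSch.IsCharP X p] : FlatMor.IsUnivHomeo (FrobSch.frob X p) :=
  (UnivHomeo.Basic.iff_integral_universallyInjective_surjective _).2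
    ⟨isIntegralHom_frob p X, Perfection.Basic.universallyInjective_frob p X, Perfection.Basic.surjective_frob p X⟩

theorem exists_residueFieldMap_frob_eq_pow (X : Scheme.{u}) [FrobSch.IsCharP X p] (x : X)
    (y : X.residueField x) :
    ∃ z, ((FrobSch.frob X p).residueFieldMap x).hom z = y ^ p := by
  obtain ⟨t, rfl⟩ := X.residue_surjective x y
  obtain ⟨U, hxU, s, rfl⟩ := X.presheaf.exists_germ_eq (x := x) t
  refine ⟨X.evaluation U x hxU s, ?_⟩
  refine (Scheme.evaluation_naturality_apply (FrobSch.frob X p) (V := U) x hxU s).trans ?_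
  rw [FrobSch.frob_app]
  exact map_pow (X.evaluation U x hxU).hom s p

theorem isPurelyInseparable_of_pow_mem {F E : Type u} [Field F] [Field E] (h0 : (p : E) = 0) (φ : F →+* E)
    (h : ∀ y : E, ∃ z, φ z = y ^ p) : φ.IsPurelyInseparable := by
  letI := φ.toAlgebra
  haveI : CharP E p := (CharP.charP_iff_prime_eq_zero Fact.out).2 h0
  haveI : CharP F p := φ.charP φ.injective p
  haveI : ExpChar F p := ExpChar.prime Fact.out
  change IsPurelyInseparable F E
  rw [isPurelyInseparable_iff_pow_mem F p]
  exact fun y => ⟨1, by rw [pow_one]; exact h y⟩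

omit [Fact p.Prime] in
theorem natCast_residueField (X : Scheme.{u}) [FrobSch.IsCharP X p] (x : X) : (p : X.residueField x) = 0 := by
  have h := congrArg ((X.evaluation ⊤ x trivial).hom) (FrobSch.IsCharP.natCast_eq_zero (X := X) (p := p))
  simpa using h

theorem isPurelyInseparable_frob (X : Scheme.{u}) [FrobSch.IsCharP X p] (x : X) :
    ((FrobSch.frob X p).residueFieldMap x).hom.IsPurelyInseparable :=
  isPurelyInseparable_of_pow_mem p (natCast_residueField p X x) _ (exists_residueFieldMap_frob_eq_pow p X x)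

variable {X S : Scheme.{u}} [FrobSch.IsCharP S p] (f : X ⟶ S)

theorem isUnivHomeo_relFrob : FlatMor.IsUnivHomeo (FrobSch.relFrob f p) := by
  haveI : FrobSch.IsCharP X p := FrobSch.IsCharP.of_hom f p
  refine UnivHomeo.Basic.of_comp_right (g := pullback.fst f (FrobSch.frob S p)) ?_ ?_
  · rw [FrobSch.relFrob_fst]
    exact isUnivHomeo_frob p X
  · exact MorphismProperty.pullback_fst (P := FlatMor.IsUnivHomeo) _ _ (isUnivHomeo_frob p S)

theorem isPurelyInseparable_relFrob (x : X) :
    ((FrobSch.relFrob f p).residueFieldMap x).hom.IsPurelyInseparable := by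
  haveI : FrobSch.IsCharP X p := FrobSch.IsCharP.of_hom f p
  refine isPurelyInseparable_of_pow_mem p (natCast_residueField p X x) _ fun y => ?_
  obtain ⟨z, hz⟩ := exists_residueFieldMap_frob_eq_pow p X x y
  have key : ∀ {g : X ⟶ X} (hg : g = FrobSch.relFrob f p ≫ pullback.fst f (FrobSch.frob S p))
      (z : X.residueField (g x)), ∃ w, ((FrobSch.relFrob f p).residueFieldMap x).hom w =
        (g.residueFieldMap x).hom z := by
    intro g hg z
    subst hg
    rw [Scheme.residueFieldMap_comp]
    exact ⟨_, rfl⟩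
  obtain ⟨w, hw⟩ := key (FrobSch.relFrob_fst f p).symm z
  exact ⟨w, hw.trans hz⟩

theorem isFinite_relFrob [LocallyOfFiniteType f] : IsFinite (FrobSch.relFrob f p) := by
  haveI : LocallyOfFiniteType (FrobSch.relFrob f p ≫ pullback.snd f (FrobSch.frob S p)) := by
    rw [FrobSch.relFrob_snd]; infer_instance
  haveI : LocallyOfFiniteType (FrobSch.relFrob f p) :=
    locallyOfFiniteType_of_comp _ (pullback.snd f (FrobSch.frob S p))
  exact UnivHomeo.Basic.isFinite (isUnivHomeo_relFrob p f)

end Groth.Agent.Lib.H58FrobHomeo
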