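import Groth.Prelude.Def_W4c3irrattreebunCvg
import Mathlib.FieldTheory.AlgebraicClosure
import Mathlib.FieldTheory.IntermediateField.Algebraic

/-!
# Covering gonality and the field of constants
-/

universe u

namespace Groth.Agent.Lib.CvgConst

open W4c3irrattreebun

variable {k K : Type u} [Field k] [Field K] [Algebra k K]

theorem down {e : ℕ} (D : CovDiag.{u} (algebraicClosure k K) K e) :
    ∃ D' : CovDiag.{u} k K e, Algebra.IsSeparable K D.KC → Algebra.IsSeparable K D'.KC := by
  let a1 : Algebra k D.KB := ((algebraMap (algebraicClosure k K) D.KB).comp (algebraMap k (algebraicClosure k K))).toAlgebra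
  let a2 : Algebra k D.KC := ((algebraMap K D.KC).comp (algebraMap k K)).toAlgebra
  have : IsScalarTower k K D.KC := IsScalarTower.of_algebraMap_eq fun x => rfl
  have hK := @IsScalarTower.algebraMap_apply (algebraicClosure k K) K D.KC _ _ _ _ D.algKC D.algkC D.towerK
  have hB := @IsScalarTower.algebraMap_apply (algebraicClosure k K) D.KB D.KC _ _ _ D.algkB D.algBC D.algkC D.towerB
  have : IsScalarTower k D.KB D.KC := IsScalarTower.of_algebraMap_eq fun x =>
    (hK (algebraMap k (algebraicClosure k K) x)).symm.trans (hB (algebraMap k (algebraicClosure k K) x))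
  exact ⟨{ KC := D.KC, KB := D.KB, t := D.t, transc := D.transc, finrank_eq := D.finrank_eq }, id⟩

theorem up {e : ℕ} (D : CovDiag.{u} k K e) :
    ∃ e' ≤ e, ∃ D' : CovDiag.{u} (algebraicClosure k K) K e',
      Algebra.IsSeparable K D.KC → Algebra.IsSeparable K D'.KC := by
  let B := IntermediateField.adjoin D.KB (Set.range (algebraMap (algebraicClosure k K) D.KC))
  let a1 : Algebra (algebraicClosure k K) B :=
    ((algebraMap (algebraicClosure k K) D.KC).codRestrict B fun x =>
      IntermediateField.subset_adjoin _ _ ⟨x, rfl⟩).toAlgebra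
  have : IsScalarTower (algebraicClosure k K) B D.KC := IsScalarTower.of_algebraMap_eq fun x => rfl
  have : Algebra.IsAlgebraic D.KB B := IntermediateField.isAlgebraic_adjoin (by
    rintro _ ⟨x, rfl⟩
    have hx : IsIntegral k (x : K) := ((mem_algebraicClosure_iff).1 x.2).isIntegral
    have h1 : IsIntegral k (algebraMap (algebraicClosure k K) D.KC x) :=
      hx.map (IsScalarTower.toAlgHom k K D.KC)
    exact h1.tower_top)
  have htr : Transcendental B D.t := fun h => D.transc (IsAlgebraic.restrictScalars D.KB h)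
  let E := IntermediateField.adjoin D.KB ({D.t} : Set D.KC)
  let E' := (IntermediateField.adjoin B ({D.t} : Set D.KC)).restrictScalars D.KB
  have hle : E ≤ E' := IntermediateField.adjoin_simple_le_iff.2 (IntermediateField.mem_adjoin_simple_self B D.t)
  let _ : Algebra E E' := (IntermediateField.inclusion hle).toRingHom.toAlgebra
  have : IsScalarTower E E' D.KC := IsScalarTower.of_algebraMap_eq fun x => rfl
  have : Module.Finite E' D.KC := Module.Finite.of_restrictScalars_finite E E' D.KC
  have : Module.Finite (IntermediateField.adjoin B ({D.t} : Set D.KC)) D.KC := this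
  refine ⟨Module.finrank (IntermediateField.adjoin B ({D.t} : Set D.KC)) D.KC,
    (IntermediateField.finrank_le_of_le_left hle).trans D.finrank_eq.le,
    { KC := D.KC, KB := B, t := D.t, transc := htr, finrank_eq := rfl }, id⟩

theorem eq_of (P : ∀ {k : Type u} [Field k] [Algebra k K] {e : ℕ}, CovDiag.{u} k K e → Prop)
    (hd : ∀ {e : ℕ} (D : CovDiag.{u} (algebraicClosure k K) K e), P D → ∃ D' : CovDiag.{u} k K e, P D')
    (hu : ∀ {e : ℕ} (D : CovDiag.{u} k K e), P D → ∃ e' ≤ e, ∃ D' : CovDiag.{u} (algebraicClosure k K) K e', P D') :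
    sInf {e : ℕ | ∃ D : CovDiag.{u} k K e, P D} =
      sInf {e : ℕ | ∃ D : CovDiag.{u} (algebraicClosure k K) K e, P D} := by
  set s := {e : ℕ | ∃ D : CovDiag.{u} k K e, P D}
  set s' := {e : ℕ | ∃ D : CovDiag.{u} (algebraicClosure k K) K e, P D}
  have hsub : s' ⊆ s := fun e ⟨D, hD⟩ => hd D hD
  rcases s.eq_empty_or_nonempty with h | h
  · rw [h, show s' = ∅ from Set.subset_eq_empty hsub h]
  obtain ⟨D, hD⟩ := Nat.sInf_mem h
  obtain ⟨e', he', D', hD'⟩ := hu D hD
  refine le_antisymm (Nat.sInf_le (hsub (Nat.sInf_mem ⟨e', D', hD'⟩))) ((Nat.sInf_le ?_).trans he')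
  exact ⟨D', hD'⟩

end Groth.Agent.Lib.CvgConst
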