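import Groth.Agent.Lib.DPGamma
import Mathlib.RingTheory.Flat.Basic
import Mathlib.RingTheory.PowerSeries.Basic
import Mathlib.LinearAlgebra.TensorProduct.Tower

/-!
# Extending divided powers

Divided powers extend uniquely to a sum of ideals when they agree on the intersection, and to
`I B` along a flat algebra.  Consequences: compatible divided powers on divided power polynomial
algebras, and divided power envelopes.
-/

universe u v w z

open Finset
open scoped TensorProduct

namespace Groth.Agent.Lib.DPExtend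

open Groth.Agent.Lib.DPGamma

section Sup

variable {A : Type u} [CommRing A] {I J : Ideal A} (γ : DividedPowers I) (δ : DividedPowers J)

theorem existsUnique_dividedPowers_sup (h : ∀ (n : ℕ) (x : A), x ∈ I ⊓ J → γ.dpow n x = δ.dpow n x) :
    ∃! ε : DividedPowers (I ⊔ J),
      (∀ (n : ℕ) (x : A), x ∈ I → ε.dpow n x = γ.dpow n x) ∧
        (∀ (n : ℕ) (x : A), x ∈ J → ε.dpow n x = δ.dpow n x) := by
  classical
  let E : A → A → PowerSeries A := fun a b => γ.exp a * δ.exp b
  have wd : ∀ a a' b b', a ∈ I → a' ∈ I → b ∈ J → b' ∈ J → a + b = a' + b' → E a b = E a' b' := by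
    intro a a' b b' ha ha' hb hb' heq
    have hc : a - a' ∈ I ⊓ J := ⟨I.sub_mem ha ha', by
      rw [show a - a' = b' - b from by linear_combination heq]; exact J.sub_mem hb' hb⟩
    have hexp : γ.exp (a - a') = δ.exp (a - a') := PowerSeries.ext fun n => by
      simp only [DividedPowers.exp, PowerSeries.coeff_mk]
      exact h n _ hc
    simp only [E]
    rw [← sub_add_cancel a a', γ.exp_add hc.1 ha', hexp, show b' = (a - a') + b by linear_combination -heq,
      δ.exp_add hc.2 hb]
    ring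
  let d : ℕ → A → A := fun n z => if hz : z ∈ I ⊔ J then
    PowerSeries.coeff n (E (Submodule.mem_sup.1 hz).choose (Submodule.mem_sup.1 hz).choose_spec.2.choose) else 0
  have hd : ∀ n a b, a ∈ I → b ∈ J → d n (a + b) = PowerSeries.coeff n (E a b) := by
    intro n a b ha hb
    have hz : a + b ∈ I ⊔ J := Submodule.add_mem_sup ha hb
    simp only [d, dif_pos hz]
    have h1 := (Submodule.mem_sup.1 hz).choose_spec
    rw [wd _ a _ b h1.1 ha h1.2.choose_spec.1 hb h1.2.choose_spec.2]
  have hrep : ∀ z ∈ I ⊔ J, ∃ a ∈ I, ∃ b ∈ J, a + b = z := fun z hz => Submodule.mem_sup.1 hz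
  have hI : ∀ n x, x ∈ I → d n x = γ.dpow n x := fun n x hx => by
    rw [← add_zero x, hd n x 0 hx J.zero_mem, add_zero, PowerSeries.coeff_mul, Finset.sum_eq_single (n, 0)]
    · simp [DividedPowers.exp, δ.dpow_zero J.zero_mem]
    · rintro ⟨i, j⟩ hij hne
      rw [mem_antidiagonal] at hij
      have : j ≠ 0 := fun hj => hne (by subst hj; simp only [add_zero] at hij; rw [hij])
      simp [DividedPowers.exp, δ.dpow_eval_zero this]
    · simp
  have hJ : ∀ n x, x ∈ J → d n x = δ.dpow n x := fun n x hx => by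
    rw [← zero_add x, hd n 0 x I.zero_mem hx, zero_add, PowerSeries.coeff_mul, Finset.sum_eq_single (0, n)]
    · simp [DividedPowers.exp, γ.dpow_zero I.zero_mem]
    · rintro ⟨i, j⟩ hij hne
      rw [mem_antidiagonal] at hij
      have : i ≠ 0 := fun hi => hne (by subst hi; simp only [zero_add] at hij; rw [hij])
      simp [DividedPowers.exp, γ.dpow_eval_zero this]
    · simp
  obtain ⟨ε, hε⟩ := exists_dividedPowers_of_generators (I ⊔ J) (S := (I : Set A) ∪ J)
    (by rw [Ideal.span_union, Ideal.span_eq, Ideal.span_eq]) d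
    (fun n x hx => dif_neg hx)
    (fun x hx => by
      obtain ⟨a, ha, b, hb, rfl⟩ := hrep x hx
      simp [hd _ a b ha hb, E, DividedPowers.exp, γ.dpow_zero ha, δ.dpow_zero hb])
    (fun x hx => by
      obtain ⟨a, ha, b, hb, rfl⟩ := hrep x hx
      rw [hd _ a b ha hb, PowerSeries.coeff_mul]
      simp [Finset.Nat.antidiagonal_succ, E, DividedPowers.exp, γ.dpow_zero ha, δ.dpow_zero hb, γ.dpow_one ha,
        δ.dpow_one hb, add_comm])
    (fun n x hn hx => by
      obtain ⟨a, ha, b, hb, rfl⟩ := hrep x hx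
      rw [hd _ a b ha hb, PowerSeries.coeff_mul]
      refine sum_mem fun k hk => ?_
      rw [mem_antidiagonal] at hk
      simp only [DividedPowers.exp, PowerSeries.coeff_mk]
      rcases eq_or_ne k.1 0 with h0 | h0
      · exact Ideal.mul_mem_left _ _ (Submodule.mem_sup_right (δ.dpow_mem (by omega) hb))
      · exact Ideal.mul_mem_right _ _ (Submodule.mem_sup_left (γ.dpow_mem h0 ha)))
    (fun n x y hx hy => by
      obtain ⟨a, ha, b, hb, rfl⟩ := hrep x hx
      obtain ⟨a', ha', b', hb', rfl⟩ := hrep y hy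
      rw [add_add_add_comm, hd _ _ _ (I.add_mem ha ha') (J.add_mem hb hb')]
      simp only [E]
      rw [γ.exp_add ha ha', δ.exp_add hb hb', mul_mul_mul_comm, PowerSeries.coeff_mul]
      exact sum_congr rfl fun k _ => by rw [hd _ a b ha hb, hd _ a' b' ha' hb'])
    (fun n c x hx => by
      obtain ⟨a, ha, b, hb, rfl⟩ := hrep x hx
      rw [mul_add, hd _ _ _ (I.mul_mem_left c ha) (J.mul_mem_left c hb), hd _ a b ha hb]
      have h1 : γ.exp (c * a) = PowerSeries.rescale c (γ.exp a) := PowerSeries.ext fun k => by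
        simp [DividedPowers.exp, γ.dpow_mul ha]
      have h2 : δ.exp (c * b) = PowerSeries.rescale c (δ.exp b) := PowerSeries.ext fun k => by
        simp [DividedPowers.exp, δ.dpow_mul hb]
      simp only [E]
      rw [h1, h2, ← map_mul, PowerSeries.coeff_rescale])
    (fun m n x hx => by
      rcases hx with hx | hx
      · simp only [hI _ x hx, γ.mul_dpow hx]
      · simp only [hJ _ x hx, δ.mul_dpow hx])
    (fun m n x hn hx => by
      rcases hx with hx | hx
      · rw [hI n x hx, hI _ _ (γ.dpow_mem hn hx), hI _ x hx, γ.dpow_comp hn hx]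
      · rw [hJ n x hx, hJ _ _ (δ.dpow_mem hn hx), hJ _ x hx, δ.dpow_comp hn hx])
  refine ⟨ε, ⟨fun n x hx => by rw [hε, hI n x hx], fun n x hx => by rw [hε, hJ n x hx]⟩, ?_⟩
  rintro ε' ⟨h1, h2⟩
  refine DividedPowers.dpow_eq_from_gens ε ε' (S := (I : Set A) ∪ J)
    (by rw [Ideal.span_union, Ideal.span_eq, Ideal.span_eq]) ?_
  rintro n x (hx | hx)
  · rw [h1 n x hx, hε, hI n x hx]
  · rw [h2 n x hx, hε, hJ n x hx]

end Sup

section Flat

variable {A : Type u} {B : Type v} [CommRing A] [CommRing B] [Algebra A B] {I : Ideal A} (γ : DividedPowers I)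

theorem extension_unique (δ δ' : DividedPowers (I.map (algebraMap A B)))
    (h : γ.IsDPMorphism δ (algebraMap A B)) (h' : γ.IsDPMorphism δ' (algebraMap A B)) : δ = δ' :=
  DividedPowers.dpow_eq_from_gens δ' δ rfl (by rintro n _ ⟨a, ha, rfl⟩; rw [h.dpow_comp a ha, h'.dpow_comp a ha])

/-- `x ⊗ b ↦ exp(b x)`. -/
noncomputable def expB (x : I) (b : B) : PowerSeries B :=
  PowerSeries.rescale b (PowerSeries.map (algebraMap A B) (γ.exp x))

theorem coeff_expB (x : I) (b : B) (n : ℕ) :
    PowerSeries.coeff n (expB γ x b) = b ^ n * algebraMap A B (γ.dpow n x) := by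
  simp [expB, DividedPowers.exp]

theorem exists_extension_of_flat [Module.Flat A B] :
    ∃ δ : DividedPowers (I.map (algebraMap A B)), γ.IsDPMorphism δ (algebraMap A B) := by
  classical
  let φ : I ⊗[A] B →ₗ[A] B := (TensorProduct.lid A B).toLinearMap ∘ₗ I.subtype.rTensor B
  have hφ : Function.Injective φ := (TensorProduct.lid A B).injective.comp
    (Module.Flat.rTensor_preserves_injective_linearMap I.subtype I.subtype_injective)
  have hφt : ∀ (x : I) (b : B), φ (x ⊗ₜ b) = algebraMap A B x * b := fun x b => by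
    simp [φ, Algebra.smul_def]
  have hx0 : ∀ x : I, expB γ x (0 : B) = 1 := fun x => PowerSeries.ext fun n => by
    rw [coeff_expB, PowerSeries.coeff_one]
    rcases eq_or_ne n 0 with rfl | hn
    · simp [γ.dpow_zero x.2]
    · simp [hn]
  have h0b : ∀ b : B, expB γ 0 b = 1 := fun b => PowerSeries.ext fun n => by
    rw [coeff_expB, PowerSeries.coeff_one]
    rcases eq_or_ne n 0 with rfl | hn
    · simp [γ.dpow_zero I.zero_mem]
    · simp [hn, γ.dpow_eval_zero hn]
  let f : I →+ B →+ Additive (PowerSeries B) :=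
    { toFun := fun x =>
      { toFun := fun b => Additive.ofMul (expB γ x b)
        map_zero' := congrArg Additive.ofMul (hx0 x)
        map_add' := fun b b' => by
          show Additive.ofMul _ = Additive.ofMul (_ * _)
          congr 1
          ext n
          rw [coeff_expB, PowerSeries.coeff_mul, (Commute.all b b').add_pow', sum_mul]
          refine sum_congr rfl fun k hk => ?_
          rw [mem_antidiagonal] at hk
          subst hk
          rw [toMul_ofMul, toMul_ofMul, coeff_expB, coeff_expB, mul_mul_mul_comm, ← map_mul, γ.mul_dpow x.2, map_mul, map_natCast, nsmul_eq_mul]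
          ring }
      map_zero' := AddMonoidHom.ext fun b => congrArg Additive.ofMul (h0b b)
      map_add' := fun x y => AddMonoidHom.ext fun b => by
        show Additive.ofMul _ = Additive.ofMul (_ * _)
        congr 1
        simp only [expB, Submodule.coe_add, γ.exp_add x.2 y.2, map_mul]
        rfl }
  let E : I ⊗[A] B →+ Additive (PowerSeries B) := TensorProduct.liftAddHom f fun a x b => by
    show Additive.ofMul _ = Additive.ofMul _
    congr 1
    ext n
    rw [coeff_expB, coeff_expB, Algebra.smul_def, mul_pow, Submodule.coe_smul, smul_eq_mul, γ.dpow_mul x.2,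
      map_mul, map_pow]
    ring
  let Et : I ⊗[A] B → PowerSeries B := fun t => Additive.toMul (E t)
  have hEadd : ∀ t t', Et (t + t') = Et t * Et t' := fun t t' => congrArg Additive.toMul (map_add E t t')
  have hEt : ∀ (x : I) (b : B), Et (x ⊗ₜ b) = expB γ x b := fun x b => rfl
  have hE0 : Et 0 = 1 := congrArg Additive.toMul (map_zero E)
  have hEbasic : ∀ t, PowerSeries.coeff 0 (Et t) = 1 ∧ PowerSeries.coeff 1 (Et t) = φ t ∧
      ∀ n, n ≠ 0 → PowerSeries.coeff n (Et t) ∈ I.map (algebraMap A B) := by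
    intro t
    induction t using TensorProduct.induction_on with
    | zero =>
      rw [hE0]
      refine ⟨by simp, by simp [PowerSeries.coeff_one], fun n hn => by simp [PowerSeries.coeff_one, hn]⟩
    | tmul x b =>
      refine ⟨?_, ?_, fun n hn => ?_⟩
      · rw [hEt, coeff_expB, γ.dpow_zero x.2, map_one, pow_zero, mul_one]
      · rw [hEt, coeff_expB, γ.dpow_one x.2, pow_one, hφt, mul_comm]
      · rw [hEt, coeff_expB]
        exact Ideal.mul_mem_left _ _ (Ideal.mem_map_of_mem _ (γ.dpow_mem hn x.2))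
    | add t t' h h' =>
      rw [hEadd]
      refine ⟨?_, ?_, fun n hn => ?_⟩
      · rw [PowerSeries.coeff_mul, Finset.Nat.antidiagonal_zero, sum_singleton, h.1, h'.1, one_mul]
      · rw [PowerSeries.coeff_mul, map_add]
        simp [Finset.Nat.antidiagonal_succ, h.1, h'.1, h.2.1, h'.2.1, -PowerSeries.coeff_zero_eq_constantCoeff,
          add_comm]
      · rw [PowerSeries.coeff_mul]
        refine sum_mem fun k hk => ?_
        rw [mem_antidiagonal] at hk
        rcases eq_or_ne k.1 0 with h0 | h0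
        · exact Ideal.mul_mem_left _ _ (h'.2.2 _ (by omega))
        · exact Ideal.mul_mem_right _ _ (h.2.2 _ h0)
  let mulc : B → (I ⊗[A] B →ₗ[A] I ⊗[A] B) := fun c => (LinearMap.mulLeft A c).lTensor I
  have hmulc : ∀ c t, φ (mulc c t) = c * φ t ∧ Et (mulc c t) = PowerSeries.rescale c (Et t) := by
    intro c t
    induction t using TensorProduct.induction_on with
    | zero => simp [hE0]
    | tmul x b =>
      refine ⟨by simp only [mulc, LinearMap.lTensor_tmul, LinearMap.mulLeft_apply, hφt]; ring, ?_⟩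
      simp only [mulc, LinearMap.lTensor_tmul, LinearMap.mulLeft_apply, hEt]
      ext n
      rw [PowerSeries.coeff_rescale, coeff_expB, coeff_expB, mul_pow, mul_assoc]
    | add t t' h h' =>
      refine ⟨by rw [map_add, map_add, map_add, h.1, h'.1, mul_add], ?_⟩
      rw [map_add, hEadd, hEadd, map_mul, h.2, h'.2]
  have hrange : ∀ y ∈ I.map (algebraMap A B), ∃ t, φ t = y := by
    intro y hy
    induction hy using Submodule.span_induction with
    | mem y hy => obtain ⟨a, ha, rfl⟩ := hy; exact ⟨⟨a, ha⟩ ⊗ₜ 1, by rw [hφt, mul_one]⟩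
    | zero => exact ⟨0, map_zero _⟩
    | add x y _ _ hx hy =>
      obtain ⟨t, rfl⟩ := hx
      obtain ⟨t', rfl⟩ := hy
      exact ⟨t + t', map_add _ _ _⟩
    | smul c x _ hx =>
      obtain ⟨t, rfl⟩ := hx
      exact ⟨mulc c t, (hmulc c t).1⟩
  have hmemφ : ∀ t, φ t ∈ I.map (algebraMap A B) := fun t => (hEbasic t).2.1 ▸ (hEbasic t).2.2 1 one_ne_zero
  let d : ℕ → B → B := fun n y =>
    if hy : y ∈ I.map (algebraMap A B) then PowerSeries.coeff n (Et (hrange y hy).choose) else 0
  have hd : ∀ n t, d n (φ t) = PowerSeries.coeff n (Et t) := fun n t => by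
    simp only [d, dif_pos (hmemφ t), hφ (hrange _ (hmemφ t)).choose_spec]
  have hgen : ∀ n a, a ∈ I → d n (algebraMap A B a) = algebraMap A B (γ.dpow n a) := fun n a ha => by
    rw [show algebraMap A B a = φ (⟨a, ha⟩ ⊗ₜ 1) by rw [hφt, mul_one], hd, hEt, coeff_expB, one_pow, one_mul]
  obtain ⟨δ, hδ⟩ := exists_dividedPowers_of_generators (I.map (algebraMap A B)) (S := algebraMap A B '' I) rfl d
    (fun n x hx => dif_neg hx)
    (fun x hx => by obtain ⟨t, rfl⟩ := hrange x hx; rw [hd]; exact (hEbasic t).1)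
    (fun x hx => by obtain ⟨t, rfl⟩ := hrange x hx; rw [hd]; exact (hEbasic t).2.1)
    (fun n x hn hx => by obtain ⟨t, rfl⟩ := hrange x hx; rw [hd]; exact (hEbasic t).2.2 n hn)
    (fun n x y hx hy => by
      obtain ⟨t, rfl⟩ := hrange x hx
      obtain ⟨t', rfl⟩ := hrange y hy
      rw [← map_add, hd, hEadd, PowerSeries.coeff_mul]
      exact sum_congr rfl fun k _ => by rw [hd, hd])
    (fun n c x hx => by
      obtain ⟨t, rfl⟩ := hrange x hx
      rw [← (hmulc c t).1, hd, hd, (hmulc c t).2, PowerSeries.coeff_rescale])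
    (by
      rintro m n _ ⟨a, ha, rfl⟩
      rw [hgen _ a ha, hgen _ a ha, hgen _ a ha, ← map_mul, γ.mul_dpow ha, map_mul, map_natCast])
    (by
      rintro m n _ hn ⟨a, ha, rfl⟩
      rw [hgen _ a ha, hgen _ _ (γ.dpow_mem hn ha), hgen _ a ha, γ.dpow_comp hn ha, map_mul, map_natCast])
  exact ⟨δ, le_rfl, fun {n} a ha => by rw [hδ, hgen n a ha]⟩

end Flat

section Compatible

variable {R : Type u} [CommRing R] {I : Ideal R} (γ : DividedPowers I) {P : Type v} [CommRing P] [Algebra R P]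
  {Λ : Type w} (G : Pres R P Λ)

theorem existsUnique_compatible (δplus : DividedPowers G.aug) :
    ∃! δ : DividedPowers (I.map (algebraMap R P) ⊔ G.aug),
      γ.IsDPMorphism δ (algebraMap R P) ∧ ∀ (n : ℕ) (y : P), y ∈ G.aug → δ.dpow n y = δplus.dpow n y := by
  have : Module.Free R P := Module.Free.of_basis G.b
  obtain ⟨δI, hδI⟩ := exists_extension_of_flat (B := P) γ
  have hagree : ∀ (n : ℕ) (y : P), y ∈ I.map (algebraMap R P) ⊓ G.aug → δI.dpow n y = δplus.dpow n y := by
    rintro n y ⟨hy1, hy2⟩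
    refine DividedPowers.coincide_on_smul δI δplus ?_
    have hy1' : y ∈ (I.map (algebraMap R P)).restrictScalars R := hy1
    rw [← Ideal.smul_top_eq_map] at hy1'
    have hc : ∀ e, G.b.repr y e ∈ I := by
      intro e
      refine Submodule.smul_induction_on hy1' (fun r hr m _ => ?_) (fun a b ha hb => ?_)
      · rw [map_smul, Finsupp.smul_apply]; exact I.mul_mem_right _ hr
      · rw [map_add, Finsupp.add_apply]; exact I.add_mem ha hb
    rw [← G.b.linearCombination_repr y, Finsupp.linearCombination_apply]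
    refine sum_mem fun e he => ?_
    have h0 : e ≠ 0 := fun h => Finsupp.mem_support_iff.1 he (h ▸ G.repr_zero_eq_zero hy2)
    simp only [Algebra.smul_def]
    exact Ideal.mul_mem_mul (Ideal.mem_map_of_mem _ (hc e)) (G.b_mem_aug h0)
  obtain ⟨ε, ⟨hε1, hε2⟩, huniq⟩ := existsUnique_dividedPowers_sup δI δplus hagree
  refine ⟨ε, ⟨⟨le_sup_left, fun {n} a ha => by
    rw [hε1 n _ (Ideal.mem_map_of_mem _ ha), hδI.dpow_comp a ha]⟩, hε2⟩, ?_⟩
  rintro ε' ⟨h1, h2⟩
  refine DividedPowers.dpow_eq_from_gens ε ε' (S := algebraMap R P '' I ∪ G.aug)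
    (by rw [Ideal.span_union, Ideal.span_eq]; rfl) ?_
  rintro n x (⟨a, ha, rfl⟩ | hx)
  · rw [h1.dpow_comp a ha, hε1 n _ (Ideal.mem_map_of_mem _ ha), hδI.dpow_comp a ha]
  · rw [h2 n x hx, hε2 n x hx]

include γ in
theorem exists_universal (t : Type) :
    ∃ (D : Type u) (_ : CommRing D) (_ : Algebra R D) (J : Ideal D) (δ : DividedPowers J) (x : t → D),
      (∀ i, x i ∈ J) ∧ γ.IsDPMorphism δ (algebraMap R D) ∧
      ∀ (C : Type u) [CommRing C] [Algebra R C] (K : Ideal C) (ε : DividedPowers K),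
        γ.IsDPMorphism ε (algebraMap R C) → ∀ k : t → C, (∀ i, k i ∈ K) →
          ∃! φ : D →ₐ[R] C, (∀ i, φ (x i) = k i) ∧ δ.IsDPMorphism ε φ.toRingHom := by
  obtain ⟨D, _, _, ⟨G⟩⟩ := Pres.exists_pres R t
  obtain ⟨δ, ⟨hδ, hδ'⟩, -⟩ := existsUnique_compatible γ G G.dp
  refine ⟨D, inferInstance, inferInstance, _, δ, fun i => G.x i 1,
    fun i => Submodule.mem_sup_right (G.x_mem_aug i le_rfl), hδ, fun C _ _ K ε hε k hk => ?_⟩
  obtain ⟨φ, ⟨hφ, hφx⟩, huniq⟩ := G.existsUnique_algHom ε k hk G.dp G.dp_x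
  refine ⟨φ, ⟨hφx, DividedPowers.IsDPMorphism.on_span δ ε (S := algebraMap R D '' I ∪ G.aug)
    (by rw [Ideal.span_union, Ideal.span_eq]; rfl) ?_ ?_⟩, ?_⟩
  · rintro _ (⟨a, ha, rfl⟩ | hx)
    · show φ (algebraMap R D a) ∈ K
      rw [φ.commutes]
      exact hε.ideal_comp (Ideal.mem_map_of_mem _ ha)
    · exact hφ.ideal_comp (Ideal.mem_map_of_mem _ hx)
  · rintro n _ (⟨a, ha, rfl⟩ | hx)
    · rw [hδ.dpow_comp a ha]
      show φ (algebraMap R D _) = ε.dpow n (φ (algebraMap R D a))
      rw [φ.commutes, φ.commutes, hε.dpow_comp a ha]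
    · rw [hδ' n _ hx, hφ.map_dpow hx]
  · rintro ψ ⟨hψx, hψ⟩
    refine huniq ψ ⟨⟨(Ideal.map_mono le_sup_right).trans hψ.ideal_comp, fun {n} a ha => ?_⟩, hψx⟩
    rw [← hδ' n a ha]
    exact hψ.dpow_comp a (Submodule.mem_sup_right ha)

end Compatible

section Envelope

variable {A B : Type u} [CommRing A] [CommRing B] [Algebra A B] {I : Ideal A}

theorem exists_envelope (γ : DividedPowers I) (J : Ideal B) (hIJ : I.map (algebraMap A B) ≤ J) :
    ∃ (D : Type u) (_ : CommRing D) (_ : Algebra B D) (JD : Ideal D) (γD : DividedPowers JD),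
      J.map (algebraMap B D) ≤ JD ∧
      γ.IsDPMorphism γD ((algebraMap B D).comp (algebraMap A B)) ∧
      ∀ (C : Type u) [CommRing C] [Algebra A C] (K : Ideal C) (δ : DividedPowers K),
        γ.IsDPMorphism δ (algebraMap A C) →
        ∀ ψ : B →ₐ[A] C, J.map ψ ≤ K →
          ∃! χ : D →+* C, χ.comp (algebraMap B D) = ψ ∧ γD.IsDPMorphism δ χ := by
  obtain ⟨P, _, _, ⟨G⟩⟩ := Pres.exists_pres B J
  let ιJ : ∀ a ∈ I, J := fun a ha => ⟨algebraMap A B a, hIJ (Ideal.mem_map_of_mem _ ha)⟩
  let T : Set P := {z | ∃ j : J, z = G.x j 1 - algebraMap B P j} ∪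
    {z | ∃ (a : A) (ha : a ∈ I) (n : ℕ), 1 ≤ n ∧ z = G.x (ιJ a ha) n - algebraMap B P (algebraMap A B (γ.dpow n a))}
  let Ks : Set (Ideal P) := {K | T ⊆ K ∧ G.dp.IsSubDPIdeal (K ⊓ G.aug)}
  let K₀ : Ideal P := sInf Ks
  have hT : T ⊆ K₀ := fun z hz => Submodule.mem_sInf.2 fun K hK => hK.1 hz
  have hsub : G.dp.IsSubDPIdeal (K₀ ⊓ G.aug) :=
    ⟨inf_le_right, fun n hn a ha => ⟨Submodule.mem_sInf.2 fun K hK =>
      (hK.2.dpow_mem n hn (show a ∈ K ⊓ G.aug from ⟨Submodule.mem_sInf.1 ha.1 K hK, ha.2⟩)).1,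
      G.dp.dpow_mem hn ha.2⟩⟩
  let γD := DividedPowers.Quotient.dividedPowers G.dp hsub
  let mk := Ideal.Quotient.mk K₀
  have hj : ∀ j : J, mk (G.x j 1) = mk (algebraMap B P j) := fun j =>
    Ideal.Quotient.eq.2 (hT (Or.inl ⟨j, rfl⟩))
  refine ⟨P ⧸ K₀, inferInstance, inferInstance, _, γD, ?_, ⟨?_, ?_⟩, ?_⟩
  · rw [Ideal.map_le_iff_le_comap]
    intro j hj'
    show mk (algebraMap B P (⟨j, hj'⟩ : J)) ∈ G.aug.map mk
    rw [← hj]
    exact Ideal.mem_map_of_mem _ (G.x_mem_aug _ le_rfl)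
  · rw [Ideal.map_le_iff_le_comap]
    intro a ha
    show mk (algebraMap B P (ιJ a ha : B)) ∈ G.aug.map mk
    rw [← hj]
    exact Ideal.mem_map_of_mem _ (G.x_mem_aug _ le_rfl)
  · intro n a ha
    show γD.dpow n (mk (algebraMap B P (ιJ a ha : B))) = mk (algebraMap B P (algebraMap A B (γ.dpow n a)))
    rw [← hj, DividedPowers.Quotient.dpow_apply G.dp hsub (G.x_mem_aug _ le_rfl), G.dp_x]
    rcases Nat.eq_zero_or_pos n with rfl | hn
    · simp only [G.zero, γ.dpow_zero ha, map_one]
    · exact Ideal.Quotient.eq.2 (hT (Or.inr ⟨a, ha, n, hn, rfl⟩))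
  · intro C _ _ K δ hδ ψ hψ
    let : Algebra B C := ψ.toRingHom.toAlgebra
    have hs : ∀ j : J, ψ j ∈ K := fun j => hψ (Ideal.mem_map_of_mem _ j.2)
    let φ : P →ₐ[B] C := G.dpLift δ (fun j => ψ j) hs
    have hφ : G.dp.IsDPMorphism δ φ.toRingHom := G.dpLift_isDPMorphism δ _ hs G.dp G.dp_x
    have hφ1 : ∀ (j : J) n, φ (G.x j n) = δ.dpow n (ψ j) := G.dpLift_x δ _ hs
    have hφB : ∀ b, φ (algebraMap B P b) = ψ b := φ.commutes
    have hK : K₀ ≤ RingHom.ker φ.toRingHom := sInf_le ⟨by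
      rintro z (⟨j, rfl⟩ | ⟨a, ha, n, -, rfl⟩)
      · show φ _ = 0
        rw [map_sub, hφ1, δ.dpow_one (hs j), hφB, sub_self]
      · show φ _ = 0
        rw [map_sub, hφ1, hφB]
        show δ.dpow n (ψ (algebraMap A B a)) - ψ (algebraMap A B (γ.dpow n a)) = 0
        rw [ψ.commutes, ψ.commutes, hδ.dpow_comp a ha, sub_self],
      DividedPowers.isSubDPIdeal_ker G.dp δ hφ⟩
    let χ : P ⧸ K₀ →+* C := Ideal.Quotient.lift K₀ φ.toRingHom hK
    have hχ : ∀ y, χ (mk y) = φ y := fun y => rfl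
    refine ⟨χ, ⟨RingHom.ext fun b => (hχ _).trans (hφB b), ?_⟩, ?_⟩
    · refine DividedPowers.IsDPMorphism.of_comp G.dp γD δ mk χ rfl (DividedPowers.Quotient.isDPMorphism G.dp hsub) ?_
      exact hφ
    · rintro χ' ⟨h1, h2⟩
      refine Ideal.Quotient.ringHom_ext ?_
      let φ' : P →ₐ[B] C := { χ'.comp mk with commutes' := fun b => RingHom.congr_fun h1 b }
      have : φ' = φ := G.algHom_ext fun j n => by
        show χ' (mk (G.x j n)) = _
        rw [hφ1, ← G.dp_x j n, ← DividedPowers.Quotient.dpow_apply G.dp hsub (G.x_mem_aug _ le_rfl),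
          h2.map_dpow (Ideal.mem_map_of_mem _ (G.x_mem_aug _ le_rfl))]
        congr 1
        show χ' (mk _) = _
        rw [hj]
        exact RingHom.congr_fun h1 j
      exact congrArg AlgHom.toRingHom this

end Envelope

end Groth.Agent.Lib.DPExtend
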