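import Mathlib.RingTheory.DividedPowers.SubDPIdeal
import Mathlib.RingTheory.DividedPowers.Padic
import Mathlib.RingTheory.DividedPowers.RatAlgebra
import Mathlib.RingTheory.MvPolynomial.Basic
import Mathlib.Algebra.MvPolynomial.Equiv
import Mathlib.RingTheory.TensorProduct.Free
import Mathlib.RingTheory.TensorProduct.Maps
import Mathlib.Algebra.Algebra.Subalgebra.Basic
import Mathlib.Data.Nat.Choose.Cast

/-!
# Divided power polynomial algebras

A presentation `Pres R P Λ` says that the `R`-algebra `P` has elements `X_l^[n]` with the product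
rule and with the monomials as an `R`-basis.  We construct a model, the canonical divided power
structure on the augmentation ideal, prove its universal property, and deduce that the axioms of a
divided power structure may be checked on generators.
-/

universe u v w z

open Finset
open scoped Nat TensorProduct

namespace Groth.Agent.Lib.DPGamma

variable {Λ : Type w}

/-- Structure constant of a product of two divided power monomials. -/
noncomputable def coef (e e' : Λ →₀ ℕ) : ℕ :=
  open scoped Classical in ∏ l ∈ e.support ∪ e'.support, (e l + e' l).choose (e l)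

theorem prod_mul_prod {S : Type*} [CommRing S] (f : Λ → ℕ → S) (h0 : ∀ l, f l 0 = 1)
    (hmul : ∀ l n m, f l n * f l m = ((n + m).choose n : S) * f l (n + m)) (e e' : Λ →₀ ℕ) :
    e.prod f * e'.prod f = (coef e e' : S) * (e + e').prod f := by
  classical
  rw [Finsupp.prod_of_support_subset e (s := e.support ∪ e'.support) subset_union_left f (fun l _ => h0 l),
    Finsupp.prod_of_support_subset e' (s := e.support ∪ e'.support) subset_union_right f (fun l _ => h0 l),
    Finsupp.prod_of_support_subset (e + e') (s := e.support ∪ e'.support) Finsupp.support_add f (fun l _ => h0 l),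
    coef, Nat.cast_prod, ← prod_mul_distrib, ← prod_mul_distrib]
  exact prod_congr rfl fun l _ => hmul l _ _

/-- A presentation of `P` as the divided power polynomial algebra over `R` in variables `Λ`. -/
structure Pres (R : Type u) (P : Type v) [CommRing R] [CommRing P] [Algebra R P] (Λ : Type w) where
  /-- The divided powers of the variables. -/
  x : Λ → ℕ → P
  zero : ∀ l, x l 0 = 1
  mul : ∀ l n m, x l n * x l m = ((n + m).choose n : P) * x l (n + m)
  /-- The monomial basis. -/
  b : Module.Basis (Λ →₀ ℕ) R P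
  basis_eq : ∀ e : Λ →₀ ℕ, b e = e.prod x

namespace Pres

variable {R : Type u} {P : Type v} [CommRing R] [CommRing P] [Algebra R P] (G : Pres R P Λ)

theorem x_eq (l : Λ) (n : ℕ) : G.x l n = G.b (Finsupp.single l n) := by
  rw [G.basis_eq, Finsupp.prod_single_index (G.zero l)]

theorem b_mul (e e' : Λ →₀ ℕ) : G.b e * G.b e' = coef e e' • G.b (e + e') := by
  rw [G.basis_eq, G.basis_eq, G.basis_eq, nsmul_eq_mul, prod_mul_prod G.x G.zero G.mul]

theorem b_zero : G.b 0 = 1 := by rw [G.basis_eq, Finsupp.prod_zero_index]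

theorem factorial_mul (l : Λ) (n : ℕ) : (n ! : P) * G.x l n = G.x l 1 ^ n := by
  induction n with
  | zero => simp [G.zero]
  | succ n ih =>
    rw [pow_succ, ← ih, mul_assoc, G.mul, Nat.choose_succ_self_right, Nat.factorial_succ]
    push_cast
    ring

section lift

variable {S : Type z} [CommRing S] [Algebra R S] (f : Λ → ℕ → S) (h0 : ∀ l, f l 0 = 1)
  (hmul : ∀ l n m, f l n * f l m = ((n + m).choose n : S) * f l (n + m))

/-- The algebra map sending `X_l^[n]` to `f l n`. -/
noncomputable def lift : P →ₐ[R] S :=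
  AlgHom.ofLinearMap (G.b.constr R fun e => e.prod f)
    (by rw [← G.b_zero, Module.Basis.constr_basis, Finsupp.prod_zero_index])
    ((LinearMap.map_mul_iff _).2 (G.b.ext fun e => G.b.ext fun e' => by
      simp only [LinearMap.compr₂_apply, LinearMap.compl₂_apply, LinearMap.comp_apply, LinearMap.mul_apply',
        G.b_mul, map_nsmul, Module.Basis.constr_basis]
      rw [nsmul_eq_mul, prod_mul_prod f h0 hmul]))

theorem lift_b (e : Λ →₀ ℕ) : G.lift f h0 hmul (G.b e) = e.prod f := G.b.constr_basis R _ e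

@[simp] theorem lift_x (l : Λ) (n : ℕ) : G.lift f h0 hmul (G.x l n) = f l n := by
  rw [x_eq, lift_b, Finsupp.prod_single_index (h0 l)]

end lift

include G in
theorem algHom_ext {S : Type z} [CommRing S] [Algebra R S] {φ ψ : P →ₐ[R] S}
    (h : ∀ l n, φ (G.x l n) = ψ (G.x l n)) : φ = ψ :=
  AlgHom.toLinearMap_injective (G.b.ext fun e => by
    simp only [AlgHom.toLinearMap_apply, G.basis_eq, map_finsuppProd, h])

/-- The augmentation ideal. -/
def aug : Ideal P := Ideal.span {y : P | ∃ (l : Λ) (n : ℕ), 1 ≤ n ∧ y = G.x l n}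

theorem x_mem_aug (l : Λ) {n : ℕ} (hn : 1 ≤ n) : G.x l n ∈ G.aug := Ideal.subset_span ⟨l, n, hn, rfl⟩

theorem b_mem_aug {e : Λ →₀ ℕ} (he : e ≠ 0) : G.b e ∈ G.aug := by
  classical
  obtain ⟨l, hl⟩ := Finsupp.support_nonempty_iff.2 he
  rw [G.basis_eq, Finsupp.prod, ← Finset.mul_prod_erase _ _ hl]
  exact Ideal.mul_mem_right _ _ (G.x_mem_aug l (Nat.one_le_iff_ne_zero.2 (Finsupp.mem_support_iff.1 hl)))

theorem repr_zero_eq_zero {y : P} (hy : y ∈ G.aug) : G.b.repr y 0 = 0 := by
  classical
  let ε : P →ₐ[R] R := G.lift (fun _ n => if n = 0 then 1 else 0) (fun _ => if_pos rfl) fun l n m => by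
    rcases n with _ | n
    · rcases m with _ | m <;> simp
    · simp
  have key : (Finsupp.lapply 0).comp G.b.repr.toLinearMap = ε.toLinearMap := G.b.ext fun e => by
    simp only [LinearMap.comp_apply, LinearEquiv.coe_coe, Module.Basis.repr_self, Finsupp.lapply_apply,
      AlgHom.toLinearMap_apply, ε, lift_b, Finsupp.single_apply]
    by_cases he : e = 0
    · simp [he]
    · obtain ⟨l, hl⟩ := Finsupp.support_nonempty_iff.2 he
      rw [if_neg he, Finsupp.prod, eq_comm]
      exact Finset.prod_eq_zero hl (if_neg (Finsupp.mem_support_iff.1 hl))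
  have h : G.aug ≤ RingHom.ker ε := Ideal.span_le.2 (by
    rintro _ ⟨l, n, hn, rfl⟩
    simp [ε, Nat.one_le_iff_ne_zero.1 hn])
  have h1 : ε y = 0 := h hy
  have h2 := LinearMap.congr_fun key y
  simp only [LinearMap.comp_apply, LinearEquiv.coe_coe, Finsupp.lapply_apply, AlgHom.toLinearMap_apply] at h2
  rw [h2, h1]

end Pres

section Model

variable (R : Type u) [CommRing R] (K : Type z) [CommRing K] [Algebra ℚ K] [Algebra R K] (Λ)

/-- `X_l^k / k!`. -/
noncomputable def g (l : Λ) (k : ℕ) : MvPolynomial Λ K :=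
  MvPolynomial.monomial (Finsupp.single l k) (algebraMap ℚ K (k ! : ℚ)⁻¹)

theorem g_zero (l : Λ) : g Λ K l 0 = 1 := by simp [g]

theorem g_mul (l : Λ) (n m : ℕ) :
    g Λ K l n * g Λ K l m = ((n + m).choose n : MvPolynomial Λ K) * g Λ K l (n + m) := by
  rw [g, g, g, MvPolynomial.monomial_mul, ← Finsupp.single_add, ← map_natCast MvPolynomial.C,
    MvPolynomial.C_mul_monomial, ← map_mul, ← map_natCast (algebraMap ℚ K), ← map_mul]
  congr 2
  rw [Nat.cast_add_choose]
  field_simp

theorem g_prod (e : Λ →₀ ℕ) :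
    e.prod (g Λ K) = MvPolynomial.monomial e (algebraMap ℚ K (e.prod fun _ k => (k ! : ℚ)⁻¹)) := by
  induction e using Finsupp.induction with
  | zero => simp [Finsupp.prod_zero_index]
  | single_add l k e hl hk ih =>
    have hd : Disjoint (Finsupp.single l k).support e.support := by
      exact Finset.disjoint_of_subset_left Finsupp.support_single_subset (Finset.disjoint_singleton_left.2 hl)
    rw [Finsupp.prod_add_index_of_disjoint hd, Finsupp.prod_add_index_of_disjoint hd, ih,
      Finsupp.prod_single_index (g_zero Λ K l), Finsupp.prod_single_index (by simp), g, MvPolynomial.monomial_mul,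
      ← map_mul]

/-- The span of the divided power monomials. -/
noncomputable def modelAlg : Subalgebra R (MvPolynomial Λ K) :=
  (Submodule.span R (Set.range fun e : Λ →₀ ℕ => e.prod (g Λ K))).toSubalgebra
    (Submodule.subset_span ⟨0, Finsupp.prod_zero_index⟩)
    (fun a b ha hb => by
      induction ha using Submodule.span_induction with
      | zero => simp
      | add x y _ _ hx hy => rw [add_mul]; exact add_mem hx hy
      | smul r x _ hx => rw [smul_mul_assoc]; exact Submodule.smul_mem _ _ hx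
      | mem x hx =>
        induction hb using Submodule.span_induction with
        | zero => simp
        | add y y' _ _ hy hy' => rw [mul_add]; exact add_mem hy hy'
        | smul r y _ hy => rw [mul_smul_comm]; exact Submodule.smul_mem _ _ hy
        | mem y hy =>
          obtain ⟨e, rfl⟩ := hx
          obtain ⟨e', rfl⟩ := hy
          rw [prod_mul_prod _ (g_zero Λ K) (g_mul Λ K), ← nsmul_eq_mul]
          exact Submodule.smul_of_tower_mem _ _ (Submodule.subset_span ⟨e + e', rfl⟩))

theorem g_mem (l : Λ) (k : ℕ) : g Λ K l k ∈ modelAlg Λ R K :=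
  Submodule.subset_span ⟨Finsupp.single l k, Finsupp.prod_single_index (g_zero Λ K l)⟩

variable (hR : Function.Injective (algebraMap R K))

include hR in
theorem linearIndependent_g : LinearIndependent R fun e : Λ →₀ ℕ => e.prod (g Λ K) := by
  classical
  rw [linearIndependent_iff]
  intro c hc
  ext e
  have h := congrArg (MvPolynomial.coeff e) hc
  simp only [Finsupp.linearCombination_apply, Finsupp.sum, MvPolynomial.coeff_sum, g_prod, MvPolynomial.smul_monomial,
    MvPolynomial.coeff_monomial, MvPolynomial.coeff_zero] at h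
  rw [Finset.sum_ite_eq'] at h
  split_ifs at h with he
  · rw [Finsupp.zero_apply]
    refine hR ?_
    rw [map_zero]
    rw [Algebra.smul_def] at h
    refine (((IsUnit.mk0 _ ?_).map (algebraMap ℚ K)).mul_left_eq_zero).1 h
    exact Finset.prod_ne_zero_iff.2 fun _ _ => inv_ne_zero (Nat.cast_ne_zero.2 (Nat.factorial_ne_zero _))
  · exact Finsupp.notMem_support_iff.1 he

/-- The model presentation inside `K[Λ]`. -/
noncomputable def model : Pres R (modelAlg Λ R K) Λ where
  x l k := ⟨g Λ K l k, g_mem Λ R K l k⟩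
  zero l := Subtype.ext (g_zero Λ K l)
  mul l n m := Subtype.ext (by push_cast; exact g_mul Λ K l n m)
  b := (Module.Basis.span (linearIndependent_g Λ R K hR)).map
    (LinearEquiv.ofEq (Submodule.span R (Set.range fun e : Λ →₀ ℕ => e.prod (g Λ K)))
      (Subalgebra.toSubmodule (modelAlg Λ R K)) (Submodule.toSubalgebra_toSubmodule _ _ _).symm)
  basis_eq e := Subtype.ext (by
    refine (congrArg Subtype.val (Module.Basis.span_apply (linearIndependent_g Λ R K hR) e)).trans ?_
    exact (map_finsuppProd (modelAlg Λ R K).val e fun l k => (⟨g Λ K l k, g_mem Λ R K l k⟩ : modelAlg Λ R K)).symm)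

theorem exists_dividedPowers_model :
    ∃ γ : DividedPowers (model Λ R K hR).aug,
      ∀ l n, γ.dpow n ((model Λ R K hR).x l 1) = (model Λ R K hR).x l n := by
  classical
  set G := model Λ R K hR
  let f : modelAlg Λ R K →+* MvPolynomial Λ K := (modelAlg Λ R K).val.toRingHom
  have hf : Function.Injective f := Subtype.val_injective
  let hJ := DividedPowers.RatAlgebra.dividedPowers (G.aug.map f)
  have hfac : ∀ n : ℕ, IsUnit (n ! : MvPolynomial Λ K) := fun n => IsUnit.natCast_factorial_of_algebra ℚ n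
  have hgen : ∀ (l : Λ) (n : ℕ), hJ.dpow n (f (G.x l 1)) = f (G.x l n) := fun l n => by
    refine (hfac n).mul_left_cancel ?_
    rw [hJ.factorial_mul_dpow_eq_pow (Ideal.mem_map_of_mem f (G.x_mem_aug l le_rfl)), ← map_pow,
      ← G.factorial_mul, map_mul, map_natCast]
  have hmem : ∀ (n : ℕ) {x : modelAlg Λ R K}, x ∈ G.aug →
      ∃ (y : modelAlg Λ R K) (_ : n ≠ 0 → y ∈ G.aug), f y = hJ.dpow n (f x) := by
    intro n x hx
    induction hx using Submodule.span_induction generalizing n with
    | mem x hx =>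
      obtain ⟨l, k, hk, rfl⟩ := hx
      refine ⟨Nat.uniformBell n k * G.x l (n * k), fun hn => Ideal.mul_mem_left _ _ (G.x_mem_aug l
        (Nat.one_le_iff_ne_zero.2 (mul_ne_zero hn (by omega)))), ?_⟩
      rw [map_mul, map_natCast, ← hgen l k, hJ.dpow_comp (by omega) (Ideal.mem_map_of_mem f (G.x_mem_aug l le_rfl)),
        hgen]
    | zero =>
      rcases eq_or_ne n 0 with rfl | hn
      · exact ⟨1, fun h => absurd rfl h, by rw [map_zero, hJ.dpow_zero (zero_mem _), map_one]⟩
      · exact ⟨0, fun _ => zero_mem _, by rw [map_zero, hJ.dpow_eval_zero hn]⟩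
    | add x y hx hy ihx ihy =>
      choose Y hY hY' using ihx
      choose Z hZ hZ' using ihy
      refine ⟨∑ k ∈ antidiagonal n, Y k.1 * Z k.2, fun hn => sum_mem fun k hk => ?_, ?_⟩
      · rw [mem_antidiagonal] at hk
        rcases eq_or_ne k.1 0 with h | h
        · exact Ideal.mul_mem_left _ _ (hZ _ (by omega))
        · exact Ideal.mul_mem_right _ _ (hY _ h)
      · rw [map_add, hJ.dpow_add (Ideal.mem_map_of_mem f hx) (Ideal.mem_map_of_mem f hy), map_sum]
        exact sum_congr rfl fun k _ => by rw [map_mul, hY', hZ']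
    | smul a x hx ih =>
      obtain ⟨y, hy, hy'⟩ := ih n
      exact ⟨a ^ n * y, fun hn => Ideal.mul_mem_left _ _ (hy hn),
        by rw [smul_eq_mul, map_mul, map_mul, map_pow, hy', hJ.dpow_mul (Ideal.mem_map_of_mem f hx)]⟩
  refine ⟨DividedPowers.ofInjective G.aug (G.aug.map f) f hf hJ rfl hmem, fun l n => hf ((hfac n).mul_left_cancel ?_)⟩
  rw [← map_natCast f, ← map_mul, ← map_mul,
    DividedPowers.factorial_mul_dpow_eq_pow _ (G.x_mem_aug l le_rfl), G.factorial_mul]

end Model

namespace Pres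

section DP

variable {R : Type u} {P : Type v} [CommRing R] [CommRing P] [Algebra R P] (G : Pres R P Λ)

theorem dividedPowers_unique (γ γ' : DividedPowers G.aug) (h : ∀ l n, γ.dpow n (G.x l 1) = G.x l n)
    (h' : ∀ l n, γ'.dpow n (G.x l 1) = G.x l n) : γ' = γ :=
  DividedPowers.dpow_eq_from_gens γ γ' rfl fun {m} a ha => by
    obtain ⟨l, n, hn, rfl⟩ := ha
    rw [← h l n, γ.dpow_comp (by omega) (G.x_mem_aug l le_rfl), h l n, ← h' l n,
      γ'.dpow_comp (by omega) (G.x_mem_aug l le_rfl), h, h']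

theorem exists_dividedPowers :
    ∃ γ : DividedPowers G.aug, ∀ l n, γ.dpow n (G.x l 1) = G.x l n := by
  classical
  let R' := MvPolynomial R ℤ
  let K := MvPolynomial R ℚ
  let : Algebra R' K := (MvPolynomial.map (Int.castRingHom ℚ)).toAlgebra
  have hR : Function.Injective (algebraMap R' K) := MvPolynomial.map_injective _ Int.cast_injective
  let G' := model Λ R' K hR
  obtain ⟨γ', hγ'⟩ : ∃ γ : DividedPowers G'.aug, ∀ l n, γ.dpow n (G'.x l 1) = G'.x l n :=
    exists_dividedPowers_model Λ R' K hR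
  let ev : R' →+* R := MvPolynomial.eval₂Hom (Int.castRingHom R) id
  have hev : ∀ r : R, ev (MvPolynomial.X r) = r := fun r => MvPolynomial.eval₂Hom_X' _ _ _
  let : Algebra R' P := ((algebraMap R P).comp ev).toAlgebra
  let π : modelAlg Λ R' K →ₐ[R'] P := G'.lift G.x G.zero G.mul
  have hπb : ∀ e, π (G'.b e) = G.b e := fun e => by rw [lift_b, G.basis_eq]
  have hπs : ∀ (r : R') e, π (r • G'.b e) = ev r • G.b e := fun r e => by
    rw [map_smul, hπb, Algebra.smul_def, Algebra.smul_def]; rfl
  have hsurj : Function.Surjective π := fun y => by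
    refine ⟨(G.b.repr y).sum fun e r => (MvPolynomial.X r : R') • G'.b e, ?_⟩
    conv_rhs => rw [← G.b.linearCombination_repr y, Finsupp.linearCombination_apply]
    simp only [map_finsuppSum, hπs, hev]
  let S : Set (modelAlg Λ R' K) := {z | ∃ (k : R') (e : Λ →₀ ℕ), ev k = 0 ∧ e ≠ 0 ∧ z = k • G'.b e}
  have hS : S ⊆ G'.aug := by
    rintro _ ⟨k, e, -, he, rfl⟩
    exact Submodule.smul_of_tower_mem _ _ (G'.b_mem_aug he)
  have hspan : ∀ (k : R'), ev k = 0 → ∀ z ∈ G'.aug, k • z ∈ Ideal.span S := by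
    intro k hk z hz
    rw [← G'.b.linearCombination_repr z, Finsupp.linearCombination_apply, Finsupp.smul_sum]
    refine sum_mem fun e he => ?_
    have : e ≠ 0 := fun h => Finsupp.mem_support_iff.1 he (h ▸ G'.repr_zero_eq_zero hz)
    exact Ideal.subset_span ⟨k * G'.b.repr z e, e, by rw [map_mul, hk, zero_mul], this, smul_smul _ _ _⟩
  have hker : RingHom.ker π.toRingHom ⊓ G'.aug = Ideal.span S := by
    refine le_antisymm (fun z hz => ?_) (Ideal.span_le.2 ?_)
    · rw [← G'.b.linearCombination_repr z, Finsupp.linearCombination_apply]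
      refine sum_mem fun e he => ?_
      have h0 : e ≠ 0 := fun h => Finsupp.mem_support_iff.1 he (h ▸ G'.repr_zero_eq_zero hz.2)
      refine Ideal.subset_span ⟨_, e, ?_, h0, rfl⟩
      have h1 : π z = 0 := hz.1
      rw [← G'.b.linearCombination_repr z, Finsupp.linearCombination_apply, map_finsuppSum] at h1
      simp only [hπs] at h1
      have h2 := congrArg (fun y => G.b.repr y e) h1
      simp only [Finsupp.sum, map_sum, map_smul, Module.Basis.repr_self, Finsupp.finsetSum_apply,
        Finsupp.smul_apply, Finsupp.single_apply, smul_eq_mul, mul_ite, mul_one, mul_zero, Finset.sum_ite_eq',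
        map_zero, Finsupp.zero_apply, if_pos he] at h2
      exact h2
    · rintro _ ⟨k, e, hk, he, rfl⟩
      exact ⟨show π _ = 0 by rw [hπs, hk, zero_smul], Submodule.smul_of_tower_mem _ _ (G'.b_mem_aug he)⟩
  have hsub : γ'.IsSubDPIdeal (RingHom.ker π.toRingHom ⊓ G'.aug) := by
    rw [hker, DividedPowers.span_isSubDPIdeal_iff hS]
    rintro n hn _ ⟨k, e, hk, he, rfl⟩
    rw [Algebra.smul_def, γ'.dpow_mul (G'.b_mem_aug he), ← map_pow, ← Algebra.smul_def]
    exact hspan _ (by rw [map_pow, hk, zero_pow hn]) _ (γ'.dpow_mem hn (G'.b_mem_aug he))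
  have hmap : G.aug = G'.aug.map π.toRingHom := by
    rw [aug, aug, Ideal.map_span]
    congr 1
    ext y
    constructor
    · rintro ⟨l, n, hn, rfl⟩
      exact ⟨_, ⟨l, n, hn, rfl⟩, lift_x _ _ _ _ l n⟩
    · rintro ⟨_, ⟨l, n, hn, rfl⟩, rfl⟩
      exact ⟨l, n, hn, lift_x _ _ _ _ l n⟩
  refine ⟨DividedPowers.Quotient.OfSurjective.dividedPowers γ' hsurj hmap hsub, fun l n => ?_⟩
  have h1 : ∀ k, π.toRingHom (G'.x l k) = G.x l k := lift_x _ _ _ _ l
  rw [← h1 1, DividedPowers.Quotient.OfSurjective.dpow_apply γ' hsurj hmap hsub (G'.x_mem_aug l le_rfl), hγ', h1]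

/-- The canonical divided powers on the augmentation ideal. -/
noncomputable def dp : DividedPowers G.aug := G.exists_dividedPowers.choose

theorem dp_x (l : Λ) (n : ℕ) : G.dp.dpow n (G.x l 1) = G.x l n := G.exists_dividedPowers.choose_spec l n

variable {S : Type z} [CommRing S] [Algebra R S] {J : Ideal S} (δ : DividedPowers J) (s : Λ → S) (hs : ∀ l, s l ∈ J)

/-- The morphism from the divided power polynomial algebra given by elements of a divided power ideal. -/
noncomputable def dpLift : P →ₐ[R] S :=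
  G.lift (fun l n => δ.dpow n (s l)) (fun l => δ.dpow_zero (hs l)) (fun l _ _ => δ.mul_dpow (hs l))

theorem dpLift_x (l : Λ) (n : ℕ) : G.dpLift δ s hs (G.x l n) = δ.dpow n (s l) := lift_x ..

theorem dpLift_isDPMorphism (γ : DividedPowers G.aug) (hγ : ∀ l n, γ.dpow n (G.x l 1) = G.x l n) :
    γ.IsDPMorphism δ (G.dpLift δ s hs).toRingHom := by
  refine DividedPowers.IsDPMorphism.on_span γ δ rfl ?_ ?_
  · rintro _ ⟨l, n, hn, rfl⟩
    show G.dpLift δ s hs _ ∈ J
    rw [dpLift_x]
    exact δ.dpow_mem (by omega) (hs l)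
  · rintro m _ ⟨l, n, hn, rfl⟩
    show G.dpLift δ s hs (γ.dpow m (G.x l n)) = δ.dpow m (G.dpLift δ s hs (G.x l n))
    rw [dpLift_x, δ.dpow_comp (by omega) (hs l), ← hγ l n, γ.dpow_comp (by omega) (G.x_mem_aug l le_rfl), hγ,
      map_mul, map_natCast, dpLift_x]

include hs in
theorem existsUnique_algHom (γ : DividedPowers G.aug) (hγ : ∀ l n, γ.dpow n (G.x l 1) = G.x l n) :
    ∃! φ : P →ₐ[R] S, γ.IsDPMorphism δ φ.toRingHom ∧ ∀ l, φ (G.x l 1) = s l := by
  refine ⟨G.dpLift δ s hs, ⟨G.dpLift_isDPMorphism δ s hs γ hγ, fun l => by rw [dpLift_x, δ.dpow_one (hs l)]⟩, ?_⟩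
  rintro φ ⟨hφ, hφ'⟩
  refine G.algHom_ext fun l n => ?_
  rw [dpLift_x, ← hγ l n, show φ (γ.dpow n (G.x l 1)) = φ.toRingHom (γ.dpow n (G.x l 1)) from rfl,
    hφ.map_dpow (G.x_mem_aug l le_rfl)]
  exact congrArg (δ.dpow n) (hφ' l)

end DP

/-- Existence of a presentation over any ring. -/
theorem exists_pres (R : Type u) [CommRing R] (Λ : Type w) :
    ∃ (P : Type (max u w)) (_ : CommRing P) (_ : Algebra R P), Nonempty (Pres R P Λ) := by
  let : Algebra (MvPolynomial R ℤ) (MvPolynomial R ℚ) := (MvPolynomial.map (Int.castRingHom ℚ)).toAlgebra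
  let : Algebra (MvPolynomial R ℤ) R := (MvPolynomial.eval₂Hom (Int.castRingHom R) id).toAlgebra
  let M := modelAlg Λ (MvPolynomial R ℤ) (MvPolynomial R ℚ)
  let G := model Λ (MvPolynomial R ℤ) (MvPolynomial R ℚ) (MvPolynomial.map_injective _ Int.cast_injective)
  refine ⟨R ⊗[MvPolynomial R ℤ] M, inferInstance, inferInstance, ⟨{
    x := fun l n => 1 ⊗ₜ G.x l n
    zero := fun l => by rw [G.zero]; rfl
    mul := fun l n m => by
      rw [Algebra.TensorProduct.tmul_mul_tmul, one_mul, G.mul, ← nsmul_eq_mul, ← nsmul_eq_mul, TensorProduct.tmul_smul]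
    b := Algebra.TensorProduct.basis R G.b
    basis_eq := fun e => by
      rw [Algebra.TensorProduct.basis_apply, G.basis_eq]
      exact map_finsuppProd (Algebra.TensorProduct.includeRight : M →ₐ[MvPolynomial R ℤ] R ⊗[MvPolynomial R ℤ] M) e _ }⟩⟩

end Pres

/-- The axioms `mul_dpow` and `dpow_comp` may be checked on generators. -/
theorem exists_dividedPowers_of_generators {A : Type u} [CommRing A] (I : Ideal A) {S : Set A}
    (hS : Ideal.span S = I) (d : ℕ → A → A) (h_null : ∀ (n : ℕ) (x : A), x ∉ I → d n x = 0)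
    (h_zero : ∀ x ∈ I, d 0 x = 1) (h_one : ∀ x ∈ I, d 1 x = x)
    (h_mem : ∀ (n : ℕ) (x : A), n ≠ 0 → x ∈ I → d n x ∈ I)
    (h_add : ∀ (n : ℕ) (x y : A), x ∈ I → y ∈ I →
      d n (x + y) = (antidiagonal n).sum fun k => d k.1 x * d k.2 y)
    (h_mul : ∀ (n : ℕ) (a x : A), x ∈ I → d n (a * x) = a ^ n * d n x)
    (h_mul_dpow : ∀ (m n : ℕ) (x : A), x ∈ S → d m x * d n x = (m + n).choose m * d (m + n) x)
    (h_comp : ∀ (m n : ℕ) (x : A), n ≠ 0 → x ∈ S → d m (d n x) = Nat.uniformBell m n * d (m * n) x) :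
    ∃ γ : DividedPowers I, γ.dpow = d := by
  obtain ⟨P, _, _, ⟨G⟩⟩ := Pres.exists_pres A S
  have hSI : ∀ s : S, (s : A) ∈ I := fun s => hS ▸ Ideal.subset_span s.2
  let φ : P →ₐ[A] A := G.lift (fun s n => d n s) (fun s => h_zero _ (hSI s)) (fun s m n => h_mul_dpow m n s s.2)
  have hφx : ∀ (s : S) n, φ (G.x s n) = d n s := Pres.lift_x _ _ _ _
  have key : ∀ z ∈ G.aug, φ z ∈ I ∧ ∀ n, φ (G.dp.dpow n z) = d n (φ z) := by
    intro z hz
    induction hz using Submodule.span_induction with
    | mem z hz =>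
      obtain ⟨s, k, hk, rfl⟩ := hz
      refine ⟨by rw [hφx]; exact h_mem _ _ (by omega) (hSI s), fun n => ?_⟩
      rw [hφx, ← G.dp_x s k, G.dp.dpow_comp (by omega) (G.x_mem_aug s le_rfl), G.dp_x, map_mul, map_natCast, hφx,
        h_comp _ _ _ (by omega) s.2]
    | zero =>
      refine ⟨by rw [map_zero]; exact I.zero_mem, fun n => ?_⟩
      rcases eq_or_ne n 0 with rfl | hn
      · rw [G.dp.dpow_zero (zero_mem _), map_one, map_zero, h_zero _ I.zero_mem]
      · rw [G.dp.dpow_eval_zero hn, map_zero]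
        have := h_mul n 0 0 I.zero_mem
        rw [zero_mul, zero_pow hn, zero_mul] at this
        exact this.symm
    | add x y hx hy ihx ihy =>
      refine ⟨by rw [map_add]; exact I.add_mem ihx.1 ihy.1, fun n => ?_⟩
      rw [G.dp.dpow_add hx hy, map_sum, map_add, h_add _ _ _ ihx.1 ihy.1]
      exact sum_congr rfl fun k _ => by rw [map_mul, ihx.2, ihy.2]
    | smul a x hx ih =>
      refine ⟨by rw [smul_eq_mul, map_mul]; exact I.mul_mem_left _ ih.1, fun n => ?_⟩
      rw [smul_eq_mul, G.dp.dpow_mul hx, map_mul, map_mul, map_pow, ih.2, h_mul _ _ _ ih.1]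
  have hφsurj : Function.Surjective φ.toRingHom := fun a => ⟨algebraMap A P a, φ.commutes a⟩
  have hsurj : ∀ y ∈ I, ∃ z ∈ G.aug, φ z = y := fun y hy =>
    (Ideal.mem_map_iff_of_surjective φ.toRingHom hφsurj).1 ((hS ▸ Ideal.span_le.2 fun s hs =>
      (show φ (G.x ⟨s, hs⟩ 1) = s by rw [hφx, h_one _ (hSI ⟨s, hs⟩)]) ▸
        Ideal.mem_map_of_mem φ.toRingHom (G.x_mem_aug ⟨s, hs⟩ le_rfl) : I ≤ G.aug.map φ.toRingHom) hy)
  refine ⟨{
    dpow := d
    dpow_null := fun {n x} hx => h_null n x hx
    dpow_zero := fun {x} hx => h_zero x hx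
    dpow_one := fun {x} hx => h_one x hx
    dpow_mem := fun {n x} hn hx => h_mem n x hn hx
    dpow_add := fun {n x y} hx hy => h_add n x y hx hy
    dpow_mul := fun {n a x} hx => h_mul n a x hx
    mul_dpow := fun {m n x} hx => ?_
    dpow_comp := fun {m n x} hn hx => ?_ }, rfl⟩
  · obtain ⟨z, hz, rfl⟩ := hsurj x hx
    rw [← (key z hz).2, ← (key z hz).2, ← (key z hz).2, ← map_mul, G.dp.mul_dpow hz, map_mul, map_natCast]
  · obtain ⟨z, hz, rfl⟩ := hsurj x hx
    rw [← (key z hz).2, ← (key z hz).2, ← (key _ (G.dp.dpow_mem hn hz)).2, G.dp.dpow_comp hn hz, map_mul,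
      map_natCast]

end Groth.Agent.Lib.DPGamma
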