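import Groth.Agent.Lib.DPGamma
import Mathlib.NumberTheory.Padics.PadicVal.Basic
import Mathlib.Data.Nat.Factorization.Basic
import Mathlib.Data.Nat.Prime.Factorial
import Mathlib.Tactic.LinearCombination

/-!
# Divided powers from a single `p`-th divided power

Over a ring in which integers prime to `p` are invertible, a map `d` satisfying the rules of `γ_p`
extends uniquely to a divided power structure; `γ_n x` is a unit times
`∏ (d^[i] x) ^ nᵢ` for the `p`-adic digits `nᵢ` of `n`.
-/

universe u v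

open Finset
open scoped Nat

namespace Groth.Agent.Lib.DPPrime

open Groth.Agent.Lib.DPGamma

variable (p : ℕ)

/-- `∏ (d^[i] x) ^ nᵢ` over the `p`-adic digits `nᵢ` of `n`. -/
def M {A : Type u} [CommRing A] (d : A → A) : A → ℕ → A
  | _, 0 => 1
  | x, n + 1 => if h : 2 ≤ p then x ^ ((n + 1) % p) * M d (d x) ((n + 1) / p) else 1
termination_by _ n => n
decreasing_by exact Nat.div_lt_self n.succ_pos h

/-- The integer with `w n * M x n = x ^ n`. -/
def w : ℕ → ℕ
  | 0 => 1
  | n + 1 => if h : 2 ≤ p then p ! ^ ((n + 1) / p) * w ((n + 1) / p) else 1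
termination_by n => n
decreasing_by exact Nat.div_lt_self n.succ_pos h

variable [hp : Fact p.Prime]

theorem M_eq {A : Type u} [CommRing A] (d : A → A) (x : A) (n : ℕ) :
    M p d x n = if n = 0 then 1 else x ^ (n % p) * M p d (d x) (n / p) := by
  cases n with
  | zero => rw [M, if_pos rfl]
  | succ n => rw [M, dif_pos hp.out.two_le, if_neg n.succ_ne_zero]

theorem M_zero {A : Type u} [CommRing A] (d : A → A) (x : A) : M p d x 0 = 1 := by rw [M_eq, if_pos rfl]

theorem M_of_digit {A : Type u} [CommRing A] (d : A → A) (x : A) {r q : ℕ} (hr : r < p) :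
    M p d x (r + p * q) = x ^ r * M p d (d x) q := by
  rw [M_eq]
  split_ifs with h
  · obtain ⟨rfl, h2⟩ := Nat.add_eq_zero_iff.1 h
    obtain rfl : q = 0 := (Nat.mul_eq_zero.1 h2).resolve_left hp.out.ne_zero
    rw [M_zero, pow_zero, one_mul]
  · rw [Nat.add_mul_mod_self_left, Nat.mod_eq_of_lt hr, Nat.add_mul_div_left _ _ hp.out.pos, Nat.div_eq_of_lt hr,
      zero_add]

theorem M_lt {A : Type u} [CommRing A] (d : A → A) (x : A) {r : ℕ} (hr : r < p) : M p d x r = x ^ r := by
  simpa [M_zero] using M_of_digit p d x (q := 0) hr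

theorem M_one {A : Type u} [CommRing A] (d : A → A) (x : A) : M p d x 1 = x := by
  simpa using M_lt p d x hp.out.one_lt

theorem w_zero : w p 0 = 1 := by rw [w]

theorem w_of_digit {r q : ℕ} (hr : r < p) : w p (r + p * q) = p ! ^ q * w p q := by
  rcases Nat.eq_zero_or_pos (r + p * q) with h | h
  · obtain ⟨rfl, h2⟩ := Nat.add_eq_zero_iff.1 h
    obtain rfl : q = 0 := (Nat.mul_eq_zero.1 h2).resolve_left hp.out.ne_zero
    simp [w_zero]
  · obtain ⟨k, hk⟩ := Nat.exists_eq_succ_of_ne_zero h.ne'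
    rw [hk, w, dif_pos hp.out.two_le]
    have : (k + 1) / p = q := by
      rw [show k + 1 = r + p * q from hk.symm, Nat.add_mul_div_left _ _ hp.out.pos, Nat.div_eq_of_lt hr, zero_add]
    rw [this]

theorem w_lt {r : ℕ} (hr : r < p) : w p r = 1 := by simpa [w_zero] using w_of_digit p (q := 0) hr

theorem w_p_mul (q : ℕ) : w p (p * q) = p ! ^ q * w p q := by simpa using w_of_digit p (r := 0) (q := q) hp.out.pos

theorem exists_digit (n : ℕ) : ∃ r q, r < p ∧ n = r + p * q :=
  ⟨n % p, n / p, Nat.mod_lt _ hp.out.pos, (Nat.mod_add_div n p).symm⟩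

theorem lt_of_digit {r q : ℕ} (h : r + p * q ≠ 0) : q < r + p * q := by
  rcases Nat.eq_zero_or_pos q with rfl | hq
  · omega
  · have := Nat.mul_le_mul_right q hp.out.two_le
    omega

theorem w_ne_zero (n : ℕ) : w p n ≠ 0 := by
  induction n using Nat.strong_induction_on with
  | _ n ih =>
    obtain ⟨r, q, hr, rfl⟩ := exists_digit p n
    rw [w_of_digit p hr]
    rcases eq_or_ne (r + p * q) 0 with h | h
    · obtain ⟨rfl, h2⟩ := Nat.add_eq_zero_iff.1 h
      obtain rfl : q = 0 := (Nat.mul_eq_zero.1 h2).resolve_left hp.out.ne_zero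
      simp [w_zero]
    · exact mul_ne_zero (pow_ne_zero _ (Nat.factorial_ne_zero _)) (ih q (lt_of_digit p h))

theorem padicValNat_w (n : ℕ) : padicValNat p (w p n) = padicValNat p n ! := by
  induction n using Nat.strong_induction_on with
  | _ n ih =>
    obtain ⟨r, q, hr, rfl⟩ := exists_digit p n
    rcases eq_or_ne (r + p * q) 0 with h | h
    · rw [h, w_zero, Nat.factorial_zero]
    · have hpp : padicValNat p p ! = 1 := by simpa using padicValNat_factorial_mul (p := p) 1
      rw [w_of_digit p hr, padicValNat.mul (pow_ne_zero _ (Nat.factorial_ne_zero _)) (w_ne_zero p q),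
        padicValNat.pow, hpp, mul_one, ih q (lt_of_digit p h), add_comm r,
        padicValNat_factorial_mul_add q hr, padicValNat_factorial_mul, add_comm]

/-- The prime-to-`p` part of `n!`. -/
def a (n : ℕ) : ℕ := n ! / p ^ padicValNat p n !

/-- The prime-to-`p` part of `w n`. -/
def b (n : ℕ) : ℕ := w p n / p ^ padicValNat p n !

theorem a_spec (n : ℕ) : p ^ padicValNat p n ! * a p n = n ! := by
  rw [a, ← Nat.factorization_def _ hp.out]
  exact Nat.ordProj_mul_ordCompl_eq_self _ _

theorem b_spec (n : ℕ) : p ^ padicValNat p n ! * b p n = w p n := by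
  rw [b, ← padicValNat_w, ← Nat.factorization_def _ hp.out]
  exact Nat.ordProj_mul_ordCompl_eq_self _ _

theorem not_dvd_a (n : ℕ) : ¬ p ∣ a p n := by
  rw [a, ← Nat.factorization_def _ hp.out]
  exact Nat.not_dvd_ordCompl hp.out (Nat.factorial_ne_zero _)

theorem not_dvd_b (n : ℕ) : ¬ p ∣ b p n := by
  rw [b, ← padicValNat_w, ← Nat.factorization_def _ hp.out]
  exact Nat.not_dvd_ordCompl hp.out (w_ne_zero p n)

variable {A : Type u} [CommRing A]

/-- The unit `w n / n!`. -/
noncomputable def e (A : Type u) [CommRing A] (n : ℕ) : A := (b p n : A) * Ring.inverse (a p n : A)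

theorem a_mul_e (hA : ∀ n : ℕ, ¬ p ∣ n → IsUnit (n : A)) (n : ℕ) : (a p n : A) * e p A n = b p n := by
  rw [e, mul_left_comm, Ring.mul_inverse_cancel _ (hA _ (not_dvd_a p n)), mul_one]

theorem factorial_mul_e (hA : ∀ n : ℕ, ¬ p ∣ n → IsUnit (n : A)) (n : ℕ) : (n ! : A) * e p A n = w p n := by
  conv_lhs => rw [← a_spec p n]
  conv_rhs => rw [← b_spec p n]
  push_cast
  rw [mul_assoc, a_mul_e p hA]

theorem e_of_eq (hA : ∀ n : ℕ, ¬ p ∣ n → IsUnit (n : A)) {n : ℕ} (h : w p n = n !) : e p A n = 1 := by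
  have hab : b p n = a p n := by
    apply Nat.eq_of_mul_eq_mul_left (pow_pos hp.out.pos (padicValNat p n !))
    rw [a_spec, b_spec, h]
  rw [e, hab, Ring.mul_inverse_cancel _ (hA _ (not_dvd_a p n))]

theorem e_zero (hA : ∀ n : ℕ, ¬ p ∣ n → IsUnit (n : A)) : e p A 0 = 1 := e_of_eq p hA (by simp [w_zero])

theorem e_one (hA : ∀ n : ℕ, ¬ p ∣ n → IsUnit (n : A)) : e p A 1 = 1 :=
  e_of_eq p hA (by simp [w_lt p hp.out.one_lt])

theorem e_prime (hA : ∀ n : ℕ, ¬ p ∣ n → IsUnit (n : A)) : e p A p = 1 :=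
  e_of_eq p hA (by have := w_p_mul p 1; simpa [w_lt p hp.out.one_lt] using this)

section

variable {I : Ideal A} {d : A → A} (hdI : ∀ x ∈ I, d x ∈ I) (h1 : ∀ x ∈ I, (p ! : A) * d x = x ^ p)

include hdI h1 in
theorem w_mul_M : ∀ (n : ℕ) (x : A), x ∈ I → (w p n : A) * M p d x n = x ^ n := by
  intro n
  induction n using Nat.strong_induction_on with
  | _ n ih =>
    intro x hx
    obtain ⟨r, q, hr, rfl⟩ := exists_digit p n
    rcases eq_or_ne (r + p * q) 0 with h | h
    · rw [h, w_zero, M_zero, Nat.cast_one, one_mul, pow_zero]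
    · rw [w_of_digit p hr, M_of_digit p d x hr, Nat.cast_mul, Nat.cast_pow,
        show ((p ! : A) ^ q * (w p q : A)) * (x ^ r * M p d (d x) q) =
          x ^ r * ((p ! : A) ^ q * ((w p q : A) * M p d (d x) q)) by ring,
        ih q (lt_of_digit p h) _ (hdI x hx), ← mul_pow, h1 x hx, ← pow_mul, ← pow_add]

include hdI h1 in
theorem exists_mul : ∀ (m n : ℕ) (x : A), x ∈ I →
    ∃ c : ℕ, w p m * w p n * c = w p (m + n) ∧ M p d x m * M p d x n = c * M p d x (m + n) := by
  intro m n
  induction hs : m + n using Nat.strong_induction_on generalizing m n with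
  | _ s ih =>
    subst hs
    intro x hx
    rcases Nat.eq_zero_or_pos m with rfl | hm
    · exact ⟨1, by simp [w_zero], by simp [M_zero]⟩
    obtain ⟨r₁, q₁, hr₁, rfl⟩ := exists_digit p m
    obtain ⟨r₂, q₂, hr₂, rfl⟩ := exists_digit p n
    have hlt : q₁ + q₂ < r₁ + p * q₁ + (r₂ + p * q₂) := by
      have h := lt_of_digit p (r := r₁ + r₂) (q := q₁ + q₂) (by rw [mul_add]; omega)
      rw [mul_add] at h
      omega
    obtain ⟨c₁, hc₁, hM₁⟩ := ih _ hlt q₁ q₂ rfl (d x) (hdI x hx)
    have hmain : M p d x (r₁ + p * q₁) * M p d x (r₂ + p * q₂) =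
        (c₁ : A) * (x ^ (r₁ + r₂) * M p d (d x) (q₁ + q₂)) := by
      rw [M_of_digit p d x hr₁, M_of_digit p d x hr₂, mul_mul_mul_comm, hM₁, ← pow_add]
      ring
    rw [w_of_digit p hr₁, w_of_digit p hr₂, hmain]
    by_cases hr : r₁ + r₂ < p
    · refine ⟨c₁, ?_, ?_⟩
      · rw [show r₁ + p * q₁ + (r₂ + p * q₂) = r₁ + r₂ + p * (q₁ + q₂) by ring, w_of_digit p hr, pow_add, ← hc₁]
        ring
      · rw [show r₁ + p * q₁ + (r₂ + p * q₂) = r₁ + r₂ + p * (q₁ + q₂) by ring, M_of_digit p d x hr]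
    · have heq : r₁ + p * q₁ + (r₂ + p * q₂) = r₁ + r₂ - p + p * (1 + (q₁ + q₂)) := by
        have := hp.out.pos
        simp only [mul_add, mul_one]
        omega
      have hlt2 : 1 + (q₁ + q₂) < r₁ + p * q₁ + (r₂ + p * q₂) := by
        have h2 := Nat.mul_le_mul_right (q₁ + q₂) hp.out.two_le
        rw [mul_add, mul_add] at h2
        have := hp.out.two_le
        omega
      obtain ⟨c₂, hc₂, hM₂⟩ := ih _ hlt2 1 (q₁ + q₂) rfl (d x) (hdI x hx)
      rw [w_lt p hp.out.one_lt, one_mul] at hc₂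
      rw [M_one] at hM₂
      have hr' : r₁ + r₂ - p < p := by omega
      refine ⟨p ! * c₁ * c₂, ?_, ?_⟩
      · rw [heq, w_of_digit p hr', pow_add, pow_one, ← hc₂, ← hc₁]
        ring
      · rw [heq, M_of_digit p d x hr']
        nth_rewrite 1 [show r₁ + r₂ = (r₁ + r₂ - p) + p by omega]
        rw [pow_add, ← h1 x hx, Nat.cast_mul, Nat.cast_mul,
          show (x ^ (r₁ + r₂ - p) * ((p ! : A) * d x) * M p d (d x) (q₁ + q₂)) =
            (p ! : A) * (x ^ (r₁ + r₂ - p) * (d x * M p d (d x) (q₁ + q₂))) by ring, hM₂]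
        ring

include hdI h1 in
theorem exists_pow (q k : ℕ) (x : A) (hx : x ∈ I) :
    ∃ c : ℕ, w p q ^ k * c = w p (k * q) ∧ M p d x q ^ k = c * M p d x (k * q) := by
  induction k with
  | zero => exact ⟨1, by simp [w_zero], by simp [M_zero]⟩
  | succ k ih =>
    obtain ⟨c, hc, hM⟩ := ih
    obtain ⟨c', hc', hM'⟩ := exists_mul p hdI h1 (k * q) q x hx
    refine ⟨c * c', ?_, ?_⟩
    · rw [Nat.succ_mul, ← hc', ← hc]
      ring
    · rw [pow_succ, hM, mul_assoc, hM', Nat.succ_mul, Nat.cast_mul]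
      ring

variable (h2 : ∀ (a x : A), x ∈ I → d (a * x) = a ^ p * d x)

include hdI h1 h2 in
theorem exists_d : ∀ (i : ℕ) (x : A), i ≠ 0 → x ∈ I →
    ∃ c : ℕ, p ! * w p i ^ p * c = w p (p * i) ∧ d (M p d x i) = c * M p d x (p * i) := by
  intro i
  induction i using Nat.strong_induction_on with
  | _ i ih =>
    intro x hi hx
    have hMp : M p d x (p * i) = M p d (d x) i := by simpa using M_of_digit p d x (r := 0) (q := i) hp.out.pos
    obtain ⟨r, q, hr, rfl⟩ := exists_digit p i
    rw [hMp, w_p_mul, M_of_digit p d x hr, w_of_digit p hr]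
    rcases Nat.eq_zero_or_pos r with rfl | hr0
    · simp only [zero_add] at hi ⊢
      obtain ⟨c, hc, hM⟩ := ih q (by simpa using lt_of_digit p (r := 0) (q := q) (by simpa using hi)) (d x)
        (fun h => hi (by rw [h, mul_zero])) (hdI x hx)
      refine ⟨c, ?_, by rw [pow_zero, one_mul, hM]⟩
      rw [w_p_mul] at hc
      rw [mul_pow, ← pow_mul, mul_comm q p]
      linear_combination (p ! ^ (p * q)) * hc
    · obtain ⟨r, rfl⟩ := Nat.exists_eq_succ_of_ne_zero hr0.ne'
      obtain ⟨c', hc', hM'⟩ := exists_pow p hdI h1 q p (d x) (hdI x hx)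
      obtain ⟨c₃, hc₃, hM₃⟩ := exists_mul p hdI h1 (r + 1) (p * q) (d x) (hdI x hx)
      refine ⟨p ! ^ r * c' * c₃, ?_, ?_⟩
      · rw [mul_pow, ← pow_mul, mul_comm q p, pow_add, pow_succ (n := r)]
        rw [w_of_digit p hr, w_lt p hr, one_mul, ← hc'] at hc₃
        rw [← hc₃]
        ring
      · rw [show x ^ (r + 1) * M p d (d x) q = (x ^ r * M p d (d x) q) * x by ring, h2 _ _ hx, mul_pow, ← pow_mul,
          mul_comm r p, pow_mul, ← h1 x hx, mul_pow, hM',
          show (p ! : A) ^ r * d x ^ r * ((c' : A) * M p d (d x) (p * q)) * d x =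
            (p ! : A) ^ r * c' * (d x ^ (r + 1) * M p d (d x) (p * q)) by ring,
          ← M_lt p d (d x) hr, hM₃]
        push_cast
        ring

end

theorem M_congr {I : Ideal A} {d d' : A → A} (hdI : ∀ x ∈ I, d x ∈ I) (h : ∀ x ∈ I, d x = d' x) :
    ∀ (n : ℕ) (x : A), x ∈ I → M p d x n = M p d' x n := by
  intro n
  induction n using Nat.strong_induction_on with
  | _ n ih =>
    intro x hx
    rw [M_eq, M_eq p d']
    split_ifs with hn
    · rfl
    · rw [ih _ (Nat.div_lt_self (Nat.pos_of_ne_zero hn) hp.out.one_lt) _ (hdI x hx), h x hx]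

theorem map_M {B : Type v} [CommRing B] (φ : A →+* B) {J : Ideal A} {d : A → A} {d' : B → B}
    (hdJ : ∀ x ∈ J, d x ∈ J) (h : ∀ x ∈ J, φ (d x) = d' (φ x)) :
    ∀ (n : ℕ) (x : A), x ∈ J → φ (M p d x n) = M p d' (φ x) n := by
  intro n
  induction n using Nat.strong_induction_on with
  | _ n ih =>
    intro x hx
    rw [M_eq, M_eq p d']
    split_ifs with hn
    · exact map_one φ
    · rw [map_mul, map_pow, ih _ (Nat.div_lt_self (Nat.pos_of_ne_zero hn) hp.out.one_lt) _ (hdJ x hx), h x hx]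

theorem dpow_eq (hA : ∀ n : ℕ, ¬ p ∣ n → IsUnit (n : A)) {I : Ideal A} (δ : DividedPowers I) :
    ∀ (n : ℕ) (x : A), x ∈ I → δ.dpow n x = e p A n * M p (δ.dpow p) x n := by
  intro n
  induction n using Nat.strong_induction_on with
  | _ n ih =>
    intro x hx
    rcases eq_or_ne n 0 with rfl | hn
    · rw [δ.dpow_zero hx, e_zero p hA, M_zero, one_mul]
    obtain ⟨r, q, hr, rfl⟩ := exists_digit p n
    have hih := ih q (lt_of_digit p hn) (δ.dpow p x) (δ.dpow_mem hp.out.ne_zero hx)
    rw [δ.dpow_comp hp.out.ne_zero hx] at hih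
    rw [M_of_digit p (δ.dpow p) x hr]
    have hkey : (a p (r + p * q) : A) * b p q * δ.dpow (r + p * q) x =
        b p (r + p * q) * b p q * (x ^ r * M p (δ.dpow p) (δ.dpow p x) q) := by
      have hnat : b p (r + p * q) * a p q * (r ! * Nat.uniformBell q p * (r + q * p).choose r) =
          a p (r + p * q) * b p q := by
        apply Nat.eq_of_mul_eq_mul_left (mul_pos (pow_pos hp.out.pos (padicValNat p (r + p * q) !))
          (pow_pos hp.out.pos (padicValNat p q !)))
        calc _ = (p ^ padicValNat p (r + p * q) ! * b p (r + p * q)) * (p ^ padicValNat p q ! * a p q) *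
              (r ! * Nat.uniformBell q p * (r + q * p).choose r) := by ring
          _ = (p ^ padicValNat p (r + p * q) ! * a p (r + p * q)) * (p ^ padicValNat p q ! * b p q) := by
              rw [a_spec, b_spec, a_spec, b_spec, w_of_digit p hr, mul_comm p q,
                ← Nat.add_choose_mul_factorial_mul_factorial r (q * p), ← Nat.choose_symm_add,
                ← Nat.uniformBell_mul_eq q hp.out.ne_zero]
              ring
          _ = _ := by ring
      have hM : (b p q : A) * M p (δ.dpow p) (δ.dpow p x) q = a p q * (Nat.uniformBell q p * δ.dpow (q * p) x) := by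
        rw [hih, ← mul_assoc (a p q : A), a_mul_e p hA]
      have hmulr : δ.dpow r x * δ.dpow (q * p) x = (r + q * p).choose r * δ.dpow (r + p * q) x := by
        rw [mul_comm p q, δ.mul_dpow hx]
      have hnat' := congrArg (Nat.cast : ℕ → A) hnat
      push_cast at hnat'
      rw [← δ.factorial_mul_dpow_eq_pow hx]
      linear_combination (-δ.dpow (r + p * q) x) * hnat' + (-(b p (r + p * q) : A) * r ! * δ.dpow r x) * hM -
        ((b p (r + p * q) : A) * a p q * r ! * Nat.uniformBell q p) * hmulr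
    have hu := ((hA _ (not_dvd_a p (r + p * q))).mul (hA _ (not_dvd_b p q)))
    refine hu.mul_left_cancel ?_
    rw [hkey, ← a_mul_e p hA (r + p * q)]
    ring

theorem existsUnique (hA : ∀ n : ℕ, ¬ p ∣ n → IsUnit (n : A)) {I : Ideal A} (d : A → A)
    (hdI : ∀ x ∈ I, d x ∈ I) (h1 : ∀ x ∈ I, (p ! : A) * d x = x ^ p)
    (h2 : ∀ (a x : A), x ∈ I → d (a * x) = a ^ p * d x)
    (h3 : ∀ x ∈ I, ∀ y ∈ I, d (x + y) = d x + d y +
      ((Finset.antidiagonal p).filter fun k => 0 < k.1 ∧ 0 < k.2).sum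
        fun k => Ring.inverse ((k.1 ! * k.2 ! : ℕ) : A) * x ^ k.1 * y ^ k.2) :
    ∃! γ : DividedPowers I, ∀ x ∈ I, γ.dpow p x = d x := by
  classical
  let γ : ℕ → A → A := fun n x => if x ∈ I then e p A n * M p d x n else 0
  have hγ : ∀ n x, x ∈ I → γ n x = e p A n * M p d x n := fun n x hx => if_pos hx
  have hd0 : d 0 = 0 := by
    have := h2 0 0 I.zero_mem
    rwa [zero_mul, zero_pow hp.out.ne_zero, zero_mul] at this
  have hmul : ∀ m n x, x ∈ I → γ m x * γ n x = ((m + n).choose m : A) * γ (m + n) x := by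
    intro m n x hx
    obtain ⟨c, hc, hM⟩ := exists_mul p hdI h1 m n x hx
    rw [hγ m x hx, hγ n x hx, hγ _ x hx, mul_mul_mul_comm, hM]
    have hnat : b p m * b p n * c * a p (m + n) = (m + n).choose m * b p (m + n) * (a p m * a p n) := by
      apply Nat.eq_of_mul_eq_mul_left (mul_pos (mul_pos (pow_pos hp.out.pos (padicValNat p m !))
        (pow_pos hp.out.pos (padicValNat p n !))) (pow_pos hp.out.pos (padicValNat p (m + n) !)))
      calc _ = (p ^ padicValNat p m ! * b p m) * (p ^ padicValNat p n ! * b p n) * c *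
            (p ^ padicValNat p (m + n) ! * a p (m + n)) := by ring
        _ = (m + n).choose m * (p ^ padicValNat p (m + n) ! * b p (m + n)) *
            ((p ^ padicValNat p m ! * a p m) * (p ^ padicValNat p n ! * a p n)) := by
            rw [a_spec, b_spec, a_spec, b_spec, a_spec, b_spec, hc,
              ← Nat.add_choose_mul_factorial_mul_factorial m n, Nat.choose_symm_add]
            ring
        _ = _ := by ring
    have hu := ((hA _ (not_dvd_a p m)).mul (hA _ (not_dvd_a p n))).mul (hA _ (not_dvd_a p (m + n)))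
    refine hu.mul_left_cancel ?_
    have hnat' := congrArg (Nat.cast : ℕ → A) hnat
    push_cast at hnat'
    rw [← a_mul_e p hA m, ← a_mul_e p hA n, ← a_mul_e p hA (m + n)] at hnat'
    linear_combination (M p d x (m + n)) * hnat'
  have hmem : ∀ n x, n ≠ 0 → x ∈ I → M p d x n ∈ I := by
    intro n
    induction n using Nat.strong_induction_on with
    | _ n ih =>
      intro x hn hx
      obtain ⟨r, q, hr, rfl⟩ := exists_digit p n
      rw [M_of_digit p d x hr]
      rcases Nat.eq_zero_or_pos r with rfl | hr0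
      · exact Ideal.mul_mem_left _ _ (ih q (lt_of_digit p hn) _ (by simpa [hp.out.ne_zero] using hn) (hdI x hx))
      · exact Ideal.mul_mem_right _ _ (I.pow_mem_of_mem hx r hr0)
  have hγp : ∀ x ∈ I, γ p x = d x := fun x hx => by
    have h := M_of_digit p d x (r := 0) (q := 1) hp.out.pos
    rw [zero_add, mul_one, pow_zero, one_mul, M_one] at h
    rw [hγ p x hx, e_prime p hA, one_mul, h]
  obtain ⟨P, _, _, ⟨G⟩⟩ := Pres.exists_pres A (Fin 2)
  have univ : ∀ s : Fin 2 → A, (∀ l, s l ∈ I) → ∃ Φ : P →ₐ[A] A, (∀ l n, Φ (G.x l n) = γ n (s l)) ∧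
      ∀ z ∈ G.aug, Φ z ∈ I ∧ ∀ n, Φ (G.dp.dpow n z) = γ n (Φ z) := by
    intro s hs
    let Φ : P →ₐ[A] A := G.lift (fun l n => γ n (s l))
      (fun l => by rw [hγ 0 _ (hs l), e_zero p hA, M_zero, one_mul]) (fun l n m => hmul n m _ (hs l))
    have hΦ : ∀ l n, Φ (G.x l n) = γ n (s l) := Pres.lift_x _ _ _ _
    have hp' : ∀ z ∈ G.aug, Φ z ∈ I ∧ Φ (G.dp.dpow p z) = d (Φ z) := by
      intro z hz
      induction hz using Submodule.span_induction with
      | mem z hz =>
        obtain ⟨l, i, hi, rfl⟩ := hz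
        have hiI : γ i (s l) ∈ I := by
          rw [hγ i _ (hs l)]; exact Ideal.mul_mem_left _ _ (hmem i _ (by omega) (hs l))
        refine ⟨by rw [hΦ]; exact hiI, ?_⟩
        rw [← G.dp_x l i, G.dp.dpow_comp (by omega) (G.x_mem_aug l le_rfl), G.dp_x, G.dp_x, map_mul, map_natCast,
          hΦ, hΦ, hγ _ _ (hs l), hγ i _ (hs l), h2 _ _ (hmem i _ (by omega) (hs l))]
        obtain ⟨c, hc, hM⟩ := exists_d p hdI h1 h2 i (s l) (by omega) (hs l)
        rw [hM]
        have hnat : Nat.uniformBell p i * b p (p * i) * a p i ^ p = b p i ^ p * c * a p (p * i) := by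
          apply Nat.eq_of_mul_eq_mul_left (mul_pos (mul_pos (pow_pos hp.out.pos (padicValNat p (p * i) !))
            (pow_pos (pow_pos hp.out.pos (padicValNat p i !)) p)) (Nat.factorial_pos p))
          calc _ = Nat.uniformBell p i * (p ^ padicValNat p (p * i) ! * b p (p * i)) *
                (p ^ padicValNat p i ! * a p i) ^ p * p ! := by ring
            _ = (p ! * (p ^ padicValNat p i ! * b p i) ^ p * c) * (p ^ padicValNat p (p * i) ! * a p (p * i)) := by
                rw [a_spec, b_spec, a_spec, b_spec, hc, ← Nat.uniformBell_mul_eq p (by omega : i ≠ 0)]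
                ring
            _ = _ := by ring
        have hu := ((hA _ (not_dvd_a p i)).pow p).mul (hA _ (not_dvd_a p (p * i)))
        refine hu.mul_left_cancel ?_
        have hnat' := congrArg (Nat.cast : ℕ → A) hnat
        push_cast at hnat'
        rw [← a_mul_e p hA i, ← a_mul_e p hA (p * i), mul_pow] at hnat'
        linear_combination (M p d (s l) (p * i)) * hnat'
      | zero =>
        exact ⟨by rw [map_zero]; exact I.zero_mem, by rw [G.dp.dpow_eval_zero hp.out.ne_zero, map_zero, hd0]⟩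
      | add z z' hz hz' ih ih' =>
        refine ⟨by rw [map_add]; exact I.add_mem ih.1 ih'.1, ?_⟩
        rw [G.dp.dpow_add hz hz', map_sum, map_add, h3 _ ih.1 _ ih'.1,
          ← Finset.sum_filter_add_sum_filter_not (Finset.antidiagonal p) (fun k => 0 < k.1 ∧ 0 < k.2), add_comm]
        congr 1
        · rw [show (Finset.antidiagonal p).filter (fun k => ¬(0 < k.1 ∧ 0 < k.2)) = {(p, 0), (0, p)} by
            ext ⟨i, j⟩
            have := hp.out.pos
            simp only [Finset.mem_filter, Finset.mem_antidiagonal, Finset.mem_insert, Finset.mem_singleton,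
              Prod.mk.injEq]
            omega]
          rw [Finset.sum_pair (by simp [hp.out.ne_zero])]
          simp [G.dp.dpow_zero hz, G.dp.dpow_zero hz', ih.2, ih'.2]
        · refine Finset.sum_congr rfl fun k hk => ?_
          rw [Finset.mem_filter, Finset.mem_antidiagonal] at hk
          have hun : ∀ j, j < p → IsUnit (j ! : A) := fun j hj => hA _ (fun h => by
            have := (Nat.Prime.dvd_factorial hp.out).1 h; omega)
          refine ((hun k.1 (by omega)).mul (hun k.2 (by omega))).mul_left_cancel ?_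
          rw [mul_assoc (Ring.inverse _), ← mul_assoc ((k.1 ! : A) * k.2 !) (Ring.inverse _), Nat.cast_mul,
            Ring.mul_inverse_cancel _ ((hun k.1 (by omega)).mul (hun k.2 (by omega))), one_mul, map_mul,
            mul_mul_mul_comm, ← map_natCast Φ, ← map_natCast Φ, ← map_mul, ← map_mul,
            G.dp.factorial_mul_dpow_eq_pow hz, G.dp.factorial_mul_dpow_eq_pow hz', map_pow, map_pow]
      | smul t z hz ih =>
        refine ⟨by rw [smul_eq_mul, map_mul]; exact I.mul_mem_left _ ih.1, ?_⟩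
        rw [smul_eq_mul, G.dp.dpow_mul hz, map_mul, map_mul, map_pow, ih.2, h2 _ _ ih.1]
    refine ⟨Φ, hΦ, fun z hz => ⟨(hp' z hz).1, fun n => ?_⟩⟩
    have hP : ∀ k : ℕ, ¬ p ∣ k → IsUnit (k : P) := fun k hk => by
      simpa using (hA k hk).map (algebraMap A P)
    rw [dpow_eq p hP G.dp n z hz, map_mul, hγ n _ (hp' z hz).1]
    congr 1
    · refine (hA _ (not_dvd_a p n)).mul_left_cancel ?_
      rw [a_mul_e p hA, ← map_natCast Φ, ← map_mul, a_mul_e p hP, map_natCast]
    · exact map_M p Φ.toRingHom (J := G.aug) (d' := d) (fun z hz => G.dp.dpow_mem hp.out.ne_zero hz)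
        (fun z hz => (hp' z hz).2) n z hz
  refine ⟨{
    dpow := γ
    dpow_null := fun {n x} hx => if_neg hx
    dpow_zero := fun {x} hx => by rw [hγ 0 x hx, e_zero p hA, M_zero, one_mul]
    dpow_one := fun {x} hx => by rw [hγ 1 x hx, e_one p hA, M_one, one_mul]
    dpow_mem := fun {n x} hn hx => by rw [hγ n x hx]; exact I.mul_mem_left _ (hmem n x hn hx)
    dpow_add := fun {n x y} hx hy => ?_
    dpow_mul := fun {n t x} hx => ?_
    mul_dpow := fun {m n x} hx => hmul m n x hx
    dpow_comp := fun {m n x} hn hx => ?_ }, hγp, fun δ hδ => ?_⟩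
  · obtain ⟨Φ, hΦ, hK⟩ := univ ![x, y] (fun l => by fin_cases l <;> assumption)
    have hx1 := hK _ (add_mem (G.x_mem_aug 0 le_rfl) (G.x_mem_aug 1 le_rfl))
    have h := hx1.2 n
    rw [map_add, hΦ, hΦ, G.dp.dpow_add (G.x_mem_aug 0 le_rfl) (G.x_mem_aug 1 le_rfl), map_sum] at h
    simp only [map_mul, G.dp_x, hΦ] at h
    simp only [Matrix.cons_val_zero, Matrix.cons_val_one] at h
    rw [show γ 1 x = x by rw [hγ 1 x hx, e_one p hA, M_one, one_mul],
      show γ 1 y = y by rw [hγ 1 y hy, e_one p hA, M_one, one_mul]] at h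
    exact h.symm
  · obtain ⟨Φ, hΦ, hK⟩ := univ ![x, x] (fun l => by fin_cases l <;> assumption)
    have h := (hK _ (Ideal.mul_mem_left _ (algebraMap A P t) (G.x_mem_aug 0 le_rfl))).2 n
    rw [G.dp.dpow_mul (G.x_mem_aug 0 le_rfl), map_mul, map_mul, map_pow, Φ.commutes, G.dp_x, hΦ, hΦ] at h
    simp only [Matrix.cons_val_zero, Algebra.algebraMap_self, RingHom.id_apply] at h
    rw [show γ 1 x = x by rw [hγ 1 x hx, e_one p hA, M_one, one_mul]] at h
    exact h.symm
  · obtain ⟨Φ, hΦ, hK⟩ := univ ![x, x] (fun l => by fin_cases l <;> assumption)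
    have h := (hK _ (G.dp.dpow_mem hn (G.x_mem_aug 0 le_rfl))).2 m
    rw [G.dp.dpow_comp hn (G.x_mem_aug 0 le_rfl), G.dp_x, G.dp_x, map_mul, map_natCast, hΦ, hΦ] at h
    simp only [Matrix.cons_val_zero] at h
    exact h.symm
  · ext n x hx
    show δ.dpow n x = γ n x
    rw [dpow_eq p hA δ n x hx, hγ n x hx,
      M_congr p (fun y hy => δ.dpow_mem hp.out.ne_zero hy) (fun y hy => hδ y hy) n x hx]

end Groth.Agent.Lib.DPPrime
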