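import Mathlib.RingTheory.WittVector.Truncated
import Mathlib.RingTheory.WittVector.Identities
import Mathlib.RingTheory.WittVector.Teichmuller

/-!
# The map `θ : W_n(B/p) → B` is surjective when Frobenius of `B/p` is
-/

universe u

namespace Groth.Agent.Lib.DPTheta

theorem natCast_pow_eq_zero (p n : ℕ) [Fact p.Prime] (R : Type u) [CommRing R] [CharP R p] :
    (p : TruncatedWittVector p n R) ^ n = 0 := by
  rw [← map_natCast (WittVector.truncate n), ← map_pow]
  ext i
  rw [WittVector.coeff_truncate, TruncatedWittVector.coeff_zero, WittVector.coeff_p_pow_eq_zero _ _ i.2.ne]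

theorem surjective (p : ℕ) [Fact p.Prime] (n : ℕ) {B : Type u} [CommRing B] (hp : (p : B) ^ n = 0)
    (hF : Function.Surjective (fun y : B ⧸ (Ideal.span {(p : B)}) => y ^ p))
    (θ : TruncatedWittVector p n (B ⧸ (Ideal.span {(p : B)})) →+* B)
    (hθ : ∀ x : WittVector p B, θ (WittVector.truncate n (WittVector.map (Ideal.Quotient.mk (Ideal.span {(p : B)})) x)) =
        ∑ i : Fin n, (p : B) ^ (i : ℕ) * (x.coeff i) ^ (p ^ (n - i))) :
    Function.Surjective θ := by
  rcases Nat.eq_zero_or_pos n with rfl | hn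
  · rw [pow_zero] at hp
    exact fun b => ⟨0, by rw [map_zero, ← one_mul b, hp, zero_mul]⟩
  have step : ∀ b : B, ∃ (w : TruncatedWittVector p n (B ⧸ (Ideal.span {(p : B)}))) (z : B),
      b = θ w + (p : B) * z := by
    intro b
    have hFn : ∀ m, Function.Surjective (fun y : B ⧸ (Ideal.span {(p : B)}) => y ^ p ^ m) := by
      intro m
      induction m with
      | zero => exact fun y => ⟨y, by simp⟩
      | succ m ih =>
        intro y
        obtain ⟨y₁, rfl⟩ := hF y
        obtain ⟨y₂, rfl⟩ := ih y₁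
        exact ⟨y₂, by simp only; rw [← pow_mul, pow_succ]⟩
    obtain ⟨y, hy⟩ := hFn n (Ideal.Quotient.mk _ b)
    obtain ⟨y, rfl⟩ := Ideal.Quotient.mk_surjective y
    refine ⟨WittVector.truncate n (WittVector.map (Ideal.Quotient.mk _) (WittVector.teichmuller p y)), ?_⟩
    have hd : (p : B) ∣ b - y ^ p ^ n := by
      rw [← Ideal.Quotient.eq_zero_iff_dvd, map_sub, map_pow]
      exact sub_eq_zero.2 hy.symm
    obtain ⟨z, hz⟩ := hd
    refine ⟨z, ?_⟩
    rw [hθ, Finset.sum_eq_single ⟨0, hn⟩, pow_zero, one_mul, Nat.sub_zero, WittVector.teichmuller_coeff_zero, ← hz,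
      add_sub_cancel]
    · intro i _ hi
      rw [WittVector.teichmuller_coeff_pos p y (i : ℕ) (Nat.pos_of_ne_zero fun h => hi (Fin.ext h)),
        zero_pow (pow_pos (Fact.out : p.Prime).pos _).ne', mul_zero]
    · simp
  have main : ∀ k b, ∃ (w : TruncatedWittVector p n (B ⧸ (Ideal.span {(p : B)}))) (z : B),
      b = θ w + (p : B) ^ k * z := by
    intro k
    induction k with
    | zero => exact fun b => ⟨0, b, by simp⟩
    | succ k ih =>
      intro b
      obtain ⟨w, z, rfl⟩ := ih b
      obtain ⟨w', z', rfl⟩ := step z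
      exact ⟨w + (p : TruncatedWittVector p n _) ^ k * w', z', by rw [map_add, map_mul, map_pow, map_natCast]; ring⟩
  intro b
  obtain ⟨w, z, rfl⟩ := main n b
  exact ⟨w, by rw [hp, zero_mul, add_zero]⟩

end Groth.Agent.Lib.DPTheta
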