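import Groth.Prelude.Def_CohB1
import Groth.Prelude.Def_Neron
import Groth.Agent.Lib.ProjSpace.Basic
import Mathlib.RingTheory.DiscreteValuationRing.Basic
import Mathlib.AlgebraicGeometry.IdealSheaf.Functorial

/-!
# Descending a closed subscheme of projective space to a finite subextension of DVRs
-/

universe u

open CategoryTheory CategoryTheory.Limits AlgebraicGeometry

noncomputable section

namespace Groth.Agent.Lib.DescendProjDVR

section DVR

variable {OL L : Type u} [CommRing OL] [IsDomain OL] [IsDiscreteValuationRing OL] [Field L]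
  [Algebra OL L] [IsFractionRing OL L]

/-- The trace of a DVR on a subfield containing a non-zero non-unit is a DVR. -/
theorem isDiscreteValuationRing_inf (F : Subfield L) {a : OL} (ha : a ≠ 0) (hau : ¬ IsUnit a)
    (haF : algebraMap OL L a ∈ F) :
    IsDiscreteValuationRing ↥((algebraMap OL L).range ⊓ F.toSubring) := by
  have hinj : Function.Injective (algebraMap OL L) := IsFractionRing.injective OL L
  have hunit : ∀ {b : OL}, IsUnit b ↔ IsDiscreteValuationRing.addVal OL b = 0 := by
    intro b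
    rw [isUnit_iff_dvd_one, ← IsDiscreteValuationRing.addVal_le_iff_dvd,
      IsDiscreteValuationRing.addVal_one, nonpos_iff_eq_zero]
  have hfin : ∀ {b : OL}, b ≠ 0 → ∃ m : ℕ, IsDiscreteValuationRing.addVal OL b = m := by
    intro b hb
    cases h : IsDiscreteValuationRing.addVal OL b with
    | top => exact absurd (IsDiscreteValuationRing.addVal_eq_top_iff.mp h) hb
    | coe m => exact ⟨m, rfl⟩
  classical
  have hex : ∃ m : ℕ, 0 < m ∧ ∃ b : OL, algebraMap OL L b ∈ F ∧
      IsDiscreteValuationRing.addVal OL b = m := by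
    obtain ⟨m, hm⟩ := hfin ha
    refine ⟨m, Nat.pos_of_ne_zero fun h => hau (hunit.mpr ?_), a, haF, hm⟩
    rw [hm, h]; rfl
  set d := Nat.find hex with hd
  obtain ⟨hdpos, t, htF, htv⟩ := Nat.find_spec hex
  have ht0 : t ≠ 0 := by
    intro h
    rw [h, IsDiscreteValuationRing.addVal_zero] at htv
    exact WithTop.top_ne_coe htv
  let T : ↥((algebraMap OL L).range ⊓ F.toSubring) := ⟨algebraMap OL L t, ⟨t, rfl⟩, htF⟩
  have hrep : ∀ x : ↥((algebraMap OL L).range ⊓ F.toSubring),
      ∃ b : OL, algebraMap OL L b = (x : L) ∧ algebraMap OL L b ∈ F :=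
    fun x => ⟨x.2.1.choose, x.2.1.choose_spec, by rw [x.2.1.choose_spec]; exact x.2.2⟩
  -- units of the intersection
  have hunit' : ∀ (b : OL) (hbF : algebraMap OL L b ∈ F), IsUnit b →
      IsUnit (⟨algebraMap OL L b, ⟨b, rfl⟩, hbF⟩ : ↥((algebraMap OL L).range ⊓ F.toSubring)) := by
    intro b hbF hb
    obtain ⟨w, rfl⟩ := hb
    have h1 : algebraMap OL L ↑w * algebraMap OL L ↑w⁻¹ = 1 := by
      rw [← map_mul, Units.mul_inv, map_one]
    have h2 : algebraMap OL L ↑w⁻¹ ∈ F := by
      rw [eq_inv_of_mul_eq_one_right h1]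
      exact F.inv_mem hbF
    exact isUnit_iff_exists_inv.mpr
      ⟨⟨algebraMap OL L ↑w⁻¹, ⟨_, rfl⟩, h2⟩, Subtype.ext h1⟩
  apply IsDiscreteValuationRing.ofHasUnitMulPowIrreducibleFactorization
  refine ⟨T, ⟨?_, ?_⟩, ?_⟩
  · -- `T` is not a unit
    rintro ⟨w, hw⟩
    obtain ⟨c, hc, -⟩ := hrep ↑w⁻¹
    have : t * c = 1 := by
      apply hinj
      rw [map_mul, map_one, hc]
      have h1 : (T : L) * ((↑w⁻¹ : ↥((algebraMap OL L).range ⊓ F.toSubring)) : L) = 1 := by
        rw [← hw, ← Subring.coe_mul, Units.mul_inv, Subring.coe_one]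
      exact h1
    have := hunit.mp (isUnit_iff_exists_inv.mpr ⟨c, this⟩)
    rw [htv] at this
    exact absurd (Nat.cast_eq_zero.mp this) hdpos.ne'
  · intro x y hxy
    obtain ⟨bx, hbx, hbxF⟩ := hrep x
    obtain ⟨by', hby, hbyF⟩ := hrep y
    have hprod : bx * by' = t := by
      apply hinj
      rw [map_mul, hbx, hby, ← Subring.coe_mul, ← hxy]
    have hv : IsDiscreteValuationRing.addVal OL bx + IsDiscreteValuationRing.addVal OL by' = (d : ℕ∞) := by
      rw [← IsDiscreteValuationRing.addVal_mul, hprod, htv]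
    obtain ⟨mx, hmx⟩ := hfin (show bx ≠ 0 from fun h => ht0 (by rw [← hprod, h, zero_mul]))
    obtain ⟨my, hmy⟩ := hfin (show by' ≠ 0 from fun h => ht0 (by rw [← hprod, h, mul_zero]))
    rw [hmx, hmy, ← Nat.cast_add] at hv
    have hv' : mx + my = d := Nat.cast_inj.mp hv
    by_cases hx0 : mx = 0
    · left
      have := hunit' bx hbxF (hunit.mpr (by rw [hmx, hx0]; rfl))
      convert this using 1
      exact Subtype.ext hbx.symm
    · right
      have hge : d ≤ mx := Nat.find_min' hex ⟨Nat.pos_of_ne_zero hx0, bx, hbxF, hmx⟩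
      have := hunit' by' hbyF (hunit.mpr (by rw [hmy, show my = 0 by omega]; rfl))
      convert this using 1
      exact Subtype.ext hby.symm
  · intro x hx
    obtain ⟨bx, hbx, hbxF⟩ := hrep x
    have hbx0 : bx ≠ 0 := fun h => hx (Subtype.ext (by rw [← hbx, h, map_zero]; rfl))
    obtain ⟨m, hm⟩ := hfin hbx0
    refine ⟨m / d, ?_⟩
    have hle : IsDiscreteValuationRing.addVal OL (t ^ (m / d)) ≤ IsDiscreteValuationRing.addVal OL bx := by
      rw [IsDiscreteValuationRing.addVal_pow, htv, hm, nsmul_eq_mul, ← Nat.cast_mul, Nat.cast_le]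
      exact Nat.div_mul_le_self m d
    obtain ⟨y, hy⟩ := IsDiscreteValuationRing.addVal_le_iff_dvd.mp hle
    have htq : algebraMap OL L t ^ (m / d) ≠ 0 :=
      pow_ne_zero _ fun h => ht0 (hinj (by rw [h, map_zero]))
    have hyF : algebraMap OL L y ∈ F := by
      have : algebraMap OL L y = algebraMap OL L bx * (algebraMap OL L t ^ (m / d))⁻¹ := by
        rw [hy, map_mul, map_pow, mul_comm (algebraMap OL L t ^ (m / d)), mul_assoc,
          mul_inv_cancel₀ htq, mul_one]
      rw [this]
      exact F.mul_mem hbxF (F.inv_mem (F.pow_mem htF _))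
    obtain ⟨my, hmy⟩ := hfin (show y ≠ 0 from fun h => hbx0 (by rw [hy, h, mul_zero]))
    have hmeq : m / d * d + my = m := by
      have h := hm
      rw [hy, IsDiscreteValuationRing.addVal_mul, IsDiscreteValuationRing.addVal_pow, htv, hmy,
        nsmul_eq_mul, ← Nat.cast_mul, ← Nat.cast_add] at h
      exact Nat.cast_inj.mp h
    have hylt : my < d := by
      have h1 := Nat.div_add_mod' m d
      have h2 : m % d < d := Nat.mod_lt m hdpos
      omega
    have hmy0 : my = 0 := by
      by_contra hne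
      exact absurd (Nat.find_min' hex ⟨Nat.pos_of_ne_zero hne, y, hyF, hmy⟩) (not_le.mpr hylt)
    obtain ⟨w, hw⟩ := hunit' y hyF (hunit.mpr (by rw [hmy, hmy0]; rfl))
    refine ⟨w, Subtype.ext ?_⟩
    rw [Subring.coe_mul, hw, SubmonoidClass.coe_pow, ← hbx, hy, map_mul, map_pow]

end DVR

/-- In a pushout of commutative rings, every element lies in the subring generated by the images
of one side and finitely many elements of the other side. -/
theorem exists_finset_mem_closure {A B C P : CommRingCat.{u}} {f : A ⟶ B} {g : A ⟶ C}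
    {a : B ⟶ P} {b : C ⟶ P} (h : IsPushout f g a b) (x : P) :
    ∃ T : Finset C, x ∈ Subring.closure (Set.range a.hom ∪ b.hom '' (T : Set C)) := by
  classical
  let S : Subring P := Subring.closure (Set.range a.hom ∪ Set.range b.hom)
  let a' : B ⟶ CommRingCat.of S := CommRingCat.ofHom
    (a.hom.codRestrict S fun y => Subring.subset_closure (Or.inl ⟨y, rfl⟩))
  let b' : C ⟶ CommRingCat.of S := CommRingCat.ofHom
    (b.hom.codRestrict S fun y => Subring.subset_closure (Or.inr ⟨y, rfl⟩))
  have hcomm : f ≫ a' = g ≫ b' := by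
    ext y
    exact DFunLike.congr_fun (congrArg CommRingCat.Hom.hom h.w) y
  have hid : h.desc a' b' hcomm ≫ CommRingCat.ofHom S.subtype = 𝟙 P := by
    apply h.hom_ext
    · rw [← Category.assoc, h.inl_desc, Category.comp_id]
      ext y; rfl
    · rw [← Category.assoc, h.inr_desc, Category.comp_id]
      ext y; rfl
  have hx : x ∈ S := by
    have := DFunLike.congr_fun (congrArg CommRingCat.Hom.hom hid) x
    rw [show x = _ from this.symm]
    exact SetLike.coe_mem _
  clear hid hcomm
  induction hx using Subring.closure_induction with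
  | mem y hy =>
    rcases hy with hy | ⟨c, rfl⟩
    · exact ⟨∅, Subring.subset_closure (Or.inl hy)⟩
    · exact ⟨{c}, Subring.subset_closure (Or.inr ⟨c, by simp, rfl⟩)⟩
  | zero => exact ⟨∅, zero_mem _⟩
  | one => exact ⟨∅, one_mem _⟩
  | add y z _ _ hy hz =>
    obtain ⟨T₁, h₁⟩ := hy
    obtain ⟨T₂, h₂⟩ := hz
    exact ⟨T₁ ∪ T₂, add_mem
      (Subring.closure_mono (Set.union_subset_union_right _ (Set.image_mono (by simp))) h₁)
      (Subring.closure_mono (Set.union_subset_union_right _ (Set.image_mono (by simp))) h₂)⟩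
  | neg y _ hy =>
    obtain ⟨T₁, h₁⟩ := hy
    exact ⟨T₁, neg_mem h₁⟩
  | mul y z _ _ hy hz =>
    obtain ⟨T₁, h₁⟩ := hy
    obtain ⟨T₂, h₂⟩ := hz
    exact ⟨T₁ ∪ T₂, mul_mem
      (Subring.closure_mono (Set.union_subset_union_right _ (Set.image_mono (by simp))) h₁)
      (Subring.closure_mono (Set.union_subset_union_right _ (Set.image_mono (by simp))) h₂)⟩

/-- A section over the preimage of an affine open in an affine base change is generated by the sections
of that open and finitely many scalars. -/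
theorem exists_finset_generating {Y Z : Scheme.{u}} [IsAffine Z] (f : Y ⟶ Z) {P : Scheme.{u}}
    {S : CommRingCat.{u}} {g : Spec S ⟶ Z} {q : P ⟶ Y} {s : P ⟶ Spec S} (h : IsPullback q s f g)
    {V : Y.Opens} (hV : IsAffineOpen V) (x : Γ(P, q ⁻¹ᵁ V)) :
    ∃ T : Finset Γ(Spec S, ⊤), x ∈ Subring.closure (Set.range (q.app V).hom ∪
      (s.appLE ⊤ (q ⁻¹ᵁ V) le_top).hom '' (T : Set Γ(Spec S, ⊤))) := by
  have : IsAffine V := hV
  have hp : IsPullback (q ∣_ V) ((q ⁻¹ᵁ V).ι ≫ s) (V.ι ≫ f) g :=
    (isPullback_morphismRestrict q V).paste_vert h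
  have hpush := isPushout_appTop_of_isPullback hp
  let e := (q ⁻¹ᵁ V).topIso
  obtain ⟨T, hT⟩ := exists_finset_mem_closure hpush (e.inv x)
  refine ⟨T, ?_⟩
  have hmem := (Subring.mem_map (f := e.hom.hom)).mpr ⟨e.inv x, hT, rfl⟩
  rw [RingHom.map_closure] at hmem
  have hx : e.hom.hom (e.inv x) = x :=
    DFunLike.congr_fun (congrArg CommRingCat.Hom.hom e.inv_hom_id) x
  rw [hx] at hmem
  refine Subring.closure_le.mpr ?_ hmem
  rintro y ⟨z, hz, rfl⟩
  apply Subring.subset_closure
  rcases hz with ⟨c, rfl⟩ | ⟨c, hc, rfl⟩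
  · left
    refine ⟨V.topIso.hom c, ?_⟩
    have key : (q ∣_ V).appTop ≫ e.hom = V.topIso.hom ≫ q.app V := by
      rw [morphismRestrict_appTop]
      simp only [e, Scheme.Opens.topIso_hom, Category.assoc, Scheme.Hom.app_eq_appLE]
      erw [Category.assoc, ← Functor.map_comp, Scheme.Hom.appLE_map, Scheme.Hom.map_appLE]
    exact (DFunLike.congr_fun (congrArg CommRingCat.Hom.hom key) c).symm
  · right
    refine ⟨c, hc, ?_⟩
    have key : ((q ⁻¹ᵁ V).ι ≫ s).appTop ≫ e.hom = s.appLE ⊤ (q ⁻¹ᵁ V) le_top := by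
      simp only [e, Scheme.Hom.comp_appTop, Scheme.Opens.ι_appTop, Scheme.Opens.topIso_hom,
        Category.assoc]
      erw [← Functor.map_comp]
      rfl
    exact (DFunLike.congr_fun (congrArg CommRingCat.Hom.hom key) c).symm

/-- A closed subscheme of `P^n` over a Noetherian ring is defined over any subring containing
suitable finitely many elements. -/
theorem exists_finset_descends (n : ℕ) {S : Type u} [CommRing S] [IsNoetherianRing S]
    {X : Scheme.{u}} (i : X ⟶ CohB1.ProjSpaceOver n (Spec (CommRingCat.of S))) [IsClosedImmersion i] :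
    ∃ T : Finset S, ∀ (R : Type u) [CommRing R] (φ : R →+* S), (∀ c ∈ T, c ∈ φ.range) →
      ∃ (X' : Scheme.{u}) (i' : X' ⟶ CohB1.ProjSpaceOver n (Spec (CommRingCat.of R)))
        (_ : IsClosedImmersion i') (l : X ⟶ X'),
        IsPullback l (i ≫ CohB1.ProjSpaceOver.toBase n (Spec (CommRingCat.of S)))
          (i' ≫ CohB1.ProjSpaceOver.toBase n (Spec (CommRingCat.of R)))
          (Spec.map (CommRingCat.ofHom φ)) := by
  classical
  let f0 := CohB1.ProjSpace.toSpec n (ULift.{u} ℤ)
  haveI : IsProper f0 := Lib.ProjSpace.Basic.isProper_toSpec n (ULift.{u} ℤ)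
  let qS : CohB1.ProjSpaceOver n (Spec (CommRingCat.of S)) ⟶ CohB1.ProjSpace n (ULift.{u} ℤ) :=
    pullback.fst f0 (specULiftZIsTerminal.from (Spec (CommRingCat.of S)))
  haveI hlft : LocallyOfFiniteType (pullback.snd f0 (specULiftZIsTerminal.from (Spec (CommRingCat.of S)))) :=
    MorphismProperty.pullback_snd (P := @LocallyOfFiniteType) _ _
      (IsProper.toLocallyOfFiniteType (f := f0))
  haveI : IsLocallyNoetherian (CohB1.ProjSpaceOver n (Spec (CommRingCat.of S))) :=
    @LocallyOfFiniteType.isLocallyNoetherian _ _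
      (pullback.snd f0 (specULiftZIsTerminal.from (Spec (CommRingCat.of S)))) hlft _
  haveI : CompactSpace ↥(CohB1.ProjSpace n (ULift.{u} ℤ)) :=
    QuasiCompact.compactSpace_of_compactSpace f0
  let 𝒰 := (CohB1.ProjSpace n (ULift.{u} ℤ)).affineCover.finiteSubcover
  let V : 𝒰.I₀ → (CohB1.ProjSpace n (ULift.{u} ℤ)).affineOpens :=
    fun j => ⟨(𝒰.f j).opensRange, isAffineOpen_opensRange (𝒰.f j)⟩
  haveI hqS : IsAffineHom qS := MorphismProperty.pullback_fst _ _ inferInstance
  have hgen : ∀ j, ∃ G : Finset Γ(CohB1.ProjSpaceOver n (Spec (CommRingCat.of S)), qS ⁻¹ᵁ (V j).1),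
      i.ker.ideal ⟨qS ⁻¹ᵁ (V j).1, (V j).2.preimage qS⟩ = Ideal.span (G : Set _) := by
    intro j
    haveI := IsLocallyNoetherian.component_noetherian
      (X := CohB1.ProjSpaceOver n (Spec (CommRingCat.of S))) ⟨_, (V j).2.preimage qS⟩
    obtain ⟨G, hG⟩ := IsNoetherian.noetherian
      (i.ker.ideal ⟨qS ⁻¹ᵁ (V j).1, (V j).2.preimage qS⟩)
    exact ⟨G, hG.symm⟩
  choose G hG using hgen
  have hsq := IsPullback.of_hasPullback f0 (specULiftZIsTerminal.from (Spec (CommRingCat.of S)))
  have hT : ∀ j, ∀ x : Γ(CohB1.ProjSpaceOver n (Spec (CommRingCat.of S)), qS ⁻¹ᵁ (V j).1), ∃ T : Finset Γ(Spec (CommRingCat.of S), ⊤),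
      x ∈ Subring.closure (Set.range (qS.app (V j).1).hom ∪
        (((pullback.snd f0 (specULiftZIsTerminal.from (Spec (CommRingCat.of S)))).appLE ⊤
          (qS ⁻¹ᵁ (V j).1) le_top).hom '' (T : Set _))) :=
    fun j x => exists_finset_generating f0 hsq (V j).2 x
  choose T hT using hT
  haveI : Fintype 𝒰.I₀ := Fintype.ofFinite _
  refine ⟨(Finset.univ.biUnion fun j => (G j).biUnion (T j)).image
    (Scheme.ΓSpecIso (CommRingCat.of S)).hom, ?_⟩
  intro R _ φ hφ
  let qR : CohB1.ProjSpaceOver n (Spec (CommRingCat.of R)) ⟶ CohB1.ProjSpace n (ULift.{u} ℤ) :=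
    pullback.fst f0 (specULiftZIsTerminal.from (Spec (CommRingCat.of R)))
  let sR : CohB1.ProjSpaceOver n (Spec (CommRingCat.of R)) ⟶ Spec (CommRingCat.of R) :=
    pullback.snd f0 (specULiftZIsTerminal.from (Spec (CommRingCat.of R)))
  let sS : CohB1.ProjSpaceOver n (Spec (CommRingCat.of S)) ⟶ Spec (CommRingCat.of S) :=
    pullback.snd f0 (specULiftZIsTerminal.from (Spec (CommRingCat.of S)))
  let π : CohB1.ProjSpaceOver n (Spec (CommRingCat.of S)) ⟶
      CohB1.ProjSpaceOver n (Spec (CommRingCat.of R)) :=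
    pullback.lift qS (sS ≫ Spec.map (CommRingCat.ofHom φ))
      (by rw [Category.assoc]; exact hsq.w.trans (congrArg (sS ≫ ·) (specULiftZIsTerminal.hom_ext _ _)))
  have hπq : π ≫ qR = qS := pullback.lift_fst _ _ _
  have hπs : π ≫ sR = sS ≫ Spec.map (CommRingCat.ofHom φ) := pullback.lift_snd _ _ _
  have hπ : IsPullback π sS sR (Spec.map (CommRingCat.ofHom φ)) := by
    refine IsPullback.of_right ?_ hπs
      (IsPullback.of_hasPullback f0 (specULiftZIsTerminal.from (Spec (CommRingCat.of R))))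
    rw [specULiftZIsTerminal.hom_ext (Spec.map (CommRingCat.ofHom φ) ≫ specULiftZIsTerminal.from _)
      (specULiftZIsTerminal.from _)]
    rw [show π ≫ pullback.fst _ _ = qS from hπq]
    exact hsq
  haveI : IsAffineHom π := MorphismProperty.of_isPullback hπ.flip inferInstance
  haveI : IsAffineHom qR := MorphismProperty.pullback_fst _ _ inferInstance
  have hJ : (i.ker.map π).comap π = i.ker := by
    refine le_antisymm (Scheme.IdealSheafData.comap_map_le _ _) ?_
    refine Scheme.IdealSheafData.le_of_iSup_eq_top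
      (fun j => ⟨π ⁻¹ᵁ (qR ⁻¹ᵁ (V j).1), ((V j).2.preimage qR).preimage π⟩) ?_ fun j => ?_
    · simp only [← Scheme.Hom.preimage_iSup]
      have : ⨆ j, (V j).1 = ⊤ := 𝒰.iSup_opensRange
      rw [this]; rfl
    · let W : (CohB1.ProjSpaceOver n (Spec (CommRingCat.of R))).affineOpens :=
        ⟨qR ⁻¹ᵁ (V j).1, (V j).2.preimage qR⟩
      have h1 : (i.ker.map π).ideal W ≤
          (((i.ker.map π).comap π).ideal ⟨_, W.2.preimage π⟩).comap (π.app W.1).hom := by
        rw [← Scheme.IdealSheafData.ideal_map_of_isAffineHom]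
        exact Scheme.IdealSheafData.le_map_comap (i.ker.map π) π W
      rw [Scheme.IdealSheafData.ideal_map_of_isAffineHom] at h1
      -- rewrite the open as a preimage under `qS`
      have hop : π ⁻¹ᵁ (qR ⁻¹ᵁ (V j).1) = qS ⁻¹ᵁ (V j).1 := by
        rw [← hπq]; rfl
      let ρ := (CohB1.ProjSpaceOver n (Spec (CommRingCat.of S))).presheaf.map (eqToHom hop).op
      have hle : (⟨π ⁻¹ᵁ (qR ⁻¹ᵁ (V j).1), W.2.preimage π⟩ :
          (CohB1.ProjSpaceOver n (Spec (CommRingCat.of S))).affineOpens) ≤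
          ⟨qS ⁻¹ᵁ (V j).1, (V j).2.preimage qS⟩ := hop.le
      have hmap := i.ker.map_ideal hle
      show i.ker.ideal ⟨π ⁻¹ᵁ W.1, W.2.preimage π⟩ ≤ _
      rw [← hmap, hG j, Ideal.map_span, Ideal.span_le]
      rintro y ⟨x, hx, rfl⟩
      have hrange : ∀ z ∈ Subring.closure (Set.range (qS.app (V j).1).hom ∪
          ((sS.appLE ⊤ (qS ⁻¹ᵁ (V j).1) le_top).hom '' (T j x : Set _))),
          ((CohB1.ProjSpaceOver n (Spec (CommRingCat.of S))).presheaf.map (homOfLE hle).op).hom z ∈
            (π.app W.1).hom.range := by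
        intro z hz
        refine (Subring.closure_le (t := (π.app W.1).hom.range.comap _)).mpr ?_ hz
        rintro z (⟨c, rfl⟩ | ⟨c, hc, rfl⟩)
        · refine ⟨(qR.app (V j).1).hom c, ?_⟩
          have key : qR.app (V j).1 ≫ π.app W.1 = qS.app (V j).1 ≫
              (CohB1.ProjSpaceOver n (Spec (CommRingCat.of S))).presheaf.map (homOfLE hle).op := by
            subst qS
            rw [← Scheme.Hom.comp_app, Scheme.Hom.app_eq_appLE, Scheme.Hom.app_eq_appLE,
              Scheme.Hom.appLE_map]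
            simp only [hπq]
            rfl
          exact DFunLike.congr_fun (congrArg CommRingCat.Hom.hom key) c
        · have hc' : (Scheme.ΓSpecIso (CommRingCat.of S)).hom c ∈ φ.range :=
            hφ _ (Finset.mem_image_of_mem _ (Finset.mem_biUnion.mpr
              ⟨j, Finset.mem_univ _, Finset.mem_biUnion.mpr ⟨x, hx, hc⟩⟩))
          obtain ⟨r, hr⟩ := hc'
          refine ⟨(sR.appLE ⊤ W.1 le_top).hom ((Scheme.ΓSpecIso (CommRingCat.of R)).inv r), ?_⟩
          have key : (Scheme.ΓSpecIso (CommRingCat.of R)).inv ≫ sR.appLE ⊤ W.1 le_top ≫ π.app W.1 =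
              CommRingCat.ofHom φ ≫ (Scheme.ΓSpecIso (CommRingCat.of S)).inv ≫
                sS.appLE ⊤ (π ⁻¹ᵁ W.1) le_top := by
            rw [Scheme.Hom.app_eq_appLE, Scheme.Hom.appLE_comp_appLE]
            simp only [hπs]
            rw [Scheme.Hom.comp_appLE, ← Category.assoc, Scheme.ΓSpecIso_inv_naturality_assoc]
            rfl
          have hcc : (Scheme.ΓSpecIso (CommRingCat.of S)).inv (φ r) = c := by
            rw [hr]
            exact DFunLike.congr_fun (congrArg CommRingCat.Hom.hom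
              (Scheme.ΓSpecIso (CommRingCat.of S)).hom_inv_id) c
          refine (DFunLike.congr_fun (congrArg CommRingCat.Hom.hom key) r).trans ?_
          show (sS.appLE ⊤ (π ⁻¹ᵁ W.1) le_top) ((Scheme.ΓSpecIso (CommRingCat.of S)).inv (φ r)) = _
          rw [hcc]
          exact (DFunLike.congr_fun (congrArg CommRingCat.Hom.hom
            (Scheme.Hom.appLE_map sS le_top (homOfLE hle).op)) c).symm
      obtain ⟨w, hw⟩ := hrange x (hT j x)
      rw [SetLike.mem_coe]
      rw [← hw]
      apply h1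
      rw [Ideal.mem_comap, hw, ← hmap]
      exact Ideal.mem_map_of_mem _ (by rw [hG j]; exact Ideal.subset_span hx)
  let j' := (i.ker.map π).subschemeι
  have hfac : j'.ker ≤ (i ≫ π).ker := by
    rw [Scheme.IdealSheafData.ker_subschemeι]
    have h := Scheme.IdealSheafData.map_ker i π
    exact le_of_eq h
  refine ⟨_, j', inferInstance, IsClosedImmersion.lift j' (i ≫ π) hfac, ?_⟩
  have hX : IsPullback i (IsClosedImmersion.lift j' (i ≫ π) hfac) π j' := by
    refine isPullback_of_isClosedImmersion i j' _ π (IsClosedImmersion.lift_fac _ _ _).symm ?_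
    rw [Scheme.IdealSheafData.ker_subschemeι]
    exact hJ
  exact hX.flip.paste_vert hπ

end Groth.Agent.Lib.DescendProjDVR
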