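import Mathlib

open TensorProduct

universe u

namespace Groth.Agent.Lib.EqualizerDescent

section desc
variable {K : Type u} [Field K] {ιv ιe : Type u} [Finite ιv]
  {Kv : ιv → Type u} [∀ i, CommRing (Kv i)] [∀ i, Algebra K (Kv i)]
  {Ke : ιe → Type u} [∀ k, CommRing (Ke k)] [∀ k, Algebra K (Ke k)]
  {l r : ιe → ιv} (ρl : ∀ k, Kv (l k) →ₐ[K] Ke k) (ρr : ∀ k, Kv (r k) →ₐ[K] Ke k)
  (hlim : ∀ x : (∀ i, Kv i), (∀ k, ρl k (x (l k)) = ρr k (x (r k))) →
    ∃! a : K, ∀ i, algebraMap K (Kv i) a = x i)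
  (M : Type u) [AddCommGroup M] [Module K M]

include hlim

omit [Finite ιv] [AddCommGroup M] [Module K M] in
theorem scalar_injective {a b : K} (h : ∀ i, algebraMap K (Kv i) a = algebraMap K (Kv i) b) : a = b :=
  (hlim (fun i => algebraMap K (Kv i) b) (fun k => by simp)).unique h fun _ => rfl

omit [Finite ιv] in
theorem tmul_injective {a b : M} (h : ∀ i, (1 : Kv i) ⊗ₜ[K] a = (1 : Kv i) ⊗ₜ[K] b) : a = b := by
  classical
  let e := Module.Free.chooseBasis K M
  refine e.repr.injective (Finsupp.ext fun j => ?_)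
  refine scalar_injective ρl ρr hlim fun i => ?_
  have := congrArg (fun z => (Algebra.TensorProduct.basis (Kv i) e).repr z j) (h i)
  simpa [Algebra.TensorProduct.basis_repr_tmul, Algebra.smul_def] using this

theorem descend (z : ∀ i, Kv i ⊗[K] M)
    (hz : ∀ k, (ρl k).toLinearMap.rTensor M (z (l k)) = (ρr k).toLinearMap.rTensor M (z (r k))) :
    ∃ a : M, ∀ i, z i = (1 : Kv i) ⊗ₜ[K] a := by
  classical
  cases nonempty_fintype ιv
  let e := Module.Free.chooseBasis K M
  let c : ∀ i, Module.Free.ChooseBasisIndex K M →₀ Kv i := fun i => (Algebra.TensorProduct.basis (Kv i) e).repr (z i)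
  have hmap : ∀ {R S : Type u} [CommRing R] [Algebra K R] [CommRing S] [Algebra K S] (ρ : R →ₐ[K] S)
      (w : R ⊗[K] M) j, (Algebra.TensorProduct.basis S e).repr (ρ.toLinearMap.rTensor M w) j =
        ρ ((Algebra.TensorProduct.basis R e).repr w j) := by
    intro R S _ _ _ _ ρ w j
    induction w using TensorProduct.induction_on with
    | zero => simp
    | add p q hp hq => simp only [map_add, Finsupp.add_apply, hp, hq]
    | tmul a b => simp [Algebra.TensorProduct.basis_repr_tmul, Algebra.smul_def]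
  have hex : ∀ j, ∃! a : K, ∀ i, algebraMap K (Kv i) a = c i j := fun j =>
    hlim (fun i => c i j) fun k => by
      show ρl k (c (l k) j) = ρr k (c (r k) j)
      rw [← hmap, ← hmap, hz k]
  choose a ha _ using fun j => (hex j)
  let s := Finset.univ.biUnion fun i => (c i).support
  have hsupp : ∀ j, j ∉ s → a j = 0 := fun j hj => by
    refine scalar_injective ρl ρr hlim fun i => ?_
    rw [ha, map_zero]
    by_contra h
    exact hj (Finset.mem_biUnion.2 ⟨i, Finset.mem_univ _, Finsupp.mem_support_iff.2 h⟩)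
  let af : Module.Free.ChooseBasisIndex K M →₀ K := Finsupp.onFinset s a fun j hj => by
    by_contra h; exact hj (hsupp j h)
  refine ⟨e.repr.symm af, fun i => (Algebra.TensorProduct.basis (Kv i) e).repr.injective (Finsupp.ext fun j => ?_)⟩
  show c i j = _
  rw [← ha j i]
  simp [Algebra.TensorProduct.basis_repr_tmul, Algebra.smul_def, af]

end desc

section bc
variable {K : Type u} [Field K] {R S : Type u} [CommRing R] [Algebra K R] [CommRing S] [Algebra K S]
  {M N : Type u} [AddCommGroup M] [Module K M] [AddCommGroup N] [Module K N]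

/-- Base change along `ρ` of an `R`-linear map between base changes. -/
noncomputable def push (ρ : R →ₐ[K] S) (u : R ⊗[K] M →ₗ[R] R ⊗[K] N) : S ⊗[K] M →ₗ[S] S ⊗[K] N :=
  LinearMap.liftBaseChange S
    (ρ.toLinearMap.rTensor N ∘ₗ u.restrictScalars K ∘ₗ (TensorProduct.mk K R M 1))

theorem push_one_tmul (ρ : R →ₐ[K] S) (u : R ⊗[K] M →ₗ[R] R ⊗[K] N) (m : M) :
    push ρ u ((1 : S) ⊗ₜ m) = ρ.toLinearMap.rTensor N (u ((1 : R) ⊗ₜ m)) := by
  simp [push]

theorem rTensor_smul (ρ : R →ₐ[K] S) (c : R) (w : R ⊗[K] N) :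
    ρ.toLinearMap.rTensor N (c • w) = ρ c • ρ.toLinearMap.rTensor N w := by
  induction w using TensorProduct.induction_on with
  | zero => simp
  | add p q hp hq => simp only [smul_add, map_add, hp, hq]
  | tmul a b => simp [TensorProduct.smul_tmul']

theorem push_rTensor (ρ : R →ₐ[K] S) (u : R ⊗[K] M →ₗ[R] R ⊗[K] N) (z : R ⊗[K] M) :
    push ρ u (ρ.toLinearMap.rTensor M z) = ρ.toLinearMap.rTensor N (u z) := by
  induction z using TensorProduct.induction_on with
  | zero => simp
  | add p q hp hq => simp only [map_add, hp, hq]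
  | tmul a b =>
    have h1 : a ⊗ₜ[K] b = a • ((1 : R) ⊗ₜ[K] b) := by simp [TensorProduct.smul_tmul']
    have h2 : (ρ a) ⊗ₜ[K] b = ρ a • ((1 : S) ⊗ₜ[K] b) := by simp [TensorProduct.smul_tmul']
    rw [LinearMap.rTensor_tmul]
    show push ρ u (ρ a ⊗ₜ b) = _
    rw [h2, map_smul, push_one_tmul, h1, map_smul, rTensor_smul]

theorem push_comp (ρ : R →ₐ[K] S) (u : R ⊗[K] M ≃ₗ[R] R ⊗[K] N) (z : S ⊗[K] M) :
    push ρ u.symm.toLinearMap (push ρ u.toLinearMap z) = z := by
  induction z using TensorProduct.induction_on with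
  | zero => simp
  | add p q hp hq => simp only [map_add, hp, hq]
  | tmul a b =>
    have h2 : a ⊗ₜ[K] b = a • ((1 : S) ⊗ₜ[K] b) := by simp [TensorProduct.smul_tmul']
    rw [h2, map_smul, map_smul, push_one_tmul, push_rTensor]
    simp

end bc

section main
variable {K : Type u} [Field K] {ιv ιe : Type u} [Finite ιv]
  {Kv : ιv → Type u} [∀ i, CommRing (Kv i)] [∀ i, Algebra K (Kv i)]
  {Ke : ιe → Type u} [∀ k, CommRing (Ke k)] [∀ k, Algebra K (Ke k)]
  {l r : ιe → ιv} (ρl : ∀ k, Kv (l k) →ₐ[K] Ke k) (ρr : ∀ k, Kv (r k) →ₐ[K] Ke k)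
  (hlim : ∀ x : (∀ i, Kv i), (∀ k, ρl k (x (l k)) = ρr k (x (r k))) →
    ∃! a : K, ∀ i, algebraMap K (Kv i) a = x i)
  {A B : Type u} [CommRing A] [CommRing B] [Bialgebra K A] [Bialgebra K B]

omit [Field K] in
theorem map_eq_rTensor {K : Type u} [CommRing K] {R S A : Type u} [CommRing R] [Algebra K R] [CommRing S]
    [Algebra K S] [CommRing A] [Algebra K A] (ρ : R →ₐ[K] S) (z : R ⊗[K] A) :
    Algebra.TensorProduct.map ρ (AlgHom.id K A) z = ρ.toLinearMap.rTensor A z := by
  induction z using TensorProduct.induction_on with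
  | zero => simp
  | add p q hp hq => simp only [map_add, hp, hq]
  | tmul a b => simp

/-- `A ⊗ A → (R ⊗ A) ⊗ (R ⊗ A)`. -/
noncomputable def j (R A : Type u) [CommRing R] [Algebra K R] [CommRing A] [Algebra K A] :
    A ⊗[K] A →ₗ[K] (R ⊗[K] A) ⊗[R] (R ⊗[K] A) :=
  ((TensorProduct.AlgebraTensorModule.distribBaseChange K R A A).toLinearMap.restrictScalars K) ∘ₗ
    TensorProduct.mk K R (A ⊗[K] A) 1

theorem j_tmul (R A : Type u) [CommRing R] [Algebra K R] [CommRing A] [Algebra K A] (a b : A) :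
    j (K := K) R A (a ⊗ₜ b) = ((1 : R) ⊗ₜ[K] a) ⊗ₜ[R] ((1 : R) ⊗ₜ[K] b) := by
  simp [j]

theorem comul_one_tmul (R : Type u) [CommRing R] [Algebra K R] (a : A) :
    Coalgebra.comul (R := R) ((1 : R) ⊗ₜ[K] a) = j (K := K) R A (Coalgebra.comul (R := K) a) := by
  rw [TensorProduct.comul_tmul, CommSemiring.comul_apply]
  induction Coalgebra.comul (R := K) a using TensorProduct.induction_on with
  | zero => simp
  | add p q hp hq => simp only [TensorProduct.tmul_add, map_add, hp, hq]
  | tmul p q => simp [j_tmul]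

include hlim in
theorem existsUnique_bialgEquiv (u : ∀ i, (Kv i ⊗[K] B) ≃ₐc[Kv i] (Kv i ⊗[K] A))
    (hu : ∀ (k : ιe) (b : B),
      Algebra.TensorProduct.map (ρl k) (AlgHom.id K A) (u (l k) (1 ⊗ₜ[K] b)) =
        Algebra.TensorProduct.map (ρr k) (AlgHom.id K A) (u (r k) (1 ⊗ₜ[K] b))) :
    ∃! v : B ≃ₐc[K] A, ∀ (i : ιv) (b : B), u i (1 ⊗ₜ[K] b) = 1 ⊗ₜ[K] v b := by
  classical
  have hex : ∀ b, ∃ a : A, ∀ i, u i (1 ⊗ₜ[K] b) = 1 ⊗ₜ[K] a := fun b =>
    descend ρl ρr hlim A (fun i => u i (1 ⊗ₜ[K] b)) fun k => by rw [← map_eq_rTensor, ← map_eq_rTensor, hu]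
  choose v hv using hex
  have hinjA : ∀ {a b : A}, (∀ i, (1 : Kv i) ⊗ₜ[K] a = (1 : Kv i) ⊗ₜ[K] b) → a = b :=
    fun h => tmul_injective ρl ρr hlim A h
  let vhom : B →ₐ[K] A :=
    { toFun := v
      map_one' := hinjA fun i => by rw [← hv, ← Algebra.TensorProduct.one_def, map_one, Algebra.TensorProduct.one_def]
      map_mul' := fun a b => hinjA fun i => by
        rw [← hv, ← mul_one (1 : Kv i), ← Algebra.TensorProduct.tmul_mul_tmul, map_mul, mul_one, hv, hv,
          Algebra.TensorProduct.tmul_mul_tmul, mul_one]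
      map_zero' := hinjA fun i => by rw [← hv, TensorProduct.tmul_zero, map_zero, TensorProduct.tmul_zero]
      map_add' := fun a b => hinjA fun i => by
        rw [← hv, TensorProduct.tmul_add, map_add, hv, hv, ← TensorProduct.tmul_add]
      commutes' := fun c => hinjA fun i => by
        rw [← hv, Algebra.algebraMap_eq_smul_one, Algebra.algebraMap_eq_smul_one, TensorProduct.tmul_smul,
          TensorProduct.tmul_smul, ← algebraMap_smul (Kv i) c ((1 : Kv i) ⊗ₜ[K] (1 : B)), map_smul,
          ← Algebra.TensorProduct.one_def, map_one, algebraMap_smul, Algebra.TensorProduct.one_def] }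
  have hvv : ∀ b, vhom b = v b := fun _ => rfl
  have hbij : Function.Bijective v := by
    refine ⟨fun a b h => tmul_injective ρl ρr hlim B fun i => (u i).injective (show u i _ = u i _ by rw [hv, hv, h]), fun a => ?_⟩
    let L : ∀ i, (Kv i ⊗[K] B) ≃ₗ[Kv i] (Kv i ⊗[K] A) := fun i => (u i).toAlgEquiv.toLinearEquiv
    have hψ : ∀ k, push (ρl k) (L (l k)).toLinearMap = push (ρr k) (L (r k)).toLinearMap := by
      intro k
      refine LinearMap.ext fun z => ?_
      induction z using TensorProduct.induction_on with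
      | zero => simp
      | add p q hp hq => simp only [map_add, hp, hq]
      | tmul c b =>
        have h2 : c ⊗ₜ[K] b = c • ((1 : Ke k) ⊗ₜ[K] b) := by simp [TensorProduct.smul_tmul']
        rw [h2, map_smul, map_smul, push_one_tmul, push_one_tmul]
        congr 1
        show (ρl k).toLinearMap.rTensor A (u (l k) _) = (ρr k).toLinearMap.rTensor A (u (r k) _)
        rw [← map_eq_rTensor, ← map_eq_rTensor, hu]
    obtain ⟨b, hb⟩ := descend ρl ρr hlim B (fun i => (L i).symm ((1 : Kv i) ⊗ₜ[K] a)) fun k => by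
      have key : ∀ z, push (ρl k) (L (l k)).symm.toLinearMap z = push (ρr k) (L (r k)).symm.toLinearMap z := by
        intro z
        have h2 := push_comp (ρr k) (L (r k)).symm z
        rw [LinearEquiv.symm_symm, ← hψ k] at h2
        conv_lhs => rw [← h2]
        exact push_comp (ρl k) (L (l k)) _
      have h3 := key ((1 : Ke k) ⊗ₜ[K] a)
      rw [push_one_tmul, push_one_tmul] at h3
      exact h3
    refine ⟨b, hinjA fun i => ?_⟩
    rw [← hv]
    have h4 := congrArg (L i) (hb i)
    rw [LinearEquiv.apply_symm_apply] at h4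
    exact h4.symm
  let V : B ≃ₐc[K] A := BialgEquiv.ofAlgEquiv (AlgEquiv.ofBijective vhom hbij)
    (AlgHom.ext fun b => scalar_injective ρl ρr hlim fun i => by
      have h := CoalgHomClass.counit_comp_apply (u i) ((1 : Kv i) ⊗ₜ[K] b)
      rw [hv, TensorProduct.counit_tmul, TensorProduct.counit_tmul] at h
      simpa [Algebra.smul_def, hvv] using h)
    (AlgHom.ext fun b => by
      show Algebra.TensorProduct.map vhom vhom (Bialgebra.comulAlgHom K B b) = Bialgebra.comulAlgHom K A (v b)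
      refine tmul_injective ρl ρr hlim (A ⊗[K] A) fun i => ?_
      apply (TensorProduct.AlgebraTensorModule.distribBaseChange K (Kv i) A A).injective
      show j (Kv i) A _ = j (Kv i) A (Coalgebra.comul (R := K) (v b))
      have h : TensorProduct.map ((u i : Kv i ⊗[K] B →ₗ[Kv i] Kv i ⊗[K] A)) (u i : Kv i ⊗[K] B →ₗ[Kv i] Kv i ⊗[K] A)
          (Coalgebra.comul (R := Kv i) ((1 : Kv i) ⊗ₜ[K] b)) = Coalgebra.comul (u i ((1 : Kv i) ⊗ₜ[K] b)) :=
        CoalgHomClass.map_comp_comul_apply (u i) _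
      rw [hv, comul_one_tmul, comul_one_tmul] at h
      rw [← h, Bialgebra.comulAlgHom_apply]
      induction Coalgebra.comul (R := K) b using TensorProduct.induction_on with
      | zero => simp
      | add p q hp hq => simp only [map_add, hp, hq]
      | tmul p q =>
        rw [Algebra.TensorProduct.map_tmul, j_tmul, j_tmul, TensorProduct.map_tmul]
        show _ = u i _ ⊗ₜ u i _
        rw [hv, hv, hvv, hvv])
  refine ⟨V, fun i b => hv b i, fun w hw => ?_⟩
  refine BialgEquiv.ext fun b => hinjA fun i => ?_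
  show _ = (1 : Kv i) ⊗ₜ[K] v b
  rw [← hw, hv]

end main

end Groth.Agent.Lib.EqualizerDescent
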