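import Groth.Agent.Lib.ExtZAffine.Results
import Groth.Agent.Lib.ExtLin.ChangeRings
import Groth.Agent.H78.Formal.Algebraize

/-!
# Ext sheaves on affine schemes

`ℰxt^i(M^~, N^~) ≅ Ext^i(M, N)^~` for a finite module `M` over a Noetherian ring.
-/

set_option autoImplicit false
set_option linter.style.haveILetI false
universe u

open CategoryTheory CategoryTheory.Limits AlgebraicGeometry Opposite TopologicalSpace

noncomputable section

namespace Groth.Agent.Lib.ExtShAffine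

open Groth.Agent.Lib

variable (R : CommRingCat.{u})

/-- `R ≅ Γ(Spec R, ⊤)`. -/
def ringEquiv : R ≃+* Γ(Spec R, ⊤) := (Scheme.ΓSpecIso R).symm.commRingCatIsoToRingEquiv

/-- Global sections as modules over `R` are global sections with restricted scalars. -/
def specΓIso (F : (Spec R).Modules) :
    (QCoh.Tilde.specΓ R).obj F ≅
      (ExtLin.ChangeRings.T (ringEquiv R)).obj (ModuleCat.of Γ(Spec R, ⊤) Γ(F, ⊤)) :=
  LinearEquiv.toModuleIso (R := R)
    (show ((QCoh.Tilde.specΓ R).obj F : ModuleCat R) ≃ₗ[R]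
        ((ExtLin.ChangeRings.T (ringEquiv R)).obj (ModuleCat.of Γ(Spec R, ⊤) Γ(F, ⊤)) : ModuleCat R) from
      { AddEquiv.refl Γ(F, ⊤) with map_smul' := fun _ _ => rfl })

/-- The global sections of `M^~`. -/
def isoTopT (M : ModuleCat.{u} R) :
    (ExtLin.ChangeRings.T (ringEquiv R)).obj (ModuleCat.of Γ(Spec R, ⊤) Γ(tilde M, ⊤)) ≅ M :=
  (specΓIso R (tilde M)).symm ≪≫ ((QCoh.Tilde.sectionsTildeIso (R := R)).app M).symm

variable [IsNoetherianRing R] [HasInjectiveResolutions (ModSite.Mod (Spec R).sheaf)]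

/-- `ℰxt^i(M^~, N^~) ≅ Ext^i(M, N)^~`. -/
theorem nonempty_ext_tilde_iso (M N : ModuleCat.{u} R) [Module.Finite R M]
    [ModSite.HasSheafHom (O := (Spec R).sheaf) (tilde M)] (i : ℕ) :
    Nonempty ((ExtZAffine.ext (tilde M) (tilde N) i) ≅ tilde (ModuleCat.of R (Abelian.Ext.{u} M N i))) := by
  have hM : Coh.IsCoh (tilde M) := Groth.Agent.H78.Formal.Algebraize.isCoh_tilde (A := R) M
  have hN : Coh.IsQCoh (tilde N) := QCoh.Tilde.isQCoh_tildeFunctor_obj N
  haveI : (ExtZAffine.ext (tilde M) (tilde N) i).IsQuasicoherent := ExtZAffine.isQCoh_ext hM hN i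
  obtain ⟨e⟩ := ExtZAffine.nonempty_sections_ext hM hN i (isAffineOpen_top (Spec R))
  obtain ⟨e'⟩ := ExtLin.ChangeRings.nonempty_ext_iso (ringEquiv R) (ModuleCat.of Γ(Spec R, ⊤) Γ(tilde M, ⊤))
    (ModuleCat.of Γ(Spec R, ⊤) Γ(tilde N, ⊤)) i
  exact ⟨(QCoh.Tilde.isoTildeSections _).symm ≪≫ (tilde.functor R).mapIso
    (specΓIso R _ ≪≫ (ExtLin.ChangeRings.T (ringEquiv R)).mapIso e.toModuleIso ≪≫ e' ≪≫
      (ExtLin.Congr.extCongr R (isoTopT R M) (isoTopT R N) i).toModuleIso)⟩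

end Groth.Agent.Lib.ExtShAffine
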