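import Groth.Agent.Lib.ExtShStalk.Hom
import Groth.Agent.H52.HomInj
import Groth.Agent.Lib.DerivedOX.PullTensor

/-!
# Evaluation into a double internal hom
-/

set_option autoImplicit false
set_option linter.style.haveILetI false
universe u

open CategoryTheory CategoryTheory.Limits AlgebraicGeometry

noncomputable section

namespace Groth.Agent.Lib.ExtShBidual

open Groth.Agent.Lib Groth.Agent.Lib.ExtShStalk Groth.Agent.Lib.TensorMod.Basic
open ZarCoh.Exchange RefHull.SecHom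

variable {X : Scheme.{u}}

/-- The counit of `- ⊗ M ⊣ ℋom(M, -)`. -/
def εf (M G : X.Modules) [ModSite.HasSheafHom (O := X.sheaf) M] :
    CohB1.tensorMod ((Hom.R M).obj G) M ⟶ G :=
  (ModSite.sheafHomAdj (O := X.sheaf) M).counit.app G

theorem flip_map (M : X.Modules) {A A' : X.Modules} (h : A ⟶ A') :
    ((ModSite.tensorBi X.sheaf).flip.obj M).map h = tmap h (𝟙 M) := by
  simp only [tmap, TensorMod.Reflective.tm]
  refine congrArg (sh X).map ?_
  exact (MonoidalCategory.tensorHom_id ((fgt X).map h) _).symm.trans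
    (congrArg (MonoidalCategoryStruct.tensorHom ((fgt X).map h)) ((fgt X).map_id M).symm)

theorem obj_map (A : X.Modules) {M M' : X.Modules} (g : M ⟶ M') :
    ((ModSite.tensorBi X.sheaf).obj A).map g = tmap (𝟙 A) g := by
  exact DerivedOX.PullTensor.tensorBi_obj_map A g

theorem ε_eq (M G : X.Modules) [ModSite.HasSheafHom (O := X.sheaf) M] :
    Hom.ε M G = (comm M ((Hom.R M).obj G)).hom ≫ εf M G := by
  refine congrArg (fun t : CohB1.tensorMod M ((Hom.R M).obj G) ⟶ CohB1.tensorMod ((Hom.R M).obj G) M => t ≫ εf M G)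
    (?_ : (ModTensor.ModSite.flipObjIso (O := X.sheaf) M).inv.app ((Hom.R M).obj G) = _)
  change ((ModTensor.ModSite.tensorBiObjIso (O := X.sheaf) M).hom.app _ ≫
    (ModTensor.Monoidal.tenLeftIsoRight (O := X.sheaf) M).hom.app _) ≫
    (ModTensor.ModSite.tensorBiFlipIso (O := X.sheaf) M).inv.app _ = _
  refine (Category.comp_id _).trans ((Category.id_comp _).trans ?_)
  rfl

/-- Contravariance of the internal hom. -/
abbrev pre {M M' : X.Modules} [ModSite.HasSheafHom (O := X.sheaf) M] [ModSite.HasSheafHom (O := X.sheaf) M']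
    (g : M' ⟶ M) (G : X.Modules) : (Hom.R M).obj G ⟶ (Hom.R M').obj G :=
  (ExtSupp.sheafHomMap (O := X.sheaf) g).app G

theorem pre_εf {M M' : X.Modules} [ModSite.HasSheafHom (O := X.sheaf) M] [ModSite.HasSheafHom (O := X.sheaf) M']
    (g : M' ⟶ M) (G : X.Modules) :
    tmap (pre g G) (𝟙 M') ≫ εf M' G = tmap (𝟙 ((Hom.R M).obj G)) g ≫ εf M G := by
  rw [← flip_map, ← obj_map]
  exact conjugateEquiv_counit (ModSite.sheafHomAdj (O := X.sheaf) M) (ModSite.sheafHomAdj (O := X.sheaf) M')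
    ((ModSite.tensorBi X.sheaf).flip.map g) G

theorem pre_ε {M M' : X.Modules} [ModSite.HasSheafHom (O := X.sheaf) M] [ModSite.HasSheafHom (O := X.sheaf) M']
    (g : M' ⟶ M) (G : X.Modules) :
    tmap (𝟙 M') (pre g G) ≫ Hom.ε M' G = tmap g (𝟙 ((Hom.R M).obj G)) ≫ Hom.ε M G := by
  rw [ε_eq, ε_eq, ← Category.assoc, comm_natural, Category.assoc, pre_εf, ← Category.assoc, ← Category.assoc,
    comm_natural]

variable (E W : X.Modules) [ModSite.HasSheafHom (O := X.sheaf) E]
  [ModSite.HasSheafHom (O := X.sheaf) ((Hom.R E).obj W)]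

/-- The evaluation map into the double internal hom. -/
def ev : E ⟶ (Hom.R ((Hom.R E).obj W)).obj W :=
  (ModSite.sheafHomAdj (O := X.sheaf) ((Hom.R E).obj W)).homEquiv E W (Hom.ε E W)

theorem ev_εf : tmap (ev E W) (𝟙 ((Hom.R E).obj W)) ≫ εf ((Hom.R E).obj W) W = Hom.ε E W := by
  rw [← flip_map]
  exact (Adjunction.homEquiv_counit (ModSite.sheafHomAdj (O := X.sheaf) ((Hom.R E).obj W)) E W (ev E W)).symm.trans
    (Equiv.symm_apply_apply _ _)

variable {W}

/-- The evaluation map is natural. -/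
theorem ev_natural {E₀ E₁ : X.Modules} [ModSite.HasSheafHom (O := X.sheaf) E₀] [ModSite.HasSheafHom (O := X.sheaf) E₁]
    [ModSite.HasSheafHom (O := X.sheaf) ((Hom.R E₀).obj W)] [ModSite.HasSheafHom (O := X.sheaf) ((Hom.R E₁).obj W)]
    (a : E₁ ⟶ E₀) : a ≫ ev E₀ W = ev E₁ W ≫ pre (pre a W) W := by
  apply ((ModSite.sheafHomAdj (O := X.sheaf) ((Hom.R E₀).obj W)).homEquiv E₁ W).symm.injective
  refine (Adjunction.homEquiv_naturality_left_symm _ a (ev E₀ W)).trans ?_
  refine Eq.trans ?_ (H52.HomInj.homEquiv_symm_comp (O := X.sheaf) (pre a W) (ev E₁ W)).symm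
  rw [flip_map, obj_map]
  unfold ev
  erw [Equiv.symm_apply_apply, Equiv.symm_apply_apply]
  exact (pre_ε a W).symm

variable (W)

omit [ModSite.HasSheafHom (O := X.sheaf) E] [ModSite.HasSheafHom (O := X.sheaf) ((Hom.R E).obj W)] in
theorem pairM_comm {A M B : X.Modules} (φ : CohB1.tensorMod A M ⟶ B) {U : X.Opens} (m : Γ(M, U))
    (a : Γ(A, U)) : TensorMod.Free.pairM ((comm M A).hom ≫ φ) m a = TensorMod.Free.pairM φ a m :=
  congrArg (fun t => TensorMod.Whisker.pair (M := (fgt X).obj M) (P := (fgt X).obj A) (X := Opposite.op U) t m a)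
    ((TensorMod.Basic.adj X).homEquiv_naturality_left (BraidedCategory.braiding ((fgt X).obj M) ((fgt X).obj A)).hom φ)

omit [ModSite.HasSheafHom (O := X.sheaf) E] [ModSite.HasSheafHom (O := X.sheaf) ((Hom.R E).obj W)] in
theorem stalkPair_comm {A M B : X.Modules} (φ : CohB1.tensorMod A M ⟶ B) (x : X) (v : M.presheaf.stalk x)
    (a : A.presheaf.stalk x) :
    HomAdj.stalkPair ((comm M A).hom ≫ φ) x a v = HomAdj.stalkPair φ x v a := by
  obtain ⟨U, hx, m, rfl⟩ := TopCat.Presheaf.exists_germ_eq M.presheaf v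
  obtain ⟨V, hV, b, rfl⟩ := TopCat.Presheaf.exists_germ_eq A.presheaf a
  have hxW : x ∈ U ⊓ V := ⟨hx, hV⟩
  rw [← germ_rs (M := M) (inf_le_left : U ⊓ V ≤ U) hxW m,
    ← germ_rs (M := A) (inf_le_right : U ⊓ V ≤ V) hxW b,
    HomAdj.stalkPair_germ, HomAdj.stalkPair_germ]
  exact congrArg _ (pairM_comm φ _ _)

theorem σ_ev (x : X) (v : E.presheaf.stalk x) (a : ((Hom.R E).obj W).presheaf.stalk x) :
    Hom.σ ((Hom.R E).obj W) W x (Modules.StalkModule.stalkMapₗ (ev E W) x v) a = Hom.σ E W x a v := by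
  show HomAdj.stalkPair (Hom.ε ((Hom.R E).obj W) W) x _ a = HomAdj.stalkPair (Hom.ε E W) x a v
  rw [← Hom.stalkPair_tmap, ε_eq, ← Category.assoc, comm_natural, Category.assoc, ev_εf, stalkPair_comm]

end Groth.Agent.Lib.ExtShBidual
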