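import Groth.Agent.Lib.ExtShBidual
import Groth.Agent.Lib.ExtShDivisor
import Groth.Agent.H95.LefFEt.Bidual
import Groth.Agent.Lib.TensorMod.FPConv
import Groth.Agent.Lib.TensorMod.LocFree
import Groth.Agent.Lib.Perfect.Coherent
import Groth.Agent.Lib.Modules.GenStalk
import Groth.Agent.Lib.Modules.Stalk
import Groth.Agent.Lib.ProjDualExt.Twist
import Mathlib.LinearAlgebra.Dual.Lemmas

/-!
# Biduality of Ext sheaves for modules with a two term finite locally free resolution
-/

set_option autoImplicit false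
set_option linter.style.haveILetI false
universe u

open CategoryTheory CategoryTheory.Limits AlgebraicGeometry

noncomputable section

namespace Groth.Agent.Lib.ExtShBidual

open Groth.Agent.Lib Groth.Agent.Lib.ExtShStalk Groth.Agent.Lib.TensorMod.Basic
open Groth.Agent.Lib.Modules

variable {X : Scheme.{u}}

/-- The internal hom of a finite locally free module into an invertible one is finite locally free. -/
theorem isFinLocFree_hom {E W : X.Modules} (hE : FlatMod.IsFinLocFree E) (hW : PicF.IsInvertible W)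
    [ModSite.HasSheafHom (O := X.sheaf) E] : FlatMod.IsFinLocFree ((Hom.R E).obj W) :=
  TensorMod.LocFree.of_iso ((ExtShTensor.homTensorIso (DualBasis.hasDBases_of_isFinLocFree hE)).app W).symm
    (TensorMod.LocFree.isFinLocFree_tensorMod (H95.LefFEt.Bidual.isFinLocFree_dual hE)
      (TensorMod.LocFree.of_rank (TensorMod.LocFree.of_isInvertible hW)))

/-- The evaluation map of a finite locally free module into its double hom to an invertible module is an isomorphism. -/
theorem isIso_ev [IsLocallyNoetherian X] {E W : X.Modules} (hE : FlatMod.IsFinLocFree E) (hW : PicF.IsInvertible W)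
    [ModSite.HasSheafHom (O := X.sheaf) E] [ModSite.HasSheafHom (O := X.sheaf) ((Hom.R E).obj W)] :
    IsIso (ev E W) := by
  refine (StalkModule.isIso_iff_stalkMapₗ_bijective _).2 fun x => ?_
  have hc : Coh.IsCoh E := Perfect.Coherent.isCoh_of_isFinLocFree hE
  have hσ := Hom.σ_bijective _ (Perfect.Coherent.isCoh_of_isFinLocFree (isFinLocFree_hom hE hW)) W x
  haveI := hc.2
  haveI := GenStalk.finite_stalk E x
  haveI := TensorMod.FPConv.free_stalk_of_isFinLocFree hE x
  let R := X.presheaf.stalk x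
  let s := LinearEquiv.ofBijective (Hom.σ E W x) (Hom.σ_bijective _ hc W x)
  obtain ⟨e⟩ := ProjDualExt.Twist.nonempty_stalk_equiv hW x
  have key : Function.Bijective fun v : E.presheaf.stalk x =>
      Hom.σ ((Hom.R E).obj W) W x (StalkModule.stalkMapₗ (ev E W) x v) := by
    constructor
    · intro v w h
      refine (Module.evalEquiv R (E.presheaf.stalk x)).injective (LinearMap.ext fun ψ => ?_)
      have h1 := congrArg (fun t : RefHull.StalkHom ((Hom.R E).obj W) W x => t (s.symm (e.symm.toLinearMap.comp ψ))) h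
      simp only [σ_ev] at h1
      have h2 : s (s.symm (e.symm.toLinearMap.comp ψ)) = e.symm.toLinearMap.comp ψ := s.apply_symm_apply _
      exact e.symm.injective (by
        show e.symm (ψ v) = e.symm (ψ w)
        exact ((congrArg (fun t : RefHull.StalkHom E W x => t v) h2).symm.trans h1).trans
          (congrArg (fun t : RefHull.StalkHom E W x => t w) h2))
    · intro Φ
      refine ⟨(Module.evalEquiv R (E.presheaf.stalk x)).symm
        (e.toLinearMap.comp (Φ.comp (s.symm.toLinearMap.comp (e.symm.toLinearMap.compRight R)))), LinearMap.ext fun a => ?_⟩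
      rw [σ_ev]
      apply e.injective
      refine (Module.apply_evalEquiv_symm_apply R (E.presheaf.stalk x) (e.toLinearMap.comp (Hom.σ E W x a)) _).trans ?_
      show e (Φ (s.symm (e.symm.toLinearMap.comp (e.toLinearMap.comp (s a))))) = e (Φ a)
      rw [← LinearMap.comp_assoc]
      simp
  exact (Function.Bijective.of_comp_iff' hσ _).1 key

variable [IsLocallyNoetherian X] [HasInjectiveResolutions (ModSite.Mod X.sheaf)]
  [∀ A : X.Modules, ModSite.HasSheafHom (O := X.sheaf) A]

/-- The first Ext sheaf from a two term finite locally free resolution. -/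
theorem nonempty_ext_one {S : ShortComplex X.Modules} (hS : S.ShortExact) (h₁ : FlatMod.IsFinLocFree S.X₁)
    (h₂ : FlatMod.IsFinLocFree S.X₂) (W : X.Modules) :
    Nonempty (((ModSite.extSh (O := X.sheaf) S.X₃ 1).obj W : X.Modules) ≅ cokernel (pre S.f W)) := by
  haveI : HasInjectiveResolutions X.Modules := ‹HasInjectiveResolutions (ModSite.Mod X.sheaf)›
  haveI : ∀ A : X.Modules, (Hom.R A).Additive := fun A => (Hom.adj A).right_adjoint_additive
  haveI : ∀ A : X.Modules, PreservesFiniteLimits (Hom.R A) := fun A =>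
    haveI : PreservesLimitsOfSize.{0, 0} (Hom.R A) := (Hom.adj A).rightAdjoint_preservesLimits
    PreservesLimitsOfSize.preservesFiniteLimits _
  let fG : Hom.R S.X₃ ⟶ Hom.R S.X₂ := ExtSupp.sheafHomMap (O := X.sheaf) S.g
  let gG : Hom.R S.X₂ ⟶ Hom.R S.X₁ := ExtSupp.sheafHomMap (O := X.sheaf) S.f
  have wG : ∀ Z : X.Modules, fG.app Z ≫ gG.app Z = 0 := fun Z =>
    H52.HomInj.map_comp_eq_zero (O := X.sheaf) S Z
  have hI : ∀ J : X.Modules, Injective J → (ShortComplex.mk (fG.app J) (gG.app J) (wG J)).ShortExact := by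
    intro J hJ
    haveI : Injective (C := ModSite.Mod X.sheaf) J := hJ
    obtain ⟨hex, hmono⟩ := H52.HomInj.exact_mono (O := X.sheaf) (S := S) hS J
    refine { exact := hex, mono_f := hmono, epi_g := ?_ }
    exact ClSub.Basis.epi_of_surjective_affine (φ := gG.app J) fun U =>
      H52.HomInj.surjective_sections (O := X.sheaf) (S := S) hS J (Opposite.op U.1)
  obtain ⟨h₁', e₁⟩ := H52.RelExtLES.exact₁ fG gG wG hI 0 W
  have e₃ := H30.DerivedSES.exact₃ fG gG wG hI 0 W
  let δ := (H30.DerivedSES.δ fG gG wG hI 0).app W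
  haveI : Epi δ := (ShortComplex.exact_iff_epi _
    ((ExtShStalk.Coh.isZero_E (A := S.X₂) h₂ W 0).eq_of_tgt _ _)).1 e₁
  exact ⟨(e₃.gIsCokernel.coconePointUniqueUpToIso (colimit.isColimit _)) ≪≫
    (cokernel.mapIso (gG.app W) ((NatTrans.rightDerived gG 0).app W)
      (asIso ((Hom.R S.X₂).toRightDerivedZero.app W)) (asIso ((Hom.R S.X₁).toRightDerivedZero.app W))
      (ExtShDivisor.toRightDerivedZero_natural gG W)).symm⟩

/-- `ℰxt¹(ℰxt¹(P, W), W) ≅ P` for `P` with a two term resolution and `ℋom(P, W) = 0`. -/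
theorem nonempty_bidual_iso {S : ShortComplex X.Modules} (hS : S.ShortExact) (h₁ : FlatMod.IsFinLocFree S.X₁)
    (h₂ : FlatMod.IsFinLocFree S.X₂) {W : X.Modules} (hW : PicF.IsInvertible W)
    (h₀ : IsZero ((Hom.R S.X₃).obj W)) :
    Nonempty (((ModSite.extSh (O := X.sheaf) ((ModSite.extSh (O := X.sheaf) S.X₃ 1).obj W : X.Modules) 1).obj W : X.Modules) ≅
      S.X₃) := by
  let α : (Hom.R S.X₂).obj W ⟶ (Hom.R S.X₁).obj W := pre S.f W
  haveI : Mono α := by
    refine ((ShortComplex.mk (pre S.g W) α (H52.HomInj.map_comp_eq_zero (O := X.sheaf) S W)).exact_iff_mono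
      (h₀.eq_of_src _ _)).1 ?_
    exact (H52.HomInj.exact_mono (O := X.sheaf) (S := S) hS W).1
  have hT : (ShortComplex.mk α (cokernel.π α) (cokernel.condition α)).ShortExact :=
    { exact := ShortComplex.exact_cokernel _ }
  obtain ⟨a⟩ := nonempty_ext_one hS h₁ h₂ W
  obtain ⟨b⟩ := ExtShTensor.nonempty_ext_congr a W 1
  obtain ⟨c⟩ := nonempty_ext_one hT (isFinLocFree_hom h₂ hW) (isFinLocFree_hom h₁ hW) W
  haveI := isIso_ev (E := S.X₁) h₁ hW
  haveI := isIso_ev (E := S.X₂) h₂ hW
  haveI := hS.epi_g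
  exact ⟨b ≪≫ c ≪≫ (cokernel.mapIso S.f (pre α W) (asIso (ev S.X₁ W)) (asIso (ev S.X₂ W)) (ev_natural S.f)).symm ≪≫
    (colimit.isColimit _).coconePointUniqueUpToIso hS.exact.gIsCokernel⟩

end Groth.Agent.Lib.ExtShBidual
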