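import Groth.Agent.Lib.CohDelta.SerreAcyc
import Groth.Agent.Lib.CohDelta.Syzygy
import Groth.Agent.Lib.HomFlasque.Basic
import Groth.Agent.Lib.ExtZAffine.Results
import Groth.Agent.Lib.Perfect.PCCoh
import Groth.Agent.Lib.DerivedOX.Grothendieck
import Groth.Agent.S0036

/-!
# Coherence of relative Ext sheaves along proper morphisms
-/

set_option autoImplicit false
set_option linter.style.haveILetI false
universe u

open CategoryTheory CategoryTheory.Limits AlgebraicGeometry Opposite TopologicalSpace
open CategoryTheory.Abelian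

noncomputable section

namespace Groth.Agent.Lib.ExtShRelCoh

open Groth.Agent.Lib Groth.Agent.Lib.ExtShStalk Groth.Agent.Lib.ZarCoh.Basic Groth.Agent.Lib.CohDelta.Basic

variable {X Y : Scheme.{u}}

/-- Internal homs into injectives are flasque. -/
theorem isFlasque_hom (F I : X.Modules) [ModSite.HasSheafHom (O := X.sheaf) F] [Injective I] :
    TopCat.Sheaf.IsFlasque (Coh.toAb ((Hom.R F).obj I)) where
  epi {U V} i := (AddCommGrpCat.epi_iff_surjective _).mpr <| by
    refine HomFlasque.surjective_res_of_factor _ (leOfHom i.unop) fun e => ?_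
    haveI := HomFlasque.mono_tensor_genMap F (leOfHom i.unop)
    let adj := Hom.adj F
    refine ⟨adj.homEquiv _ _ (Injective.factorThru ((adj.homEquiv _ _).symm e)
      ((DCoh.tensorBi.obj F).map (CohDelta.Flasque.genMap (leOfHom i.unop)))), ?_⟩
    rw [← adj.homEquiv_naturality_left, Injective.comp_factorThru, Equiv.apply_symm_apply]

/-- Flasque modules have no higher direct images. -/
theorem isZero_rightDerived_of_flasque [HasInjectiveResolutions X.Modules] (f : X ⟶ Y) (M : X.Modules)
    [TopCat.Sheaf.IsFlasque (Coh.toAb M)] (p : ℕ) :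
    IsZero (((Scheme.Modules.pushforward f).rightDerived (p + 1)).obj M) := by
  let I := injectiveResolution M
  obtain ⟨e⟩ := CohDelta.Syzygy.nonempty_rightDerived_iso I f p
  refine IsZero.of_iso ?_ e
  haveI hsurj : Epi ((Scheme.Modules.pushforward f).map (CohDelta.Syzygy.t I p)) := by
    refine ClSub.Basis.epi_of_surjective_affine _ fun U s => ?_
    refine (CohDelta.Syzygy.c_eq_zero_iff I (f ⁻¹ᵁ U.1) p s).1 ?_
    haveI : Subsingleton (Ext.{u} (Zs.obj (f ⁻¹ᵁ U.1)) (Coh.toAb M) (p + 1)) :=
      ZarCoh.Basic.HU_flasque _ _ p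
    haveI : Subsingleton (Ext.{u} (Zs.obj (f ⁻¹ᵁ U.1)) (Coh.toAb (CohDelta.Syzygy.Z I 0)) (p + 1)) :=
      subsingleton_of_forall_eq 0 fun a => by
        have h : (a.comp (Ext.mk₀ (abMap (CohDelta.Syzygy.augIso I).inv)) (add_zero (p + 1))) = 0 :=
          Subsingleton.elim _ _
        have h2 := congrArg (fun b : Ext.{u} (Zs.obj (f ⁻¹ᵁ U.1)) (Coh.toAb M) (p + 1) =>
          b.comp (Ext.mk₀ (abMap (CohDelta.Syzygy.augIso I).hom)) (add_zero (p + 1))) h
        simp only [Ext.comp_assoc_of_third_deg_zero, Ext.mk₀_comp_mk₀, Ext.zero_comp] at h2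
        have h3 : abMap (CohDelta.Syzygy.augIso I).inv ≫ abMap (CohDelta.Syzygy.augIso I).hom = 𝟙 _ :=
          ((abF X).map_comp _ _).symm.trans
            ((congrArg _ (CohDelta.Syzygy.augIso I).inv_hom_id).trans ((abF X).map_id _))
        rwa [h3, Ext.comp_mk₀_id] at h2
    exact Subsingleton.elim _ _
  exact isZero_cokernel_of_epi _

/-- Coherent modules form a thick class. -/
theorem isThick_isCoh (Y : Scheme.{u}) [IsLocallyNoetherian Y] :
    CohDelta.SerreAcyc.IsThick (fun M : Y.Modules => Coh.IsCoh M) where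
  iso e h := CohBasics.Closure.isCoh_of_iso e h
  zero hM := by
    have hO : Coh.IsCoh (Coh.structureModule Y) := by
      haveI := TensorMod.QCohInv.isQCoh_structureModule Y
      exact CohBasics.Closure.isCoh_of_finite_sections fun U _ => (inferInstance : Module.Finite Γ(Y, U) Γ(Y, U))
    exact CohBasics.Closure.isCoh_of_iso ((isZero_cokernel_of_epi (𝟙 (Coh.structureModule Y))).iso hM)
      (CohBasics.Closure.isCoh_cokernel (𝟙 (Coh.structureModule Y)) hO.1 hO)
  ker φ h h' := CohBasics.Closure.isCoh_kernel φ h h'.1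
  coker φ h h' := CohBasics.Closure.isCoh_cokernel φ h.1 h'
  ext hS h h' := Perfect.PCCoh.isCoh_of_extension hS h h'

variable [HasInjectiveResolutions (ModSite.Mod X.sheaf)]

/-- Relative Ext sheaves of coherent modules along a proper morphism are coherent. -/
theorem isCoh (f : X ⟶ Y) [IsProper f] [IsLocallyNoetherian Y] {F G : X.Modules} (hF : Coh.IsCoh F)
    (hG : Coh.IsCoh G) [ModSite.HasSheafHom (O := X.sheaf) F] [HasInjectiveResolutions X.Modules]
    [(Hom.R F ⋙ Scheme.Modules.pushforward f).Additive] (p : ℕ) :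
    Coh.IsCoh (((Hom.R F ⋙ Scheme.Modules.pushforward f).rightDerived p).obj G) := by
  haveI : IsLocallyNoetherian X := LocallyOfFiniteType.isLocallyNoetherian f
  haveI : (Hom.R F).Additive := (Hom.adj F).right_adjoint_additive
  haveI : PreservesLimitsOfSize.{0, 0} (Scheme.Modules.pushforward f) :=
    (Scheme.Modules.pullbackPushforwardAdjunction f).rightAdjoint_preservesLimits
  haveI : PreservesFiniteLimits (Scheme.Modules.pushforward f) :=
    PreservesLimitsOfSize.preservesFiniteLimits _
  haveI : EnoughInjectives X.Modules := DerivedOX.Grothendieck.enoughInjectives_modules X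
  let I := injectiveResolution G
  let C := ((Hom.R F).mapHomologicalComplex (ComplexShape.up ℕ)).obj I.cocomplex
  have h := CohDelta.SerreAcyc.homology (isThick_isCoh Y) (Scheme.Modules.pushforward f) C
    (fun n q => by
      haveI : Injective (I.cocomplex.X n) := I.injective n
      haveI := isFlasque_hom F (I.cocomplex.X n)
      exact isZero_rightDerived_of_flasque f ((Hom.R F).obj (I.cocomplex.X n)) q)
    (fun n q => by
      refine CohBasics.Closure.isCoh_of_iso
        (((Scheme.Modules.pushforward f).rightDerived q).mapIso (I.isoRightDerivedObj (Hom.R F) n)) ?_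
      exact Groth.Agent.S0036.result f _ (ExtZAffine.isCoh_ext hF hG n) q) p
  exact CohBasics.Closure.isCoh_of_iso (I.isoRightDerivedObj (Hom.R F ⋙ Scheme.Modules.pushforward f) p).symm h

end Groth.Agent.Lib.ExtShRelCoh
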