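import Groth.Agent.Lib.ExtShTwist
import Groth.Agent.Lib.ExtShStalk.Hom
import Groth.Agent.Lib.Modules.Stalk
import Groth.Agent.Lib.ProjDualExt.Twist
import Groth.Agent.Lib.SpecSeq.Composite
import Groth.Agent.Lib.SurfRR.Regular
import Groth.Agent.Lib.PushClosed.Unit
import Groth.Agent.Lib.JacCrit.OverField
import Groth.Agent.Lib.Cyc.Dev.SchemeEquiv

/-!
# Ext sheaves of modules supported on a proper closed subscheme
-/

set_option autoImplicit false
set_option linter.style.haveILetI false
universe u

open CategoryTheory CategoryTheory.Limits AlgebraicGeometry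

noncomputable section

namespace Groth.Agent.Lib.ExtShSurf

open Groth.Agent.Lib Groth.Agent.Lib.ExtShStalk

variable {S C : Scheme.{u}}

/-- Off the whole space, a closed subscheme is cut out by a nonzero element at each point. -/
theorem exists_ne_zero_stalkMap_eq_zero [IsIntegral S] (j : C ⟶ S) [IsClosedImmersion j]
    (hj : genericPoint S ∉ Set.range j) (c : C) :
    ∃ a : S.presheaf.stalk (j c), a ≠ 0 ∧ j.stalkMap c a = 0 := by
  by_contra! h
  have hinj : Function.Injective (j.stalkMap c).hom := (injective_iff_map_eq_zero _).2 fun a ha => by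
    by_contra hne
    exact h a hne ha
  haveI : IsIso (j.stalkMap c) := (ConcreteCategory.isIso_iff_bijective _).2 ⟨hinj, j.stalkMap_surjective c⟩
  have h1 := Scheme.SpecMap_stalkMap_fromSpecStalk (f := j) (x := c)
  have h2 : genericPoint S ∈ Set.range (S.fromSpecStalk (j c)) := by
    rw [Scheme.range_fromSpecStalk]
    exact (genericPoint_spec S).specializes trivial
  obtain ⟨p, hp⟩ := h2
  refine hj ⟨C.fromSpecStalk c (inv (Spec.map (j.stalkMap c)) p), ?_⟩
  rw [← Scheme.Hom.comp_apply, ← h1, Scheme.Hom.comp_apply, ← Scheme.Hom.comp_apply (inv (Spec.map (j.stalkMap c))) (Spec.map (j.stalkMap c)),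
    IsIso.inv_hom_id]
  exact hp

/-- No nonzero homomorphism from a module supported on a proper closed subscheme to an invertible one. -/
theorem subsingleton_stalk_hom [IsIntegral S] [IsLocallyNoetherian S] (j : C ⟶ S) [IsClosedImmersion j]
    (hj : genericPoint S ∉ Set.range j) {M : C.Modules} (hM : Coh.IsCoh ((Coh.push j).obj M))
    {W : S.Modules} (hW : PicF.IsInvertible W) [ModSite.HasSheafHom (O := S.sheaf) ((Coh.push j).obj M)] (x : S) :
    Subsingleton (((Hom.R ((Coh.push j).obj M)).obj W).presheaf.stalk x) := by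
  refine @Function.Injective.subsingleton _ _ _ (Hom.σ_bijective _ hM W x).1 ⟨fun φ ψ => LinearMap.ext fun v => ?_⟩
  by_cases hx : x ∈ Set.range j
  swap
  · haveI := PushClosed.Unit.subsingleton_stalk_push j M hx
    rw [Subsingleton.elim v 0, map_zero, map_zero]
  obtain ⟨c, rfl⟩ := hx
  obtain ⟨a, ha, ha'⟩ := exists_ne_zero_stalkMap_eq_zero j hj c
  have hv : a • v = 0 := by
    refine (PushClosed.Unit.bijective_pushStalkMap j M c).1 ?_
    erw [DerivedOX.PullbackStalk.pushStalkMap_smul, map_zero, ha', zero_smul]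
  obtain ⟨e⟩ := Groth.Agent.Lib.ProjDualExt.Twist.nonempty_stalk_equiv hW (j c)
  apply e.injective
  apply mul_left_cancel₀ ha
  rw [← smul_eq_mul, ← smul_eq_mul, ← map_smul, ← map_smul, ← map_smul, ← map_smul, hv]
  simp

/-- `ℋom(j_* M, W) = 0`. -/
theorem isZero_extSh_zero [IsIntegral S] [IsLocallyNoetherian S] (j : C ⟶ S) [IsClosedImmersion j]
    (hj : genericPoint S ∉ Set.range j) {M : C.Modules} (hM : Coh.IsCoh ((Coh.push j).obj M))
    {W : S.Modules} (hW : PicF.IsInvertible W) [ModSite.HasSheafHom (O := S.sheaf) ((Coh.push j).obj M)]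
    [HasInjectiveResolutions S.Modules] [(Hom.R ((Coh.push j).obj M)).Additive] :
    IsZero (((Hom.R ((Coh.push j).obj M)).rightDerived 0).obj W) := by
  haveI : PreservesLimitsOfSize.{0, 0} (Hom.R ((Coh.push j).obj M)) :=
    (Hom.adj _).rightAdjoint_preservesLimits
  haveI : PreservesFiniteLimits (Hom.R ((Coh.push j).obj M)) := PreservesLimitsOfSize.preservesFiniteLimits _
  haveI : EnoughInjectives S.Modules := DerivedOX.Grothendieck.enoughInjectives_modules S
  exact (Modules.Stalk.isZero_iff_stalk_subsingleton.2 fun x => subsingleton_stalk_hom j hj hM hW x).of_iso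
    ((Hom.R _).rightDerivedZeroIsoSelf.app W)

end Groth.Agent.Lib.ExtShSurf

namespace Groth.Agent.Lib.ExtShSurf

variable {k : Type u} [Field k] {S : Scheme.{u}} [S.Over (Spec (CommRingCat.of k))]

/-- A curve does not pass through the generic point of a surface. -/
theorem genericPoint_not_mem_range {C : Scheme.{u}} (j : C ⟶ S) [IsClosedImmersion j] [IsIntegral S]
    (hdim : topologicalKrullDim S = 2) (hC : topologicalKrullDim C = 1) : genericPoint S ∉ Set.range j := by
  intro h
  have hu : Set.range j = Set.univ := Set.eq_univ_of_univ_subset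
    ((genericPoint_spec S).mem_open_set_iff isOpen_univ |> fun _ => by
      rw [← (genericPoint_spec S).def]
      exact closure_minimal (Set.singleton_subset_iff.2 h) j.isClosedEmbedding.isClosed_range)
  have hh : IsHomeomorph j.base :=
    isHomeomorph_iff_isEmbedding_surjective.2 ⟨j.isClosedEmbedding.isEmbedding, Set.range_eq_univ.1 hu⟩
  have := IsHomeomorph.topologicalKrullDim_eq _ hh
  rw [hC, hdim] at this
  exact absurd this (by decide)

variable [IsAlgClosed k] [IsIntegral S] [Smooth (S ↘ Spec (CommRingCat.of k))]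

/-- A smooth integral surface has relative dimension two. -/
theorem smoothOfRelativeDimension_two (hdim : topologicalKrullDim S = 2) :
    SmoothOfRelativeDimension 2 (S ↘ Spec (CommRingCat.of k)) :=
  SurfRR.Regular.smoothOfRelativeDimension_two hdim fun x =>
    JacCrit.OverField.isRegularLocalRing_stalk (S ↘ Spec (CommRingCat.of k)) x
      (by rw [Scheme.Hom.smoothLocus_eq_top]; trivial)

/-- The canonical module of a smooth surface is invertible. -/
theorem isInvertible_topDiff [IsProper (S ↘ Spec (CommRingCat.of k))] (hdim : topologicalKrullDim S = 2) {W : S.Modules}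
    (hW : ExtPow.IsExtPow 2 (Omega.sheaf (S ↘ Spec (CommRingCat.of k))) W) : PicF.IsInvertible W :=
  haveI := smoothOfRelativeDimension_two (k := k) hdim
  SurfRR.Regular.isInvertible_canonical hW

end Groth.Agent.Lib.ExtShSurf

namespace Groth.Agent.Lib.ExtShSurf

/-- Zero modules have no cohomology. -/
theorem subsingleton_HH_of_isZero {X : Scheme.{u}} {M : X.Modules} (h : IsZero M) (i : ℕ) :
    Subsingleton (Coh.HH X M i) := by
  have h' : IsZero (Coh.toAb M) := Functor.map_isZero (SheafOfModules.toSheaf X.ringCatSheaf) h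
  refine subsingleton_of_forall_eq 0 fun x => ?_
  have h1 : x.comp (Abelian.Ext.mk₀ (𝟙 (Coh.toAb M))) (add_zero i) = x := Abelian.Ext.comp_mk₀_id x
  rw [h'.eq_of_src (𝟙 (Coh.toAb M)) 0, Abelian.Ext.mk₀_zero, Abelian.Ext.comp_zero] at h1
  exact h1.symm

end Groth.Agent.Lib.ExtShSurf
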