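import Groth.Agent.Lib.ExtShSurfGG
import Groth.Agent.Lib.TensorMod.FPCrit
import Groth.Agent.Lib.ZarCoh.FP

/-!
# Ext duals of pure sheaves on a surface and global generation
-/

set_option autoImplicit false
set_option linter.style.haveILetI false
set_option linter.unusedSectionVars false
universe u

open CategoryTheory CategoryTheory.Limits AlgebraicGeometry TopologicalSpace
open CategoryTheory.Abelian

noncomputable section

namespace Groth.Agent.Lib.ExtShSurfGG

open Groth.Agent.Lib Groth.Agent.Lib.ExtShStalk Groth.Agent.Lib.Modules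
open Groth.Agent.Lib.Curves.LES (mapK isoK exactK₁ exactK₂ exactK₃)

variable {k : Type u} [Field k] [IsAlgClosed k] {S : Scheme.{u}} [S.Over (Spec (CommRingCat.of k))]
  [IsIntegral S] [Smooth (S ↘ Spec (CommRingCat.of k))] [IsProper (S ↘ Spec (CommRingCat.of k))]
  {C : Scheme.{u}} (j : C ⟶ S) [IsClosedImmersion j] [IsIntegral C]
  (hdim : topologicalKrullDim S = 2) (hC : topologicalKrullDim C = 1)
  {n : ℕ} (ι : S ⟶ CohB1.ProjSpace n k) [IsClosedImmersion ι]

variable (k) in
include k in
theorem isNoetherian : IsNoetherian S := by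
  haveI : IsLocallyNoetherian S := LocallyOfFiniteType.isLocallyNoetherian (S ↘ Spec (CommRingCat.of k))
  haveI : CompactSpace S := QuasiCompact.compactSpace_of_compactSpace (S ↘ Spec (CommRingCat.of k))
  exact {}

include k

include ι in
/-- Coherent modules are quotients of finite locally free ones. -/
theorem exists_epi_finLocFree {P : S.Modules} (hP : Coh.IsCoh P) :
    ∃ (E₀ : S.Modules) (π : E₀ ⟶ P), FlatMod.IsFinLocFree E₀ ∧ Epi π := by
  haveI := isNoetherian k (S := S)
  exact ResDescend36.Ample.hasResolutionProperty _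
    (Ample.Pullback.isAmple_pullback ι (Ample.Pullback.isQuasiAffine_of_isAffineHom ι)
      (HProj.QuasiProj.isAmple_twist_projSpace n k)) P hP.1 hP.2

include hdim ι

/-- The resolution of a pure module. -/
theorem Pure.exists_res {P : S.Modules} (hP : Pure j P) :
    ∃ (E₀ : S.Modules) (π : E₀ ⟶ P), FlatMod.IsFinLocFree E₀ ∧ Epi π ∧ FlatMod.IsFinLocFree (kernel π) := by
  haveI := isNoetherian k (S := S)
  obtain ⟨E₀, π, hE, hπ⟩ := exists_epi_finLocFree ι hP.coh
  haveI := hπ
  have hEc : Coh.IsCoh E₀ := Perfect.Coherent.isCoh_of_isFinLocFree hE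
  have hK : Coh.IsCoh (kernel π) := CohBasics.Closure.isCoh_kernel π hEc hP.coh.1
  haveI := ZarCoh.FP.isFP_of_isCoh _ hK
  refine ⟨E₀, π, hE, hπ, TensorMod.FPCrit.isFinLocFree_of_free_stalks _ fun x => ?_⟩
  haveI := hK.2
  haveI := hEc.2
  haveI := GenStalk.finite_stalk (kernel π) x
  haveI := GenStalk.finite_stalk E₀ x
  haveI := TensorMod.FPConv.free_stalk_of_isFinLocFree hE x
  haveI := isRegularLocalRing_stalk (k := k) x
  have hsurj : Function.Surjective (StalkModule.stalkMapₗ π x) :=
    (StalkModule.epi_iff_stalkMapₗ_surjective π).mp inferInstance x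
  have hinj : Function.Injective (StalkModule.stalkMapₗ (kernel.ι π) x) :=
    (StalkModule.mono_iff_stalkMapₗ_injective _).mp inferInstance x
  have hrange : LinearMap.range (StalkModule.stalkMapₗ (kernel.ι π) x) = LinearMap.ker (StalkModule.stalkMapₗ π x) :=
    (ShortComplex.moduleCat_exact_iff_range_eq_ker _).mp
      (((ShortComplex.mk (kernel.ι π) π (kernel.condition π)).exact_of_f_is_kernel
        (kernelIsKernel π)).map (StalkModule.stalkModFunctor S x))
  haveI : Module.Projective (S.presheaf.stalk x) (LinearMap.ker (StalkModule.stalkMapₗ π x)) :=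
    Regular.PD.pdle_zero_iff.mp ((Regular.PD.pdle_succ_iff hsurj 0).mp (hP.pd (k := k) j hdim x))
  haveI : Module.Projective (S.presheaf.stalk x) ((kernel π).presheaf.stalk x) :=
    Module.Projective.of_equiv ((LinearEquiv.ofInjective _ hinj).trans (LinearEquiv.ofEq _ _ hrange)).symm
  exact Module.free_of_flat_of_isLocalRing

omit ι in
/-- The push forward of a torsion free module is pure. -/
theorem pure_push [CharZero k] (ι : S ⟶ CohB1.ProjSpace n k) [IsClosedImmersion ι] (hC : topologicalKrullDim C = 1)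
    (M : C.Modules) (hM : Coh.IsCoh M) (hMtf : TorSh.IsTorsionFree M) : Pure j ((Coh.push j).obj M) := by
  haveI := isNoetherian k (S := S)
  haveI : IsLocallyNoetherian C := LocallyOfFiniteType.isLocallyNoetherian j
  have hP : Coh.IsCoh ((Coh.push j).obj M) := Cyc.Dev.SchemeEquiv.isCoh_push j hM
  obtain ⟨E₀, π, hE, hπ⟩ := exists_epi_finLocFree ι hP
  haveI := hπ
  refine pure_of_res (k := k) j hdim (T := ShortComplex.mk (kernel.ι π) π (kernel.condition π))
    { exact := ShortComplex.exact_of_f_is_kernel _ (kernelIsKernel π), epi_g := hπ }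
    (Groth.Agent.S15848.result k S hdim C j hC M hM hMtf E₀ hE π) hE hP fun x hx => ?_
  by_contra hr
  exact hx (PushClosed.Unit.subsingleton_stalk_push j M hr)

variable [HasInjectiveResolutions (ModSite.Mod S.sheaf)] [∀ A : S.Modules, ModSite.HasSheafHom (O := S.sheaf) A]
  {W : S.Modules} (hW : PicF.IsInvertible W)

/-- The Ext dual. -/
abbrev D (W P : S.Modules) : S.Modules := (ModSite.extSh (O := S.sheaf) P 1).obj W

omit hdim ι in
theorem isZero_ext_stalk {P : S.Modules} (hP : Coh.IsCoh P) (W : S.Modules) {x : S}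
    (hx : x ∉ CohB1.support P) (q : ℕ) : x ∉ CohB1.support ((ModSite.extSh (O := S.sheaf) P q).obj W : S.Modules) := by
  haveI := isNoetherian k (S := S)
  obtain ⟨φ⟩ := Cor.nonempty_stalk_equiv P hP (fun I hI => Groth.Agent.S11155.result I hI x) W q
  haveI : Subsingleton (P.presheaf.stalk x) := Support.not_mem_support_iff.1 hx
  have hz : IsZero (ModuleCat.of (S.presheaf.stalk x) (P.presheaf.stalk x)) := ModuleCat.isZero_of_subsingleton _
  refine Support.not_mem_support_iff.2 (@Equiv.subsingleton _ _ φ.toEquiv ?_)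
  exact subsingleton_of_forall_eq 0 fun a => by
    rw [← Ext.mk₀_id_comp a, hz.eq_of_src (𝟙 _) 0, Ext.mk₀_zero, Ext.zero_comp]

include hW

include hC in
/-- The Ext dual of a pure module is pure, and biduality holds. -/
theorem Pure.dual {P : S.Modules} (hP : Pure j P) :
    Pure j (D W P) ∧ Nonempty (D W (D W P) ≅ P) := by
  haveI := isNoetherian k (S := S)
  obtain ⟨E₀, π, hE, hπ, hK⟩ := hP.exists_res j hdim ι
  haveI := hπ
  let T : ShortComplex S.Modules := ShortComplex.mk (kernel.ι π) π (kernel.condition π)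
  have hT : T.ShortExact := { exact := ShortComplex.exact_of_f_is_kernel _ (kernelIsKernel π), epi_g := hπ }
  have h₀ : IsZero ((Hom.R T.X₃).obj W) := hP.isZero_hom (k := k) j hdim hW hC
  refine ⟨?_, ExtShBidual.nonempty_bidual_iso hT hK hE hW h₀⟩
  let α := ExtShBidual.pre T.f W
  haveI : Mono α := by
    refine ((ShortComplex.mk (ExtShBidual.pre T.g W) α (H52.HomInj.map_comp_eq_zero (O := S.sheaf) T W)).exact_iff_mono
      (h₀.eq_of_src _ _)).1 ?_
    exact (H52.HomInj.exact_mono (O := S.sheaf) (S := T) hT W).1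
  have hT' : (ShortComplex.mk α (cokernel.π α) (cokernel.condition α)).ShortExact :=
    { exact := ShortComplex.exact_cokernel _ }
  obtain ⟨a⟩ := ExtShBidual.nonempty_ext_one hT hK hE W
  have hc : Coh.IsCoh (D W P) :=
    ExtZAffine.isCoh_ext hP.coh (Ample.GG.isCoh_of_isInvertible hW) 1
  have hs : CohB1.support (D W P) ⊆ Set.range j := fun x hx =>
    hP.supp (not_not.1 fun h => isZero_ext_stalk (k := k) hP.coh W h 1 hx)
  have hq : Pure j (cokernel α) := pure_of_res (k := k) j hdim hT' (ExtShBidual.isFinLocFree_hom hE hW)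
    (ExtShBidual.isFinLocFree_hom hK hW) (CohBasics.Closure.isCoh_of_iso a hc) ((Support.support_congr a).ge.trans hs)
  exact hq.sub (k := k) j hdim hc a.hom

omit hW in
include hC in
/-- `h⁰` of the Ext dual. -/
theorem Pure.finrank_dual (hι : ι ≫ CohB1.ProjSpace.toSpec n k = S ↘ Spec (CommRingCat.of k))
    (hω : ExtPow.IsExtPow 2 (Omega.sheaf (S ↘ Spec (CommRingCat.of k))) W) {P : S.Modules} (hP : Pure j P) :
    Module.finrank k (Coh.HH S (D W P) 0) = Module.finrank k (Coh.HH S P 1) := by
  haveI := isNoetherian k (S := S)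
  haveI := ExtShSurf.smoothOfRelativeDimension_two (k := k) hdim
  haveI : HasInjectiveResolutions S.Modules := ‹HasInjectiveResolutions (ModSite.Mod S.sheaf)›
  haveI : HasExt.{u} S.Modules := hasExt_of_enoughInjectives _
  haveI : (Hom.R P).Additive := (Hom.adj P).right_adjoint_additive
  haveI : PreservesLimitsOfSize.{0, 0} (Hom.R P) := (Hom.adj P).rightAdjoint_preservesLimits
  haveI : PreservesFiniteLimits (Hom.R P) := PreservesLimitsOfSize.preservesFiniteLimits _
  haveI : EnoughInjectives S.Modules := DerivedOX.Grothendieck.enoughInjectives_modules S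
  have hW := ExtShSurf.isInvertible_topDiff (k := k) hdim hω
  obtain ⟨e⟩ := ExtShTwist.nonempty_ext_linearEquiv k P W 1 fun m hm q => by
    obtain rfl : m = 0 := by omega
    exact ExtShSurf.subsingleton_HH_of_isZero ((hP.isZero_hom (k := k) j hdim hW hC).of_iso
      ((Hom.R P).rightDerivedZeroIsoSelf.app W)) (q + 1)
  obtain ⟨d⟩ := Groth.Agent.S19675.result k 2 n S ι hι W hω P hP.coh 1 (by omega)
  rw [← e.finrank_eq, d.finrank_eq, Subspace.dual_finrank_eq]

end Groth.Agent.Lib.ExtShSurfGG
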