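import Groth.Agent.Lib.ExtShSurf
import Groth.Agent.Lib.ExtShBidualMain
import Groth.Agent.Lib.ResDescend36.Ample
import Groth.Agent.Lib.SurfInt.Bound
import Groth.Agent.Lib.SurfInt.Semiample
import Groth.Agent.Lib.StalkLoc.AssStalk
import Groth.Agent.Lib.SmoothCurve.Curve
import Groth.Agent.Lib.Modules.Support
import Groth.Agent.Lib.Exchange.Proper
import Groth.Agent.H34.GlobGen
import Groth.Agent.H18.AB
import Groth.Agent.Lib.Regular.Serre
import Groth.Agent.Lib.ExtZAffine.Results
import Groth.Agent.Lib.ExtLin.Congr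
import Groth.Agent.S19675
import Groth.Agent.S15848
import Groth.Agent.S11155

/-!
# Pure one-dimensional sheaves on a smooth surface and their Ext duals
-/

set_option autoImplicit false
set_option linter.style.haveILetI false
universe u

open CategoryTheory CategoryTheory.Limits AlgebraicGeometry TopologicalSpace
open CategoryTheory.Abelian

noncomputable section

namespace Groth.Agent.Lib.ExtShSurfGG

open Groth.Agent.Lib Groth.Agent.Lib.ExtShStalk Groth.Agent.Lib.Modules

variable {k : Type u} [Field k] [IsAlgClosed k] {S : Scheme.{u}} [S.Over (Spec (CommRingCat.of k))]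
  [IsIntegral S] [Smooth (S ↘ Spec (CommRingCat.of k))] {C : Scheme.{u}} (j : C ⟶ S) [IsClosedImmersion j]

/-- A coherent module supported on `C` without associated closed points. -/
structure Pure (P : S.Modules) : Prop where
  coh : Coh.IsCoh P
  supp : CohB1.support P ⊆ Set.range j
  depth : ∀ x : S, IsClosed ({x} : Set S) →
    IsLocalRing.maximalIdeal (S.presheaf.stalk x) ∉ associatedPrimes (S.presheaf.stalk x) (P.presheaf.stalk x)

include k

theorem isLocallyNoetherian : IsLocallyNoetherian S :=
  LocallyOfFiniteType.isLocallyNoetherian (S ↘ Spec (CommRingCat.of k))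

variable (hdim : topologicalKrullDim S = 2)
include hdim

theorem ringKrullDim_closed {x : S} (hx : IsClosed ({x} : Set S)) :
    ringKrullDim (S.presheaf.stalk x) = (2 : ℕ) :=
  haveI := ExtShSurf.smoothOfRelativeDimension_two (k := k) hdim
  ProjSpace.SmoothDimEq.ringKrullDim_stalk_closed k (S ↘ Spec (CommRingCat.of k)) 2 hx

theorem ringKrullDim_le_one {x : S} (hx : ¬ IsClosed ({x} : Set S)) :
    ringKrullDim (S.presheaf.stalk x) ≤ (1 : ℕ) := by
  haveI := isLocallyNoetherian (k := k) (S := S)
  have hcl : ¬ closure ({x} : Set S) ⊆ {x} := fun hc => hx (closure_subset_iff_isClosed.mp hc)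
  obtain ⟨z, hz, hzx⟩ := Set.not_subset.mp hcl
  have hy : x ⤳ z := specializes_iff_mem_closure.2 hz
  obtain ⟨V, hV, hzV, -⟩ := exists_isAffineOpen_mem_and_subset (show z ∈ (⊤ : S.Opens) from trivial)
  haveI : IsNoetherianRing Γ(S, V) := IsLocallyNoetherian.component_noetherian ⟨V, hV⟩
  have hxV := hy.mem_open V.isOpen hzV
  have hlt : (hV.primeIdealOf ⟨x, hxV⟩).asIdeal < (hV.primeIdealOf ⟨z, hzV⟩).asIdeal := by
    refine lt_of_le_of_ne ((AssPt.Basic.specializes_iff_primeIdealOf hV hzV hxV).mp hy) fun he => hzx ?_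
    have := congrArg hV.fromSpec (PrimeSpectrum.ext he)
    rw [hV.fromSpec_primeIdealOf, hV.fromSpec_primeIdealOf] at this
    exact this.symm
  have h3 := Order.add_one_le_of_lt (Ideal.height_strict_mono_of_isPrime hlt)
  have hz2 := Cyc.TorPD.ringKrullDim_stalk_le z
  rw [hdim, Ideal.Prime.ringKrullDim_stalk_eq_height hV hzV] at hz2
  have h4 := h3.trans (WithBot.coe_le_coe.mp hz2)
  rw [Ideal.Prime.ringKrullDim_stalk_eq_height hV hxV]
  have h5 := (ENat.add_one_le_iff' (by simp : (2 : ℕ∞) ≠ ⊤)).1 h4
  rw [← one_add_one_eq_two] at h5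
  exact_mod_cast Order.le_of_lt_add_one h5

omit hdim in
theorem isRegularLocalRing_stalk (x : S) : IsRegularLocalRing (S.presheaf.stalk x) :=
  JacCrit.OverField.isRegularLocalRing_stalk (S ↘ Spec (CommRingCat.of k)) x
    (by rw [Scheme.Hom.smoothLocus_eq_top]; trivial)

theorem depth_self {x : S} (hx : IsClosed ({x} : Set S)) :
    LocCoh.depth (S.presheaf.stalk x) (S.presheaf.stalk x) = (2 : ℕ) := by
  haveI := isRegularLocalRing_stalk (k := k) x
  haveI := JacCrit.FlatRegular.isCohenMacaulayLocalRing (S.presheaf.stalk x)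
  have h := LocCoh.IsCohenMacaulayLocalRing.supportDim_eq_depth (R := S.presheaf.stalk x)
  rw [Module.supportDim_self_eq_ringKrullDim, ringKrullDim_closed (k := k) hdim hx] at h
  exact (WithBot.coe_inj.mp h).symm

/-- Pure modules have projective dimension at most one. -/
theorem Pure.pd {P : S.Modules} (hP : Pure j P) (x : S) :
    Regular.PD.PDle (S.presheaf.stalk x) (P.presheaf.stalk x) 1 := by
  haveI := isLocallyNoetherian (k := k) (S := S)
  haveI := hP.coh.2
  haveI := GenStalk.finite_stalk P x
  haveI := isRegularLocalRing_stalk (k := k) x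
  have hall := Regular.Serre.pdle_all (R := S.presheaf.stalk x) (P.presheaf.stalk x)
  have hd := IsRegularLocalRing.spanFinrank_maximalIdeal (R := S.presheaf.stalk x)
  by_cases hx : IsClosed ({x} : Set S)
  swap
  · refine Regular.PD.pdle_mono hall ?_
    have := ringKrullDim_le_one (k := k) hdim hx
    rw [← hd] at this
    exact_mod_cast this
  rcases subsingleton_or_nontrivial (P.presheaf.stalk x) with hs | hs
  · exact Regular.PD.pdle_mono (Regular.PD.pdle_zero_iff.mpr Module.Projective.of_free) zero_le_one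
  obtain ⟨p, hp⟩ : ∃ p : ℕ, LocCoh.depth (S.presheaf.stalk x) (P.presheaf.stalk x) = p :=
    (ENat.ne_top_iff_exists.mp (Depth.Assoc.depth_ne_top _)).imp fun _ h => h.symm
  have hp1 : p ≠ 0 := fun h0 => hP.depth x hx
    ((Depth.Assoc.depth_eq_zero_iff (R := S.presheaf.stalk x) (M := P.presheaf.stalk x)).1
      (by rw [hp, h0]; rfl))
  exact ((H18.AB.pdle_iff 2 _ (depth_self (k := k) hdim hx) _ ⟨_, hall⟩ p hp).2 1).mpr (by omega)

/-- A module with a two term finite locally free resolution, supported on `C`, is pure. -/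
theorem pure_of_res {T : ShortComplex S.Modules} (hT : T.ShortExact) (h₁ : FlatMod.IsFinLocFree T.X₁)
    (h₂ : FlatMod.IsFinLocFree T.X₂) (h₃ : Coh.IsCoh T.X₃) (hs : CohB1.support T.X₃ ⊆ Set.range j) :
    Pure j T.X₃ := by
  haveI := isLocallyNoetherian (k := k) (S := S)
  refine ⟨h₃, hs, fun x hx hm => ?_⟩
  haveI := h₃.2
  haveI := GenStalk.finite_stalk T.X₃ x
  haveI := isRegularLocalRing_stalk (k := k) x
  haveI := (Perfect.Coherent.isCoh_of_isFinLocFree h₂).2
  haveI := GenStalk.finite_stalk T.X₂ x
  haveI := TensorMod.FPConv.free_stalk_of_isFinLocFree h₂ x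
  haveI := TensorMod.FPConv.free_stalk_of_isFinLocFree h₁ x
  haveI : Nontrivial (T.X₃.presheaf.stalk x) := by
    by_contra hc
    haveI := not_nontrivial_iff_subsingleton.1 hc
    exact not_isAssociatedPrime_of_subsingleton hm
  haveI := hT.epi_g
  have hsurj : Function.Surjective (StalkModule.stalkMapₗ T.g x) :=
    (StalkModule.epi_iff_stalkMapₗ_surjective T.g).mp inferInstance x
  have hinj : Function.Injective (StalkModule.stalkMapₗ T.f x) :=
    (StalkModule.mono_iff_stalkMapₗ_injective _).mp hT.mono_f x
  have hrange : LinearMap.range (StalkModule.stalkMapₗ T.f x) = LinearMap.ker (StalkModule.stalkMapₗ T.g x) :=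
    (ShortComplex.moduleCat_exact_iff_range_eq_ker _).mp (hT.exact.map (StalkModule.stalkModFunctor S x))
  have hpd : Regular.PD.PDle (S.presheaf.stalk x) (T.X₃.presheaf.stalk x) 1 :=
    (Regular.PD.pdle_succ_iff hsurj 0).mpr (Regular.PD.pdle_zero_iff.mpr
      (Module.Projective.of_equiv ((LinearEquiv.ofInjective _ hinj).trans (LinearEquiv.ofEq _ _ hrange))))
  have hall := Regular.Serre.pdle_all (R := S.presheaf.stalk x) (T.X₃.presheaf.stalk x)
  have := ((H18.AB.pdle_iff 2 _ (depth_self (k := k) hdim hx) _ ⟨_, hall⟩ 0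
    ((Depth.Assoc.depth_eq_zero_iff (R := S.presheaf.stalk x) (M := T.X₃.presheaf.stalk x)).2 hm)).2 1).mp hpd
  omega

/-- Coherent submodules of pure modules are pure. -/
theorem Pure.sub {P B : S.Modules} (hP : Pure j P) (hB : Coh.IsCoh B) (ι : B ⟶ P) [Mono ι] : Pure j B where
  coh := hB
  supp := (Support.support_subset_of_mono ι).trans hP.supp
  depth x hx hm := hP.depth x hx (hm.map_of_injective (StalkModule.stalkMapₗ ι x)
    ((StalkModule.mono_iff_stalkMapₗ_injective ι).mp inferInstance x))

/-- A pure module with finite support is zero. -/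
theorem Pure.isZero_of_finite {P : S.Modules} (hP : Pure j P) (hfin : (CohB1.support P).Finite) : IsZero P := by
  haveI := isLocallyNoetherian (k := k) (S := S)
  haveI := hP.coh.1
  haveI := hP.coh.2
  refine Stalk.isZero_iff_stalk_subsingleton.2 fun x => ?_
  by_contra hx
  obtain ⟨z, hz, -⟩ := StalkLoc.AssStalk.exists_ass_specializes (M := P) (x := x) (not_subsingleton_iff_nontrivial.1 hx)
  have hm : IsLocalRing.maximalIdeal (S.presheaf.stalk z) ∈
      associatedPrimes (S.presheaf.stalk z) (P.presheaf.stalk z) := by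
    refine (StalkLoc.AssStalk.mem_associatedPrimes_stalk_iff (M := P) z (IsLocalRing.closedPoint (S.presheaf.stalk z))).2 ?_
    rw [(StalkLoc.AssStalk.closedPoint_eq_iff (X := S) (x := z) (IsLocalRing.closedPoint (S.presheaf.stalk z))).2 rfl]
    exact hz
  have hzs : z ∈ CohB1.support P := fun hsub => by
    haveI := hsub
    exact not_isAssociatedPrime_of_subsingleton hm
  exact hP.depth z (SurfInt.Bound.isClosed_singleton_of_finite (S ↘ Spec (CommRingCat.of k))
    (Support.isClosed_support P) hfin hzs) hm

omit hdim in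
/-- A closed subset of the curve avoiding its generic point is finite. -/
theorem finite_of_subset_range [CompactSpace S] [IsIntegral C] (hC : topologicalKrullDim C = 1) {Z : Set S} (hZ : IsClosed Z)
    (hr : Z ⊆ Set.range j) (hξ : j (genericPoint C) ∉ Z) : Z.Finite := by
  haveI : LocallyOfFiniteType (j ≫ (S ↘ Spec (CommRingCat.of k))) := inferInstance
  haveI := isLocallyNoetherian (k := k) (S := S)
  haveI : IsLocallyNoetherian C := LocallyOfFiniteType.isLocallyNoetherian j
  haveI : CompactSpace C := QuasiCompact.compactSpace_of_compactSpace j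
  haveI : IsNoetherian C := {}
  have h := (SmoothCurve.Curve.finite_of_isClosed hC (hZ.preimage j.continuous) hξ).image j
  rwa [Set.image_preimage_eq_of_subset hr] at h

variable {W : S.Modules} (hW : PicF.IsInvertible W)
include hW

/-- A pure module has no maps to an invertible module. -/
theorem Pure.isZero_hom [IsIntegral C] (hC : topologicalKrullDim C = 1) {P : S.Modules} (hP : Pure j P)
    [ModSite.HasSheafHom (O := S.sheaf) P] : IsZero ((Hom.R P).obj W) := by
  haveI := isLocallyNoetherian (k := k) (S := S)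
  haveI := hP.coh.1
  refine Stalk.isZero_iff_stalk_subsingleton.2 fun x => ?_
  refine @Function.Injective.subsingleton _ _ _ (Hom.σ_bijective _ hP.coh W x).1 ⟨fun φ ψ => LinearMap.ext fun v => ?_⟩
  obtain ⟨a, ha, hv⟩ : ∃ a : S.presheaf.stalk x, a ≠ 0 ∧ a • v = 0 := by
    by_contra! hne
    have hass : (⊥ : Ideal (S.presheaf.stalk x)) ∈ associatedPrimes (S.presheaf.stalk x) (P.presheaf.stalk x) := by
      refine ⟨Ideal.isPrime_bot, v, ?_⟩
      have : (⊥ : Submodule (S.presheaf.stalk x) (P.presheaf.stalk x)).colon {v} = ⊥ := by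
        refine eq_bot_iff.2 fun a ha => Submodule.mem_bot _ |>.2 ?_
        by_contra h0
        exact hne a h0 (by simpa [Submodule.mem_colon] using ha)
      rw [this]
      exact ((Ideal.isPrime_bot (α := S.presheaf.stalk x)).radical).symm
    have h1 := (StalkLoc.AssStalk.mem_associatedPrimes_stalk_iff (M := P) x ⟨⊥, Ideal.isPrime_bot⟩).1 hass
    have h2 : S.fromSpecStalk x ⟨⊥, Ideal.isPrime_bot⟩ = genericPoint S := by
      have hg : genericPoint S ∈ Set.range (S.fromSpecStalk x) := by
        rw [Scheme.range_fromSpecStalk]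
        exact (genericPoint_spec S).specializes trivial
      obtain ⟨q, hq⟩ := hg
      have hs : (⟨⊥, Ideal.isPrime_bot⟩ : Spec (S.presheaf.stalk x)) ⤳ q :=
        (PrimeSpectrum.le_iff_specializes ⟨⊥, Ideal.isPrime_bot⟩ q).1 bot_le
      have h3 := hs.map (S.fromSpecStalk x).continuous
      rw [hq] at h3
      exact (h3.antisymm ((genericPoint_spec S).specializes trivial)).eq
    rw [h2] at h1
    have h4 : genericPoint S ∈ CohB1.support P := fun hsub => by
      haveI := hsub
      have h5 := (StalkLoc.AssStalk.mem_associatedPrimes_stalk_iff (M := P) (genericPoint S)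
        (IsLocalRing.closedPoint (S.presheaf.stalk (genericPoint S)))).2
        (by rw [(StalkLoc.AssStalk.closedPoint_eq_iff (X := S) (x := genericPoint S)
          (IsLocalRing.closedPoint (S.presheaf.stalk (genericPoint S)))).2 rfl]; exact h1)
      exact not_isAssociatedPrime_of_subsingleton h5
    exact ExtShSurf.genericPoint_not_mem_range j hdim hC (hP.supp h4)
  obtain ⟨e⟩ := ProjDualExt.Twist.nonempty_stalk_equiv hW x
  apply e.injective
  apply mul_left_cancel₀ ha
  rw [← smul_eq_mul, ← smul_eq_mul, ← map_smul, ← map_smul, ← map_smul, ← map_smul, hv]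
  simp

end Groth.Agent.Lib.ExtShSurfGG
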