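import Groth.Agent.Lib.ExtShSurfDual
import Groth.Agent.Lib.Cyc.DegK.SuppVanish
import Groth.Agent.Lib.Cyc.TorPD

/-!
# Global generation of Ext duals on a surface
-/

set_option autoImplicit false
set_option linter.style.haveILetI false
set_option linter.unusedSectionVars false
universe u

open CategoryTheory CategoryTheory.Limits AlgebraicGeometry TopologicalSpace
open CategoryTheory.Abelian

noncomputable section

namespace Groth.Agent.Lib.ExtShSurfGG

open Groth.Agent.Lib Groth.Agent.Lib.ExtShStalk Groth.Agent.Lib.Modules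
open Groth.Agent.Lib.Curves.LES (mapK isoK exactK₁ exactK₂ exactK₃)

variable {k : Type u} [Field k] [IsAlgClosed k] {S : Scheme.{u}} [S.Over (Spec (CommRingCat.of k))]
  [IsIntegral S] [Smooth (S ↘ Spec (CommRingCat.of k))] [IsProper (S ↘ Spec (CommRingCat.of k))]

include k

/-- A module supported at finitely many closed points is globally generated. -/
theorem gg_of_finite {Q : S.Modules} {B : Set S} (hB : IsClosed B) (hfin : B.Finite)
    (hQ : CohB1.support Q ⊆ B) : Curv2.IsGloballyGenerated Q := by
  haveI := isNoetherian k (S := S)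
  haveI : NoetherianSpace (S.toTopCat : Type u) := inferInstanceAs (NoetherianSpace S)
  haveI : QuasiSober (S.toTopCat : Type u) := inferInstanceAs (QuasiSober S)
  haveI : T0Space (S.toTopCat : Type u) := inferInstanceAs (T0Space S)
  haveI hfl : TopCat.Sheaf.IsFlasque (X := S.toTopCat) (Coh.toAb Q) :=
    H34.VanishOne.isFlasque_of_isZero_stalk_of_not_isClosed (X := S.toTopCat) _ fun x hx =>
      @AddCommGrpCat.isZero_of_subsingleton _ (Support.not_mem_support_iff.mp fun h =>
        hx (SurfInt.Bound.isClosed_singleton_of_finite (S ↘ Spec (CommRingCat.of k)) hB hfin (hQ h)))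
  refine H34.GlobGen.gg_of_gl_eq_top fun x => eq_top_iff.2 fun v _ => ?_
  obtain ⟨U, hx, s, rfl⟩ := TopCat.Presheaf.exists_germ_eq Q.presheaf v
  obtain ⟨m, hm⟩ := (AddCommGrpCat.epi_iff_surjective _).1 (hfl.epi (homOfLE (le_top : U ≤ ⊤)).op) s
  refine Submodule.subset_span ⟨m, ?_⟩
  refine ((TopCat.Presheaf.germ_res_apply Q.presheaf (homOfLE (le_top : U ≤ ⊤)) x hx m).symm.trans ?_)
  exact congrArg (Q.presheaf.germ U x hx) hm

variable {C : Scheme.{u}} (j : C ⟶ S) [IsClosedImmersion j] [IsIntegral C]
  (hdim : topologicalKrullDim S = 2) (hC : topologicalKrullDim C = 1)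

include hC in
/-- The generic point of the curve is not closed in the surface. -/
theorem not_isClosed_genericPoint : ¬ IsClosed ({j (genericPoint C)} : Set S) := fun h => by
  have h1 : ∀ c : C, c = genericPoint C := fun c =>
    j.isClosedEmbedding.injective (Set.mem_singleton_iff.1
      ((((genericPoint_spec C).specializes trivial).map j.continuous).mem_closed h (Set.mem_singleton (j (genericPoint C)))))
  haveI : Subsingleton C := ⟨fun a b => (h1 a).trans (h1 b).symm⟩
  haveI : Subsingleton (IrreducibleCloseds C) := ⟨fun Z Z' => IrreducibleCloseds.ext (by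
    rw [Subsingleton.eq_univ_of_nonempty Z.isIrreducible.nonempty,
      Subsingleton.eq_univ_of_nonempty Z'.isIrreducible.nonempty])⟩
  have := Order.krullDim_nonpos_of_subsingleton (α := IrreducibleCloseds C)
  rw [show Order.krullDim (IrreducibleCloseds C) = 1 from hC] at this
  exact absurd this (by decide)

variable [HasInjectiveResolutions (ModSite.Mod S.sheaf)] [∀ A : S.Modules, ModSite.HasSheafHom (O := S.sheaf) A]

include hdim hC in
/-- The second Ext sheaf vanishes at the generic point of the curve. -/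
theorem not_mem_support_ext_two {T : S.Modules} (hT : Coh.IsCoh T) (W : S.Modules) :
    j (genericPoint C) ∉ CohB1.support ((ModSite.extSh (O := S.sheaf) T 2).obj W : S.Modules) := by
  haveI := isNoetherian k (S := S)
  haveI := hT.2
  haveI := GenStalk.finite_stalk T (j (genericPoint C))
  haveI := isRegularLocalRing_stalk (k := k) (S := S) (j (genericPoint C))
  have hd := IsRegularLocalRing.spanFinrank_maximalIdeal (R := S.presheaf.stalk (j (genericPoint C)))
  have h2 := ringKrullDim_le_one (k := k) hdim (not_isClosed_genericPoint (k := k) j hC)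
  rw [← hd] at h2
  have hpd : Regular.PD.PDle (S.presheaf.stalk (j (genericPoint C))) (T.presheaf.stalk (j (genericPoint C))) 1 :=
    Regular.PD.pdle_mono (Regular.Serre.pdle_all (T.presheaf.stalk (j (genericPoint C)))) (by exact_mod_cast h2)
  obtain ⟨φ⟩ := Cor.nonempty_stalk_equiv T hT (fun I hI => Groth.Agent.S11155.result I hI _) W 2
  haveI := @HasProjectiveDimensionLT.subsingleton _ _ _ _
    (ModuleCat.of (S.presheaf.stalk (j (genericPoint C))) (T.presheaf.stalk (j (genericPoint C)))) 2 hpd 2 le_rfl
    (ModuleCat.of (S.presheaf.stalk (j (genericPoint C))) (W.presheaf.stalk (j (genericPoint C))))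
  exact Support.not_mem_support_iff.2 φ.toEquiv.subsingleton

variable {n : ℕ} (ι : S ⟶ CohB1.ProjSpace n k) [IsClosedImmersion ι] {W : S.Modules} (hW : PicF.IsInvertible W)

include hdim hC in
/-- A map onto a globally generated module up to finitely many points, surjective on `H¹` with equal
dimensions, has globally generated target. -/
theorem gg_of_map {M N : S.Modules} (f : M ⟶ N) (hM : Coh.IsCoh M) (hN : Coh.IsCoh N)
    (hMs : CohB1.support M ⊆ Set.range j) {B : Set S} (hB : IsClosed B) (hfin : B.Finite)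
    (hQ : CohB1.support (cokernel f) ⊆ B)
    (hrank : Module.finrank k (Coh.HH S M 1) = Module.finrank k (Coh.HH S N 1))
    (hg : Curv2.IsGloballyGenerated M) : Curv2.IsGloballyGenerated N := by
  haveI := isNoetherian k (S := S)
  let p := Abelian.factorThruImage f
  let i := Abelian.image.ι f
  let T₁ : ShortComplex S.Modules := ShortComplex.mk (kernel.ι p) p (kernel.condition p)
  have hT₁ : T₁.ShortExact := { exact := ShortComplex.exact_of_f_is_kernel _ (kernelIsKernel p) }
  let T₂ : ShortComplex S.Modules := ShortComplex.mk i (cokernel.π f) (kernel.condition (cokernel.π f))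
  have hT₂ : T₂.ShortExact := { exact := ShortComplex.exact_of_f_is_kernel _ (kernelIsKernel _) }
  haveI : Subsingleton (Coh.HH S (kernel p) 2) := by
    refine Cyc.DegK.SuppVanish.subsingleton_HH (D := 2) hdim.le _ j.isClosedEmbedding.isClosed_range (d := 1) ?_
      ((Support.support_subset_of_mono (kernel.ι p)).trans hMs) Nat.one_lt_two
    rw [← IsHomeomorph.topologicalKrullDim_eq _ j.isClosedEmbedding.isEmbedding.toHomeomorph.isHomeomorph, hC]
    rfl
  haveI : Subsingleton (Coh.HH S (cokernel f) 1) :=
    SurfInt.Bound.subsingleton_HH_of_finite (k := k) (S ↘ Spec (CommRingCat.of k)) _ hB hfin hQ zero_lt_one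
  have hp : Function.Surjective (mapK k p 1) := fun y =>
    (exactK₃ k hT₁ 1 2 rfl y).1 (Subsingleton.elim _ _)
  have hi : Function.Surjective (mapK k i 1) := fun y =>
    (exactK₂ k hT₂ 1 y).1 (Subsingleton.elim _ _)
  have hc : mapK k f 1 = (mapK k i 1).comp (mapK k p 1) := by
    rw [← Curves.LES.mapK_comp, Abelian.image.fac]
  haveI := ZarCoh.Exchange.Proper.finite_HH k M hM 1
  haveI := ZarCoh.Exchange.Proper.finite_HH k N hN 1
  have hinj : Function.Injective ((mapK k i 1).comp (mapK k p 1)) :=
    (LinearMap.injective_iff_surjective_of_finrank_eq_finrank hrank).2 (hi.comp hp)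
  have hi' : Function.Injective (mapK k i 1) := Function.Injective.of_comp_right hinj hp
  exact H34.GlobGen.gg_of_exact T₂ hT₂.exact (SurfInt.Semiample.app_top_surjective_of_injective k hT₂ hi')
    (H34.GlobGen.gg_of_epi p hg) (gg_of_finite (k := k) hB hfin hQ)

include hdim hC hW ι in
/-- The cokernel of the dual of an inclusion of pure modules is supported at finitely many points. -/
theorem finite_support_coker {B A : S.Modules} (hB : Pure j B) (hA : Coh.IsCoh A) (f : B ⟶ A) [Mono f] :
    (CohB1.support (cokernel ((NatTrans.rightDerived (ExtSupp.sheafHomMap (O := S.sheaf) f) 1).app W :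
      D W A ⟶ D W B))).Finite := by
  haveI := isNoetherian k (S := S)
  haveI : HasInjectiveResolutions S.Modules := ‹HasInjectiveResolutions (ModSite.Mod S.sheaf)›
  haveI : ∀ A : S.Modules, (Hom.R A).Additive := fun A => (Hom.adj A).right_adjoint_additive
  let T : ShortComplex S.Modules := ShortComplex.mk f (cokernel.π f) (cokernel.condition f)
  have hT : T.ShortExact := { exact := ShortComplex.exact_cokernel _ }
  let fG : Hom.R T.X₃ ⟶ Hom.R T.X₂ := ExtSupp.sheafHomMap (O := S.sheaf) T.g
  let gG : Hom.R T.X₂ ⟶ Hom.R T.X₁ := ExtSupp.sheafHomMap (O := S.sheaf) T.f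
  have wG : ∀ Z : S.Modules, fG.app Z ≫ gG.app Z = 0 := fun Z =>
    H52.HomInj.map_comp_eq_zero (O := S.sheaf) T Z
  have hI : ∀ J : S.Modules, Injective J → (ShortComplex.mk (fG.app J) (gG.app J) (wG J)).ShortExact := by
    intro J hJ
    haveI : Injective (C := ModSite.Mod S.sheaf) J := hJ
    obtain ⟨hex, hmono⟩ := H52.HomInj.exact_mono (O := S.sheaf) (S := T) hT J
    refine { exact := hex, mono_f := hmono, epi_g := ?_ }
    exact ClSub.Basis.epi_of_surjective_affine (φ := gG.app J) fun U =>
      H52.HomInj.surjective_sections (O := S.sheaf) (S := T) hT J (Opposite.op U.1)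
  let K : D W A ⟶ D W B := (NatTrans.rightDerived gG 1).app W
  haveI hm : Mono (cokernel.desc K ((H30.DerivedSES.δ fG gG wG hI 1).app W)
      (H30.DerivedSES.rightDerived_comp_δ fG gG wG hI 1 W)) :=
    (ShortComplex.exact_iff_mono_cokernel_desc _).1 (H30.DerivedSES.exact₃ fG gG wG hI 1 W)
  have h2 : CohB1.support (cokernel K) ⊆ CohB1.support ((ModSite.extSh (O := S.sheaf) T.X₃ 2).obj W : S.Modules) :=
    @Support.support_subset_of_mono _ _ _ (cokernel.desc K ((H30.DerivedSES.δ fG gG wG hI 1).app W)
      (H30.DerivedSES.rightDerived_comp_δ fG gG wG hI 1 W)) hm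
  have hcA : Coh.IsCoh (D W A) := ExtZAffine.isCoh_ext hA (Ample.GG.isCoh_of_isInvertible hW) 1
  have hcB : Coh.IsCoh (D W B) := (hB.dual (k := k) j hdim hC ι hW).1.coh
  haveI := hcA.1
  have hQc : Coh.IsCoh (cokernel K) := CohBasics.Closure.isCoh_cokernel K hcA.1 hcB
  haveI := hQc.2
  exact finite_of_subset_range (k := k) j hC (Support.isClosed_support (cokernel K))
    ((Support.support_subset_of_epi (cokernel.π K)).trans (hB.dual (k := k) j hdim hC ι hW).1.supp)
    fun h => not_mem_support_ext_two (k := k) j hdim hC (CohBasics.Closure.isCoh_cokernel f hB.coh.1 hA) W (h2 h)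

include hdim hC ι in
/-- **Global generation of the Ext dual.** -/
theorem gg_dual (hι : ι ≫ CohB1.ProjSpace.toSpec n k = S ↘ Spec (CommRingCat.of k))
    (hω : ExtPow.IsExtPow 2 (Omega.sheaf (S ↘ Spec (CommRingCat.of k))) W) {A B : S.Modules} (hA : Pure j A)
    (hAg : Curv2.IsGloballyGenerated A) (ι₂ : B ⟶ D W A) [Mono ι₂] (hBc : Coh.IsCoh B)
    (hBg : Curv2.IsGloballyGenerated B) (hB0 : Function.Surjective (mapK k ι₂ 0)) :
    Curv2.IsGloballyGenerated (D W B) ∧ Curv2.IsGloballyGenerated (D W (D W B)) := by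
  haveI := isNoetherian k (S := S)
  have hW := ExtShSurf.isInvertible_topDiff (k := k) hdim hω
  obtain ⟨hDA, ⟨eA⟩⟩ := hA.dual (k := k) j hdim hC ι hW
  have hB : Pure j B := hDA.sub (k := k) j hdim hBc ι₂
  obtain ⟨hDB, ⟨eB⟩⟩ := hB.dual (k := k) j hdim hC ι hW
  obtain ⟨hDDA, -⟩ := hDA.dual (k := k) j hdim hC ι hW
  refine ⟨?_, H34.GlobGen.gg_of_epi eB.inv hBg⟩
  have hfin := finite_support_coker (k := k) j hdim hC ι hW hB hDA.coh ι₂
  let K : D W (D W A) ⟶ D W B := (NatTrans.rightDerived (ExtSupp.sheafHomMap (O := S.sheaf) ι₂) 1).app W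
  have hQc : Coh.IsCoh (cokernel K) := CohBasics.Closure.isCoh_cokernel K hDDA.coh.1 hDB.coh
  haveI := hQc.2
  refine gg_of_map (k := k) j hdim hC K hDDA.coh hDB.coh hDDA.supp (Support.isClosed_support (cokernel K)) hfin
    subset_rfl ?_ (H34.GlobGen.gg_of_epi eA.inv hAg)
  have h1 := hA.finrank_dual (k := k) j hdim hC ι hι hω
  have h2 : Module.finrank k (Coh.HH S B 0) = Module.finrank k (Coh.HH S (D W A) 0) :=
    (LinearEquiv.ofBijective (mapK k ι₂ 0) ⟨Curves.LES.mapK_injective_of_mono k ι₂, hB0⟩).finrank_eq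
  have h3 := hDB.finrank_dual (k := k) j hdim hC ι hι hω
  rw [(isoK k eA 1).finrank_eq, ← h1, ← h2, ← (isoK k eB 0).finrank_eq, h3]

end Groth.Agent.Lib.ExtShSurfGG
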