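import Groth.Agent.Lib.ExtShTensor
import Groth.Agent.Lib.ExtLin.Adj
import Groth.Agent.Lib.ExtLin.Congr
import Groth.Agent.Lib.DerivedOX.Grothendieck

/-!
# `Ext(F ⊗ E, G) ≅ Ext(F, G ⊗ E^∨)`
-/

set_option autoImplicit false
set_option linter.style.haveILetI false
universe u

open CategoryTheory CategoryTheory.Limits AlgebraicGeometry Opposite TopologicalSpace

noncomputable section

namespace Groth.Agent.Lib.ExtShTensor

open Groth.Agent.Lib Groth.Agent.Lib.TensorMod Groth.Agent.Lib.TensorMod.Basic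
open Groth.Agent.Lib.TensorMod.Dual (dual)
open Groth.Agent.Lib.Modules.DualBasis Groth.Agent.Lib.Modules.DualAdj

attribute [local instance] ExtLin.Adj.linearULift

variable {X : Scheme.{u}}

attribute [-instance] ULift.module in
/-- `Extⁱ(F ⊗ E, G) ≅ Extⁱ(F, G ⊗ ℋom(E, O))`. -/
theorem nonempty_ext_addEquiv {E : X.Modules} (hE : FlatMod.IsFinLocFree E) (F G : X.Modules)
    [ModSite.HasSheafHom (O := X.sheaf) E] [HasExt.{u} X.Modules] (i : ℕ) :
    Nonempty (Abelian.Ext.{u} (CohB1.tensorMod F E) G i ≃+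
      Abelian.Ext.{u} F (CohB1.tensorMod G ((ExtShStalk.Hom.R E).obj (Coh.structureModule X))) i) := by
  have hb := hasDBases_of_isFinLocFree hE
  haveI := tensorL_preservesHomology hb.dual
  haveI := tensorL_preservesInjective hb.dual
  obtain ⟨e⟩ := ExtLin.Adj.nonempty_extEquiv
    ((adjunction hb.dual).ofNatIsoLeft ((tensorFunctor X).mapIso (bidualIso hb).symm)) F G i
  let d : (ExtShStalk.Hom.R E).obj (Coh.structureModule X) ≅ dual E :=
    (homTensorIso hb).app _ ≪≫ rightUnit (dual E)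
  exact ⟨(ExtLin.Congr.extCongr (ULift.{u} ℤ) (comm F E) (Iso.refl G) i).toAddEquiv.trans
    (e.trans (ExtLin.Congr.extCongr (ULift.{u} ℤ) (Iso.refl F)
      (comm (dual E) G ≪≫ tensorIso (Iso.refl G) d.symm) i).toAddEquiv)⟩

end Groth.Agent.Lib.ExtShTensor
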