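import Groth.Agent.Lib.ExtShTensor
import Groth.Agent.Lib.Modules.ProjFormula

/-!
# Relative Ext sheaves and tensor products with finite locally free modules
-/

set_option autoImplicit false
set_option linter.style.haveILetI false
universe u

open CategoryTheory CategoryTheory.Limits AlgebraicGeometry Opposite TopologicalSpace

noncomputable section

namespace Groth.Agent.Lib.ExtShTensor

open Groth.Agent.Lib Groth.Agent.Lib.TensorMod Groth.Agent.Lib.TensorMod.Basic
open Groth.Agent.Lib.TensorMod.Dual (dual)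
open Groth.Agent.Lib.Modules.DualBasis Groth.Agent.Lib.Modules.DualAdj
open Groth.Agent.Lib.ExtShStalk

variable {X Y : Scheme.{u}} (f : X ⟶ Y)

/-- `ℋom(M, -) ≅ ℋom(M', -)`. -/
def homCongr {M M' : X.Modules} (e : M ≅ M') [ModSite.HasSheafHom (O := X.sheaf) M]
    [ModSite.HasSheafHom (O := X.sheaf) M'] : Hom.R M ≅ Hom.R M' :=
  (Hom.adj M).rightAdjointUniq ((Hom.adj M').ofNatIsoLeft ((DCoh.tensorBi (X := X)).mapIso e.symm))

/-- `ℋom(F ⊗ L, -) ≅ ℋom(F, L^∨ ⊗ -)`. -/
def homTensorCompIso (F : X.Modules) {L : X.Modules} (hL : HasDBases L)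
    [ModSite.HasSheafHom (O := X.sheaf) F] [ModSite.HasSheafHom (O := X.sheaf) L]
    [ModSite.HasSheafHom (O := X.sheaf) (CohB1.tensorMod F L)] :
    Hom.R (CohB1.tensorMod F L) ≅ tensorL (dual L) ⋙ Hom.R F :=
  homCompIso F L ≪≫ Functor.isoWhiskerRight (homTensorIso hL) _

/-- Tensoring with `P` commutes with `ℋom(F, -)`. -/
theorem nonempty_tensorL_comm (F : X.Modules) [ModSite.HasSheafHom (O := X.sheaf) F] {P : X.Modules}
    (hP : HasDBases P) : Nonempty (Hom.R F ⋙ tensorL P ≅ tensorL P ⋙ Hom.R F) := by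
  haveI : ModSite.HasSheafHom (O := X.sheaf) (dual P) := ModTensor.ModSite.hasSheafHom (O := X.sheaf) _
  haveI : ModSite.HasSheafHom (O := X.sheaf) (CohB1.tensorMod (dual P) F) :=
    ModTensor.ModSite.hasSheafHom (O := X.sheaf) _
  haveI : ModSite.HasSheafHom (O := X.sheaf) (CohB1.tensorMod F (dual P)) :=
    ModTensor.ModSite.hasSheafHom (O := X.sheaf) _
  let e : Hom.R (dual P) ≅ tensorL P :=
    homTensorIso hP.dual ≪≫ (tensorFunctor X).mapIso (bidualIso hP).symm
  exact ⟨Functor.isoWhiskerLeft _ e.symm ≪≫ (homCompIso (dual P) F).symm ≪≫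
    homCongr (comm (dual P) F) ≪≫ homCompIso F (dual P) ≪≫ Functor.isoWhiskerRight e _⟩

/-- `R^p (T ⋙ Φ) ≅ R^p Φ ∘ T` for exact `T` preserving injectives. -/
def rightDerivedPreIso [HasInjectiveResolutions X.Modules] (T : X.Modules ⥤ X.Modules) [T.Additive]
    [T.PreservesInjectiveObjects] [T.PreservesHomology] (Φ : X.Modules ⥤ Y.Modules) [Φ.Additive]
    (Z : X.Modules) (p : ℕ) : ((T ⋙ Φ).rightDerived p).obj Z ≅ (Φ.rightDerived p).obj (T.obj Z) :=
  let I := injectiveResolution Z
  I.isoRightDerivedObj (T ⋙ Φ) p ≪≫ ((Modules.DerivedComm.mapInjectiveResolution T I).isoRightDerivedObj Φ p).symm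

/-- The general shape of the argument. -/
theorem nonempty_rightDerived_shape [HasInjectiveResolutions X.Modules] (Ψ Φ : X.Modules ⥤ Y.Modules)
    [Ψ.Additive] [Φ.Additive] (T S : X.Modules ⥤ X.Modules) [T.Additive] [S.Additive]
    [T.PreservesInjectiveObjects] [T.PreservesHomology] [S.PreservesInjectiveObjects] [S.PreservesHomology]
    (S' : Y.Modules ⥤ Y.Modules) [S'.Additive] [S'.PreservesHomology]
    (ν : Ψ ≅ T ⋙ Φ) (θ : Φ ⋙ S' ≅ S ⋙ Φ) (Z W : X.Modules) (a : T.obj Z ≅ S.obj W) (p : ℕ) :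
    Nonempty ((Ψ.rightDerived p).obj Z ≅ S'.obj ((Φ.rightDerived p).obj W)) :=
  ⟨SpecSeq.Composite.rightDerivedCongr ν p _ ≪≫ rightDerivedPreIso T Φ Z p ≪≫
    (Φ.rightDerived p).mapIso a ≪≫ (Modules.DerivedComm.rightDerivedCommIso Φ S S' θ W p).symm⟩

/-- The commutation with the tensor product on the base. -/
theorem nonempty_pushTensor_iso (F : X.Modules) [ModSite.HasSheafHom (O := X.sheaf) F] {N : Y.Modules}
    (hn : HasDBases N) :
    Nonempty ((Hom.R F ⋙ Scheme.Modules.pushforward f) ⋙ tensorL N ≅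
      tensorL ((Scheme.Modules.pullback f).obj N) ⋙ (Hom.R F ⋙ Scheme.Modules.pushforward f)) := by
  obtain ⟨c⟩ := nonempty_tensorL_comm F (Modules.ProjFormula.hasDBases_pullback f hn)
  exact ⟨Functor.associator _ _ _ ≪≫ Functor.isoWhiskerLeft (Hom.R F) (Modules.ProjFormula.projIso f hn) ≪≫
      (Functor.associator _ _ _).symm ≪≫ Functor.isoWhiskerRight c _ ≪≫ Functor.associator _ _ _⟩

/-- Relative Ext sheaves and tensor products. -/
theorem nonempty_relExt_tensor_iso (F G : X.Modules) {L : X.Modules} {N : Y.Modules}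
    (hL : FlatMod.IsFinLocFree L) (hN : FlatMod.IsFinLocFree N) (p : ℕ)
    [ModSite.HasSheafHom (O := X.sheaf) F] [ModSite.HasSheafHom (O := X.sheaf) L]
    [ModSite.HasSheafHom (O := X.sheaf) (CohB1.tensorMod F L)] [HasInjectiveResolutions X.Modules]
    [(Hom.R F ⋙ Scheme.Modules.pushforward f).Additive]
    [(Hom.R (CohB1.tensorMod F L) ⋙ Scheme.Modules.pushforward f).Additive] :
    Nonempty (((Hom.R (CohB1.tensorMod F L) ⋙ Scheme.Modules.pushforward f).rightDerived p).obj
        (CohB1.tensorMod G ((Scheme.Modules.pullback f).obj N)) ≅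
      CohB1.tensorMod (((Hom.R F ⋙ Scheme.Modules.pushforward f).rightDerived p).obj
        (CohB1.tensorMod G ((Hom.R L).obj (Coh.structureModule X)))) N) := by
  let P : X.Modules := (Scheme.Modules.pullback f).obj N
  have hl := hasDBases_of_isFinLocFree hL
  have hn := hasDBases_of_isFinLocFree hN
  have hp : HasDBases P := Modules.ProjFormula.hasDBases_pullback f hn
  haveI := tensorL_preservesHomology hl.dual
  haveI := tensorL_preservesInjective hl.dual
  haveI := tensorL_preservesHomology hn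
  haveI := tensorL_preservesHomology hp
  haveI := tensorL_preservesInjective hp
  obtain ⟨θ⟩ := nonempty_pushTensor_iso f F hn
  let d : (Hom.R L).obj (Coh.structureModule X) ≅ dual L := (homTensorIso hl).app _ ≪≫ rightUnit (dual L)
  let a : CohB1.tensorMod (dual L) (CohB1.tensorMod G P) ≅
      CohB1.tensorMod P (CohB1.tensorMod G ((Hom.R L).obj (Coh.structureModule X))) :=
    (assoc (dual L) G P).symm ≪≫ comm _ P ≪≫
      tensorIso (Iso.refl P) (comm (dual L) G ≪≫ tensorIso (Iso.refl G) d.symm)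
  obtain ⟨r⟩ := nonempty_rightDerived_shape (Hom.R (CohB1.tensorMod F L) ⋙ Scheme.Modules.pushforward f)
    (Hom.R F ⋙ Scheme.Modules.pushforward f) (tensorL (dual L)) (tensorL P) (tensorL N)
    (Functor.isoWhiskerRight (homTensorCompIso F hl) _ ≪≫ Functor.associator _ _ _) θ
    (CohB1.tensorMod G P) (CohB1.tensorMod G ((Hom.R L).obj (Coh.structureModule X))) a p
  exact ⟨r ≪≫ comm _ _⟩

end Groth.Agent.Lib.ExtShTensor
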