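import Groth.Agent.Lib.CohDelta.AcycHomology
import Groth.Agent.Lib.ExtShRelCoh
import Groth.Agent.Lib.ExtShTensorRel
import Groth.Agent.Lib.ExtHH.SheafHom
import Groth.Agent.Lib.ExtLin.Inj
import Groth.Agent.Lib.ProjCoh.Coherent
import Groth.Agent.H78.Existence.AmpleVanish
import Groth.Agent.Lib.ProjMor.Conv
import Groth.Agent.Lib.Exchange.Local
import Groth.Agent.Lib.CohDelta.QCohR
import Groth.Agent.H34.HOne
import Groth.Agent.Lib.Cyc.FP.Stalk
import Groth.Agent.Lib.Modules.AffineSections
import Groth.Agent.Lib.TensorMod.LocFree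
import Mathlib.CategoryTheory.Linear.Yoneda
import Mathlib.CategoryTheory.Limits.Yoneda

/-!
# Ext and relative Ext sheaves for large twists
-/

set_option autoImplicit false
set_option linter.style.haveILetI false
universe u

open CategoryTheory CategoryTheory.Limits AlgebraicGeometry Opposite TopologicalSpace
open CategoryTheory.Abelian

noncomputable section

namespace Groth.Agent.Lib.ExtShTwist

open Groth.Agent.Lib Groth.Agent.Lib.ExtShStalk Groth.Agent.Lib.TensorMod.Basic
open Groth.Agent.Lib.Modules.DualBasis Groth.Agent.Lib.Modules.DualAdj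
open Groth.Agent.Lib.ExtShTensor

variable {X Y Z : Scheme.{u}}

/-- Flasque modules have flasque direct images. -/
theorem isFlasque_push (f : X ⟶ Y) (M : X.Modules) [TopCat.Sheaf.IsFlasque (Coh.toAb M)] :
    TopCat.Sheaf.IsFlasque (Coh.toAb ((Scheme.Modules.pushforward f).obj M)) where
  epi {U V} i := TopCat.Presheaf.IsFlasque.epi (F := (Coh.toAb M).obj) ((Opens.map f.base).map i.unop).op

/-- Twisting Ext sheaves. -/
theorem nonempty_extSh_twist [HasInjectiveResolutions (ModSite.Mod X.sheaf)] (F G : X.Modules)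
    [ModSite.HasSheafHom (O := X.sheaf) F] {P : X.Modules} (hP : PicF.IsInvertible P) (q : ℕ) :
    Nonempty (CohB1.tensorMod ((ModSite.extSh (O := X.sheaf) F q).obj G : X.Modules) P ≅
      ((ModSite.extSh (O := X.sheaf) F q).obj (CohB1.tensorMod G P) : X.Modules)) := by
  haveI : HasInjectiveResolutions X.Modules := ‹HasInjectiveResolutions (ModSite.Mod X.sheaf)›
  have hp := hasDBases_of_isFinLocFree (TensorMod.LocFree.of_rank (TensorMod.LocFree.of_isInvertible hP))
  haveI := tensorL_preservesHomology hp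
  haveI := tensorL_preservesInjective hp
  haveI : (Hom.R F).Additive := (Hom.adj F).right_adjoint_additive
  obtain ⟨θ⟩ := nonempty_tensorL_comm F hp
  exact ⟨comm _ P ≪≫ Modules.DerivedComm.rightDerivedCommIso (Hom.R F) (tensorL P) (tensorL P) θ G q ≪≫
    ((Hom.R F).rightDerived q).mapIso (comm P G)⟩

/-- Twisting relative Ext sheaves from the base. -/
theorem nonempty_relExt_twist [HasInjectiveResolutions X.Modules] (f : X ⟶ Y) (F G : X.Modules)
    [ModSite.HasSheafHom (O := X.sheaf) F] [(Hom.R F ⋙ Scheme.Modules.pushforward f).Additive]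
    {N : Y.Modules} (hN : FlatMod.IsFinLocFree N) (q : ℕ) :
    Nonempty (CohB1.tensorMod (((Hom.R F ⋙ Scheme.Modules.pushforward f).rightDerived q).obj G) N ≅
      ((Hom.R F ⋙ Scheme.Modules.pushforward f).rightDerived q).obj
        (CohB1.tensorMod G ((Scheme.Modules.pullback f).obj N))) := by
  have hn := hasDBases_of_isFinLocFree hN
  have hp : HasDBases ((Scheme.Modules.pullback f).obj N) := Modules.ProjFormula.hasDBases_pullback f hn
  haveI := tensorL_preservesHomology hn
  haveI := tensorL_preservesHomology hp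
  haveI := tensorL_preservesInjective hp
  obtain ⟨θ⟩ := nonempty_pushTensor_iso f F hn
  exact ⟨comm _ N ≪≫ Modules.DerivedComm.rightDerivedCommIso (Hom.R F ⋙ Scheme.Modules.pushforward f)
      (tensorL ((Scheme.Modules.pullback f).obj N)) (tensorL N) θ G q ≪≫
    ((Hom.R F ⋙ Scheme.Modules.pushforward f).rightDerived q).mapIso (comm _ G)⟩

section Absolute

variable (A : Type u) [CommRing A] [X.Over (Spec (CommRingCat.of A))]

/-- `Hom(O, -)` as `A`-modules. -/
abbrev glob : X.Modules ⥤ ModuleCat.{u} A :=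
  (linearCoyoneda A X.Modules).obj (op (Coh.structureModule X))

variable {A}

theorem smul_id_comp {M N : X.Modules} (r : A) (ψ : M ⟶ N) : (r • 𝟙 M) ≫ ψ = r • ψ := by
  rw [Linear.smul_comp, Category.id_comp]

/-- The adjunction, stated with `CohB1.tensorMod`. -/
def adjE (F M I : X.Modules) [ModSite.HasSheafHom (O := X.sheaf) F] :
    (CohB1.tensorMod F M ⟶ I) ≃ (M ⟶ (Hom.R F).obj I) :=
  (Hom.adj F).homEquiv M I

theorem adjE_symm_left (F : X.Modules) [ModSite.HasSheafHom (O := X.sheaf) F] {M M' I : X.Modules}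
    (h : M' ⟶ M) (φ : M ⟶ (Hom.R F).obj I) :
    (adjE F M' I).symm (h ≫ φ) = tmap (𝟙 F) h ≫ (adjE F M I).symm φ :=
  ((Hom.adj F).homEquiv_naturality_left_symm h φ).trans
    (congrArg (fun t : CohB1.tensorMod F M' ⟶ CohB1.tensorMod F M => t ≫ (adjE F M I).symm φ)
      (DerivedOX.PullTensor.tensorBi_obj_map F h))

theorem adjE_symm_right (F : X.Modules) [ModSite.HasSheafHom (O := X.sheaf) F] {M I J : X.Modules}
    (φ : M ⟶ (Hom.R F).obj I) (g : I ⟶ J) :
    (adjE F M J).symm (φ ≫ (Hom.R F).map g) = (adjE F M I).symm φ ≫ g :=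
  (Hom.adj F).homEquiv_naturality_right_symm φ g

theorem adjE_symm_add (F : X.Modules) [ModSite.HasSheafHom (O := X.sheaf) F] {M I : X.Modules}
    (φ ψ : M ⟶ (Hom.R F).obj I) :
    (adjE F M I).symm (φ + ψ) = (adjE F M I).symm φ + (adjE F M I).symm ψ := by
  haveI : (Hom.R F).Additive := (Hom.adj F).right_adjoint_additive
  haveI := (Hom.adj F).left_adjoint_additive
  exact ((Hom.adj F).homAddEquiv M I).symm.map_add φ ψ

/-- `Hom(O, ℋom(F, I)) ≅ Hom(F, I)`, linearly. -/
def homEquivLin (F : X.Modules) [ModSite.HasSheafHom (O := X.sheaf) F] (I : X.Modules) :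
    (Coh.structureModule X ⟶ (Hom.R F).obj I) ≃ₗ[A] (F ⟶ I) where
  toFun φ := (rightUnit F).inv ≫ (adjE F _ I).symm φ
  invFun ψ := adjE F _ I ((rightUnit F).hom ≫ ψ)
  map_add' φ ψ := by rw [adjE_symm_add, Preadditive.comp_add]
  map_smul' r φ := by
    show _ = r • ((rightUnit F).inv ≫ _)
    rw [← Linear.comp_smul, ← smul_id_comp r φ, adjE_symm_left, ExtHH.SheafHom.tensor_map_smul,
      smul_id_comp]
  left_inv φ := by
    show adjE F _ I ((rightUnit F).hom ≫ (rightUnit F).inv ≫ _) = φ
    rw [Iso.hom_inv_id_assoc, Equiv.apply_symm_apply]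
  right_inv ψ := by
    show (rightUnit F).inv ≫ (adjE F _ I).symm (adjE F _ I _) = ψ
    rw [Equiv.symm_apply_apply, Iso.inv_hom_id_assoc]

theorem homEquivLin_natural (F : X.Modules) [ModSite.HasSheafHom (O := X.sheaf) F] {I J : X.Modules}
    (g : I ⟶ J) (φ : Coh.structureModule X ⟶ (Hom.R F).obj I) :
    homEquivLin (A := A) F J (φ ≫ (Hom.R F).map g) = homEquivLin (A := A) F I φ ≫ g := by
  show (rightUnit F).inv ≫ _ = ((rightUnit F).inv ≫ _) ≫ g
  rw [adjE_symm_right, Category.assoc]

variable (A)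

/-- `ℋom(F, -)` followed by global sections is `Hom(F, -)`. -/
def globIso (F : X.Modules) [ModSite.HasSheafHom (O := X.sheaf) F] :
    Hom.R F ⋙ glob A ≅ (linearCoyoneda A X.Modules).obj (op F) :=
  NatIso.ofComponents (fun I => (homEquivLin F I).toModuleIso) fun g =>
    ModuleCat.hom_ext (LinearMap.ext fun φ => homEquivLin_natural F g φ)

instance preservesFiniteLimits_glob : PreservesFiniteLimits (glob (X := X) A) := by
  haveI : PreservesLimits (glob (X := X) A ⋙ forget (ModuleCat.{u} A)) :=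
    inferInstanceAs (PreservesLimits (coyoneda.obj (op (Coh.structureModule X))))
  haveI : PreservesLimits (glob (X := X) A) := preservesLimits_of_reflects_of_preserves _ (forget _)
  exact PreservesLimitsOfSize.preservesFiniteLimits _

variable [HasExt.{u} X.Modules]

/-- The derived functors of global sections are the cohomology groups. -/
theorem nonempty_rightDerived_glob [HasInjectiveResolutions X.Modules] (M : X.Modules) (q : ℕ) :
    Nonempty (((glob A).rightDerived q).obj M ≃ₗ[A] Coh.HH X M q) :=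
  let I := injectiveResolution M
  ⟨(I.isoRightDerivedObj (glob A) q).toLinearEquiv ≪≫ₗ
    ExtLin.Inj.homologyEquiv (R := A) (A := Coh.structureModule X) I q ≪≫ₗ
    ExtHH.Basic.extUnitEquiv A M q⟩

/-- `Extⁱ(F, G) = Γ(ℰxtⁱ(F, G))` when the lower Ext sheaves are acyclic. -/
theorem nonempty_ext_linearEquiv [HasInjectiveResolutions (ModSite.Mod X.sheaf)] (F G : X.Modules)
    [ModSite.HasSheafHom (O := X.sheaf) F] (i : ℕ)
    (h : ∀ n < i, ∀ q, Subsingleton (Coh.HH X ((ModSite.extSh (O := X.sheaf) F n).obj G) (q + 1))) :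
    Nonempty (Abelian.Ext F G i ≃ₗ[A] Coh.HH X ((ModSite.extSh (O := X.sheaf) F i).obj G) 0) := by
  haveI : HasInjectiveResolutions X.Modules := ‹HasInjectiveResolutions (ModSite.Mod X.sheaf)›
  haveI : EnoughInjectives X.Modules := DerivedOX.Grothendieck.enoughInjectives_modules X
  haveI : (Hom.R F).Additive := (Hom.adj F).right_adjoint_additive
  let I := injectiveResolution G
  let C := ((Hom.R F).mapHomologicalComplex (ComplexShape.up ℕ)).obj I.cocomplex
  obtain ⟨e⟩ := CohDelta.AcycHomology.nonempty_iso (glob A) C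
    (fun n q => by
      haveI : Injective (I.cocomplex.X n) := I.injective n
      haveI := ExtShRelCoh.isFlasque_hom F (I.cocomplex.X n)
      haveI : Subsingleton (Ext.{u} (ZarCoh.Basic.Zs.obj ⊤) (Coh.toAb ((Hom.R F).obj (I.cocomplex.X n))) (q + 1)) :=
        ZarCoh.Basic.HU_flasque _ _ q
      haveI : Subsingleton (Coh.HH X ((Hom.R F).obj (I.cocomplex.X n)) (q + 1)) :=
        (ZarCoh.Compare.hTop (Coh.toAb ((Hom.R F).obj (I.cocomplex.X n))) (q + 1)).injective.subsingleton
      obtain ⟨d⟩ := nonempty_rightDerived_glob A ((Hom.R F).obj (I.cocomplex.X n)) (q + 1)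
      haveI : Subsingleton (((glob A).rightDerived (q + 1)).obj (C.X n)) := d.injective.subsingleton
      exact ModuleCat.isZero_of_subsingleton _) i
    (fun n hn q => by
      have h' : Subsingleton (Coh.HH X (((Hom.R F).rightDerived n).obj G) (q + 1)) := h n hn q
      obtain ⟨d⟩ := nonempty_rightDerived_glob A (C.homology n) (q + 1)
      have h'' : Subsingleton (Coh.HH X (C.homology n) (q + 1)) :=
        @Equiv.subsingleton _ _ (Curves.LES.isoK A (I.isoRightDerivedObj (Hom.R F) n) (q + 1)).toEquiv.symm h'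
      haveI : Subsingleton (((glob A).rightDerived (q + 1)).obj (C.homology n)) :=
        @Function.Injective.subsingleton _ _ _ d.injective h''
      exact ModuleCat.isZero_of_subsingleton _)
  obtain ⟨d⟩ := nonempty_rightDerived_glob A (C.homology i) 0
  refine ⟨(ExtLin.Inj.homologyEquiv (R := A) (A := F) I i).symm ≪≫ₗ
    ((HomologicalComplex.homologyFunctor _ _ i).mapIso
      ((NatIso.mapHomologicalComplex (globIso A F) (ComplexShape.up ℕ)).app I.cocomplex).symm ≪≫ e ≪≫
      ((glob A).rightDerivedZeroIsoSelf.app _).symm).toLinearEquiv ≪≫ₗ d ≪≫ₗ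
    Curves.LES.isoK A (I.isoRightDerivedObj (Hom.R F) i).symm 0⟩

/-- `Extⁱ(F, G(d)) = Γ(ℰxtⁱ(F, G(d)))` for large twists. -/
theorem exists_nonempty_ext_twist [IsNoetherianRing A] (n : ℕ) (ι : X ⟶ CohB1.ProjSpace n A) [IsClosedImmersion ι]
    [IsProper (X ↘ Spec (CommRingCat.of A))] [HasInjectiveResolutions (ModSite.Mod X.sheaf)] (F G : X.Modules) (hF : Coh.IsCoh F) (hG : Coh.IsCoh G)
    [ModSite.HasSheafHom (O := X.sheaf) F] (i : ℕ) : ∃ d₀ : ℕ, ∀ d : ℕ, d₀ ≤ d →
      Nonempty (Abelian.Ext F (CohB1.tensorMod G ((Scheme.Modules.pullback ι).obj (Twist.twistProjSpace n A (d : ℤ)))) i ≃ₗ[A]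
        Coh.HH X ((ModSite.extSh (O := X.sheaf) F i).obj
          (CohB1.tensorMod G ((Scheme.Modules.pullback ι).obj (Twist.twistProjSpace n A (d : ℤ))))) 0) := by
  classical
  haveI : IsLocallyNoetherian X :=
    LocallyOfFiniteType.isLocallyNoetherian (X ↘ Spec (CommRingCat.of A))
  let L := (Scheme.Modules.pullback ι).obj (Twist.twistProjSpace n A 1)
  have hA : CohB1.IsAmple L :=
    Ample.Pullback.isAmple_pullback ι (Ample.Pullback.isQuasiAffine_of_isAffineHom ι)
      (HProj.QuasiProj.isAmple_twist_projSpace n A)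
  have v := fun q => Groth.Agent.H78.Existence.AmpleVanish.exists_subsingleton A hA
    (F := ((ModSite.extSh (O := X.sheaf) F q).obj G : X.Modules)) (ExtZAffine.isCoh_ext hF hG q)
  choose n₀ hn₀ using v
  refine ⟨(Finset.range i).sup n₀, fun d hd => nonempty_ext_linearEquiv A F _ i fun q hq r => ?_⟩
  obtain ⟨j⟩ := ProjCoh.Coherent.nonempty_tensorPow_iso (n := n) (R := A) d
  let P := (Scheme.Modules.pullback ι).obj (Twist.twistProjSpace n A (d : ℤ))
  have e : P ≅ CohB1.tensorPow L d :=
    (Scheme.Modules.pullback ι).mapIso j ≪≫ Ample.Pow.pullbackPow ι _ d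
  have hP : PicF.IsInvertible P := PicLoc.isInvertible_pullback ι (ProjCoh.Coherent.isInvertible_tw (n := n) (R := A) (d : ℤ))
  obtain ⟨t⟩ := nonempty_extSh_twist F G hP q
  haveI := hn₀ q d ((Finset.le_sup (Finset.mem_range.2 hq)).trans hd) r
  exact (Curves.LES.isoK A (tensorIso (Iso.refl _) e.symm ≪≫ t) (r + 1)).toEquiv.symm.subsingleton

end Absolute

section Relative

/-- Relative Serre vanishing: `R^q g_*(M ⊗ L^l) = 0` for `q > 0` and large `l`. -/
theorem exists_isZero_rightDerived [IsNoetherian Z] (g : Y ⟶ Z) [IsProper g] [HasInjectiveResolutions Y.Modules]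
    {L : Y.Modules} (hL : _root_.RelAmple.IsRelAmple g L) (hLi : PicF.IsInvertible L) {M : Y.Modules}
    (hM : Coh.IsCoh M) : ∃ l₀ : ℕ, ∀ l, l₀ ≤ l → ∀ q : ℕ,
      IsZero (((Scheme.Modules.pushforward g).rightDerived (q + 1)).obj (CohB1.tensorMod M (CohB1.tensorPow L l))) := by
  classical
  choose V hV hxV using fun y : Z =>
    (exists_isAffineOpen_mem_and_subset (X := Z) (x := y) (U := ⊤) trivial).imp
      fun V hV => And.intro hV.1 hV.2.1
  obtain ⟨T, hT⟩ := isCompact_univ.elim_finite_subcover (fun y => (V y : Set Z))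
    (fun y => (V y).2) fun y _ => Set.mem_iUnion.2 ⟨y, hxV y⟩
  have hn : ∀ y : Z, ∃ n₀ : ℕ, ∀ n, n₀ ≤ n → ∀ q : ℕ, Subsingleton (Coh.HH ((g ⁻¹ᵁ V y : Y.Opens) : Scheme.{u})
      ((CohB1.tensorMod M (CohB1.tensorPow L n)).restrict (g ⁻¹ᵁ V y).ι) (q + 1)) := fun y => by
    haveI : IsAffine (V y : Scheme.{u}) := hV y
    haveI : IsNoetherianRing (ZarCoh.Exchange.Local.AV (V y)) :=
      IsLocallyNoetherian.component_noetherian ⟨⊤, isAffineOpen_top (V y : Scheme.{u})⟩
    obtain ⟨n₀, hn₀⟩ := Groth.Agent.H78.Existence.AmpleVanish.exists_subsingleton (ZarCoh.Exchange.Local.AV (V y))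
      (X := ZarCoh.Exchange.Local.XV g (V y)) (hL.2 ⟨V y, hV y⟩)
      (CohBasics.Closure.isCoh_of_iso ((Scheme.Modules.restrictFunctorIsoPullback _).app M).symm
        (Cyc.FP.Stalk.isCoh_pullback (g ⁻¹ᵁ V y).ι hM))
    refine ⟨n₀, fun n hn q => ?_⟩
    haveI := hn₀ n hn q
    exact (Curves.LES.isoK (ZarCoh.Exchange.Local.AV (V y))
      (TensorMod.Pullback.restrictTensorIso (g ⁻¹ᵁ V y).ι M _ ≪≫
        tensorIso (Iso.refl _) (Ample.Pow.restrictPow _ L n)) (q + 1)).toEquiv.subsingleton
  choose n₀ hn₀ using hn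
  refine ⟨T.sup n₀, fun l hl q => ?_⟩
  let N := CohB1.tensorMod M (CohB1.tensorPow L l)
  have hN : Coh.IsCoh N := CohBasics.Closure.isCoh_of_iso (comm _ M)
    (Snapper.Twist.isCoh_twist (TensorMod.Invertible.isInvertible_tensorPow hLi l) hM)
  let I := injectiveResolution N
  obtain ⟨e⟩ := CohDelta.Syzygy.nonempty_rightDerived_iso I g q
  refine IsZero.of_iso ?_ e
  haveI := CohDelta.QCohR.isQCoh_R g I q hN.1
  haveI : (CohDelta.Syzygy.Z I 0).IsQuasicoherent :=
    ObjectProperty.prop_of_iso (SheafOfModules.isQuasicoherent (R := Y.ringCatSheaf))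
      (CohDelta.Syzygy.augIso I) hN.1
  refine Modules.AffineSections.isZero_of_sections fun z => ?_
  obtain ⟨y, hy, hzy⟩ := Set.mem_iUnion₂.1 (hT (Set.mem_univ z))
  refine ⟨V y, hV y, hzy, ?_⟩
  haveI := hn₀ y l ((Finset.le_sup hy).trans hl) q
  have h1 : Subsingleton (Ext.{u} (ZarCoh.Basic.Zs.obj (g ⁻¹ᵁ V y)) (Coh.toAb N) (q + 1)) :=
    (ZarCoh.Morph.nonempty_HHon_equiv N (g ⁻¹ᵁ V y) (q + 1)).some.symm.injective.subsingleton
  haveI h2 := Groth.Agent.H34.HOne.ext_of_iso _ (q + 1)
    ((CohDelta.Basic.abF Y).mapIso (CohDelta.Syzygy.augIso I)) h1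
  exact (CohDelta.QCohR.e_bijective g I q (hV y)).2.subsingleton

/-- `g_*` of a relative Ext sheaf of a large twist. -/
theorem exists_nonempty_push_relExt [IsNoetherian Z] (g : Y ⟶ Z) [IsProper g] (f : X ⟶ Y) [IsProper f]
    [HasInjectiveResolutions X.Modules] {L : Y.Modules} (hL : _root_.RelAmple.IsRelAmple g L) (hLi : PicF.IsInvertible L)
    (P : ℕ → Y.Modules) (hP : ∀ l, P l ≅ CohB1.tensorPow L l) (F G : X.Modules) (hF : Coh.IsCoh F) (hG : Coh.IsCoh G)
    [ModSite.HasSheafHom (O := X.sheaf) F] [(Hom.R F ⋙ Scheme.Modules.pushforward f).Additive]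
    [(Hom.R F ⋙ Scheme.Modules.pushforward (f ≫ g)).Additive] (p : ℕ) : ∃ l₀ : ℕ, ∀ l : ℕ, l₀ ≤ l →
      Nonempty ((Scheme.Modules.pushforward g).obj (((Hom.R F ⋙ Scheme.Modules.pushforward f).rightDerived p).obj
          (CohB1.tensorMod G ((Scheme.Modules.pullback f).obj (P l)))) ≅
        ((Hom.R F ⋙ Scheme.Modules.pushforward (f ≫ g)).rightDerived p).obj
          (CohB1.tensorMod G ((Scheme.Modules.pullback f).obj (P l)))) := by
  classical
  haveI : IsLocallyNoetherian Y := LocallyOfFiniteType.isLocallyNoetherian g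
  haveI : HasInjectiveResolutions (ModSite.Mod X.sheaf) := ‹HasInjectiveResolutions X.Modules›
  haveI : EnoughInjectives X.Modules := DerivedOX.Grothendieck.enoughInjectives_modules X
  haveI : EnoughInjectives Y.Modules := DerivedOX.Grothendieck.enoughInjectives_modules Y
  haveI : (Hom.R F).Additive := (Hom.adj F).right_adjoint_additive
  haveI : PreservesLimitsOfSize.{0, 0} (Scheme.Modules.pushforward g) :=
    (Scheme.Modules.pullbackPushforwardAdjunction g).rightAdjoint_preservesLimits
  haveI : PreservesFiniteLimits (Scheme.Modules.pushforward g) :=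
    PreservesLimitsOfSize.preservesFiniteLimits _
  have v := fun q => exists_isZero_rightDerived g hL hLi
    (M := ((Hom.R F ⋙ Scheme.Modules.pushforward f).rightDerived q).obj G) (ExtShRelCoh.isCoh f hF hG q)
  choose n₀ hn₀ using v
  refine ⟨(Finset.range p).sup n₀, fun l hl => ?_⟩
  let G' := CohB1.tensorMod G ((Scheme.Modules.pullback f).obj (P l))
  let I := injectiveResolution G'
  let C := ((Hom.R F ⋙ Scheme.Modules.pushforward f).mapHomologicalComplex (ComplexShape.up ℕ)).obj I.cocomplex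
  obtain ⟨e⟩ := CohDelta.AcycHomology.nonempty_iso (Scheme.Modules.pushforward g) C
    (fun n q => by
      haveI : Injective (I.cocomplex.X n) := I.injective n
      haveI := ExtShRelCoh.isFlasque_hom F (I.cocomplex.X n)
      haveI := isFlasque_push f ((Hom.R F).obj (I.cocomplex.X n))
      exact ExtShRelCoh.isZero_rightDerived_of_flasque g
        ((Scheme.Modules.pushforward f).obj ((Hom.R F).obj (I.cocomplex.X n))) q) p
    (fun n hn q => by
      have hN : FlatMod.IsFinLocFree (P l) := TensorMod.LocFree.of_rank (TensorMod.LocFree.of_isInvertible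
        (TensorMod.Invertible.isInvertible_of_iso (hP l).symm (TensorMod.Invertible.isInvertible_tensorPow hLi l)))
      obtain ⟨t⟩ := nonempty_relExt_twist f F G hN n
      exact (hn₀ n l ((Finset.le_sup (Finset.mem_range.2 hn)).trans hl) q).of_iso
        (((Scheme.Modules.pushforward g).rightDerived (q + 1)).mapIso
          ((I.isoRightDerivedObj (Hom.R F ⋙ Scheme.Modules.pushforward f) n).symm ≪≫ t.symm ≪≫
            tensorIso (Iso.refl _) (hP l))))
  exact ⟨(Scheme.Modules.pushforward g).mapIso (I.isoRightDerivedObj (Hom.R F ⋙ Scheme.Modules.pushforward f) p) ≪≫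
    e.symm ≪≫
    (HomologicalComplex.homologyFunctor _ _ p).mapIso
      ((NatIso.mapHomologicalComplex
        (Functor.associator (Hom.R F) (Scheme.Modules.pushforward f) (Scheme.Modules.pushforward g) ≪≫
          Functor.isoWhiskerLeft (Hom.R F) (Scheme.Modules.pushforwardComp f g))
        (ComplexShape.up ℕ)).app I.cocomplex) ≪≫
    (I.isoRightDerivedObj (Hom.R F ⋙ Scheme.Modules.pushforward (f ≫ g)) p).symm⟩

/-- Closed subschemes of relative projective space are proper over the base. -/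
theorem isProper_of_comp {S : Scheme.{u}} {n : ℕ} (f : X ⟶ S) (e : X ⟶ CohB1.ProjSpaceOver n S) [IsClosedImmersion e]
    (he : e ≫ CohB1.ProjSpaceOver.toBase n S = f) : IsProper f := by
  haveI := ProjSpace.Basic.isProper_toSpec n (ULift.{u} ℤ)
  haveI : IsProper (CohB1.ProjSpaceOver.toBase n S) := inferInstanceAs (IsProper (pullback.snd _ _))
  rw [← he]; infer_instance

/-- The twists of relative projective space are the powers of `O(1)`. -/
theorem nonempty_twistOver_iso (m : ℕ) (S : Scheme.{u}) (l : ℕ) :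
    Nonempty (Twist.twistOver m S (l : ℤ) ≅ CohB1.tensorPow (Twist.twistOver m S 1) l) := by
  obtain ⟨j⟩ := ProjCoh.Coherent.nonempty_tensorPow_iso (n := m) (R := ULift.{u} ℤ) l
  exact ⟨(Scheme.Modules.pullback _).mapIso j ≪≫ Ample.Pow.pullbackPow _ _ l⟩

/-- `g_*` of a relative Ext sheaf of a large twist, for `Y` projective over `Z`. -/
theorem exists_nonempty_push_relExt_twist [IsNoetherian Z] {m : ℕ} (g : Y ⟶ Z) (e' : Y ⟶ CohB1.ProjSpaceOver m Z)
    [IsClosedImmersion e'] (he' : e' ≫ CohB1.ProjSpaceOver.toBase m Z = g) (f : X ⟶ Y) [IsProper f]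
    [HasInjectiveResolutions X.Modules] (F G : X.Modules) (hF : Coh.IsCoh F) (hG : Coh.IsCoh G)
    [ModSite.HasSheafHom (O := X.sheaf) F] [(Hom.R F ⋙ Scheme.Modules.pushforward f).Additive]
    [(Hom.R F ⋙ Scheme.Modules.pushforward (f ≫ g)).Additive] (p : ℕ) : ∃ l₀ : ℕ, ∀ l : ℕ, l₀ ≤ l →
      Nonempty ((Scheme.Modules.pushforward g).obj (((Hom.R F ⋙ Scheme.Modules.pushforward f).rightDerived p).obj
          (CohB1.tensorMod G ((Scheme.Modules.pullback f).obj ((Scheme.Modules.pullback e').obj (Twist.twistOver m Z (l : ℤ)))))) ≅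
        ((Hom.R F ⋙ Scheme.Modules.pushforward (f ≫ g)).rightDerived p).obj
          (CohB1.tensorMod G ((Scheme.Modules.pullback f).obj ((Scheme.Modules.pullback e').obj (Twist.twistOver m Z (l : ℤ)))))) := by
  haveI := isProper_of_comp g e' he'
  have j := fun l : ℕ => nonempty_twistOver_iso m Z l
  exact exists_nonempty_push_relExt g f (L := (Scheme.Modules.pullback e').obj (Twist.twistOver m Z 1))
    (ProjMor.Conv.isRelAmple_of_immersion g m e' he')
    (PicLoc.isInvertible_pullback e' (PicLoc.isInvertible_pullback _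
      (ProjCoh.Coherent.isInvertible_tw (n := m) (R := ULift.{u} ℤ) 1)))
    (fun l => (Scheme.Modules.pullback e').obj (Twist.twistOver m Z (l : ℤ)))
    (fun l => (Scheme.Modules.pullback e').mapIso (j l).some ≪≫ Ample.Pow.pullbackPow e' _ l) F G hF hG p

end Relative

end Groth.Agent.Lib.ExtShTwist
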