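import Groth.Agent.Lib.FilCx.Basic
import Mathlib.Algebra.Homology.Refinements
import Mathlib.CategoryTheory.Limits.Shapes.Pullback.IsPullback.Basic

/-!
# Pushouts and pullbacks of filtered objects
-/

set_option autoImplicit false

open CategoryTheory CategoryTheory.Limits SpSeq SpSeq.FilObj
open Groth.Agent.Lib.FilCx.Basic
open Groth.Agent.Lib.IndCof.Basic (mem_image_iff factors_local le_of_mem)

universe v u

namespace Groth.Agent.Lib.FilObjPush

variable {A : Type u} [Category.{v} A] [Abelian A]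

theorem compat' {N N' : FilObj A} (h : N ⟶ N') (q : ℤ) {T : A} {b : T ⟶ N.obj}
    (hb : (N.fil q).Factors b) : (N'.fil q).Factors (b ≫ h.hom) :=
  (Limits.pullback_factors_iff _ _ _).1 (Subobject.factors_of_le _ (h.compat q) hb)

theorem isStrict_iff {K L : FilObj A} (f : K ⟶ L) :
    IsStrict f ↔ ∀ (p : ℤ) ⦃T : A⦄ (y : T ⟶ K.obj), (L.fil p).Factors (y ≫ f.hom) →
      ∃ (T' : A) (e : T' ⟶ T) (_ : Epi e) (b : T' ⟶ K.obj), (K.fil p).Factors b ∧ e ≫ y ≫ f.hom = b ≫ f.hom := by
  constructor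
  · intro h p T y hy
    have h1 : (imageSubobject f.hom ⊓ L.fil p).Factors (y ≫ f.hom) :=
      mem_inf.2 ⟨(mem_image_iff _ _).2 ⟨T, 𝟙 _, inferInstance, y, Category.id_comp _⟩, hy⟩
    rw [← h p, mem_image_arrow] at h1
    exact h1
  · intro h p
    refine ext_mem fun T z => ?_
    rw [mem_image_arrow, mem_inf, mem_image_iff]
    constructor
    · rintro ⟨T', e, he, b, hb, hz⟩
      exact ⟨⟨T', e, he, b, hz⟩, factors_local _ e (hz ▸ compat' f p hb)⟩
    · rintro ⟨⟨T₁, e₁, he₁, x, hx⟩, hz⟩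
      obtain ⟨T₂, e₂, he₂, b, hb, hb'⟩ := h p x (hx ▸ mem_comp hz e₁)
      exact ⟨T₂, e₂ ≫ e₁, inferInstance, b, hb, by rw [Category.assoc, hx, hb']⟩

theorem isStrict_comp_iso {K L L' : FilObj A} {f : K ⟶ L} (hf : IsStrict f) (e : L ≅ L') :
    IsStrict (f ≫ e.hom) := by
  rw [isStrict_iff] at hf ⊢
  intro p T y hy
  have hie : e.hom.hom ≫ e.inv.hom = 𝟙 L.obj := congrArg Hom.hom e.hom_inv_id
  have h1 : (L.fil p).Factors (y ≫ f.hom) := by
    have h := compat' e.inv p hy
    rw [show (y ≫ (f ≫ e.hom).hom) ≫ e.inv.hom = y ≫ f.hom from by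
      change (y ≫ f.hom ≫ e.hom.hom) ≫ e.inv.hom = _
      rw [Category.assoc, Category.assoc, hie, Category.comp_id]] at h
    exact h
  obtain ⟨T', a, ha, b, hb, h2⟩ := hf p y h1
  refine ⟨T', a, ha, b, hb, ?_⟩
  change a ≫ y ≫ f.hom ≫ e.hom.hom = b ≫ f.hom ≫ e.hom.hom
  rw [reassoc_of% h2]

section push

variable {K L M : FilObj A} (f : K ⟶ L) (g : K ⟶ M)

/-- The pushout object. -/
noncomputable abbrev poObj : FilObj A where
  obj := pushout f.hom g.hom
  fil p := imageSubobject ((L.fil p).arrow ≫ pushout.inl f.hom g.hom) ⊔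
    imageSubobject ((M.fil p).arrow ≫ pushout.inr f.hom g.hom)
  anti := fun p q h => le_of_mem fun T z hz => by
    obtain ⟨T', e, he, a, b, ha, hb, hz'⟩ := mem_sup.1 hz
    rw [mem_image_arrow] at ha hb
    obtain ⟨T₁, e₁, he₁, a', ha', hae⟩ := ha
    obtain ⟨T₂, e₂, he₂, b', hb', hbe⟩ := hb
    refine mem_sup.2 ⟨T', e, he, a, b, ?_, ?_, hz'⟩
    · exact (mem_image_arrow _ _ _).2 ⟨T₁, e₁, he₁, a', Subobject.factors_of_le _ (L.anti h) ha', hae⟩
    · exact (mem_image_arrow _ _ _).2 ⟨T₂, e₂, he₂, b', Subobject.factors_of_le _ (M.anti h) hb', hbe⟩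

/-- The left inclusion. -/
noncomputable abbrev poInl : L ⟶ poObj f g where
  hom := pushout.inl f.hom g.hom
  compat p := le_of_mem fun T z hz => (Limits.pullback_factors_iff _ _ _).2
    (Subobject.sup_factors_of_factors_left
      ((mem_image_arrow _ _ _).2 ⟨T, 𝟙 _, inferInstance, z, hz, Category.id_comp _⟩))

/-- The right inclusion. -/
noncomputable abbrev poInr : M ⟶ poObj f g where
  hom := pushout.inr f.hom g.hom
  compat p := le_of_mem fun T z hz => (Limits.pullback_factors_iff _ _ _).2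
    (Subobject.sup_factors_of_factors_right
      ((mem_image_arrow _ _ _).2 ⟨T, 𝟙 _, inferInstance, z, hz, Category.id_comp _⟩))

theorem po_w : f ≫ poInl f g = g ≫ poInr f g := Hom.ext pushout.condition

theorem isPushout_po : IsPushout f g (poInl f g) (poInr f g) := by
  refine IsPushout.of_isColimit' ⟨po_w f g⟩ (PushoutCocone.IsColimit.mk _
    (fun s => ⟨pushout.desc s.inl.hom s.inr.hom (congrArg Hom.hom s.condition), fun p => ?_⟩)
    (fun s => Hom.ext (pushout.inl_desc _ _ _)) (fun s => Hom.ext (pushout.inr_desc _ _ _))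
    (fun s m h₁ h₂ => Hom.ext ?_))
  · refine le_of_mem fun T z hz => (Limits.pullback_factors_iff _ _ _).2 ?_
    obtain ⟨T', e, he, a, b, ha, hb, hz'⟩ := mem_sup.1 hz
    refine factors_local _ e ?_
    rw [← Category.assoc, hz', Preadditive.add_comp]
    obtain ⟨T₁, e₁, he₁, a', ha', hae⟩ := (mem_image_arrow _ _ _).1 ha
    obtain ⟨T₂, e₂, he₂, b', hb', hbe⟩ := (mem_image_arrow _ _ _).1 hb
    refine Subobject.factors_add _ _ (factors_local _ e₁ ?_) (factors_local _ e₂ ?_)
    · rw [← Category.assoc, hae, Category.assoc, pushout.inl_desc]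
      exact compat' s.inl p ha'
    · rw [← Category.assoc, hbe, Category.assoc, pushout.inr_desc]
      exact compat' s.inr p hb'
  · refine pushout.hom_ext ((congrArg Hom.hom h₁).trans (pushout.inl_desc _ _ _).symm)
      ((congrArg Hom.hom h₂).trans (pushout.inr_desc _ _ _).symm)

theorem isStrict_poInr (hf : IsStrict f) : IsStrict (poInr f g) := by
  rw [isStrict_iff] at hf ⊢
  intro p T y hy
  obtain ⟨T₁, e₁, he₁, a, b, ha, hb, h1⟩ := mem_sup.1 hy
  obtain ⟨T₂, e₂, he₂, l, hl, h2⟩ := (mem_image_arrow _ _ _).1 ha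
  obtain ⟨T₃, e₃, he₃, m, hm, h3⟩ := (mem_image_arrow _ _ _).1 (mem_comp hb e₂)
  -- `l` lies in the image of `f`
  let φ : pushout f.hom g.hom ⟶ cokernel f.hom :=
    pushout.desc (cokernel.π f.hom) 0 (by rw [cokernel.condition, comp_zero])
  have hinl : pushout.inl f.hom g.hom ≫ φ = cokernel.π f.hom := pushout.inl_desc _ _ _
  have hinr : pushout.inr f.hom g.hom ≫ φ = 0 := pushout.inr_desc _ _ _
  have h4 : (e₃ ≫ l) ≫ cokernel.π f.hom = 0 := by
    have e : (e₃ ≫ l) ≫ cokernel.π f.hom = (e₃ ≫ e₂ ≫ a) ≫ φ := by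
      rw [h2]; simp only [Category.assoc, hinl]
    rw [e, show a = e₁ ≫ y ≫ (poInr f g).hom - b from eq_sub_of_add_eq h1.symm]
    simp only [Preadditive.comp_sub, Preadditive.sub_comp, h3]
    simp only [Category.assoc, hinr, comp_zero, sub_self]
  obtain ⟨T₄, e₄, he₄, k, hk⟩ :=
    (ShortComplex.exact_of_g_is_cokernel (ShortComplex.mk f.hom (cokernel.π f.hom) (cokernel.condition _))
      (cokernelIsCokernel f.hom)).exact_up_to_refinements (e₃ ≫ l) h4
  have hk' : (e₄ ≫ e₃) ≫ l = k ≫ f.hom := (Category.assoc _ _ _).trans hk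
  obtain ⟨T₅, e₅, he₅, c, hc, h5⟩ := hf p k (hk' ▸ mem_comp hl _)
  refine ⟨T₅, e₅ ≫ e₄ ≫ e₃ ≫ e₂ ≫ e₁, inferInstance, c ≫ g.hom + e₅ ≫ e₄ ≫ m,
    Subobject.factors_add _ _ (compat' g p hc) (mem_comp (mem_comp hm _) _), ?_⟩
  have h6 : e₅ ≫ e₄ ≫ e₃ ≫ e₂ ≫ a = c ≫ g.hom ≫ pushout.inr f.hom g.hom := by
    rw [h2]
    simp only [← Category.assoc] at hk h5 ⊢
    rw [Category.assoc e₅, Category.assoc e₅, hk', ← Category.assoc, h5, Category.assoc c,
      pushout.condition, ← Category.assoc]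
  simp only [Category.assoc, Preadditive.add_comp]
  rw [h1, Preadditive.comp_add, Preadditive.comp_add, Preadditive.comp_add, Preadditive.comp_add, h6, h3]

end push

section pull

variable {K L M : FilObj A} (f : L ⟶ K) (g : M ⟶ K)

/-- The pullback object. -/
noncomputable abbrev pbObj : FilObj A where
  obj := pullback f.hom g.hom
  fil p := (Subobject.pullback (pullback.fst f.hom g.hom)).obj (L.fil p) ⊓
    (Subobject.pullback (pullback.snd f.hom g.hom)).obj (M.fil p)
  anti := fun p q h => inf_le_inf ((Subobject.pullback _).map (homOfLE (L.anti h))).le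
    ((Subobject.pullback _).map (homOfLE (M.anti h))).le

/-- The first projection. -/
noncomputable abbrev pbFst : pbObj f g ⟶ L where
  hom := pullback.fst f.hom g.hom
  compat _ := inf_le_left

/-- The second projection. -/
noncomputable abbrev pbSnd : pbObj f g ⟶ M where
  hom := pullback.snd f.hom g.hom
  compat _ := inf_le_right

theorem isPullback_pb : IsPullback (pbFst f g) (pbSnd f g) f g := by
  refine IsPullback.of_isLimit' ⟨Hom.ext pullback.condition⟩ (PullbackCone.IsLimit.mk _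
    (fun s => ⟨pullback.lift s.fst.hom s.snd.hom (congrArg Hom.hom s.condition), fun p => ?_⟩)
    (fun s => Hom.ext (pullback.lift_fst _ _ _)) (fun s => Hom.ext (pullback.lift_snd _ _ _))
    (fun s m h₁ h₂ => Hom.ext ?_))
  · refine le_of_mem fun T z hz => (Limits.pullback_factors_iff _ _ _).2 (mem_inf.2 ⟨?_, ?_⟩)
    · rw [Limits.pullback_factors_iff, Category.assoc, pullback.lift_fst]
      exact compat' s.fst p hz
    · rw [Limits.pullback_factors_iff, Category.assoc, pullback.lift_snd]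
      exact compat' s.snd p hz
  · exact pullback.hom_ext ((congrArg Hom.hom h₁).trans (pullback.lift_fst _ _ _).symm)
      ((congrArg Hom.hom h₂).trans (pullback.lift_snd _ _ _).symm)

theorem isStrict_pbSnd (hf : IsStrict f) : IsStrict (pbSnd f g) := by
  rw [isStrict_iff] at hf ⊢
  intro p T y hy
  have h1 : (y ≫ pullback.fst f.hom g.hom) ≫ f.hom = (y ≫ (pbSnd f g).hom) ≫ g.hom := by
    simp [pbSnd, pullback.condition]
  obtain ⟨T', e, he, l, hl, h2⟩ := hf p (y ≫ pullback.fst f.hom g.hom) (h1 ▸ compat' g p hy)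
  refine ⟨T', e, he, pullback.lift l (e ≫ y ≫ (pbSnd f g).hom)
    (by rw [← h2, h1]; simp only [Category.assoc]),
    mem_inf.2 ⟨?_, ?_⟩, (pullback.lift_snd _ _ _).symm⟩
  · rw [Limits.pullback_factors_iff, pullback.lift_fst]
    exact hl
  · rw [Limits.pullback_factors_iff, pullback.lift_snd]
    exact mem_comp hy e

end pull

end Groth.Agent.Lib.FilObjPush
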