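import Groth.Agent.Lib.NormAmple.Bundle
import Groth.Agent.Lib.TensorMod.HomGlue

/-!
# Descending invertible modules along finite morphisms which are isomorphisms off a discrete set
-/

set_option autoImplicit false
set_option linter.style.haveILetI false

noncomputable section

universe u

open CategoryTheory CategoryTheory.Limits AlgebraicGeometry Opposite TopologicalSpace

namespace Groth.Agent.Lib.FiniteOffDiscrete

open TensorMod TensorMod.Dual TensorMod.Gen TensorMod.Pullback Ample.GenLocus Groth.Agent.H97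

variable {X Y : Scheme.{u}} (f : X ⟶ Y)

theorem bijective_app {V : Y.Opens} (hV : IsIso (f ∣_ V)) {W : Y.Opens} (hW : W ≤ V) :
    Function.Bijective (f.app W) := by
  obtain ⟨W, rfl⟩ : ∃ W' : (V : Scheme.{u}).Opens, V.ι ''ᵁ W' = W := ⟨V.ι ⁻¹ᵁ W, by
    rw [V.ι.image_preimage_eq_opensRange_inf, V.opensRange_ι]; exact inf_eq_right.2 hW⟩
  haveI : IsIso ((f ∣_ V).app W) := inferInstance
  have h : IsIso (f.app (V.ι ''ᵁ W) ≫ X.presheaf.map
      (eqToHom (image_morphismRestrict_preimage f V W)).op) := morphismRestrict_app f V W ▸ this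
  haveI := IsIso.of_isIso_comp_right (f.app (V.ι ''ᵁ W))
    (X.presheaf.map (eqToHom (image_morphismRestrict_preimage f V W)).op)
  exact ConcreteCategory.bijective_of_isIso _

theorem exists_invertible_pullback_iso [IsFinite f] (V : Y.Opens) (hV : IsIso (f ∣_ V))
    (hdisc : DiscreteTopology ((V : Set Y)ᶜ : Set Y)) (L : X.Modules) (hL : PicF.IsInvertible L) :
    ∃ N : Y.Modules, PicF.IsInvertible N ∧ Nonempty ((Scheme.Modules.pullback f).obj N ≅ L) := by
  classical
  choose W₀ e₀ hyW₀ he₀ using NormAmple.Bundle.exists_frame_fibre (π := f) hL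
  -- opens isolating the points outside `V`
  have hiso : ∀ y : Y, ∃ T : Y.Opens, y ∈ T ∧ (y ∈ V → T ≤ V) ∧ (y ∉ V → ∀ z ∈ T, z ∉ V → z = y) := by
    intro y
    by_cases hy : y ∈ V
    · exact ⟨V, hy, fun _ => le_rfl, fun h => absurd hy h⟩
    · have hs : IsOpen ({⟨y, hy⟩} : Set ((V : Set Y)ᶜ : Set Y)) := isOpen_discrete _
      obtain ⟨O, hO, hOy⟩ := isOpen_induced_iff.1 hs
      refine ⟨⟨O, hO⟩, ?_, fun h => absurd h hy, fun _ z hz hzV => ?_⟩
      · exact (Set.ext_iff.1 hOy ⟨y, hy⟩).2 rfl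
      · exact congrArg Subtype.val ((Set.ext_iff.1 hOy ⟨z, hzV⟩).1 hz)
  choose T hyT hTV hTy using hiso
  let W : Y → Y.Opens := fun y => W₀ y ⊓ T y
  let e : ∀ y, Γ(L, f ⁻¹ᵁ W y) := fun y => rs L (f.preimage_mono inf_le_left) (e₀ y)
  have he : ∀ y, IsGen L (f ⁻¹ᵁ W y) (e y) := fun y => (he₀ y).res _
  have hdisj : ∀ i j, i ≠ j → W i ⊓ W j ≤ V := by
    rintro i j hij z ⟨⟨-, hzi⟩, ⟨-, hzj⟩⟩
    by_contra hz
    by_cases hi : i ∈ V
    · exact hz (hTV i hi hzi)
    by_cases hj : j ∈ V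
    · exact hz (hTV j hj hzj)
    exact hij ((hTy i hi z hzi hz).symm.trans (hTy j hj z hzj hz))
  let M : Y.Modules := (Scheme.Modules.pushforward f).obj L
  let g : ∀ y, Γ(M, W y ⊓ V) := fun y => rs L (f.preimage_mono inf_le_left) (e y)
  have hg : ∀ y, IsGen M (W y ⊓ V) (g y) := by
    intro y U hU
    have h2 : (fun a : Γ(Y, U) => a • rs M hU (g y)) =
        (fun a : Γ(X, f ⁻¹ᵁ U) => a • rs L (f.preimage_mono (hU.trans inf_le_left)) (e y)) ∘ f.app U := by
      funext a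
      show f.app U a • rs L (f.preimage_mono hU) (rs L _ (e y)) = _
      rw [rs_rs]
      rfl
    rw [h2]
    exact (he y _ _).comp (bijective_app f hV (hU.trans inf_le_right))
  obtain ⟨c, hc⟩ := GlueLine.exists_cocycle (M := M) (O := V) hdisj g hg
  refine ⟨GlueLine.glue c, GlueLine.isInvertible_glue c
    (top_le_iff.1 fun y _ => Opens.mem_iSup.2 ⟨y, hyW₀ y, hyT y⟩), ?_⟩
  have hU : iSup (fun y => f ⁻¹ᵁ W y) = ⊤ :=
    top_le_iff.1 fun x _ => Opens.mem_iSup.2 ⟨f x, hyW₀ (f x), hyT (f x)⟩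
  refine ⟨(HomGlue.exists_iso_of_gen (L := (pb f).obj (GlueLine.glue c)) (M := L) hU
    (fun y => unitSec f (GlueLine.glue c) (GlueLine.gen c y))
    (fun y => isGen_unitSec f (GlueLine.isGen_gen c y)) e he fun i j O hi hj a ha => ?_).choose⟩
  by_cases hij : i = j
  · subst hij
    have h1 : (1 : Γ(X, O)) = a := by
      refine ((isGen_unitSec f (GlueLine.isGen_gen c i)) O hi).1 ?_
      show (1 : Γ(X, O)) • rs _ hi _ = a • rs _ hi _
      rw [one_smul]
      exact ha
    rw [← h1, one_smul]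
  have hO : O ≤ f ⁻¹ᵁ (W i ⊓ W j) := le_inf hi hj
  have hV' : W i ⊓ W j ≤ V := hdisj i j hij
  let t : Γ(Y, W i ⊓ W j) := c.tr j i inf_le_right inf_le_left
  have h1 : rs ((pb f).obj (GlueLine.glue c)) hi (unitSec f (GlueLine.glue c) (GlueLine.gen c i)) =
      rf hO (f.app _ t) • rs ((pb f).obj (GlueLine.glue c)) hj (unitSec f (GlueLine.glue c) (GlueLine.gen c j)) := by
    have h := congrArg (fun s => rs ((pb f).obj (GlueLine.glue c)) hO (unitSec f (GlueLine.glue c) s))
      (GlueLine.rs_gen c j i (inf_le_right : W i ⊓ W j ≤ W j) (inf_le_left : W i ⊓ W j ≤ W i))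
    simp only [unitSec_smul, rs_smul, ← unitSec_rs, rs_rs] at h
    exact h
  have h2 : a = rf hO (f.app _ t) := ((isGen_unitSec f (GlueLine.isGen_gen c j)) O hj).1 (ha.symm.trans h1)
  have h3 := congrArg (rs L hO) (hc j i (W i ⊓ W j) inf_le_right inf_le_left hV')
  change rs L hO (rs L _ (rs L _ (e i))) = rs L hO (f.app _ t • rs L _ (rs L _ (e j))) at h3
  simp only [rs_smul, rs_rs] at h3
  rw [h2]
  exact h3

end Groth.Agent.Lib.FiniteOffDiscrete
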