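import Mathlib.FieldTheory.IsPerfectClosure
import Mathlib.RingTheory.IntegralClosure.IsIntegralClosure.Basic
import Mathlib.RingTheory.Spectrum.Prime.Topology
import Mathlib.AlgebraicGeometry.Morphisms.Integral
import Mathlib.AlgebraicGeometry.Morphisms.UniversallyInjective

/-! # p-radical ring maps -/

set_option autoImplicit false
universe u

open CategoryTheory AlgebraicGeometry

namespace Groth.Agent.Lib.H58PerfClos

variable (p : ℕ) [Fact p.Prime] {A A' : Type u} [CommRing A] [CommRing A'] (i : A →+* A')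
  [IsPRadical i p]
include p

lemma isIntegral : i.IsIntegral := fun x => by
  obtain ⟨n, y, hy⟩ := IsPRadical.pow_mem i p x
  exact ⟨Polynomial.X ^ p ^ n - Polynomial.C y,
    Polynomial.monic_X_pow_sub_C _ (pow_ne_zero _ (Fact.out : p.Prime).ne_zero), by simp [hy]⟩

lemma isNilpotent_of_eq_zero {a : A} (h : i a = 0) : IsNilpotent a :=
  mem_nilradical.1 (pNilradical_le_nilradical (IsPRadical.ker_le i p h))

lemma mem_iff (Q : Ideal A') [Q.IsPrime] (x : A') :
    x ∈ Q ↔ ∀ n (y : A), i y = x ^ p ^ n → y ∈ Q.comap i := by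
  refine ⟨fun hx n y hy => ?_, fun h => ?_⟩
  · rw [Ideal.mem_comap, hy]
    exact Ideal.pow_mem_of_mem _ hx _ (pow_pos (Fact.out : p.Prime).pos n)
  · obtain ⟨n, y, hy⟩ := IsPRadical.pow_mem i p x
    have := h n y hy
    rw [Ideal.mem_comap, hy] at this
    exact Ideal.IsPrime.mem_of_pow_mem ‹_› _ this

lemma comap_injective : Function.Injective (PrimeSpectrum.comap i) := fun P Q h => by
  ext x
  have h' : P.asIdeal.comap i = Q.asIdeal.comap i := congr_arg PrimeSpectrum.asIdeal h
  rw [mem_iff p i P.asIdeal x, mem_iff p i Q.asIdeal x, h']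

lemma comap_surjective : Function.Surjective (PrimeSpectrum.comap i) := fun P => by
  algebraize [i]
  have : Algebra.IsIntegral A A' := ⟨isIntegral p i⟩
  obtain ⟨Q, -, hQ, hQP⟩ := Ideal.exists_ideal_over_prime_of_isIntegral P.asIdeal (⊥ : Ideal A')
    (fun a ha => by
      obtain ⟨m, hm⟩ := isNilpotent_of_eq_zero p i (a := a) (by simpa [RingHom.algebraMap_toAlgebra] using ha)
      exact P.isPrime.mem_of_pow_mem m (hm ▸ P.asIdeal.zero_mem))
  exact ⟨⟨Q, hQ⟩, PrimeSpectrum.ext hQP⟩

/-- extensionality of maps to a field -/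
lemma hom_ext_field [CharP A' p] {K : Type u} [Field K] {f g : A' →+* K}
    (h : f.comp i = g.comp i) : f = g := by
  have hp : (p : K) = 0 := by rw [← map_natCast f, CharP.cast_eq_zero, map_zero]
  haveI : CharP K p := (CharP.charP_iff_prime_eq_zero Fact.out).2 hp
  exact IsPRadical.injective_comp K i p h

lemma universallyInjective_spec [CharP A' p] :
    UniversallyInjective (Spec.map (CommRingCat.ofHom i)) := by
  refine ((tfae_universallyInjective _).out 0 1).mpr fun K instK a b hab => ?_
  obtain ⟨a, rfl⟩ := Spec.map_surjective a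
  obtain ⟨b, rfl⟩ := Spec.map_surjective b
  simp only [← Spec.map_comp] at hab
  rw [Spec.map_inj] at hab
  have := congr_arg CommRingCat.Hom.hom hab
  rw [Spec.map_inj]
  exact CommRingCat.hom_ext (@hom_ext_field p _ A A' _ _ i _ _ K instK _ _ this)

lemma surjective_spec : Surjective (Spec.map (CommRingCat.ofHom i)) :=
  ⟨comap_surjective p i⟩

lemma isIntegralHom_spec : IsIntegralHom (Spec.map (CommRingCat.ofHom i)) :=
  IsIntegralHom.SpecMap_iff.2 (isIntegral p i)

end Groth.Agent.Lib.H58PerfClos
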