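import Groth.Prelude.Def_HRes
import Groth.Agent.Lib.EtJ.ExtNat
import Mathlib.CategoryTheory.Abelian.GrothendieckCategory.EnoughInjectives

/-!
# Identity and composition laws of the restriction in big-site cohomology
-/

set_option autoImplicit false

universe w v u

open CategoryTheory CategoryTheory.Limits CategoryTheory.Abelian Opposite AlgebraicGeometry

namespace Groth.Agent.Lib.HResPull

theorem mapExact_id {C : Type u} [Category.{v} C] [Abelian C] [HasExt.{w} C] [EnoughInjectives C]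
    {X Y : C} {n : ℕ} (e : Ext.{w} X Y n) : e.mapExactFunctor (𝟭 C) = e := by
  induction n generalizing X Y with
  | zero =>
    obtain ⟨f, rfl⟩ := (Ext.mk₀_bijective X Y).2 e
    simp [Ext.mapExactFunctor_mk₀]
  | succ n ih =>
    obtain ⟨S, hS, i, e', rfl⟩ := Groth.Agent.Lib.EtJ.ExtNat.exists_eq_comp_extClass e
    have hcls : hS.extClass.mapExactFunctor (𝟭 C) = hS.extClass := Ext.mapExactFunctor_extClass _ hS
    simp only [Ext.mapExactFunctor_comp, Ext.mapExactFunctor_mk₀, ih, hcls]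
    rfl

section abs

variable {C : Type u} [Category.{v} C] [Abelian C] [HasExt.{w} C] [EnoughInjectives C]
  {D E : Type u} [Category.{v} D] [Abelian D] [HasExt.{w} D] [Category.{v} E] [Abelian E] [HasExt.{w} E]
  (P : C ⥤ D) [P.Additive] [PreservesFiniteLimits P] [PreservesFiniteColimits P]
  (Q : D ⥤ E) [Q.Additive] [PreservesFiniteLimits Q] [PreservesFiniteColimits Q]

theorem abs_natural (G G' : C ⥤ D) [G.Additive] [PreservesFiniteLimits G] [PreservesFiniteColimits G]
    [G'.Additive] [PreservesFiniteLimits G'] [PreservesFiniteColimits G'] (α : G ⟶ G')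
    {Z Y : C} {Z' : D} (e : Z' ⟶ G.obj Z) (r : Z' ⟶ G'.obj Z) (h : e ≫ α.app Z = r) {n : ℕ} (x : Ext.{w} Z Y n) :
    ((Ext.mk₀ e).comp (x.mapExactFunctor G) (zero_add n)).comp (Ext.mk₀ (α.app Y)) (add_zero n) =
      (Ext.mk₀ r).comp (x.mapExactFunctor G') (zero_add n) := by
  subst h
  rw [Ext.comp_assoc_of_third_deg_zero, Groth.Agent.Lib.EtJ.ExtNat.mapExact_natural G G' α x,
    ← Ext.comp_assoc_of_second_deg_zero, Ext.mk₀_comp_mk₀]

theorem mk₀_id_comp_mapExact_id {Z Y : C} {n : ℕ} (x : Ext.{w} Z Y n) :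
    (Ext.mk₀ (𝟙 ((𝟭 C).obj Z))).comp (x.mapExactFunctor (𝟭 C)) (zero_add n) = x :=
  (Ext.mk₀_id_comp _).trans (mapExact_id x)

theorem abs_comp (G : C ⥤ E) [G.Additive] [PreservesFiniteLimits G] [PreservesFiniteColimits G] (α : P ⋙ Q ⟶ G)
    {Z Y : C} {Z₁ : D} {Z₂ : E} (ef : Z₁ ⟶ P.obj Z) (eg : Z₂ ⟶ Q.obj Z₁) (r : Z₂ ⟶ G.obj Z)
    (h : (eg ≫ Q.map ef) ≫ α.app Z = r) {n : ℕ} (x : Ext.{w} Z Y n) :
    ((Ext.mk₀ eg).comp (((Ext.mk₀ ef).comp (x.mapExactFunctor P) (zero_add n)).mapExactFunctor Q)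
      (zero_add n)).comp (Ext.mk₀ (α.app Y)) (add_zero n) =
      (Ext.mk₀ r).comp (x.mapExactFunctor G) (zero_add n) := by
  have : PreservesFiniteLimits (P ⋙ Q) := comp_preservesFiniteLimits P Q
  have : PreservesFiniteColimits (P ⋙ Q) := comp_preservesFiniteColimits P Q
  rw [Ext.mapExactFunctor_comp, Ext.mapExactFunctor_mk₀, ← Groth.Agent.Lib.EtJ.ExtNat.mapExact_comp P Q,
    ← Ext.comp_assoc_of_second_deg_zero, Ext.mk₀_comp_mk₀]
  exact abs_natural (P ⋙ Q) G α (eg ≫ Q.map ef) r h x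

end abs

variable (K : Precoverage Scheme.{u}) {S T T' : Scheme.{u}}

theorem toSheafify_pullConst_inv (f : T ⟶ S) (M : AddCommGrpCat.{u + 1}) (U : (Over T)ᵒᵖ) :
    (toSheafify (QuotSh.J K T) ((Functor.const (Over T)ᵒᵖ).obj M)).app U ≫
        (HRes.pullConst K f M).inv.hom.app U =
      (toSheafify (QuotSh.J K S) ((Functor.const (Over S)ᵒᵖ).obj M)).app ((Over.map f).op.obj U) :=
  NatTrans.congr_app
    ((Over.map f).toSheafify_pullbackSheafificationCompatibility AddCommGrpCat.{u + 1} (QuotSh.J K T)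
      (QuotSh.J K S) ((Functor.const (Over S)ᵒᵖ).obj M)) U

theorem const_ext {M : AddCommGrpCat.{u + 1}} {F : BigSite.Ab K S}
    {a b : (constantSheaf (QuotSh.J K S) AddCommGrpCat.{u + 1}).obj M ⟶ F}
    (h : ∀ U, (toSheafify (QuotSh.J K S) ((Functor.const (Over S)ᵒᵖ).obj M)).app U ≫ a.hom.app U =
      (toSheafify (QuotSh.J K S) ((Functor.const (Over S)ᵒᵖ).obj M)).app U ≫ b.hom.app U) : a = b :=
  Sheaf.hom_ext (sheafify_hom_ext _ _ _ F.property (NatTrans.ext (funext h)))

theorem toSheafify_const_map {M : AddCommGrpCat.{u + 1}} {U V : (Over S)ᵒᵖ} (a : U ⟶ V) :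
    (toSheafify (QuotSh.J K S) ((Functor.const (Over S)ᵒᵖ).obj M)).app U ≫
        ((constantSheaf (QuotSh.J K S) AddCommGrpCat.{u + 1}).obj M).obj.map a =
      (toSheafify (QuotSh.J K S) ((Functor.const (Over S)ᵒᵖ).obj M)).app V :=
  ((toSheafify (QuotSh.J K S) ((Functor.const (Over S)ᵒᵖ).obj M)).naturality a).symm.trans (Category.id_comp _)

theorem pullConst_id (M : AddCommGrpCat.{u + 1}) :
    (HRes.pullConst K (𝟙 S) M).inv ≫
      (K.toGrothendieck.overMapPullbackId AddCommGrpCat.{u + 1} S).hom.app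
        ((constantSheaf (QuotSh.J K S) AddCommGrpCat.{u + 1}).obj M) = 𝟙 _ := by
  refine const_ext K fun U => ?_
  refine Eq.trans ((Category.assoc _ _ _).symm.trans (congrArg (· ≫ _) (toSheafify_pullConst_inv K (𝟙 S) M U))) ?_
  refine Eq.trans ?_ (Category.comp_id _).symm
  erw [GrothendieckTopology.overMapPullbackId_hom_app_hom_app]
  exact toSheafify_const_map K _

theorem pullConst_comp (f : T ⟶ S) (g : T' ⟶ T) (M : AddCommGrpCat.{u + 1}) :
    ((HRes.pullConst K g M).inv ≫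
      (BigSite.pullBig K g AddCommGrpCat.{u + 1}).map (HRes.pullConst K f M).inv) ≫
        (K.toGrothendieck.overMapPullbackComp AddCommGrpCat.{u + 1} g f).hom.app
          ((constantSheaf (QuotSh.J K S) AddCommGrpCat.{u + 1}).obj M) =
      (HRes.pullConst K (g ≫ f) M).inv := by
  refine const_ext K fun U => ?_
  refine Eq.trans ?_ (toSheafify_pullConst_inv K (g ≫ f) M U).symm
  refine Eq.trans ((Category.assoc _ _ _).symm.trans (congrArg (· ≫ _)
    ((Category.assoc _ _ _).symm.trans ((congrArg (· ≫ _) (toSheafify_pullConst_inv K g M U)).trans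
      (toSheafify_pullConst_inv K f M _))))) ?_
  erw [GrothendieckTopology.overMapPullbackComp_hom_app_hom_app]
  exact toSheafify_const_map K _

theorem map_pull_id (F : BigSite.Ab K S) (n : ℕ) (x : BigSite.H K S F n) :
    Sheaf.H.map ((K.toGrothendieck.overMapPullbackId AddCommGrpCat.{u + 1} S).hom.app F) n
      (HRes.pull K (𝟙 S) F n x) = x := by
  exact (abs_natural (BigSite.pullBig K (𝟙 S) AddCommGrpCat.{u + 1}) (𝟭 _)
    (K.toGrothendieck.overMapPullbackId AddCommGrpCat.{u + 1} S).hom _ _ (pullConst_id K _) x).trans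
    (mk₀_id_comp_mapExact_id x)

theorem pull_comp (f : T ⟶ S) (g : T' ⟶ T) (F : BigSite.Ab K S) (n : ℕ) (x : BigSite.H K S F n) :
    HRes.pull K (g ≫ f) F n x =
      Sheaf.H.map ((K.toGrothendieck.overMapPullbackComp AddCommGrpCat.{u + 1} g f).hom.app F) n
        (HRes.pull K g ((BigSite.pullBig K f AddCommGrpCat.{u + 1}).obj F) n (HRes.pull K f F n x)) := by
  exact (abs_comp (BigSite.pullBig K f AddCommGrpCat.{u + 1}) (BigSite.pullBig K g AddCommGrpCat.{u + 1})
    (BigSite.pullBig K (g ≫ f) AddCommGrpCat.{u + 1})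
    (K.toGrothendieck.overMapPullbackComp AddCommGrpCat.{u + 1} g f).hom _ _ _ (pullConst_comp K f g _) x).symm

end Groth.Agent.Lib.HResPull
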