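import Groth.Prelude.Def_W4c6equivkfinstabCyc
import Mathlib.RingTheory.Polynomial.Cyclotomic.Roots
import Mathlib.RingTheory.IntegralDomain
import Mathlib.RingTheory.Ideal.Maximal
import Mathlib.RingTheory.Coprime.Lemmas
import Mathlib.RingTheory.Ideal.Operations
import Mathlib.GroupTheory.Index

/-!
Maximal ideals of group rings and cyclotomic quotients: comaximality and intersection of the
kernels of `cycQuotMap`.
-/

noncomputable section

universe u v

namespace Groth.Agent.Lib.GrpAlgCyc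

open Polynomial W4c6equivkfinstab

variable {Λ : Type u} [CommRing Λ] {M : Type v} [AddCommGroup M]

/-- kernel of `cycQuotMap` -/
def J (Λ : Type u) [CommRing Λ] {M : Type v} [AddCommGroup M] (B : AddSubgroup M) :
    Ideal (AddMonoidAlgebra Λ M) :=
  RingHom.ker (cycQuotMap Λ M B)

/-- kernel of `quotMap` -/
def J₀ (Λ : Type u) [CommRing Λ] {M : Type v} [AddCommGroup M] (B : AddSubgroup M) :
    Ideal (AddMonoidAlgebra Λ M) :=
  RingHom.ker (quotMap Λ M B)

/-- `[a]` -/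
abbrev e (Λ : Type u) [CommRing Λ] {M : Type v} [AddCommGroup M] (a : M) :
    AddMonoidAlgebra Λ M :=
  AddMonoidAlgebra.single a 1

lemma e_add (a b : M) : e Λ (a + b) = e Λ a * e Λ b := by
  simp [e, AddMonoidAlgebra.single_mul_single]

lemma e_zero : e Λ (0 : M) = 1 := rfl

lemma e_nsmul (a : M) (n : ℕ) : e Λ (n • a) = e Λ a ^ n := by
  simp [e, AddMonoidAlgebra.single_pow]

lemma quotMap_e (B : AddSubgroup M) (a : M) :
    quotMap Λ M B (e Λ a) = e Λ (QuotientAddGroup.mk a : M ⧸ B) := by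
  simp [quotMap, e]

lemma e_sub_one_mem_J₀ {B : AddSubgroup M} {b : M} (hb : b ∈ B) : e Λ b - 1 ∈ J₀ Λ B := by
  rw [J₀, RingHom.mem_ker, map_sub, map_one, quotMap_e, (QuotientAddGroup.eq_zero_iff b).2 hb,
    e_zero, sub_self]

lemma J₀_le_J (B : AddSubgroup M) : J₀ Λ B ≤ J Λ B := by
  intro x hx
  rw [J, RingHom.mem_ker]
  show Ideal.Quotient.mk _ (quotMap Λ M B x) = 0
  rw [RingHom.mem_ker.1 hx, map_zero]

lemma J₀_mono {B₀ B : AddSubgroup M} (h : B₀ ≤ B) : J₀ Λ B₀ ≤ J₀ Λ B := by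
  have hc : (AddMonoidAlgebra.mapDomainRingHom Λ
        (QuotientAddGroup.map B₀ B (AddMonoidHom.id M) (by simpa using h))).comp (quotMap Λ M B₀)
      = quotMap Λ M B := by
    refine AddMonoidAlgebra.ringHom_ext (fun r ↦ ?_) (fun a ↦ ?_) <;> simp [quotMap]
  intro x hx
  rw [J₀, RingHom.mem_ker, ← hc, RingHom.comp_apply, RingHom.mem_ker.1 hx, map_zero]

lemma quotMap_surjective (B : AddSubgroup M) : Function.Surjective (quotMap Λ M B) := by
  intro y
  induction y using AddMonoidAlgebra.induction_linear with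
  | zero => exact ⟨0, map_zero _⟩
  | add x y hx hy =>
      obtain ⟨a, rfl⟩ := hx
      obtain ⟨b, rfl⟩ := hy
      exact ⟨a + b, map_add _ _ _⟩
  | single q r =>
      obtain ⟨a, rfl⟩ := QuotientAddGroup.mk_surjective q
      exact ⟨AddMonoidAlgebra.single a r, by simp [quotMap]⟩

lemma cycQuotMap_surjective (B : AddSubgroup M) : Function.Surjective (cycQuotMap Λ M B) :=
  Ideal.Quotient.mk_surjective.comp (quotMap_surjective B)

lemma aeval_mem_J {B : AddSubgroup M} {a : M}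
    (hg : AddSubgroup.zmultiples (QuotientAddGroup.mk a : M ⧸ B) = ⊤) :
    aeval (e Λ a) (cyclotomic (Nat.card (M ⧸ B)) Λ) ∈ J Λ B := by
  rw [J, RingHom.mem_ker]
  show Ideal.Quotient.mk _ (quotMap Λ M B _) = 0
  rw [Ideal.Quotient.eq_zero_iff_mem]
  refine Ideal.subset_span ⟨QuotientAddGroup.mk a, hg, ?_⟩
  have hc : (quotMap Λ M B).comp (algebraMap Λ (AddMonoidAlgebra Λ M))
      = algebraMap Λ (AddMonoidAlgebra Λ (M ⧸ B)) := by
    ext r
    simp [quotMap]
  rw [aeval_def, Polynomial.hom_eval₂, hc, quotMap_e]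
  rfl

lemma natCast_ne_zero_of_isUnit {F : Type*} [CommRing F] [Nontrivial F] (f : Λ →+* F) {n : ℕ}
    (hn : IsUnit (n : Λ)) : (n : F) ≠ 0 := by
  have h := hn.map f
  rw [map_natCast] at h
  exact h.ne_zero

lemma isUnit_natCast_of_dvd {m n : ℕ} (h : m ∣ n) (hn : IsUnit (n : Λ)) : IsUnit (m : Λ) := by
  obtain ⟨k, rfl⟩ := h
  rw [Nat.cast_mul] at hn
  exact (IsUnit.mul_iff.1 hn).1

/-- The subgroup of `M` of the elements congruent to `1` modulo an ideal. -/
def subgroupOfIdeal (m : Ideal (AddMonoidAlgebra Λ M)) : AddSubgroup M where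
  carrier := {a | e Λ a - 1 ∈ m}
  zero_mem' := by simp [e_zero]
  add_mem' {a b} ha hb := by
    have : e Λ (a + b) - 1 = e Λ a * (e Λ b - 1) + (e Λ a - 1) := by rw [e_add]; ring
    show e Λ (a + b) - 1 ∈ m
    rw [this]
    exact add_mem (m.mul_mem_left _ hb) ha
  neg_mem' {a} ha := by
    have h1 : e Λ (-a) * e Λ a = 1 := by rw [← e_add, neg_add_cancel, e_zero]
    have : e Λ (-a) - 1 = -(e Λ (-a) * (e Λ a - 1)) := by rw [mul_sub, h1]; ring
    show e Λ (-a) - 1 ∈ m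
    rw [this]
    exact neg_mem (m.mul_mem_left _ ha)

lemma mem_subgroupOfIdeal {m : Ideal (AddMonoidAlgebra Λ M)} {a : M} :
    a ∈ subgroupOfIdeal m ↔ Ideal.Quotient.mk m (e Λ a) = 1 := by
  rw [← map_one (Ideal.Quotient.mk m), Ideal.Quotient.eq]
  exact Iff.rfl

lemma isPrimitiveRoot_of_eq {m : Ideal (AddMonoidAlgebra Λ M)} {B : AddSubgroup M}
    (hB : subgroupOfIdeal m = B) {a : M}
    (hg : AddSubgroup.zmultiples (QuotientAddGroup.mk a : M ⧸ B) = ⊤) :
    IsPrimitiveRoot (Ideal.Quotient.mk m (e Λ a)) (Nat.card (M ⧸ B)) := by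
  have key : ∀ k : ℕ, Ideal.Quotient.mk m (e Λ a) ^ k = 1 ↔ k • a ∈ B := by
    intro k
    rw [← map_pow, ← e_nsmul, ← mem_subgroupOfIdeal, hB]
  have hord : addOrderOf (QuotientAddGroup.mk a : M ⧸ B) = Nat.card (M ⧸ B) := by
    rw [← Nat.card_zmultiples, hg, AddSubgroup.card_top]
  constructor
  · rw [key, ← QuotientAddGroup.eq_zero_iff, QuotientAddGroup.mk_nsmul, ← hord]
    exact addOrderOf_nsmul_eq_zero _
  · intro l hl
    rw [key, ← QuotientAddGroup.eq_zero_iff, QuotientAddGroup.mk_nsmul] at hl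
    rw [← hord]
    exact addOrderOf_dvd_of_nsmul_eq_zero hl

theorem subgroupOfIdeal_eq {m : Ideal (AddMonoidAlgebra Λ M)} (hm : m.IsMaximal)
    {B : AddSubgroup M} [B.FiniteIndex] [IsAddCyclic (M ⧸ B)]
    (hu : IsUnit ((B.index : ℕ) : Λ)) (hJ : J Λ B ≤ m) : subgroupOfIdeal m = B := by
  have hle : B ≤ subgroupOfIdeal m := fun b hb ↦ hJ (J₀_le_J B (e_sub_one_mem_J₀ hb))
  refine le_antisymm ?_ hle
  obtain ⟨g, hg⟩ := IsAddCyclic.exists_generator (α := M ⧸ B)
  obtain ⟨a, rfl⟩ := QuotientAddGroup.mk_surjective g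
  have hg' : AddSubgroup.zmultiples (QuotientAddGroup.mk a : M ⧸ B) = ⊤ :=
    (AddSubgroup.eq_top_iff' _).2 hg
  let χ : AddMonoidAlgebra Λ M →+* AddMonoidAlgebra Λ M ⧸ m := Ideal.Quotient.mk m
  have hdom : IsDomain (AddMonoidAlgebra Λ M ⧸ m) := Ideal.Quotient.isDomain m
  let f : Λ →+* AddMonoidAlgebra Λ M ⧸ m := χ.comp (algebraMap Λ (AddMonoidAlgebra Λ M))
  have hn : NeZero ((Nat.card (M ⧸ B) : ℕ) : AddMonoidAlgebra Λ M ⧸ m) :=
    ⟨natCast_ne_zero_of_isUnit f hu⟩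
  have hroot : IsRoot (cyclotomic (Nat.card (M ⧸ B)) (AddMonoidAlgebra Λ M ⧸ m)) (χ (e Λ a)) := by
    have h0 := Ideal.Quotient.eq_zero_iff_mem.2 (hJ (aeval_mem_J (Λ := Λ) hg'))
    rw [aeval_def, Polynomial.hom_eval₂, ← eval_map, map_cyclotomic] at h0
    exact h0
  have hprim : IsPrimitiveRoot (χ (e Λ a)) (Nat.card (M ⧸ B)) := isRoot_cyclotomic_iff.1 hroot
  intro x hx
  have : Finite (M ⧸ B) := inferInstance
  obtain ⟨k, hk⟩ : ∃ k : ℕ, k • (QuotientAddGroup.mk a : M ⧸ B) = QuotientAddGroup.mk x :=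
    (isOfFinAddOrder_of_finite _).mem_multiples_iff_mem_zmultiples.2 (hg _)
  have hmem : x - k • a ∈ B := by
    rw [← QuotientAddGroup.eq_zero_iff, QuotientAddGroup.mk_sub, QuotientAddGroup.mk_nsmul, hk,
      sub_self]
  have hka : k • a ∈ subgroupOfIdeal m := by
    simpa using (subgroupOfIdeal m).sub_mem hx (hle hmem)
  rw [mem_subgroupOfIdeal, e_nsmul, map_pow] at hka
  obtain ⟨q, rfl⟩ := hprim.dvd_of_pow_eq_one k hka
  rw [← QuotientAddGroup.eq_zero_iff, ← hk, mul_comm, mul_nsmul', card_nsmul_eq_zero', nsmul_zero]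

theorem isCoprime_J {B B' : AddSubgroup M} [B.FiniteIndex] [B'.FiniteIndex]
    [IsAddCyclic (M ⧸ B)] [IsAddCyclic (M ⧸ B')] (hne : B ≠ B')
    (hu : IsUnit ((B.index : ℕ) : Λ)) (hu' : IsUnit ((B'.index : ℕ) : Λ)) :
    IsCoprime (J Λ B) (J Λ B') := by
  rw [Ideal.isCoprime_iff_sup_eq]
  by_contra h
  obtain ⟨m, hm, hle⟩ := Ideal.exists_le_maximal _ h
  exact hne ((subgroupOfIdeal_eq hm hu (le_sup_left.trans hle)).symm.trans
    (subgroupOfIdeal_eq hm hu' (le_sup_right.trans hle)))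

theorem isCoprime_J₀_J {B₀ B : AddSubgroup M} [B.FiniteIndex]
    [IsAddCyclic (M ⧸ B)] (hle : ¬ B₀ ≤ B) (hu : IsUnit ((B.index : ℕ) : Λ)) :
    IsCoprime (J₀ Λ B₀) (J Λ B) := by
  rw [Ideal.isCoprime_iff_sup_eq]
  by_contra h
  obtain ⟨m, hm, hm'⟩ := Ideal.exists_le_maximal _ h
  refine hle fun b hb ↦ ?_
  rw [← subgroupOfIdeal_eq hm hu (le_sup_right.trans hm')]
  exact hm' (Ideal.mem_sup_left (e_sub_one_mem_J₀ hb))

/-- Elements killed modulo `J₀ B₀` by an element outside of the prime `m`. -/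
def satur (B₀ : AddSubgroup M) (m : Ideal (AddMonoidAlgebra Λ M)) [m.IsPrime] :
    Ideal (AddMonoidAlgebra Λ M) where
  carrier := {y | ∃ s, s ∉ m ∧ s * y ∈ J₀ Λ B₀}
  zero_mem' := ⟨1, (Ideal.ne_top_iff_one m).1 (Ideal.IsPrime.ne_top ‹_›), by simp⟩
  add_mem' {y z} := by
    rintro ⟨s, hs, hsy⟩ ⟨t, ht, htz⟩
    refine ⟨s * t, fun h ↦ (Ideal.IsPrime.mem_or_mem ‹_› h).elim hs ht, ?_⟩
    have : s * t * (y + z) = t * (s * y) + s * (t * z) := by ring
    rw [this]
    exact add_mem (Ideal.mul_mem_left _ _ hsy) (Ideal.mul_mem_left _ _ htz)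
  smul_mem' c y := by
    rintro ⟨s, hs, hsy⟩
    refine ⟨s, hs, ?_⟩
    rw [smul_eq_mul, mul_left_comm]
    exact Ideal.mul_mem_left _ _ hsy

lemma mem_satur_of_mul_mem {B₀ : AddSubgroup M} {m : Ideal (AddMonoidAlgebra Λ M)} [m.IsPrime]
    {t y : AddMonoidAlgebra Λ M} (ht : t ∉ m) (h : t * y ∈ satur B₀ m) : y ∈ satur B₀ m := by
  obtain ⟨s, hs, hsy⟩ := h
  exact ⟨s * t, fun h ↦ (Ideal.IsPrime.mem_or_mem ‹_› h).elim hs ht, by rwa [mul_assoc]⟩

theorem J_le_satur {B₀ B : AddSubgroup M} [B₀.FiniteIndex] (h₀ : B₀ ≤ B)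
    [IsAddCyclic (M ⧸ B)] (hu : IsUnit ((B₀.index : ℕ) : Λ))
    {m : Ideal (AddMonoidAlgebra Λ M)} [hm : m.IsMaximal] (hB : subgroupOfIdeal m = B) :
    J Λ B ≤ satur B₀ m := by
  have hfB : B.FiniteIndex := AddSubgroup.finiteIndex_of_le h₀
  have hdom : IsDomain (AddMonoidAlgebra Λ M ⧸ m) := Ideal.Quotient.isDomain m
  let f : Λ →+* AddMonoidAlgebra Λ M ⧸ m :=
    (Ideal.Quotient.mk m).comp (algebraMap Λ (AddMonoidAlgebra Λ M))
  have hJ₀ : ∀ {y}, y ∈ J₀ Λ B₀ → y ∈ satur B₀ m := fun {y} hy ↦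
    ⟨1, (Ideal.ne_top_iff_one m).1 hm.ne_top, by simpa using hy⟩
  -- elements of `B` are congruent to `1`
  have hb : ∀ b ∈ B, e Λ b - 1 ∈ satur B₀ m := by
    intro b hb
    set d := B₀.index
    have hdb : d • b ∈ B₀ := by
      rw [← QuotientAddGroup.eq_zero_iff, QuotientAddGroup.mk_nsmul]
      exact card_nsmul_eq_zero'
    refine mem_satur_of_mul_mem (t := ∑ i ∈ Finset.range d, e Λ b ^ i) ?_ ?_
    · rw [← Ideal.Quotient.eq_zero_iff_mem, map_sum]
      have h1 : Ideal.Quotient.mk m (e Λ b) = 1 := mem_subgroupOfIdeal.1 (hB ▸ hb)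
      simp only [map_pow, h1, one_pow, Finset.sum_const, Finset.card_range, nsmul_one]
      exact natCast_ne_zero_of_isUnit f hu
    · rw [geom_sum_mul, ← e_nsmul]
      exact hJ₀ (e_sub_one_mem_J₀ hdb)
  -- the kernel of `quotMap`
  have hker : ∀ x, quotMap Λ M B x = 0 → x ∈ satur B₀ m := by
    let sec : AddMonoidAlgebra Λ (M ⧸ B) → AddMonoidAlgebra Λ M :=
      AddMonoidAlgebra.mapDomain Quotient.out
    suffices ∀ x, x - sec (quotMap Λ M B x) ∈ satur B₀ m by
      intro x hx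
      simpa [hx, sec] using this x
    intro x
    induction x using AddMonoidAlgebra.induction_linear with
    | zero => simp [sec]
    | add x y hx hy =>
        have : x + y - sec (quotMap Λ M B (x + y))
            = (x - sec (quotMap Λ M B x)) + (y - sec (quotMap Λ M B y)) := by
          simp only [map_add, sec, AddMonoidAlgebra.mapDomain_add]; ring
        rw [this]
        exact add_mem hx hy
    | single a r =>
        set a' := Quotient.out (QuotientAddGroup.mk a : M ⧸ B) with ha'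
        have hmem : a' - a ∈ B := by
          rw [← QuotientAddGroup.eq_zero_iff, QuotientAddGroup.mk_sub, ha', QuotientAddGroup.out_eq',
            sub_self]
        have h1 : AddMonoidAlgebra.single a r - sec (quotMap Λ M B (AddMonoidAlgebra.single a r))
            = AddMonoidAlgebra.single a r * (-(e Λ (a' - a) - 1)) := by
          rw [mul_neg, mul_sub, mul_one, neg_sub, AddMonoidAlgebra.single_mul_single]
          simp [sec, quotMap, ha']
        rw [h1]
        exact Ideal.mul_mem_left _ _ (neg_mem (hb _ hmem))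
  intro x hx
  have hspan : cycIdeal Λ (M ⧸ B) ≤ (satur B₀ m).map (quotMap Λ M B) := by
    refine Ideal.span_le.2 ?_
    rintro y ⟨g, hg, rfl⟩
    obtain ⟨a, rfl⟩ := QuotientAddGroup.mk_surjective g
    set n := Nat.card (M ⧸ B)
    obtain ⟨Ψ, hΨ⟩ := cyclotomic.dvd_X_pow_sub_one n Λ
    have hprim := isPrimitiveRoot_of_eq hB hg
    set ζ := Ideal.Quotient.mk m (e Λ a) with hζ
    have hn0 : (n : AddMonoidAlgebra Λ M ⧸ m) ≠ 0 :=
      natCast_ne_zero_of_isUnit f (isUnit_natCast_of_dvd (AddSubgroup.index_dvd_of_le h₀) hu)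
    have hnpos : 0 < n := Nat.card_pos
    have hΦζ : eval ζ ((cyclotomic n Λ).map f) = 0 := by
      rw [map_cyclotomic]
      exact hprim.isRoot_cyclotomic hnpos
    have hΨζ : aeval (e Λ a) Ψ ∉ m := by
      intro hmem
      rw [← Ideal.Quotient.eq_zero_iff_mem, aeval_def, Polynomial.hom_eval₂, ← eval_map,
        ← hζ] at hmem
      have hd := congrArg (fun p ↦ eval ζ (derivative (p.map f))) hΨ
      simp only [Polynomial.map_mul, Polynomial.map_sub, Polynomial.map_pow, Polynomial.map_X,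
        Polynomial.map_one, derivative_mul, derivative_sub, derivative_X_pow, derivative_one,
        sub_zero, eval_add, eval_mul, eval_C, eval_pow, eval_X, hΦζ, zero_mul, add_zero] at hd
      rw [show eval ζ (Ψ.map f) = 0 from hmem, mul_zero] at hd
      exact mul_ne_zero hn0 (pow_ne_zero _ (hprim.ne_zero hnpos.ne')) hd
    have hprod : aeval (e Λ a) Ψ * aeval (e Λ a) (cyclotomic n Λ) ∈ satur B₀ m := by
      rw [mul_comm, ← map_mul, ← hΨ, map_sub, map_pow, aeval_X, map_one, ← e_nsmul]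
      refine hb _ ?_
      rw [← QuotientAddGroup.eq_zero_iff, QuotientAddGroup.mk_nsmul]
      exact card_nsmul_eq_zero'
    have := Ideal.mem_map_of_mem (quotMap Λ M B) (mem_satur_of_mul_mem hΨζ hprod)
    have hc : (quotMap Λ M B).comp (algebraMap Λ (AddMonoidAlgebra Λ M))
        = algebraMap Λ (AddMonoidAlgebra Λ (M ⧸ B)) := by
      ext r
      simp [quotMap]
    rw [aeval_def, Polynomial.hom_eval₂, hc, quotMap_e] at this
    exact this
  have hx' : quotMap Λ M B x ∈ cycIdeal Λ (M ⧸ B) := Ideal.Quotient.eq_zero_iff_mem.1 hx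
  obtain ⟨k, hk, hke⟩ := (Ideal.mem_map_iff_of_surjective _ (quotMap_surjective B)).1 (hspan hx')
  have hd : x - k ∈ satur B₀ m := hker _ (by rw [map_sub, hke, sub_self])
  simpa using add_mem hd hk

theorem mem_J₀_of_forall_mem_J {B₀ : AddSubgroup M} [B₀.FiniteIndex]
    (hu : IsUnit ((B₀.index : ℕ) : Λ)) {x : AddMonoidAlgebra Λ M}
    (hx : ∀ B : AddSubgroup M, B₀ ≤ B → IsAddCyclic (M ⧸ B) → x ∈ J Λ B) : x ∈ J₀ Λ B₀ := by
  let I : Ideal (AddMonoidAlgebra Λ M) :=
    { carrier := {s | s * x ∈ J₀ Λ B₀}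
      zero_mem' := by simp
      add_mem' := fun {a b} ha hb ↦ by
        simpa [add_mul] using add_mem (show a * x ∈ J₀ Λ B₀ from ha) hb
      smul_mem' := fun c a ha ↦ by
        simpa [mul_assoc] using Ideal.mul_mem_left _ c (show a * x ∈ J₀ Λ B₀ from ha) }
  suffices I = ⊤ by
    have h1 : (1 : AddMonoidAlgebra Λ M) ∈ I := this ▸ Submodule.mem_top
    simpa [I] using h1
  by_contra hI
  obtain ⟨m, hm, hIm⟩ := Ideal.exists_le_maximal I hI
  have hJm : J₀ Λ B₀ ≤ m := fun y hy ↦ hIm (show y * x ∈ J₀ Λ B₀ from Ideal.mul_mem_right _ _ hy)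
  set B := subgroupOfIdeal m with hB
  have h₀ : B₀ ≤ B := fun b hb ↦ hJm (e_sub_one_mem_J₀ hb)
  have hfB : B.FiniteIndex := AddSubgroup.finiteIndex_of_le h₀
  have hdom : IsDomain (AddMonoidAlgebra Λ M ⧸ m) := Ideal.Quotient.isDomain m
  have hcyc : IsAddCyclic (M ⧸ B) := by
    let φ : M →+ Additive (AddMonoidAlgebra Λ M ⧸ m) :=
      { toFun := fun a ↦ Additive.ofMul (Ideal.Quotient.mk m (e Λ a))
        map_zero' := by rw [e_zero, map_one]; rfl
        map_add' := fun a b ↦ by rw [e_add, map_mul]; rfl }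
    have hker : B = φ.ker := by
      ext a
      exact mem_subgroupOfIdeal
    let ψ : M ⧸ B →+ Additive (AddMonoidAlgebra Λ M ⧸ m) :=
      QuotientAddGroup.lift B φ (le_of_eq hker)
    have hinj : Function.Injective ψ := by
      intro p q h
      obtain ⟨a, rfl⟩ := QuotientAddGroup.mk_surjective p
      obtain ⟨b, rfl⟩ := QuotientAddGroup.mk_surjective q
      rw [QuotientAddGroup.eq, hker, AddMonoidHom.mem_ker, map_add]
      calc φ (-a) + φ b = φ (-a) + φ a := by rw [show φ b = φ a from h.symm]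
        _ = 0 := by rw [← map_add, neg_add_cancel, map_zero]
    have : IsCyclic (Multiplicative (M ⧸ B)) :=
      isCyclic_of_injective_ringHom (AddMonoidHom.toMultiplicativeLeft ψ) hinj
    exact isCyclic_multiplicative_iff.1 this
  obtain ⟨s, hs, hsx⟩ := J_le_satur (m := m) h₀ hu hB.symm (hx B h₀ hcyc)
  exact hs (hIm hsx)

lemma finite_index_set (B₀ : AddSubgroup M) [B₀.FiniteIndex] :
    Finite {B : AddSubgroup M // B₀ ≤ B ∧ IsAddCyclic (M ⧸ B)} := by
  refine Finite.of_injective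
    (fun B ↦ (B.1.map (QuotientAddGroup.mk' B₀) : AddSubgroup (M ⧸ B₀))) fun B C h ↦ ?_
  have h' := congrArg (AddSubgroup.comap (QuotientAddGroup.mk' B₀)) h
  simp only [AddSubgroup.comap_map_eq, QuotientAddGroup.ker_mk', sup_of_le_left B.2.1,
    sup_of_le_left C.2.1] at h'
  exact Subtype.ext h'

theorem pairwise_isCoprime_J {B₀ : AddSubgroup M} [B₀.FiniteIndex]
    (hu : IsUnit ((B₀.index : ℕ) : Λ)) :
    Pairwise (Function.onFun IsCoprime
      fun B : {B : AddSubgroup M // B₀ ≤ B ∧ IsAddCyclic (M ⧸ B)} ↦ J Λ B.1) := by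
  intro B C hne
  have := AddSubgroup.finiteIndex_of_le B.2.1
  have := AddSubgroup.finiteIndex_of_le C.2.1
  have := B.2.2
  have := C.2.2
  exact isCoprime_J (fun h ↦ hne (Subtype.ext h))
    (isUnit_natCast_of_dvd (AddSubgroup.index_dvd_of_le B.2.1) hu)
    (isUnit_natCast_of_dvd (AddSubgroup.index_dvd_of_le C.2.1) hu)

end Groth.Agent.Lib.GrpAlgCyc
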