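import Groth.Agent.Lib.OverDescent
import Groth.Agent.Lib.GrpSch.Basic
import Groth.Agent.Lib.TorsorSch.FibreProd
import Mathlib.CategoryTheory.Limits.Shapes.Pullback.IsPullback.Basic
import Mathlib.Tactic.Group

/-!
# Exactness of the cohomology sequence of torsors for representable groups
-/

set_option autoImplicit false

universe u

open CategoryTheory CategoryTheory.Limits MonoidalCategory CartesianMonoidalCategory MonObj AlgebraicGeometry
open Groth.Agent.Lib.OverDescent Groth.Agent.Lib.GrpSch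

namespace Groth.Agent.Lib.H1SeqExact

variable {S : Scheme.{u}} {G G' G'' : Over S} [GrpObj G] [GrpObj G'] [GrpObj G'']

section kernel

variable {K : Precoverage Scheme.{u}} (u : G' ⟶ G) (v : G ⟶ G'')

theorem exists_lift_kernel (hex : NonAbH1.IsExactSeq K u v) {T : Over S} (x x' : T ⟶ G)
    (h : x ≫ v = x' ≫ v) : ∃ g : T ⟶ G', x' = x * (g ≫ u) := by
  obtain ⟨-, -, -, hp, -⟩ := hex
  refine ⟨hp.lift x x' h ≫ snd G G', ?_⟩
  have h2 : (G ◁ u) ≫ μ[G] = fst G G' * (snd G G' ≫ u) := by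
    rw [Hom.mul_def]; congr 1
  have h1 := (congrArg (hp.lift x x' h ≫ ·) h2).symm.trans (hp.lift_snd x x' h)
  rw [MonObj.comp_mul, hp.lift_fst] at h1
  rw [Category.assoc]
  exact h1.symm

theorem kernel_injective (hex : NonAbH1.IsExactSeq K u v) {T : Over S} (g g' : T ⟶ G') (h : g ≫ u = g' ≫ u) :
    g = g' := by
  obtain ⟨-, -, -, hp, -⟩ := hex
  have h2 : (G ◁ u) ≫ μ[G] = fst G G' * (snd G G' ≫ u) := by
    rw [Hom.mul_def]; congr 1
  have key : lift (1 : T ⟶ G) g = lift (1 : T ⟶ G) g' := by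
    refine hp.hom_ext (by simp) ?_
    rw [h2, MonObj.comp_mul, MonObj.comp_mul]
    simp [h]
  simpa using congrArg (· ≫ snd G G') key

end kernel

theorem split_v {u : G' ⟶ G} {v : G ⟶ G''} (hex : NonAbH1.IsExactSeq Scheme.fpqcPrecoverage u v) :
    LocallySplit Scheme.fpqcTopology v :=
  locallySplit_of_isLocallyTrivialFor _ Scheme.fpqcPrecoverage le_rfl v hex.2.2.2.2

theorem split_toUnit {X : Over S} (h : NonAbH1.IsLocallyTrivialFor Scheme.fpqcPrecoverage X) :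
    LocallySplit Scheme.fpqcTopology (toUnit X) := by
  obtain ⟨R₀, hR₀, hsec⟩ := h
  refine ⟨Sieve.generate R₀, Precoverage.generate_mem_toGrothendieck hR₀, ?_⟩
  rintro T t ⟨W, a, f₁, hf₁, rfl⟩
  obtain ⟨s, hs⟩ := hsec f₁ hf₁
  refine ⟨Over.homMk (a ≫ s) ?_, toUnit_unique _ _⟩
  change (a ≫ s) ≫ X.hom = (a ≫ f₁) ≫ (𝟙_ (Over S)).hom
  rw [Category.assoc, hs]
  exact (Category.comp_id (a ≫ f₁)).symm

theorem split_comp_iso {X Y Y' : Over S} {q : X ⟶ Y} (h : LocallySplit Scheme.fpqcTopology q) (e : Y ≅ Y') :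
    LocallySplit Scheme.fpqcTopology (q ≫ e.hom) := by
  obtain ⟨R, hR, hs⟩ := h
  refine ⟨R.pullback e.inv.left, GrothendieckTopology.pullback_stable _ _ hR, fun T t ht => ?_⟩
  obtain ⟨s, hs'⟩ := hs (t ≫ e.inv.left) ht
  refine ⟨Over.homMk s.left ((Over.w s).trans (by simp)), Over.OverMorphism.ext ?_⟩
  have h1 : s.left ≫ q.left = t ≫ e.inv.left := congrArg CommaMorphism.left hs'
  change s.left ≫ q.left ≫ e.hom.left = t
  rw [reassoc_of% h1, ← Over.comp_left, e.inv_hom_id, Over.id_left, Category.comp_id]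

theorem split_fst {X : Over S} (h : NonAbH1.IsLocallyTrivialFor Scheme.fpqcPrecoverage X) (T : Over S) :
    LocallySplit Scheme.fpqcTopology (fst T X) := by
  have e : (𝟙 T ⊗ₘ toUnit X) ≫ (ρ_ T).hom = fst T X := by simp [rightUnitor_hom, whiskerLeft_fst]
  exact e ▸ split_comp_iso (locallySplit_tensor _ (locallySplit_id _ T) (split_toUnit h)) _

theorem split_snd {X : Over S} (h : NonAbH1.IsLocallyTrivialFor Scheme.fpqcPrecoverage X) (T : Over S) :
    LocallySplit Scheme.fpqcTopology (snd X T) := by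
  have e : (toUnit X ⊗ₘ 𝟙 T) ≫ (λ_ T).hom = snd X T := by simp [leftUnitor_hom, whiskerRight_snd]
  exact e ▸ split_comp_iso (locallySplit_tensor _ (split_toUnit h) (locallySplit_id _ T)) _

variable [IsCommMonObj G]

omit [GrpObj G'] [GrpObj G''] in
theorem mul_comm_pts {T : Over S} (a b : T ⟶ G) : a * b = b * a := by
  letI : CommMonoid (T ⟶ G) := Hom.commMonoid
  exact _root_.mul_comm a b

theorem pushforward_trivial_iff_pullbackTorsor (u : G' ⟶ G) (v : G ⟶ G'')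
    (hex : NonAbH1.IsExactSeq Scheme.fpqcPrecoverage u v) (Q : NonAbH1.TorsorSch G' Scheme.fpqcPrecoverage) :
    NonAbH1.IsPushforwardAlongSch u Q.act (NonAbH1.trivialAction G) ↔
      ∃ (f : 𝟙_ (Over S) ⟶ G'') (i : Q.X ⟶ G), NonAbH1.IsPullbackTorsor u v f i Q.act := by
  have := hex.1
  have := hex.2.1
  constructor
  · rintro ⟨φ, hφ⟩
    have hφ' : ∀ {T : Over S} (g : T ⟶ G') (q : T ⟶ Q.X), (lift g q ≫ Q.act.act) ≫ φ = (g ≫ u) * (q ≫ φ) :=
      fun g q => by
        rw [Category.assoc, hφ, ← Category.assoc, comp_lift]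
        simp [NonAbH1.trivialAction, Hom.mul_def]
    let i : Q.X ⟶ G := φ⁻¹
    have hi : ∀ {T : Over S} (g : T ⟶ G') (q : T ⟶ Q.X), lift g q ≫ Q.act.act ≫ i = (q ≫ i) * (g ≫ u)⁻¹ :=
      fun g q => by
        simp only [i, GrpObj.comp_inv]
        rw [← Category.assoc, hφ', _root_.mul_inv_rev]
    have hiv : ∀ {T : Over S} (q q' : T ⟶ Q.X), (q ≫ i) ≫ v = (q' ≫ i) ≫ v := fun q q' => by
      obtain ⟨g, hg, -⟩ := Groth.Agent.Lib.TorsorSch.FibreProd.existsUnique_of_pseudo Q.isTorsor.1 q q'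
      rw [← hg, Category.assoc (lift g q), hi, MonObj.mul_comp, GrpObj.inv_comp, Category.assoc g, hex.2.2.1,
        MonObj.comp_one, inv_one, _root_.mul_one]
    have hQ := split_toUnit Q.isTorsor.2
    obtain ⟨f, hf⟩ := exists_desc hQ (i ≫ v) (fun T q q' _ => by rw [← Category.assoc, ← Category.assoc, hiv])
    have inj : ∀ {T : Over S} (q q' : T ⟶ Q.X), q ≫ i = q' ≫ i → q = q' := fun q q' h => by
      obtain ⟨g, hg, -⟩ := Groth.Agent.Lib.TorsorSch.FibreProd.existsUnique_of_pseudo Q.isTorsor.1 q q'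
      have h1 : (q ≫ i) * (g ≫ u)⁻¹ = q ≫ i := by rw [← hi, ← Category.assoc, hg, h]
      have h2 : g = 1 := kernel_injective u v hex _ _ (by
        rw [MonObj.one_comp]; exact inv_eq_one.1 (mul_eq_left.1 h1))
      rw [← hg, h2, act_one]
    have lifting : ∀ (T : Over S) (x : T ⟶ G), x ≫ v = toUnit T ≫ f → ∃ q : T ⟶ Q.X, q ≫ i = x := by
      intro T x hx
      have hw : (fst T Q.X ≫ x) ≫ v = (snd T Q.X ≫ i) ≫ v := by
        rw [Category.assoc, hx, Category.assoc, ← hf, comp_toUnit_assoc, comp_toUnit_assoc]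
      obtain ⟨h, hh⟩ := exists_lift_kernel u v hex _ _ hw
      let c : T ⊗ Q.X ⟶ Q.X := lift h (snd T Q.X) ≫ Q.act.act
      have hc : c ≫ i = fst T Q.X ≫ x := by
        simp only [c, Category.assoc, hi]
        rw [hh, mul_inv_cancel_right]
      obtain ⟨q, hq⟩ := exists_desc (split_fst Q.isTorsor.2 T) c (fun W w w' hww => inj _ _ (by
        rw [Category.assoc w c i, Category.assoc w' c i, hc, reassoc_of% hww]))
      exact ⟨q, epi_of_local (split_fst Q.isTorsor.2 T) (by rw [← Category.assoc, hq, hc])⟩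
    refine ⟨f, i, inferInstance, inferInstance, ⟨⟨hf.symm⟩, ⟨PullbackCone.IsLimit.mk hf.symm
      (fun s => (lifting s.pt s.fst (s.condition.trans (congrArg (· ≫ f) (toUnit_unique _ _)))).choose)
      (fun s => (lifting s.pt s.fst (s.condition.trans (congrArg (· ≫ f) (toUnit_unique _ _)))).choose_spec)
      (fun s => toUnit_unique _ _) (fun s m h₁ _ => inj _ _ ?_)⟩⟩, fun T g p => hi g p⟩
    rw [(lifting s.pt s.fst (s.condition.trans (congrArg (· ≫ f) (toUnit_unique _ _)))).choose_spec, h₁]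
  · rintro ⟨f, i, -, -, -, hi⟩
    refine ⟨i⁻¹, ?_⟩
    have h := hi (G' ⊗ Q.X) (fst G' Q.X) (snd G' Q.X)
    rw [lift_fst_snd, Category.id_comp] at h
    rw [GrpObj.comp_inv, h, _root_.mul_inv_rev, inv_inv, GrpObj.comp_inv]
    simp [NonAbH1.trivialAction, Hom.mul_def]

theorem pushforward_trivial_iff_exists_lift [IsCommMonObj G''] (u : G' ⟶ G) (v : G ⟶ G'')
    (hex : NonAbH1.IsExactSeq Scheme.fpqcPrecoverage u v) (P : NonAbH1.TorsorSch G Scheme.fpqcPrecoverage) :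
    NonAbH1.IsPushforwardAlongSch v P.act (NonAbH1.trivialAction G'') ↔
      ∃ Q : NonAbH1.TorsorSch G' Scheme.fpqcPrecoverage, NonAbH1.IsPushforwardAlongSch u Q.act P.act := by
  have := hex.1
  have := hex.2.1
  have hP := fun {T : Over S} (x y : T ⟶ P.X) =>
    Groth.Agent.Lib.TorsorSch.FibreProd.existsUnique_of_pseudo P.isTorsor.1 x y
  constructor
  · rintro ⟨ψ, hψ⟩
    have hψ' : ∀ {T : Over S} (g : T ⟶ G) (p : T ⟶ P.X), (lift g p ≫ P.act.act) ≫ ψ = (g ≫ v) * (p ≫ ψ) :=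
      fun g p => by
        rw [Category.assoc, hψ, ← Category.assoc, comp_lift]
        simp [NonAbH1.trivialAction, Hom.mul_def]
    let inc : pullback ψ η[G''] ⟶ P.X := pullback.fst ψ η[G'']
    have hinc : ∀ {T : Over S} (q : T ⟶ pullback ψ η[G'']), (q ≫ inc) ≫ ψ = 1 := fun q => by
      rw [Category.assoc, pullback.condition, ← Category.assoc, toUnit_unique (q ≫ _) (toUnit _)]
      exact Hom.one_def.symm
    have ext' : ∀ {T : Over S} (q q' : T ⟶ pullback ψ η[G'']), q ≫ inc = q' ≫ inc → q = q' := fun q q' h =>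
      pullback.hom_ext h (toUnit_unique _ _)
    have mk' : ∀ {T : Over S} (p : T ⟶ P.X), p ≫ ψ = 1 → ∃ q : T ⟶ pullback ψ η[G''], q ≫ inc = p := fun p hp =>
      ⟨pullback.lift p (toUnit _) (hp.trans Hom.one_def), pullback.lift_fst _ _ _⟩
    have huv : ∀ {T : Over S} (g : T ⟶ G'), (g ≫ u) ≫ v = 1 := fun g => by
      rw [Category.assoc, hex.2.2.1, MonObj.comp_one]
    obtain ⟨act, hact⟩ := mk' (lift (fst G' (pullback ψ η[G'']) ≫ u) (snd G' _ ≫ inc) ≫ P.act.act) (by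
      rw [hψ', hinc, huv, _root_.mul_one])
    have hpt : ∀ {T : Over S} (g : T ⟶ G') (q : T ⟶ pullback ψ η[G'']),
        (lift g q ≫ act) ≫ inc = lift (g ≫ u) (q ≫ inc) ≫ P.act.act := fun g q => by
      rw [Category.assoc, hact, ← Category.assoc, comp_lift, lift_fst_assoc, lift_snd_assoc]
    let a : AlgGrp.Action G' (pullback ψ η[G'']) := actionMk act
      (fun T x => ext' _ _ (by rw [hpt, MonObj.one_comp, act_one]))
      (fun T g h x => ext' _ _ (by rw [hpt, hpt, hpt, MonObj.mul_comp, act_mul]))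
    have ha : a.act = act := rfl
    have hps : NonAbH1.IsPseudoTorsorSch a := by
      refine Groth.Agent.Lib.TorsorSch.FibreProd.pseudo_of_existsUnique fun {T} x y => ?_
      obtain ⟨g, hg, hgu⟩ := hP (x ≫ inc) (y ≫ inc)
      have hgv : (1 : T ⟶ G) ≫ v = g ≫ v := by
        have := hψ' g (x ≫ inc)
        rw [hg, hinc, hinc, _root_.mul_one] at this
        rw [MonObj.one_comp, ← this]
      obtain ⟨g', hg'⟩ := exists_lift_kernel u v hex 1 g hgv
      rw [_root_.one_mul] at hg'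
      refine ⟨g', ext' _ _ ?_, fun k hk => kernel_injective u v hex _ _ ?_⟩
      · rw [ha, hpt, ← hg', hg]
      · have hk' := congrArg (· ≫ inc) hk
        simp only [ha, hpt] at hk'
        rw [hgu _ hk', hg']
    have hlt : NonAbH1.IsLocallyTrivialFor Scheme.fpqcPrecoverage (pullback ψ η[G'']) := by
      obtain ⟨R, hR, hsec⟩ := P.isTorsor.2
      obtain ⟨R', hR', hsec'⟩ := hex.2.2.2.2
      obtain ⟨ι₁, X₁, f₁, rfl⟩ := R.exists_eq_ofArrows
      obtain ⟨ι₂, X₂, f₂, rfl⟩ := R'.exists_eq_ofArrows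
      choose p hp using fun i => hsec (f₁ i) (Presieve.ofArrows.mk i)
      let pp : ∀ i, Over.mk (f₁ i) ⟶ P.X := fun i => Over.homMk (p i) (hp i)
      refine ⟨_, Precoverage.comp_mem_coverings f₁ hR (σ := fun _ => ι₂)
        (Y := fun i j => pullback (f₂ j) (pp i ≫ ψ).left) (fun i j => pullback.snd (f₂ j) (pp i ≫ ψ).left)
        (fun i => Precoverage.mem_coverings_of_isPullback f₂ hR' (pp i ≫ ψ).left _ _
          (fun j => (IsPullback.of_hasPullback (f₂ j) (pp i ≫ ψ).left).flip)), ?_⟩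
      rintro _ _ ⟨⟨i, j⟩⟩
      obtain ⟨s, hs⟩ := hsec' (f₂ j) (Presieve.ofArrows.mk j)
      replace hs : s ≫ v.left = f₂ j := hs
      let W : Over S := Over.mk (pullback.snd (f₂ j) (pp i ≫ ψ).left ≫ f₁ i)
      let m : W ⟶ Over.mk (f₁ i) := Over.homMk (pullback.snd (f₂ j) (pp i ≫ ψ).left) rfl
      have hw : (pullback.fst (f₂ j) (pp i ≫ ψ).left ≫ s) ≫ G.hom = W.hom := by
        rw [← Over.w v, Category.assoc, reassoc_of% hs]
        exact (pullback.condition_assoc (f := f₂ j) (g := (pp i ≫ ψ).left) G''.hom).trans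
          (congrArg (pullback.snd (f₂ j) (pp i ≫ ψ).left ≫ ·) (Over.w (pp i ≫ ψ)))
      let g : W ⟶ G := Over.homMk (pullback.fst (f₂ j) (pp i ≫ ψ).left ≫ s) hw
      have hgψ : g ≫ v = (m ≫ pp i) ≫ ψ := by
        rw [Category.assoc]
        refine Over.OverMorphism.ext ?_
        change (pullback.fst (f₂ j) (pp i ≫ ψ).left ≫ s) ≫ v.left = _
        rw [Category.assoc, hs]
        exact pullback.condition
      obtain ⟨q, -⟩ := mk' (lift g⁻¹ (m ≫ pp i) ≫ P.act.act) (by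
        rw [hψ', GrpObj.inv_comp, hgψ, inv_mul_cancel])
      exact ⟨q.left, Over.w q⟩
    refine ⟨⟨_, a, hps, hlt⟩, inc, ?_⟩
    exact (hact : _)
  · rintro ⟨Q, φ, hφ⟩
    have hφ' : ∀ {T : Over S} (g : T ⟶ G') (q : T ⟶ Q.X),
        (lift g q ≫ Q.act.act) ≫ φ = lift (g ≫ u) (q ≫ φ) ≫ P.act.act := fun g q => by
      rw [Category.assoc, hφ, ← Category.assoc, comp_lift, lift_fst_assoc, lift_snd_assoc]
    obtain ⟨d, hd, -⟩ := hP (fst Q.X P.X ≫ φ) (snd Q.X P.X)
    have hd' : ∀ {T : Over S} (q : T ⟶ Q.X) (p : T ⟶ P.X),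
        lift (lift q p ≫ d) (q ≫ φ) ≫ P.act.act = p := fun q p => by
      have := congrArg (lift q p ≫ ·) hd
      simp only [comp_lift_assoc, lift_fst_assoc, lift_snd] at this
      exact this
    have hsp := split_snd Q.isTorsor.2 P.X
    obtain ⟨ψ, hψ⟩ := exists_desc hsp (d ≫ v) (fun T w w' hw => by
      have e : ∀ z : T ⟶ Q.X ⊗ P.X, z = lift (z ≫ fst _ _) (z ≫ snd _ _) := fun z => by simp
      obtain ⟨h, hh, -⟩ := Groth.Agent.Lib.TorsorSch.FibreProd.existsUnique_of_pseudo Q.isTorsor.1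
        (w ≫ fst _ _) (w' ≫ fst _ _)
      have h1 := hd' (w ≫ fst _ _) (w ≫ snd _ _)
      have h2 := hd' (w' ≫ fst _ _) (w' ≫ snd _ _)
      rw [← e] at h1 h2
      rw [← hh, hφ', ← act_mul, ← hw] at h2
      have h3 := (hP ((w ≫ fst _ _) ≫ φ) (w ≫ snd _ _)).unique h1 h2
      rw [← Category.assoc, ← Category.assoc, h3, MonObj.mul_comp, Category.assoc h, hex.2.2.1, MonObj.comp_one,
        _root_.mul_one])
    refine ⟨ψ, epi_of_local (split_snd Q.isTorsor.2 (G ⊗ P.X)) ?_⟩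
    let q : Q.X ⊗ (G ⊗ P.X) ⟶ Q.X := fst _ _
    let g : Q.X ⊗ (G ⊗ P.X) ⟶ G := snd _ _ ≫ fst _ _
    let p : Q.X ⊗ (G ⊗ P.X) ⟶ P.X := snd _ _ ≫ snd _ _
    have hev : ∀ r : Q.X ⊗ (G ⊗ P.X) ⟶ P.X, r ≫ ψ = (lift q r ≫ d) ≫ v := fun r => by
      rw [Category.assoc, ← hψ, lift_snd_assoc]
    have key : lift q (lift g p ≫ P.act.act) ≫ d = g * (lift q p ≫ d) :=
      (hP (q ≫ φ) (lift g p ≫ P.act.act)).unique (hd' q _) (by rw [act_mul, hd'])
    have e1 : snd Q.X (G ⊗ P.X) ≫ P.act.act ≫ ψ = (lift g p ≫ P.act.act) ≫ ψ := by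
      rw [Category.assoc]; congr 1; simp [g, p]
    rw [e1, hev, key, MonObj.mul_comp, ← hev p]
    simp [g, p, NonAbH1.trivialAction, Hom.mul_def]
    rw [← lift_fst_comp_snd_comp, comp_lift_assoc]

end Groth.Agent.Lib.H1SeqExact
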