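import Mathlib

/-!
# Coefficient of the top monomial in the Jacobian of a lifting of Frobenius
-/

set_option autoImplicit false
universe u v

namespace Groth.Agent.Lib.H58FrobJacobian

open Finset

variable {k : Type u} [CommRing k] {A : Type v} [CommRing A] [Algebra k A]

theorem iterate_leibniz (D : Derivation k A A) (x y : A) (n : ℕ) :
    D^[n] (x * y) = ∑ i ∈ range (n + 1), (n.choose i : A) * (D^[i] x * D^[n - i] y) := by
  induction n with
  | zero => simp
  | succ n ih =>
    rw [Function.iterate_succ_apply', ih, map_sum,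
      sum_choose_succ_mul (fun i j => D^[i] x * D^[j] y) n, ← sum_add_distrib]
    refine sum_congr rfl fun i hi => ?_
    rw [mem_range] at hi
    rw [show n + 1 - i = (n - i) + 1 by omega]
    simp only [Function.iterate_succ_apply', Derivation.leibniz, Derivation.map_natCast, smul_eq_mul]
    ring

/-- The `p`-th power of a derivation in characteristic `p` is a derivation. -/
def iterateDer (p : ℕ) [hp : Fact p.Prime] [CharP A p] (D : Derivation k A A) : Derivation k A A :=
  Derivation.mk' ((D : A →ₗ[k] A) ^ p) fun a b => by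
    simp only [Module.End.pow_apply, Derivation.coeFn_coe, smul_eq_mul]
    rw [iterate_leibniz, sum_range_succ]
    have hp0 : p ≠ 0 := hp.out.ne_zero
    obtain ⟨q, hq⟩ := Nat.exists_eq_succ_of_ne_zero hp0
    have hmid : ∑ i ∈ range p, (p.choose i : A) * (D^[i] a * D^[p - i] b) = a * D^[p] b := by
      rw [sum_eq_single 0]
      · simp
      · intro i hi hi0
        rw [(CharP.cast_eq_zero_iff A p _).2
          (hp.out.dvd_choose_self hi0 (mem_range.1 hi)), zero_mul]
      · intro h
        exact absurd (mem_range.2 hp.out.pos) h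
    rw [hmid, Nat.choose_self, Nat.cast_one, one_mul, Nat.sub_self, Function.iterate_zero_apply]
    ring

theorem iterateDer_apply (p : ℕ) [Fact p.Prime] [CharP A p] (D : Derivation k A A) (x : A) :
    iterateDer p D x = D^[p] x := by
  simp [iterateDer, Module.End.pow_apply]

theorem derivation_prod {ι : Type*} [DecidableEq ι] (D : Derivation k A A) (s : Finset ι) (f : ι → A) :
    D (∏ i ∈ s, f i) = ∑ i ∈ s, D (f i) * ∏ j ∈ s.erase i, f j := by
  induction s using Finset.induction with
  | empty => simp
  | insert a s ha ih =>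
    rw [prod_insert ha, D.leibniz, smul_eq_mul, smul_eq_mul, ih, sum_insert ha, erase_insert ha, mul_sum,
      add_comm, mul_comm]
    congr 1
    refine sum_congr rfl fun i hi => ?_
    have hia : a ≠ i := fun h => ha (h ▸ hi)
    rw [erase_insert_of_ne hia, prod_insert (fun h => ha (mem_of_mem_erase h))]
    ring

variable {n : ℕ}

/-- A functional vanishing on all partial derivatives only sees the constant part of the Jacobian
determinant of `δ t^{p-1} + ∂f`. -/
theorem det_eq (d : Fin n → Derivation k A A) (t f : Fin n → A) (e : ℕ)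
    (hdt : ∀ i j, d i (t j) = if i = j then 1 else 0)
    (hcomm : ∀ i j x, d i (d j x) = d j (d i x))
    (L : A →ₗ[k] A) (hL : ∀ i x, L (d i x) = 0) :
    L (Matrix.of fun i j : Fin n => (if i = j then t i ^ e else 0) + d j (f i)).det =
      L (∏ i, t i ^ e) := by
  classical
  rw [← Matrix.det_transpose, Matrix.det_apply']
  simp only [Matrix.transpose_apply, Matrix.of_apply]
  let b : Equiv.Perm (Fin n) → Fin n → A := fun σ i => if i = σ i then t i ^ e else 0
  have hexp : ∀ σ : Equiv.Perm (Fin n),
      (Equiv.Perm.sign σ : ℤ) • ∏ i, ((if i = σ i then t i ^ e else 0) + d (σ i) (f i)) =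
        ∑ S ∈ (univ : Finset (Fin n)).powerset,
          (Equiv.Perm.sign σ : ℤ) • ((∏ i ∈ S, d (σ i) (f i)) * ∏ i ∈ univ \ S, b σ i) := by
    intro σ
    rw [← Finset.smul_sum, ← prod_add]
    exact congrArg _ (prod_congr rfl fun i _ => add_comm _ _)
  simp only [← zsmul_eq_mul, hexp]
  rw [sum_comm, map_sum, sum_eq_single ∅]
  · rw [map_sum, sum_eq_single 1]
    · simp [b]
    · intro σ _ hσ
      obtain ⟨i, hi⟩ : ∃ i, σ i ≠ i := by
        by_contra h
        push Not at h
        exact hσ (Equiv.ext h)
      rw [prod_eq_zero (i := i) (s := univ \ (∅ : Finset (Fin n))) (by simp) (if_neg (Ne.symm hi)),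
        mul_zero, smul_zero, map_zero]
    · intro h
      exact absurd (mem_univ _) h
  · intro S _ hS
    obtain ⟨i₀, hi₀⟩ := Finset.nonempty_iff_ne_empty.2 hS
    let G : Equiv.Perm (Fin n) → Fin n → A := fun σ l =>
      d (σ i₀) (d (σ l) (f l)) * (∏ i ∈ (S.erase i₀).erase l, d (σ i) (f i)) * ∏ i ∈ univ \ S, b σ i
    have hbyparts : ∀ u v j, L (d j u * v) = - L (u * d j v) := by
      intro u v j
      have h := hL j (u * v)
      rw [(d j).leibniz, smul_eq_mul, smul_eq_mul, map_add, mul_comm v] at h
      exact eq_neg_of_add_eq_zero_right h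
    have hterm : ∀ σ : Equiv.Perm (Fin n), L ((∏ i ∈ S, d (σ i) (f i)) * ∏ i ∈ univ \ S, b σ i) =
        - ∑ l ∈ S.erase i₀, L (f i₀ * G σ l) := by
      intro σ
      rw [← mul_prod_erase S _ hi₀, mul_assoc, hbyparts, ← map_sum, ← mul_sum]
      congr 3
      rw [(d (σ i₀)).leibniz, smul_eq_mul, smul_eq_mul, derivation_prod, derivation_prod]
      have hzero : ∑ x ∈ univ \ S, d (σ i₀) (b σ x) * ∏ j ∈ (univ \ S).erase x, b σ j = 0 := by
        by_cases hfix : ∀ i ∈ univ \ S, σ i = i
        · refine sum_eq_zero fun x hx => ?_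
          have hne : σ i₀ ≠ x := fun h => by
            have hxi : x = i₀ := σ.injective ((hfix x hx).trans h.symm)
            exact (mem_sdiff.1 hx).2 (hxi ▸ hi₀)
          simp [b, hfix x hx, Derivation.leibniz_pow, hdt, hne]
        · push Not at hfix
          obtain ⟨i, hi, hne⟩ := hfix
          rw [← derivation_prod, prod_eq_zero hi (if_neg (Ne.symm hne)), map_zero]
      rw [hzero, mul_zero, zero_add, mul_sum]
      refine sum_congr rfl fun l _ => ?_
      simp only [G]
      ring
    rw [map_sum]
    simp only [map_zsmul, hterm, smul_neg, sum_neg_distrib, smul_sum]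
    rw [sum_comm, neg_eq_zero]
    refine sum_eq_zero fun l hl => ?_
    obtain ⟨hne, hlS⟩ := mem_erase.1 hl
    refine sum_involution (fun σ _ => σ * Equiv.swap i₀ l) (fun σ _ => ?_) (fun σ _ _ h => ?_)
      (fun σ _ => mem_univ _) (fun σ _ => by simp [mul_assoc])
    · have hG : G (σ * Equiv.swap i₀ l) l = G σ l := by
        simp only [G, Equiv.Perm.mul_apply, Equiv.swap_apply_left, Equiv.swap_apply_right]
        rw [hcomm]
        congr 1
        · congr 1
          refine prod_congr rfl fun i hi => ?_
          obtain ⟨h1, h2⟩ := mem_erase.1 hi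
          rw [Equiv.swap_apply_of_ne_of_ne (mem_erase.1 h2).1 h1]
        · refine prod_congr rfl fun i hi => ?_
          have hiS := (mem_sdiff.1 hi).2
          have hi' : (σ * Equiv.swap i₀ l) i = σ i := by
            rw [Equiv.Perm.mul_apply,
              Equiv.swap_apply_of_ne_of_ne (fun h : i = i₀ => hiS (h ▸ hi₀)) (fun h : i = l => hiS (h ▸ hlS))]
          exact if_congr (by rw [hi']) rfl rfl
      rw [hG, map_mul Equiv.Perm.sign, Equiv.Perm.sign_swap (Ne.symm hne)]
      simp
    · have := congrArg (fun τ : Equiv.Perm (Fin n) => τ i₀) h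
      simp only [Equiv.Perm.mul_apply, Equiv.swap_apply_left] at this
      exact hne (σ.injective this)
  · intro h
    exact absurd (empty_mem_powerset _) h

/-- Product of `(d i)^e` over a list. -/
noncomputable def topOp (d : Fin n → Derivation k A A) (e : ℕ) (l : List (Fin n)) : Module.End k A :=
  (l.map fun i => ((d i : A →ₗ[k] A)) ^ e).prod

theorem topOp_mul_eq_zero (d : Fin n → Derivation k A A) (e : ℕ)
    (hcomm : ∀ i j x, d i (d j x) = d j (d i x)) (hp : ∀ i x, (d i)^[e + 1] x = 0) :
    ∀ (l : List (Fin n)) (j : Fin n), j ∈ l → topOp d e l * (d j : A →ₗ[k] A) = 0 := by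
  intro l
  induction l with
  | nil => intro j hj; simp at hj
  | cons i l ih =>
    intro j hj
    have hc : Commute (topOp d e l) (d i : A →ₗ[k] A) := by
      refine Commute.list_prod_left _ _ fun x hx => ?_
      obtain ⟨a, -, rfl⟩ := List.mem_map.1 hx
      exact Commute.pow_left (LinearMap.ext fun y => hcomm a i y) e
    change (d i : A →ₗ[k] A) ^ e * topOp d e l * (d j : A →ₗ[k] A) = 0
    rcases List.mem_cons.1 hj with rfl | hj
    · rw [mul_assoc, hc.eq, ← mul_assoc, ← pow_succ,
        show (d j : A →ₗ[k] A) ^ (e + 1) = 0 from LinearMap.ext fun y => by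
          rw [Module.End.pow_apply]; exact hp j y, zero_mul]
    · rw [mul_assoc, ih j hj, mul_zero]

theorem iterate_pow_mul (D : Derivation k A A) (x c : A) (hx : D x = 1) (hc : D c = 0) :
    ∀ (j r : ℕ), D^[j] (x ^ r * c) = (r.descFactorial j : A) * (x ^ (r - j) * c) := by
  intro j
  induction j with
  | zero => simp
  | succ j ih =>
    intro r
    rw [Function.iterate_succ_apply', ih, Nat.descFactorial_succ, D.leibniz, D.map_natCast, smul_zero, add_zero,
      D.leibniz, hc, smul_zero, zero_add, D.leibniz_pow, hx, Nat.sub_sub]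
    simp only [smul_eq_mul, nsmul_eq_mul, Nat.cast_mul, mul_one]
    ring

theorem topOp_prod (d : Fin n → Derivation k A A) (t : Fin n → A) (e : ℕ)
    (hdt : ∀ i j, d i (t j) = if i = j then 1 else 0) :
    ∀ l : List (Fin n), l.Nodup → ∀ c : A, (∀ i ∈ l, d i c = 0) →
      topOp d e l ((∏ i ∈ l.toFinset, t i ^ e) * c) = (e.factorial : A) ^ l.length * c := by
  intro l
  induction l with
  | nil => intro _ c _; simp [topOp]
  | cons i l ih =>
    intro hnd
    obtain ⟨hil, hnd⟩ := List.nodup_cons.1 hnd
    have key : ∀ c : A, (∀ a ∈ i :: l, d a c = 0) →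
        topOp d e (i :: l) ((∏ a ∈ (i :: l).toFinset, t a ^ e) * c) =
          (e.factorial : A) ^ (i :: l).length * c := by
      intro c hc
      have h2 := (ih hnd (t i ^ e * c) fun a ha => by
        have hne : a ≠ i := fun h => hil (h ▸ ha)
        simp [hdt, hne, hc a (List.mem_cons_of_mem _ ha)])
      change ((d i : A →ₗ[k] A) ^ e) (topOp d e l _) = _
      rw [List.toFinset_cons, Finset.prod_insert (by simpa using hil)]
      rw [show t i ^ e * (∏ a ∈ l.toFinset, t a ^ e) * c = (∏ a ∈ l.toFinset, t a ^ e) * (t i ^ e * c) by ring,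
        h2, Module.End.pow_apply, show (e.factorial : A) ^ l.length * (t i ^ e * c) =
          t i ^ e * ((e.factorial : A) ^ l.length * c) by ring]
      change (d i)^[e] _ = _
      rw [iterate_pow_mul _ _ _ (by simp [hdt]) (by simp [hc i List.mem_cons_self]), Nat.sub_self, pow_zero,
        one_mul, Nat.descFactorial_self, List.length_cons, pow_succ]
      ring
    exact key

end Groth.Agent.Lib.H58FrobJacobian
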