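import Groth.Agent.Lib.W2Lift.Basic
import Mathlib.Algebra.MvPolynomial.PDeriv
import Mathlib.RingTheory.MvPolynomial.Basic
import Mathlib.RingTheory.Regular.RegularSequence

/-!
# Frobenius residues of liftings of quotients of polynomial rings over `W₂(k)`
-/

set_option autoImplicit false
set_option linter.unusedSectionVars false
universe u v

open MvPolynomial
open Groth.Agent.Lib.W2Lift.Basic

namespace Groth.Agent.Lib.H58FrobResidue

noncomputable section

variable {p : ℕ} [Fact p.Prime] {k : Type u} [Field k] [CharP k p] [PerfectRing k p]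
variable {n : ℕ}

local notation "P" => MvPolynomial (Fin n) (FrobAlg.W2 p k)
local notation "redP" => MvPolynomial.map (σ := Fin n) (FrobAlg.res p k)

theorem ker_redP : RingHom.ker redP = Ideal.span {(p : P)} := by
  rw [MvPolynomial.ker_map, ker_res, Ideal.map_span, Set.image_singleton, map_natCast]

theorem exists_eq_p_mul {g : P} (h : redP g = 0) : ∃ c, g = (p : P) * c := by
  rw [← RingHom.mem_ker, ker_redP, Ideal.mem_span_singleton] at h
  exact h

theorem redP_p : redP (p : P) = 0 := by
  rw [map_natCast, CharP.cast_eq_zero]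

theorem p_p : (p : P) * (p : P) = 0 := by
  rw [← map_natCast (MvPolynomial.C : FrobAlg.W2 p k →+* P) p, ← map_mul,
    p_mul_p (CharP.cast_eq_zero k p), map_zero]

theorem p_mul_congr {a b : P} (h : redP a = redP b) : (p : P) * a = (p : P) * b := by
  obtain ⟨c, hc⟩ := exists_eq_p_mul (g := a - b) (by rw [map_sub, h, sub_self])
  rw [← sub_eq_zero, ← mul_sub, hc, ← mul_assoc, p_p, zero_mul]

theorem mem_span_p_of_p_mul_eq_zero {g : P} (h : (p : P) * g = 0) : redP g = 0 := by
  ext d
  rw [MvPolynomial.coeff_map, MvPolynomial.coeff_zero, FrobAlg.res_apply]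
  apply (p_mul_eq_zero_iff _).1
  have := congrArg (MvPolynomial.coeff d) h
  rwa [← map_natCast (MvPolynomial.C : FrobAlg.W2 p k →+* P) p, MvPolynomial.coeff_C_mul,
    MvPolynomial.coeff_zero] at this

/-- The lift of Frobenius sending `X_j` to `X_j^p + p h_j`. -/
def psi (h : Fin n → P) : P →+* P :=
  MvPolynomial.eval₂Hom (MvPolynomial.C.comp (FrobAlg.sigma p k))
    fun j => MvPolynomial.X j ^ p + (p : P) * h j

theorem psi_C (h : Fin n → P) (a : FrobAlg.W2 p k) : psi h (C a) = C (FrobAlg.sigma p k a) :=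
  MvPolynomial.eval₂_C _ _ _

theorem psi_X (h : Fin n → P) (j : Fin n) : psi h (X j) = X j ^ p + (p : P) * h j :=
  MvPolynomial.eval₂_X _ _ _

theorem redP_polyFrob (f : P) : redP (FrobAlg.polyFrob p k (Fin n) f) = redP f ^ p := by
  induction f using MvPolynomial.induction_on with
  | C a =>
    simp only [FrobAlg.polyFrob, eval₂Hom_C, RingHom.comp_apply, map_C, FrobAlg.res_apply, ← map_pow]
    simp [FrobAlg.sigma]
  | add f g hf hg => rw [map_add, map_add, map_add, hf, hg, add_pow_char]
  | mul_X f i hf => rw [map_mul, map_mul, map_mul, hf, mul_pow]; simp [FrobAlg.polyFrob]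

theorem p_mul_polyFrob (f : P) : (p : P) * FrobAlg.polyFrob p k (Fin n) f = (p : P) * f ^ p :=
  p_mul_congr (by rw [redP_polyFrob, map_pow])

theorem p_mul_add_pow (a b : P) : (p : P) * (a + b) ^ p = (p : P) * a ^ p + (p : P) * b ^ p := by
  rw [← mul_add]
  exact p_mul_congr (by rw [map_pow, map_add, map_add, map_pow, map_pow, add_pow_char])

/-- Taylor expansion modulo `p²`. -/
theorem psi_eq (h : Fin n → P) (f : P) :
    psi h f = FrobAlg.polyFrob p k (Fin n) f + (p : P) * ∑ j, pderiv j f ^ p * h j := by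
  have hp0 : p ≠ 0 := (Fact.out : p.Prime).ne_zero
  induction f using MvPolynomial.induction_on with
  | C a => simp [psi_C, FrobAlg.polyFrob, zero_pow hp0]
  | add f g hf hg =>
    have e : (p : P) * ∑ j, pderiv j (f + g) ^ p * h j =
        (p : P) * ∑ j, pderiv j f ^ p * h j + (p : P) * ∑ j, pderiv j g ^ p * h j := by
      simp only [Finset.mul_sum, ← mul_assoc, ← Finset.sum_add_distrib, ← add_mul, map_add, p_mul_add_pow]
    rw [map_add, map_add, e, hf, hg]
    ring
  | mul_X f i hf =>
    have e : (p : P) * ∑ j, pderiv j (f * X i) ^ p * h j =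
        (p : P) * ((∑ j, pderiv j f ^ p * h j) * X i ^ p + f ^ p * h i) := by
      have hsingle : f ^ p * h i = ∑ j, (f * pderiv j (X i : P)) ^ p * h j := by
        rw [Finset.sum_eq_single i]
        · rw [pderiv_X_self, mul_one]
        · intro j _ hj
          rw [pderiv_X_of_ne (Ne.symm hj), mul_zero, zero_pow hp0, zero_mul]
        · exact fun hi => absurd (Finset.mem_univ i) hi
      rw [hsingle, Finset.sum_mul, ← Finset.sum_add_distrib]
      simp only [Finset.mul_sum]
      refine Finset.sum_congr rfl fun j _ => ?_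
      rw [pderiv_mul, ← mul_assoc, p_mul_add_pow, mul_pow]
      ring
    have hF : FrobAlg.polyFrob p k (Fin n) (X i) = X i ^ p := MvPolynomial.eval₂_X _ _ _
    rw [map_mul, map_mul, hf, psi_X, e, hF]
    linear_combination (∑ j, pderiv j f ^ p * h j) * h i * p_p (p := p) (k := k) (n := n) +
      h i * p_mul_polyFrob f

variable {m : ℕ}

/-- A lifting of Frobenius gives residue congruences. -/
theorem residues_of_frobLift {A : Type v} [CommRing A] [Algebra k A] {B : Type v} [CommRing B]
    {ι : FrobAlg.W2 p k →+* B} {π : B →+* A} {Φ : B →+* B}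
    (hext : IsExt p π) (hsemi : Φ.comp ι = ι.comp (FrobAlg.sigma p k))
    (hred : ∀ b, π (Φ b) = π b ^ p) (φ : P →+* B) (hφ : Function.Surjective φ)
    (hφC : φ.comp C = ι) (f' : Fin m → P) (hf : ∀ i, φ (f' i) = 0)
    (hker : ∀ g, π (φ g) = 0 → g ∈ Ideal.span (Set.range f') ⊔ Ideal.span {(p : P)}) :
    ∃ h : Fin n → P, ∀ i, FrobAlg.polyFrob p k (Fin n) (f' i) - f' i ^ p
        - (p : P) * ∑ j, pderiv j (f' i) ^ p * h j
      ∈ Ideal.span {(p : P)} * Ideal.span (Set.range f') := by
  choose c hc using fun j => hext.exists_eq_mul (b := Φ (φ (X j)) - φ (X j) ^ p)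
    (by rw [map_sub, hred, map_pow, sub_self])
  choose h hh using fun j => hφ (c j)
  refine ⟨fun j => - h j, fun i => ?_⟩
  have hcomp : Φ.comp φ = φ.comp (psi h) := by
    refine MvPolynomial.ringHom_ext (fun a => ?_) (fun j => ?_)
    · rw [RingHom.comp_apply, RingHom.comp_apply, psi_C, ← RingHom.comp_apply φ C, hφC,
        ← RingHom.comp_apply φ C, hφC, ← RingHom.comp_apply Φ ι, hsemi]
      rfl
    · rw [RingHom.comp_apply, RingHom.comp_apply, psi_X, map_add, map_mul, map_pow, map_natCast, hh,
        ← hc, add_sub_cancel]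
  have hz : φ (psi h (f' i)) = 0 := by
    rw [← RingHom.comp_apply, ← hcomp, RingHom.comp_apply, hf, map_zero]
  obtain ⟨g0, hg0⟩ := exists_eq_p_mul (g := FrobAlg.polyFrob p k (Fin n) (f' i) - f' i ^ p)
    (by rw [map_sub, redP_polyFrob, map_pow, sub_self])
  have hval : FrobAlg.polyFrob p k (Fin n) (f' i) - f' i ^ p
      - (p : P) * ∑ j, pderiv j (f' i) ^ p * (- h j) =
      (p : P) * (g0 + ∑ j, pderiv j (f' i) ^ p * h j) := by
    rw [hg0]
    simp only [mul_neg, Finset.sum_neg_distrib]
    ring
  rw [hval]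
  have hz2 : φ ((p : P) * (g0 + ∑ j, pderiv j (f' i) ^ p * h j)) = 0 := by
    rw [psi_eq] at hz
    rw [mul_add, ← hg0, sub_add_eq_add_sub, map_sub, hz, map_pow, hf,
      zero_pow (Fact.out : p.Prime).ne_zero, sub_zero]
  rw [map_mul, map_natCast, hext.ann] at hz2
  obtain ⟨a, ha, b, hb, hab⟩ := Submodule.mem_sup.1 (hker _ hz2)
  rw [← hab, mul_add]
  obtain ⟨b', rfl⟩ := Ideal.mem_span_singleton'.1 hb
  rw [mul_comm b', ← mul_assoc, p_p, zero_mul, add_zero]
  exact Ideal.mul_mem_mul (Ideal.mem_span_singleton_self _) ha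

/-- Residue congruences give a lifting of Frobenius. -/
theorem frobLift_of_residues {A : Type v} [CommRing A] [Algebra k A] (f' : Fin m → P)
    {π : P ⧸ Ideal.span (Set.range f') →+* A} (hext : IsExt p π) (h : Fin n → P)
    (hh : ∀ i, FrobAlg.polyFrob p k (Fin n) (f' i) - f' i ^ p
        - (p : P) * ∑ j, pderiv j (f' i) ^ p * h j
      ∈ Ideal.span {(p : P)} * Ideal.span (Set.range f'))
    (hC : π.comp ((Ideal.Quotient.mk _).comp C) = (algebraMap k A).comp (FrobAlg.res p k)) :
    ∃ Φ : P ⧸ Ideal.span (Set.range f') →+* P ⧸ Ideal.span (Set.range f'),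
      Φ.comp ((Ideal.Quotient.mk _).comp C) =
        ((Ideal.Quotient.mk _).comp C).comp (FrobAlg.sigma p k) ∧
      ∀ b, π (Φ b) = π b ^ p := by
  have hmem : ∀ x ∈ (Ideal.span (Set.range f')), Ideal.Quotient.mk (Ideal.span (Set.range f')) (psi (fun j => - h j) x) = 0 := by
    suffices (Ideal.span (Set.range f')) ≤ RingHom.ker ((Ideal.Quotient.mk (Ideal.span (Set.range f'))).comp (psi fun j => - h j)) from fun x hx => this hx
    rw [Ideal.span_le, Set.range_subset_iff]
    intro i
    rw [SetLike.mem_coe, RingHom.mem_ker, RingHom.comp_apply, Ideal.Quotient.eq_zero_iff_mem, psi_eq]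
    have h1 : FrobAlg.polyFrob p k (Fin n) (f' i) + (p : P) * ∑ j, pderiv j (f' i) ^ p * (- h j) =
        (FrobAlg.polyFrob p k (Fin n) (f' i) - f' i ^ p - (p : P) * ∑ j, pderiv j (f' i) ^ p * h j)
          + f' i ^ p := by
      simp only [mul_neg, Finset.sum_neg_distrib]
      ring
    rw [h1]
    have hle : Ideal.span {(p : P)} * (Ideal.span (Set.range f')) ≤ (Ideal.span (Set.range f')) := Ideal.mul_le_right
    have hfi : f' i ∈ (Ideal.span (Set.range f')) := Ideal.subset_span (Set.mem_range_self i)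
    have hfp : f' i ^ p ∈ (Ideal.span (Set.range f')) := Ideal.pow_mem_of_mem (Ideal.span (Set.range f')) hfi p (Fact.out : p.Prime).pos
    exact add_mem (hle (hh i)) hfp
  refine ⟨Ideal.Quotient.lift (Ideal.span (Set.range f')) ((Ideal.Quotient.mk (Ideal.span (Set.range f'))).comp (psi fun j => - h j)) hmem, ?_, ?_⟩
  · ext a
    simp [psi_C]
  intro b
  obtain ⟨g, rfl⟩ := Ideal.Quotient.mk_surjective b
  rw [Ideal.Quotient.lift_mk, RingHom.comp_apply]
  induction g using MvPolynomial.induction_on with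
  | C a =>
    have e := fun x => congrArg (fun r : FrobAlg.W2 p k →+* A => r x) hC
    simp only [RingHom.comp_apply] at e
    rw [psi_C, e, e, FrobAlg.res_apply, FrobAlg.res_apply, ← map_pow]
    simp [FrobAlg.sigma]
  | add f g hf hg =>
    simp only [map_add, hf, hg]
    obtain ⟨r, hr⟩ := exists_add_pow_prime_eq (Fact.out : p.Prime)
      (π (Ideal.Quotient.mk (Ideal.span (Set.range f')) f)) (π (Ideal.Quotient.mk (Ideal.span (Set.range f')) g))
    rw [hr, hext.map_p]
    ring
  | mul_X f i hf =>
    simp only [map_mul, hf, psi_X, map_add, map_pow, map_natCast, hext.map_p, zero_mul, add_zero, mul_pow]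

/-- Lifts of a weakly regular sequence: a relation modulo `p` only produces elements of `p J'`. -/
theorem sum_mem_of_redP_sum_eq_zero : ∀ {m : ℕ} (f' : Fin m → P),
    (∀ (i : Fin m) (x : MvPolynomial (Fin n) k),
      x * redP (f' i) ∈ Ideal.span ((fun j => redP (f' j)) '' Set.Iio i) →
        x ∈ Ideal.span ((fun j => redP (f' j)) '' Set.Iio i)) →
    ∀ a : Fin m → P, ∑ i, redP (a i) * redP (f' i) = 0 →
      ∑ i, a i * f' i ∈ Ideal.span {(p : P)} * Ideal.span (Set.range f') := by
  intro m
  induction m with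
  | zero => intro f' _ a _; simp
  | succ m ih =>
    intro f' hf' a ha
    have himg : (fun j => redP (f' j)) '' Set.Iio (Fin.last m) =
        Set.range fun j : Fin m => redP (f' j.castSucc) := by
      ext x
      constructor
      · rintro ⟨j, hj, rfl⟩
        exact ⟨j.castPred (Fin.ne_of_lt hj), by simp⟩
      · rintro ⟨j, rfl⟩
        exact ⟨j.castSucc, Fin.castSucc_lt_last j, rfl⟩
    rw [Fin.sum_univ_castSucc] at ha
    have h1 : redP (a (Fin.last m)) ∈ Ideal.span (Set.range fun j : Fin m => redP (f' j.castSucc)) := by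
      rw [← himg]
      refine hf' _ _ ?_
      rw [himg, eq_neg_of_add_eq_zero_right ha]
      exact neg_mem (sum_mem fun j _ => Ideal.mul_mem_left _ _ (Ideal.subset_span ⟨j, rfl⟩))
    obtain ⟨c, hc⟩ := Ideal.mem_span_range_iff_exists_fun.1 h1
    choose c' hc' using fun j => MvPolynomial.map_surjective (σ := Fin n) (FrobAlg.res p k)
      (show Function.Surjective (FrobAlg.res p k) from fun x => ⟨teich x, by simp⟩) (c j)
    obtain ⟨d, hd⟩ := exists_eq_p_mul (g := a (Fin.last m) - ∑ j : Fin m, c' j * f' j.castSucc)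
      (by simp [map_sum, hc', hc])
    have h3 := ih (fun j => f' j.castSucc) (fun i x hx => by
      have e : (fun j : Fin (m + 1) => redP (f' j)) '' Set.Iio i.castSucc =
          (fun j : Fin m => redP (f' j.castSucc)) '' Set.Iio i := by
        ext y
        constructor
        · rintro ⟨j, hj, rfl⟩
          exact ⟨j.castPred (Fin.ne_of_lt (lt_trans hj (Fin.castSucc_lt_last i))), hj, by simp⟩
        · rintro ⟨j, hj, rfl⟩
          exact ⟨j.castSucc, Fin.castSucc_lt_castSucc_iff.2 hj, rfl⟩
      rw [← e] at hx ⊢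
      exact hf' _ x hx)
      (fun j => a j.castSucc + c' j * f' (Fin.last m)) (by
      simp only [map_add, map_mul, hc', add_mul, Finset.sum_add_distrib]
      rw [← hc, Finset.sum_mul] at ha
      rw [← ha]
      congr 1
      exact Finset.sum_congr rfl fun j _ => by ring)
    rw [Fin.sum_univ_castSucc]
    have e : (∑ j : Fin m, a j.castSucc * f' j.castSucc) + a (Fin.last m) * f' (Fin.last m) =
        (∑ j : Fin m, (a j.castSucc + c' j * f' (Fin.last m)) * f' j.castSucc)
          + (p : P) * d * f' (Fin.last m) := by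
      rw [sub_eq_iff_eq_add] at hd
      rw [hd]
      simp only [add_mul, Finset.sum_add_distrib, Finset.sum_mul]
      have : ∀ j : Fin m, c' j * f' (Fin.last m) * f' j.castSucc =
          c' j * f' j.castSucc * f' (Fin.last m) := fun j => by ring
      simp only [this]
      ring
    rw [e]
    refine add_mem (Ideal.mul_mono le_rfl (Ideal.span_mono (Set.range_subset_iff.2 fun (j : Fin m) => Set.mem_range_self j.castSucc)) h3) ?_
    rw [mul_assoc]
    exact Ideal.mul_mem_mul (Ideal.mem_span_singleton_self _)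
      (Ideal.mul_mem_left _ _ (Ideal.subset_span ⟨_, rfl⟩))

theorem isWeaklyRegular_ofFn_mem {R : Type u} [CommRing R] {f : Fin m → R}
    (h : RingTheory.Sequence.IsWeaklyRegular R (List.ofFn f)) (i : Fin m) (x : R)
    (hx : x * f i ∈ Ideal.span (f '' Set.Iio i)) : x ∈ Ideal.span (f '' Set.Iio i) := by
  have e : Ideal.ofList ((List.ofFn f).take i) = Ideal.span (f '' Set.Iio i) := by
    rw [Ideal.ofList]
    congr 1
    ext y
    simp only [Set.mem_setOf_eq, List.mem_take_iff_getElem, List.length_ofFn, List.getElem_ofFn, Set.mem_image, Set.mem_Iio]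
    constructor
    · rintro ⟨j, hj, rfl⟩
      exact ⟨⟨j, by omega⟩, (lt_min_iff.1 hj).1, rfl⟩
    · rintro ⟨j, hj, rfl⟩
      exact ⟨j, lt_min hj j.2, rfl⟩
  have h1 := h.regular_mod_prev i (by simp)
  rw [List.getElem_ofFn, isSMulRegular_quotient_iff_mem_of_smul_mem, smul_eq_mul, Ideal.mul_top, e] at h1
  refine h1 x ?_
  rwa [smul_eq_mul, mul_comm]

end

end Groth.Agent.Lib.H58FrobResidue
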