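import Groth.Prelude.Def_W4c6eohyperellchar2Gc
import Mathlib.LinearAlgebra.LinearIndependent.Lemmas
import Mathlib.LinearAlgebra.Pi

/-! # The explicit module `GcMod`: values of `F`, `V` on the basis -/

set_option autoImplicit false
universe u
open W4c6eohyperellchar2

namespace Groth.Agent.Lib.H58GcMod

variable {c : ℕ} {k : Type u} [Field k]

lemma coefX_X (n m : ℕ) : coefX (X c k n) m = if m = n ∧ 1 ≤ m ∧ m ≤ c then 1 else 0 := by
  unfold coefX
  by_cases h : 1 ≤ m ∧ m ≤ c
  · rw [dif_pos h]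
    show (if m - 1 + 1 = n then (1 : k) else 0) = _
    rw [Nat.sub_add_cancel h.1]
    split_ifs <;> first | rfl | omega
  · rw [dif_neg h, if_neg (fun e => h e.2)]

lemma coefY_Y (n m : ℕ) : coefY (Y c k n) m = if m = n ∧ 1 ≤ m ∧ m ≤ c then 1 else 0 := by
  unfold coefY
  by_cases h : 1 ≤ m ∧ m ≤ c
  · rw [dif_pos h]
    show (if m - 1 + 1 = n then (1 : k) else 0) = _
    rw [Nat.sub_add_cancel h.1]
    split_ifs <;> first | rfl | omega
  · rw [dif_neg h, if_neg (fun e => h e.2)]

lemma coefY_X (n m : ℕ) : coefY (X c k n) m = 0 := by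
  unfold coefY; split_ifs <;> rfl

lemma coefX_Y (n m : ℕ) : coefX (Y c k n) m = 0 := by
  unfold coefX; split_ifs <;> rfl

lemma F_X_even {a : ℕ} (h1 : 1 ≤ a) (h2 : 2 * a ≤ c) : F c k (X c k (2 * a)) = X c k a := by
  refine Prod.ext ?_ ?_ <;> funext i <;> have := i.isLt <;> simp only [F, coefX_X] <;> simp only [X, Pi.zero_apply] <;>
    split_ifs <;> first | omega | simp

lemma F_X_odd {a : ℕ} (h2 : 2 * a + 1 ≤ c) : F c k (X c k (2 * a + 1)) = Y c k (c - a) := by
  refine Prod.ext ?_ ?_ <;> funext i <;> have := i.isLt <;> simp only [F, coefX_X] <;> simp only [Y, Pi.zero_apply] <;>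
    split_ifs <;> first | omega | simp

variable [CharP k 2] [PerfectRing k 2]

lemma V_Y {n : ℕ} (h1 : 1 ≤ n) (h2 : n ≤ c) : V c k (Y c k n) = Y c k (2 * n) := by
  refine Prod.ext ?_ ?_ <;> funext i <;> have := i.isLt <;> simp only [V, coefX_Y, coefY_Y] <;> simp only [Y, Pi.zero_apply] <;>
    split_ifs <;> first | omega | simp

lemma V_X {n : ℕ} (h1 : 1 ≤ n) (h2 : n ≤ c) : V c k (X c k n) = Y c k (2 * c - 2 * n + 1) := by
  refine Prod.ext ?_ ?_
  · rfl
  · funext i
    have := i.isLt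
    simp only [V, coefX_X, coefY_X]
    simp only [Y]
    split_ifs <;> first | omega | simp

lemma top_of_stable (N : Submodule k (GcMod c k))
    (hF : ∀ v ∈ N, F c k v ∈ N) (hV : ∀ v ∈ N, V c k v ∈ N)
    (hX : ∀ j : ℕ, c < 2 * j → j ≤ c → X c k j ∈ N) : N = ⊤ := by
  have hx : ∀ d j : ℕ, c - j = d → 1 ≤ j → j ≤ c → X c k j ∈ N := by
    intro d
    induction d using Nat.strong_induction_on with
    | _ d ih =>
      intro j hd h1 h2
      rcases lt_or_ge c (2 * j) with h | h
      · exact hX j h h2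
      · rw [← F_X_even h1 h]
        exact hF _ (ih (c - 2 * j) (by omega) _ rfl (by omega) h)
  have hy : ∀ m : ℕ, 1 ≤ m → m ≤ c → Y c k m ∈ N := by
    intro m
    induction m using Nat.strong_induction_on with
    | _ m ih =>
      intro h1 h2
      rcases Nat.even_or_odd' m with ⟨b, rfl | rfl⟩
      · rw [← V_Y (by omega) (by omega)]
        exact hV _ (ih b (by omega) (by omega) (by omega))
      · rw [show 2 * b + 1 = 2 * c - 2 * (c - b) + 1 by omega, ← V_X (by omega) (by omega)]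
        exact hV _ (hx _ (c - b) rfl (by omega) (by omega))
  refine eq_top_iff.2 fun v _ => ?_
  have hv : v = ∑ i : Fin c, v.1 i • X c k (i.val + 1) + ∑ i : Fin c, v.2 i • Y c k (i.val + 1) := by
    refine Prod.ext ?_ ?_ <;> funext i <;>
      simp [X, Y, Prod.fst_sum, Prod.snd_sum, Finset.sum_apply, Fin.val_inj]
  rw [hv]
  exact add_mem (N.sum_mem fun i _ => N.smul_mem _ (hx _ _ rfl (by omega) i.isLt))
    (N.sum_mem fun i _ => N.smul_mem _ (hy _ (by omega) i.isLt))

end Groth.Agent.Lib.H58GcMod
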