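import Mathlib.AlgebraicGeometry.Pullbacks
import Mathlib.RingTheory.TensorProduct.Free
import Mathlib.Algebra.CharP.Reduced
import Mathlib.Algebra.CharP.Algebra
import Mathlib.RingTheory.Flat.Basic
import Mathlib.LinearAlgebra.TensorProduct.Basis
import Mathlib.AlgebraicGeometry.Geometrically.Reduced

/-!
# Geometric reducedness through the Frobenius twist
-/

set_option autoImplicit false
universe u
open CategoryTheory CategoryTheory.Limits AlgebraicGeometry TensorProduct

namespace Groth.Agent.Lib.H58GeomRedTwist

variable {k : Type u} [Field k] {A : Type u} [CommRing A] [Algebra k A] (p : ℕ) [Fact p.Prime]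

/-- A copy of `k`, to be viewed as a `k`-algebra through Frobenius. -/
def Tw (k : Type u) : Type u := k

instance : Field (Tw k) := inferInstanceAs (Field k)

theorem linearIndependent_pow [CharP k p] (k₁ : Type u) [Field k₁] [Algebra k k₁]
    (hroot : ∀ c : k, ∃ β : k₁, β ^ p = algebraMap k k₁ c) [_root_.IsReduced (k₁ ⊗[k] A)]
    {s : Type u} (v : s → A) (hv : LinearIndependent k v) :
    LinearIndependent k fun i => v i ^ p := by
  rcases subsingleton_or_nontrivial A with hA | hA
  · have : IsEmpty s := ⟨fun i => hv.ne_zero i (Subsingleton.elim _ _)⟩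
    exact linearIndependent_empty_type
  rw [linearIndependent_iff']
  intro T g hsum i hi
  have : CharP k₁ p := charP_of_injective_algebraMap (algebraMap k k₁).injective p
  have : CharP (k₁ ⊗[k] A) p :=
    charP_of_injective_algebraMap (Algebra.TensorProduct.includeLeft_injective (S := k₁) (A := k₁)
      (algebraMap k A).injective) p
  choose α hα using fun j => hroot (g j)
  have hpow : (∑ j ∈ T, α j • ((1 : k₁) ⊗ₜ[k] v j)) ^ p = 0 := by
    rw [sum_pow_char]
    have : ∀ j ∈ T, (α j • ((1 : k₁) ⊗ₜ[k] v j)) ^ p = (1 : k₁) ⊗ₜ[k] (g j • v j ^ p) := fun j _ => by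
      rw [smul_pow, hα, Algebra.TensorProduct.tmul_pow, one_pow, algebraMap_smul,
        TensorProduct.tmul_smul]
    rw [Finset.sum_congr rfl this, ← TensorProduct.tmul_sum, hsum, TensorProduct.tmul_zero]
  have hz := IsReduced.eq_zero _ ⟨p, hpow⟩
  have h1 : LinearIndependent k₁ fun j => (1 : k₁) ⊗ₜ[k] v j :=
    Module.Flat.linearIndependent_one_tmul hv
  have h2 := linearIndependent_iff'.1 h1 T α hz i hi
  exact (algebraMap k k₁).injective (by
    rw [← hα, h2, zero_pow (Fact.out : p.Prime).ne_zero, map_zero])

theorem isReduced_tensor [CharP k p]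
    (h : ∀ {s : Type u} (v : s → A), LinearIndependent k v → LinearIndependent k fun i => v i ^ p)
    (L : Type u) [Field L] [Algebra k L] : _root_.IsReduced (L ⊗[k] A) := by
  rcases subsingleton_or_nontrivial A with hA | hA
  · have : Subsingleton (L ⊗[k] A) := inferInstance
    exact ⟨fun x _ => Subsingleton.elim _ _⟩
  refine (isReduced_iff_pow_one_lt p (Fact.out : p.Prime).one_lt).2 fun x hx => ?_
  let b := Module.Free.chooseBasis k A
  let bL := Algebra.TensorProduct.basis L b
  have : CharP L p := charP_of_injective_algebraMap (algebraMap k L).injective p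
  have : CharP (L ⊗[k] A) p :=
    charP_of_injective_algebraMap (Algebra.TensorProduct.includeLeft_injective (S := L) (A := L)
      (algebraMap k A).injective) p
  have h1 : LinearIndependent L fun i => (1 : L) ⊗ₜ[k] (b i ^ p) := by
    have hb := h b b.linearIndependent
    exact Module.Flat.linearIndependent_one_tmul hb
  have hexp : x ^ p = ∑ i ∈ (bL.repr x).support, (bL.repr x i) ^ p • ((1 : L) ⊗ₜ[k] (b i ^ p)) := by
    conv_lhs => rw [← bL.linearCombination_repr x, Finsupp.linearCombination_apply, Finsupp.sum,
      sum_pow_char]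
    refine Finset.sum_congr rfl fun i _ => ?_
    rw [smul_pow, Algebra.TensorProduct.basis_apply, Algebra.TensorProduct.tmul_pow, one_pow]
  rw [hexp] at hx
  refine bL.repr.injective ?_
  rw [map_zero]
  ext i
  by_cases hi : i ∈ (bL.repr x).support
  · exact eq_zero_of_pow_eq_zero (linearIndependent_iff'.1 h1 _ _ hx i hi)
  · simpa using hi

theorem isReduced_pullback_specMap [CharP k p] (R : CommRingCat.{u})
    (g : Spec R ⟶ Spec (CommRingCat.of k))
    (K : Type u) [Field K] (φ : CommRingCat.of k ⟶ CommRingCat.of K)
    [hT : IsReduced (pullback g (Spec.map (CommRingCat.ofHom (frobenius k p))))] :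
    IsReduced (pullback g (Spec.map φ)) := by
  obtain ⟨ψ, rfl⟩ := Spec.map_surjective g
  let _ : Algebra k (Tw k) := (frobenius k p).toAlgebra
  let _ : Algebra k K := φ.hom.toAlgebra
  let _ : Algebra k R := ψ.hom.toAlgebra
  have hT' : IsReduced (pullback (Spec.map (CommRingCat.ofHom (algebraMap k R)))
    (Spec.map (CommRingCat.ofHom (algebraMap k (Tw k))))) := hT
  have h2 : IsReduced (Spec (CommRingCat.of (R ⊗[k] Tw k))) :=
    isReduced_of_isOpenImmersion (pullbackSpecIso k R (Tw k)).inv
  have : _root_.IsReduced (R ⊗[k] Tw k) := (affine_isReduced_iff _).mp h2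
  have : _root_.IsReduced (Tw k ⊗[k] R) :=
    isReduced_of_injective (Algebra.TensorProduct.comm k (Tw k) R) (AlgEquiv.injective _)
  have hroot : ∀ c : k, ∃ β : Tw k, β ^ p = algebraMap k (Tw k) c := fun (c : k) =>
    ⟨(id c : k), rfl⟩
  have := isReduced_tensor (k := k) (A := R) p
    (fun v hv => linearIndependent_pow p (Tw k) hroot v hv) K
  have : _root_.IsReduced (R ⊗[k] K) :=
    isReduced_of_injective (Algebra.TensorProduct.comm k R K) (AlgEquiv.injective _)
  have : IsReduced (Spec (CommRingCat.of (R ⊗[k] K))) := (affine_isReduced_iff _).mpr this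
  exact isReduced_of_isOpenImmersion (pullbackSpecIso k R K).hom

/-- If the Frobenius twist of `X` is reduced, so is every base change to a field. -/
theorem geometricallyReduced_of_twist [CharP k p] {X : Scheme.{u}}
    (f : X ⟶ Spec (CommRingCat.of k))
    [IsReduced (pullback f (Spec.map (CommRingCat.ofHom (frobenius k p))))] :
    GeometricallyReduced f := by
  let F := Spec.map (CommRingCat.ofHom (frobenius k p))
  refine ⟨?_⟩
  rw [geometrically_iff_of_isClosedUnderIsomorphisms]
  intro K _ σ
  obtain ⟨φ, rfl⟩ := Spec.map_surjective σ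
  have key : ∀ i : X.affineCover.I₀,
      IsReduced (pullback (X.affineCover.f i ≫ f) (Spec.map φ)) := by
    intro i
    have ho : IsOpenImmersion (pullback.map (X.affineCover.f i ≫ f) F f F (X.affineCover.f i) (𝟙 _)
        (𝟙 _) (by simp) (by simp)) :=
      (Scheme.Pullback.openCoverOfLeft X.affineCover f F).map_prop i
    have hT : IsReduced (pullback (X.affineCover.f i ≫ f) F) :=
      isReduced_of_isOpenImmersion (pullback.map (X.affineCover.f i ≫ f) F f F (X.affineCover.f i)
        (𝟙 _) (𝟙 _) _ _)
    exact @isReduced_pullback_specMap k _ p _ _ _ (X.affineCover.f i ≫ f) K _ φ hT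
  exact @IsReduced.of_openCover _ (Scheme.Pullback.openCoverOfLeft X.affineCover f (Spec.map φ)) key

end Groth.Agent.Lib.H58GeomRedTwist
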