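import Groth.Agent.Lib.PBasis.Cartier
import Mathlib.RingTheory.LaurentSeries
import Mathlib.RingTheory.PowerSeries.Expand

/-!
# Degree of imperfection of finitely generated extensions of `k((t))`, `k` perfect
-/

set_option autoImplicit false
set_option linter.unusedSectionVars false
set_option linter.style.haveILetI false
set_option linter.unusedSimpArgs false
universe u

open EGA41

namespace Groth.Agent.Lib.H58Imperfection

section field

variable (p : ℕ) [Fact p.Prime] (k : Type u) [Field k] [CharP k p] [PerfectRing k p]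
variable (F : Type u) [Field F] [Algebra k F] [CharP F p]

include p in
theorem bijective_kaehler_map : Function.Bijective (KaehlerDifferential.map ℤ k F F) := by
  refine ⟨?_, KaehlerDifferential.map_surjective ℤ k F⟩
  have h0 : Subsingleton (Ω[k⁄ℤ]) := by
    refine subsingleton_of_forall_eq 0 fun w => ?_
    have hw : w ∈ Submodule.span k (Set.range (KaehlerDifferential.D ℤ k)) := by
      rw [KaehlerDifferential.span_range_derivation]; exact Submodule.mem_top
    refine Submodule.span_induction ?_ rfl (fun a b _ _ ha hb => by rw [ha, hb, add_zero])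
      (fun a b _ hb => by rw [hb, smul_zero]) hw
    rintro _ ⟨a, rfl⟩
    obtain ⟨b, rfl⟩ := (PerfectRing.bijective_frobenius (R := k) (p := p)).2 a
    rw [Derivation.leibniz_pow, ← Nat.cast_smul_eq_nsmul k, CharP.cast_eq_zero, zero_smul]
  rw [← LinearMap.ker_eq_bot, ← KaehlerDifferential.range_mapBaseChange ℤ k F, LinearMap.range_eq_bot]
  refine TensorProduct.AlgebraTensorModule.ext fun x w => ?_
  rw [Subsingleton.elim w 0]
  simp

/-- `[F : F^p] = p ^ dim Ω`. -/
theorem finrank_frobenius_range [Module.Finite F (Ω[F⁄k])] :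
    Module.finrank (↥(frobenius F p).fieldRange) F = p ^ Module.finrank F (Ω[F⁄k]) := by
  classical
  obtain ⟨B, hB⟩ := PBasis.Separable.exists_pBasis' (k := F) p k
  obtain ⟨bΩ, -⟩ := PBasis.Deriv.exists_basis_kaehler hB
  haveI : Finite B := Module.Finite.finite_basis bΩ
  haveI := Fintype.ofFinite B
  have hmem : ∀ y : F, y ∈ pPowerSubalgebra p k F ↔ y ∈ (frobenius F p).fieldRange := fun y => by
    rw [PBasis.Separable.mem_pPower_iff p k, RingHom.mem_fieldRange]
    rfl
  let e : pPowerSubalgebra p k F ≃+* (frobenius F p).fieldRange :=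
    { toFun := fun y => ⟨y, (hmem y).1 y.2⟩
      invFun := fun y => ⟨y, (hmem y).2 y.2⟩
      left_inv := fun y => rfl
      right_inv := fun y => rfl
      map_mul' := fun a b => rfl
      map_add' := fun a b => rfl }
  rw [← Algebra.finrank_eq_of_equiv_equiv (R₀ := pPowerSubalgebra p k F) (S₀ := F) e (RingEquiv.refl F) rfl,
    Module.finrank_eq_nat_card_basis bΩ]
  let bF : Module.Basis (PBasis.Basic.Exp p B) (pPowerSubalgebra p k F) F := Module.Basis.mk hB.1 hB.2.ge
  rw [Module.finrank_eq_nat_card_basis bF]
  let eq : PBasis.Basic.Exp p B ≃ (B → Fin p) :=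
    { toFun := fun f i => ⟨f.1 i, f.2 i⟩
      invFun := fun g => ⟨Finsupp.equivFunOnFinite.symm fun i => (g i : ℕ), fun i => (g i).2⟩
      left_inv := fun f => Subtype.ext (Finsupp.ext fun i => rfl)
      right_inv := fun g => funext fun i => rfl }
  rw [Nat.card_congr eq, Nat.card_fun, Nat.card_fin]

end field

section laurent

variable (p : ℕ) [Fact p.Prime] (k : Type u) [Field k] [CharP k p] [PerfectRing k p]
  [CharP (LaurentSeries k) p]

omit [CharP (LaurentSeries k) p] in
theorem exists_eq_sum_pow_mul_X (f : PowerSeries k) :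
    ∃ g : ℕ → PowerSeries k, f = ∑ i ∈ Finset.range p, g i ^ p * PowerSeries.X ^ i := by
  classical
  have hp := (Fact.out : p.Prime)
  let g : ℕ → PowerSeries k := fun i =>
    PowerSeries.mk fun n => (frobeniusEquiv k p).symm (PowerSeries.coeff (p * n + i) f)
  have hg : ∀ i m, PowerSeries.coeff m (g i ^ p) =
      if p ∣ m then PowerSeries.coeff (m + i) f else 0 := by
    intro i m
    have h : (PowerSeries.expand p hp.ne_zero (g i)).map (frobenius k p) = g i ^ p :=
      MvPowerSeries.map_frobenius_expand p hp.ne_zero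
    rw [← h, PowerSeries.coeff_map, PowerSeries.coeff_expand]
    split_ifs with hd
    · obtain ⟨c, rfl⟩ := hd
      simp [g, Nat.mul_div_cancel_left _ hp.pos, frobenius_apply_frobeniusEquiv_symm]
    · simp
  refine ⟨g, ?_⟩
  ext m
  rw [map_sum, Finset.sum_eq_single (m % p)]
  · rw [PowerSeries.coeff_mul_X_pow', if_pos (Nat.mod_le _ _), hg, if_pos (Nat.dvd_sub_mod m),
      Nat.sub_add_cancel (Nat.mod_le _ _)]
  · intro i hi hne
    rw [PowerSeries.coeff_mul_X_pow']
    split_ifs with him
    · rw [hg, if_neg]
      intro hd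
      apply hne
      have : m % p = i % p := (Nat.modEq_iff_dvd' him).2 hd |>.symm
      rw [this, Nat.mod_eq_of_lt (Finset.mem_range.1 hi)]
    · rfl
  · intro h
    exact absurd (Finset.mem_range.2 (Nat.mod_lt _ hp.pos)) h

include p in
theorem kaehler_laurent :
    Module.Finite (LaurentSeries k) (Ω[LaurentSeries k⁄k]) ∧
      Module.finrank (LaurentSeries k) (Ω[LaurentSeries k⁄k]) = 1 := by
  classical
  set L := LaurentSeries k
  let t : L := algebraMap (PowerSeries k) L PowerSeries.X
  let N : Submodule L (Ω[L⁄k]) := Submodule.span L {KaehlerDifferential.D k L t}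
  have hN : ∀ a : PowerSeries k, KaehlerDifferential.D k L (algebraMap (PowerSeries k) L a) ∈ N := by
    intro a
    obtain ⟨g, rfl⟩ := exists_eq_sum_pow_mul_X p k a
    rw [map_sum, map_sum]
    refine sum_mem fun i _ => ?_
    rw [map_mul, map_pow, map_pow, Derivation.leibniz, PBasis.Deriv.derivation_pow_eq_zero (A := k) (p := p),
      smul_zero, add_zero, Derivation.leibniz_pow, ← Nat.cast_smul_eq_nsmul L, smul_smul, smul_smul]
    exact N.smul_mem _ (Submodule.mem_span_singleton_self _)
  have htop : N = ⊤ := by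
    refine top_le_iff.1 ?_
    rw [← KaehlerDifferential.span_range_derivation k L, Submodule.span_le]
    rintro _ ⟨z, rfl⟩
    obtain ⟨a, b, hb, rfl⟩ := IsFractionRing.div_surjective (A := PowerSeries k) z
    rw [SetLike.mem_coe, Derivation.leibniz_div]
    exact N.smul_mem _ (N.sub_mem (N.smul_mem _ (hN a)) (N.smul_mem _ (hN b)))
  haveI hfin : Module.Finite L (Ω[L⁄k]) := Module.Finite.of_fg_top (htop ▸ Submodule.fg_span_singleton _)
  refine ⟨hfin, ?_⟩
  have hle : Module.finrank L (Ω[L⁄k]) ≤ 1 :=
    finrank_le_one _ fun w => Submodule.mem_span_singleton.1 (show w ∈ N by rw [htop]; exact Submodule.mem_top)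
  rcases Nat.le_one_iff_eq_zero_or_eq_one.1 hle with h | h
  · exfalso
    have h1 := finrank_frobenius_range p k L
    rw [h, pow_zero] at h1
    have h2 : (frobenius L p).fieldRange = ⊤ := by
      refine top_le_iff.1 fun z _ => ?_
      obtain ⟨c, hc⟩ := (finrank_eq_one_iff_of_nonzero' (K := (frobenius L p).fieldRange) (1 : L) one_ne_zero).1 h1 z
      rw [← hc, Subfield.smul_def, smul_eq_mul, mul_one]
      exact c.2
    obtain ⟨g, hg⟩ := RingHom.mem_fieldRange.1 (show t ∈ (frobenius L p).fieldRange by rw [h2]; trivial)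
    rw [frobenius_def] at hg
    have h3 := congrArg HahnSeries.order hg
    have hg0 : g ≠ 0 := by
      rintro rfl
      rw [zero_pow (Fact.out : p.Prime).ne_zero] at hg
      exact (map_ne_zero_iff (algebraMap (PowerSeries k) L) (IsFractionRing.injective _ _)).2
        PowerSeries.X_ne_zero hg.symm
    rw [HahnSeries.order_pow, show t = HahnSeries.single (1 : ℤ) (1 : k) by
      simp only [t, LaurentSeries.coe_algebraMap]; exact HahnSeries.ofPowerSeries_X,
      HahnSeries.order_single one_ne_zero, nsmul_eq_mul] at h3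
    have h4 : (p : ℤ) ∣ 1 := ⟨_, h3.symm⟩
    exact (Fact.out : p.Prime).ne_one (Nat.eq_one_of_dvd_one (by exact_mod_cast h4))
  · exact h

end laurent

theorem finrank_eq_of_finrank_kaehler (p : ℕ) [Fact p.Prime] (k : Type u) [Field k] [CharP k p] [PerfectRing k p]
    (L : Type u) [Field L] [Algebra k L] [CharP L p] [Module.Finite L (Ω[L⁄k])]
    (hrank : Module.finrank L (Ω[L⁄k]) = 1)
    (K : Type u) [Field K] [Algebra L K] [CharP K p] [Algebra k K]
    [Algebra.EssFiniteType L K] (d : ℕ) (hd : Algebra.trdeg L K = d) :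
    Module.finrank (↥(frobenius K p).fieldRange) K = p ^ (d + 1) := by
  let eL := LinearEquiv.ofBijective _ (bijective_kaehler_map p k L)
  haveI : Module.Finite L (Ω[L⁄ℤ]) := Module.Finite.equiv eL.symm
  have hrL : Module.finrank L (Ω[L⁄ℤ]) = 1 := eL.finrank_eq.trans hrank
  have hidx := PBasis.Cartier.hasIndex_trdeg (K := L) (L := K)
  rw [hd, Cardinal.toNat_natCast] at hidx
  set f := KaehlerDifferential.mapBaseChange ℤ L K with hf
  obtain ⟨hker, hcok, hind⟩ : PBasis.Cartier.Good f (-(d : ℤ)) := hidx
  haveI : Module.Finite K (Ω[K⁄ℤ]) := Module.Finite.of_submodule_quotient (LinearMap.range f)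
  rw [LinearMap.index_eq_finrank_sub] at hind
  have h1 := f.finrank_range_add_finrank_ker
  have h2 := (LinearMap.range f).finrank_quotient_add_finrank
  rw [Module.finrank_baseChange, hrL] at h1
  let eK := LinearEquiv.ofBijective _ (bijective_kaehler_map p k K)
  haveI : Module.Finite K (Ω[K⁄k]) := Module.Finite.equiv eK
  rw [finrank_frobenius_range p k K, ← eK.finrank_eq]
  congr 1
  omega

theorem finrank_eq_of_fg (p : ℕ) [Fact p.Prime] (k : Type u) [Field k] [CharP k p] [PerfectRing k p]
    (K : Type u) [Field K] [Algebra (LaurentSeries k) K] [CharP K p]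
    [Algebra.EssFiniteType (LaurentSeries k) K] (d : ℕ)
    (hd : Algebra.trdeg (LaurentSeries k) K = d) :
    Module.finrank (↥(frobenius K p).fieldRange) K = p ^ (d + 1) := by
  have : CharP (LaurentSeries k) p :=
    RingHom.charP (algebraMap (LaurentSeries k) K) (algebraMap (LaurentSeries k) K).injective p
  letI : Algebra k K := ((algebraMap (LaurentSeries k) K).comp (algebraMap k (LaurentSeries k))).toAlgebra
  obtain ⟨hfin, hrank⟩ := kaehler_laurent p k
  exact finrank_eq_of_finrank_kaehler p k (LaurentSeries k) hrank K d hd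

end Groth.Agent.Lib.H58Imperfection
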