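import Mathlib.FieldTheory.IsPerfectClosure
import Mathlib.RingTheory.FinitePresentation
import Mathlib.Algebra.Category.Ring.Under.Basic
import Mathlib.CategoryTheory.Presentable.Finite
import Mathlib.CategoryTheory.ObjectProperty.FullSubcategory

/-!
# Finitely presentable perfect algebras are perfectly finitely presented
-/

set_option autoImplicit false
set_option linter.style.haveILetI false
set_option linter.unusedSectionVars false
universe u

open CategoryTheory Limits

namespace Groth.Agent.Lib.H58PerfFP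

variable (p : ℕ) [Fact p.Prime] (B : CommRingCat.{u})

/-- The defining property of perfect `B`-algebras. -/
abbrev IsPerf : ObjectProperty (Under B) :=
  fun Y : Under B => (p : Y.right) = 0 ∧ Function.Bijective fun y : Y.right => y ^ p

variable {p B}

theorem pow_pow_injective {R : Type u} [CommRing R] (hb : Function.Bijective fun y : R => y ^ p) (n : ℕ) :
    Function.Injective fun y : R => y ^ p ^ n := by
  induction n with
  | zero => simp [Function.Injective]
  | succ n ih =>
    intro a b h
    simp only [pow_succ, pow_mul] at h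
    exact ih (hb.1 h)

theorem pow_pow_surjective {R : Type u} [CommRing R] (hb : Function.Bijective fun y : R => y ^ p) (n : ℕ) :
    Function.Surjective fun y : R => y ^ p ^ n := by
  induction n with
  | zero => exact fun y => ⟨y, by simp⟩
  | succ n ih =>
    intro a
    obtain ⟨b, rfl⟩ := hb.2 a
    obtain ⟨c, rfl⟩ := ih b
    exact ⟨c, by simp [pow_succ, pow_mul]⟩

/-- The perfect `B`-algebra attached to an algebra. -/
abbrev obj (P : Type u) [CommRing P] [Algebra B P] (h0 : (p : P) = 0)
    (hb : Function.Bijective fun y : P => y ^ p) : (IsPerf p B).FullSubcategory :=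
  ⟨Under.mk (CommRingCat.ofHom (algebraMap B P)), h0, hb⟩

/-- The elements some `p ^ n`-th power of which lies in the subalgebra generated by a set. -/
def perfHull {R : Type u} [CommRing R] [Algebra B R] [CharP R p] (S : Set R) : Subalgebra B R where
  carrier := {a | ∃ n, a ^ p ^ n ∈ Algebra.adjoin B S}
  mul_mem' := fun {a b} ⟨n, hn⟩ ⟨m, hm⟩ => ⟨n + m, by
    rw [mul_pow]
    nth_rewrite 1 [pow_add]
    rw [pow_mul, add_comm n m, pow_add, pow_mul]
    exact mul_mem (Subalgebra.pow_mem _ hn _) (Subalgebra.pow_mem _ hm _)⟩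
  add_mem' := fun {a b} ⟨n, hn⟩ ⟨m, hm⟩ => ⟨n + m, by
    rw [add_pow_char_pow]
    nth_rewrite 1 [pow_add]
    rw [pow_mul, add_comm n m, pow_add, pow_mul]
    exact add_mem (Subalgebra.pow_mem _ hn _) (Subalgebra.pow_mem _ hm _)⟩
  algebraMap_mem' := fun r => ⟨0, by
    rw [pow_zero, pow_one]
    exact Subalgebra.algebraMap_mem _ r⟩

theorem perfHull_natCast {R : Type u} [CommRing R] [Algebra B R] [CharP R p] (S : Set R) :
    (p : perfHull (p := p) (B := B) S) = 0 :=
  Subtype.ext ((map_natCast (perfHull (p := p) (B := B) S).val p).trans (CharP.cast_eq_zero R p))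

theorem perfHull_bijective {R : Type u} [CommRing R] [Algebra B R] [CharP R p]
    (hb : Function.Bijective fun y : R => y ^ p) (S : Set R) :
    Function.Bijective fun y : perfHull (p := p) (B := B) S => y ^ p :=
  ⟨fun a b h => Subtype.ext (hb.1 (congrArg Subtype.val h)), fun a => by
    obtain ⟨c, hc⟩ := hb.2 a.1
    obtain ⟨n, hn⟩ := a.2
    exact ⟨⟨c, n + 1, by rw [pow_succ', pow_mul]; rwa [show c ^ p = a.1 from hc]⟩, Subtype.ext hc⟩⟩

theorem perfHull_mono {R : Type u} [CommRing R] [Algebra B R] [CharP R p] {S T : Set R} (h : S ⊆ T) :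
    perfHull (p := p) (B := B) S ≤ perfHull (p := p) (B := B) T :=
  fun _ ⟨n, hn⟩ => ⟨n, Algebra.adjoin_mono h hn⟩

variable (R : Type u) [CommRing R] [Algebra B R] (h0 : (p : R) = 0)
  (hb : Function.Bijective fun y : R => y ^ p) [IsFinitelyPresentable.{u} (obj (p := p) (B := B) R h0 hb)]
include h0 hb

/-- A finitely presentable object factors through a stage of a directed presentation. -/
theorem exists_section {J : Type u} [Preorder J] [IsDirectedOrder J] [Nonempty J]
    (P : J → Type u) [∀ j, CommRing (P j)] [∀ j, Algebra B (P j)]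
    (h0' : ∀ j, (p : P j) = 0) (hb' : ∀ j, Function.Bijective fun y : P j => y ^ p)
    (t : ∀ {i j : J}, i ≤ j → P i →+* P j) (htB : ∀ {i j : J} (h : i ≤ j) (b : B), t h (algebraMap B (P i) b) = algebraMap B (P j) b)
    (htid : ∀ (j : J) (h : j ≤ j) (x : P j), t h x = x)
    (htcomp : ∀ {i j l : J} (h : i ≤ j) (h' : j ≤ l) (x : P i), t h' (t h x) = t (h.trans h') x)
    (π : ∀ j, P j →+* R) (hπB : ∀ j (b : B), π j (algebraMap B (P j) b) = algebraMap B R b)
    (hπt : ∀ {i j : J} (h : i ≤ j) (x : P i), π j (t h x) = π i x)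
    (hsurj : ∀ a, ∃ j x, π j x = a) (hinj : ∀ j x, π j x = 0 → ∃ (l : J) (h : j ≤ l), t h x = 0) :
    ∃ (j : J) (s : R →+* P j), (∀ a, π j (s a) = a) ∧ ∀ b : B, s (algebraMap B R b) = algebraMap B (P j) b := by
  classical
  let D : J ⥤ (IsPerf p B).FullSubcategory :=
    { obj := fun j => obj (P j) (h0' j) (hb' j)
      map := fun {i j} f => ObjectProperty.homMk (Under.homMk (CommRingCat.ofHom (t f.le))
        (by ext b; exact htB f.le b))
      map_id := fun j => by
        apply ObjectProperty.hom_ext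
        apply Under.UnderMorphism.ext
        ext x
        exact htid j _ x
      map_comp := fun {i j l} f g => by
        apply ObjectProperty.hom_ext
        apply Under.UnderMorphism.ext
        ext x
        exact (htcomp f.le g.le x).symm }
  let c : Cocone D :=
    { pt := obj (p := p) (B := B) R h0 hb
      ι :=
        { app := fun j => ObjectProperty.homMk (Under.homMk (CommRingCat.ofHom (π j))
            (by ext b; exact hπB j b))
          naturality := fun i j f => by
            apply ObjectProperty.hom_ext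
            apply Under.UnderMorphism.ext
            ext x
            exact hπt f.le x } }
  choose J0 X0 hX0 using hsurj
  have hwd : ∀ (e : Cocone D) {i j : J} (x : P i) (y : P j), π i x = π j y →
      (e.ι.app i).hom.right x = (e.ι.app j).hom.right y := by
    intro e i j x y hxy
    obtain ⟨m, him, hjm⟩ := exists_ge_ge i j
    obtain ⟨l, hml, hl⟩ := hinj m (t him x - t hjm y) (by rw [map_sub, hπt, hπt, hxy, sub_self])
    rw [map_sub, htcomp, htcomp, sub_eq_zero] at hl
    have e1 : ∀ {a b : J} (h : a ≤ b) (z : P a), (e.ι.app b).hom.right (t h z) = (e.ι.app a).hom.right z := by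
      intro a b h z
      exact congr($(e.w (homOfLE h)).hom.right z)
    rw [← e1 (him.trans hml) x, hl, e1]
  have hc : IsColimit c :=
    { desc := fun e => ObjectProperty.homMk (Under.homMk (CommRingCat.ofHom
        { toFun := fun a => (e.ι.app (J0 a)).hom.right (X0 a)
          map_one' := by rw [hwd e (X0 1) (1 : P (J0 1)) (by rw [hX0, map_one]), map_one]
          map_zero' := by rw [hwd e (X0 0) (0 : P (J0 0)) (by rw [hX0, map_zero]), map_zero]
          map_mul' := fun a b => by
            obtain ⟨m, ha, hc⟩ := exists_ge_ge (J0 a) (J0 b)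
            rw [hwd e (X0 (a * b)) (t ha (X0 a) * t hc (X0 b)) (by rw [hX0, map_mul, hπt, hπt, hX0, hX0]),
              map_mul, hwd e (X0 a) (t ha (X0 a)) (hπt ha _).symm, hwd e (X0 b) (t hc (X0 b)) (hπt hc _).symm]
          map_add' := fun a b => by
            obtain ⟨m, ha, hc⟩ := exists_ge_ge (J0 a) (J0 b)
            rw [hwd e (X0 (a + b)) (t ha (X0 a) + t hc (X0 b)) (by rw [hX0, map_add, hπt, hπt, hX0, hX0]),
              map_add, hwd e (X0 a) (t ha (X0 a)) (hπt ha _).symm, hwd e (X0 b) (t hc (X0 b)) (hπt hc _).symm] })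
        (by
          ext b
          obtain ⟨j⟩ := ‹Nonempty J›
          exact (hwd e (X0 (algebraMap B R b)) (algebraMap B (P j) b) (by rw [hX0, hπB])).trans
            congr($(Under.w (e.ι.app j).hom) b)))
      fac := fun e j => by
        apply ObjectProperty.hom_ext
        apply Under.UnderMorphism.ext
        ext x
        exact hwd e _ x (hX0 _)
      uniq := fun e m hm => by
        apply ObjectProperty.hom_ext
        apply Under.UnderMorphism.ext
        ext a
        change m.hom.right a = (e.ι.app (J0 a)).hom.right (X0 a)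
        conv_lhs => rw [← hX0 a]
        exact congr($(hm (J0 a)).hom.right (X0 a)) }
  obtain ⟨j, q, hq⟩ := IsFinitelyPresentable.exists_hom_of_isColimit hc (𝟙 (obj (p := p) (B := B) R h0 hb))
  exact ⟨j, q.hom.right.hom, fun a => congr($(hq).hom.right a), fun b => congr($(Under.w q.hom) b)⟩

variable [CharP B p] [PerfectRing B p]

/-- A directed cover by perfect subalgebras contains everything at some stage. -/
theorem exists_stage_eq_top {J : Type u} [Preorder J] [IsDirectedOrder J] [Nonempty J]
    (P : J → Subalgebra B R) (hmono : ∀ {i j}, i ≤ j → P i ≤ P j) (h0' : ∀ j, (p : P j) = 0)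
    (hb' : ∀ j, Function.Bijective fun y : P j => y ^ p) (hcov : ∀ a, ∃ j, a ∈ P j) :
    ∃ j, ∀ a, a ∈ P j := by
  obtain ⟨j, s, hs, -⟩ := exists_section (p := p) (B := B) R h0 hb (fun j => ↥(P j)) h0' hb'
    (fun h => (Subalgebra.inclusion (hmono h)).toRingHom) (fun h b => rfl) (fun j h x => rfl)
    (fun h h' x => rfl) (fun j => (P j).val.toRingHom) (fun j b => rfl) (fun h x => rfl)
    (fun a => let ⟨j, hj⟩ := hcov a; ⟨j, ⟨a, hj⟩, rfl⟩) (fun j x hx => ⟨j, le_rfl, Subtype.ext hx⟩)
  exact ⟨j, fun a => hs a ▸ (s a).2⟩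

/-- A finitely presentable perfect algebra is perfectly generated by finitely many elements. -/
theorem exists_generators :
    ∃ S : Finset R, ∀ a : R, ∃ n, a ^ p ^ n ∈ (MvPolynomial.aeval (fun s : S => (s : R)) :
        MvPolynomial S B →ₐ[B] R).range := by
  classical
  rcases subsingleton_or_nontrivial R with hs | hn
  · exact ⟨∅, fun a => ⟨0, by rw [Subsingleton.elim (a ^ p ^ 0) 0]; exact zero_mem _⟩⟩
  haveI : CharP R p := (CharP.charP_iff_prime_eq_zero (Fact.out : p.Prime)).2 h0
  obtain ⟨S, hS⟩ := exists_stage_eq_top (p := p) (B := B) R h0 hb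
    (fun S : Finset R => perfHull (p := p) (B := B) (S : Set R))
    (fun h => perfHull_mono (Finset.coe_subset.2 h)) (fun S => perfHull_natCast _) (fun S => perfHull_bijective hb _)
    (fun a => ⟨{a}, 0, by rw [pow_zero, pow_one, Finset.coe_singleton]; exact Algebra.self_mem_adjoin_singleton _ _⟩)
  refine ⟨S, fun a => ?_⟩
  obtain ⟨n, hn⟩ := hS a
  refine ⟨n, ?_⟩
  rw [← Algebra.adjoin_range_eq_range_aeval, Subtype.range_coe_subtype]
  exact hn

/-- Main result. -/
theorem exists_model :
    ∃ (A₀ : Type u) (_ : CommRing A₀) (_ : Algebra B A₀) (_ : Algebra.FinitePresentation B A₀)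
      (k : A₀ →+* R), k.comp (algebraMap B A₀) = (algebraMap B R) ∧ IsPRadical k p := by
  classical
  obtain ⟨S, hS⟩ := exists_generators (p := p) (B := B) R h0 hb
  have hp := (Fact.out : p.Prime)
  let M := MvPolynomial S B
  let φ : M →ₐ[B] R := MvPolynomial.aeval fun s : S => (s : R)
  have hpow : ∀ a : R, ∃ (n : ℕ) (g : M), φ g = a ^ p ^ n := fun a => hS a
  rcases subsingleton_or_nontrivial R with hsub | hn
  · haveI : Algebra.FinitePresentation B (B ⧸ (⊤ : Ideal B)) :=
      Algebra.FinitePresentation.quotient ⟨{1}, by simp⟩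
    refine ⟨B ⧸ (⊤ : Ideal B), inferInstance, inferInstance, inferInstance,
      Ideal.Quotient.lift ⊤ (algebraMap B R) (fun _ _ => Subsingleton.elim _ _), RingHom.ext fun _ => rfl,
      ⟨fun x => ⟨0, 0, Subsingleton.elim _ _⟩, fun x _ => ?_⟩⟩
    exact mem_pNilradical.2 ⟨0, Subsingleton.elim _ _⟩
  haveI : CharP R p := (CharP.charP_iff_prime_eq_zero hp).2 h0
  haveI : PerfectRing R p := ⟨hb⟩
  let I : Finset (RingHom.ker φ) → Ideal M := fun T => Ideal.span ((↑) '' (T : Set (RingHom.ker φ)))
  have hI : ∀ T, I T ≤ RingHom.ker φ := fun T => Ideal.span_le.2 (by rintro _ ⟨x, -, rfl⟩; exact x.2)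
  let e : ∀ T, (M ⧸ I T) →ₐ[B] R := fun T => Ideal.Quotient.liftₐ (I T) φ (fun x hx => hI T hx)
  haveI hchar : ∀ T, CharP (M ⧸ I T) p := fun T => by
    have : Nontrivial (M ⧸ I T) := (e T).toRingHom.domain_nontrivial
    rw [CharP.charP_iff_prime_eq_zero hp, ← map_natCast (algebraMap B (M ⧸ I T)), CharP.cast_eq_zero, map_zero]
  letI alg : ∀ T, Algebra B (PerfectClosure (M ⧸ I T) p) := fun T =>
    ((PerfectClosure.of (M ⧸ I T) p).comp (algebraMap B (M ⧸ I T))).toAlgebra
  let π : ∀ T, PerfectClosure (M ⧸ I T) p →+* R := fun T =>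
    PerfectClosure.lift (M ⧸ I T) p R (e T).toRingHom
  have hπof : ∀ T x, π T (PerfectClosure.of (M ⧸ I T) p x) = e T x := fun T x =>
    RingHom.congr_fun ((PerfectClosure.lift (M ⧸ I T) p R).symm_apply_apply (e T).toRingHom) x
  have hImono : ∀ {T U : Finset (RingHom.ker φ)}, T ≤ U → I T ≤ I U := fun h =>
    Ideal.span_mono (Set.image_mono (by exact_mod_cast h))
  let t : ∀ {T U : Finset (RingHom.ker φ)}, T ≤ U → PerfectClosure (M ⧸ I T) p →+* PerfectClosure (M ⧸ I U) p :=
    fun {T U} h => PerfectClosure.lift (M ⧸ I T) p _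
      ((PerfectClosure.of (M ⧸ I U) p).comp (Ideal.Quotient.factor (hImono h)))
  have htof : ∀ {T U : Finset (RingHom.ker φ)} (h : T ≤ U) (g : M),
      t h (PerfectClosure.of (M ⧸ I T) p (Ideal.Quotient.mk _ g)) = PerfectClosure.of (M ⧸ I U) p (Ideal.Quotient.mk _ g) :=
    fun {T U} h g => RingHom.congr_fun ((PerfectClosure.lift (M ⧸ I T) p (PerfectClosure (M ⧸ I U) p)).symm_apply_apply
      ((PerfectClosure.of (M ⧸ I U) p).comp (Ideal.Quotient.factor (hImono h)))) _
  have hrep : ∀ T (x : PerfectClosure (M ⧸ I T) p), ∃ (n : ℕ) (g : M),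
      PerfectClosure.of (M ⧸ I T) p (Ideal.Quotient.mk _ g) = x ^ p ^ n := by
    intro T x
    obtain ⟨⟨n, r⟩, rfl⟩ := PerfectClosure.mk_surjective _ _ x
    obtain ⟨g, rfl⟩ := Ideal.Quotient.mk_surjective r
    exact ⟨n, g, by rw [← PerfectClosure.iterate_frobenius_mk, iterate_frobenius]⟩
  have hinjpow : ∀ T (n : ℕ), Function.Injective fun y : PerfectClosure (M ⧸ I T) p => y ^ p ^ n :=
    fun T n => pow_pow_injective (PerfectRing.bijective_frobenius (R := PerfectClosure (M ⧸ I T) p) (p := p)) n
  have hextT : ∀ T {R : Type u} [CommRing R] (_ : Function.Bijective fun y : R => y ^ p)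
      (f f' : PerfectClosure (M ⧸ I T) p →+* R),
      (∀ g, f (PerfectClosure.of _ p (Ideal.Quotient.mk _ g)) = f' (PerfectClosure.of _ p (Ideal.Quotient.mk _ g))) →
      ∀ x, f x = f' x := by
    intro T R _ hR f f' h x
    obtain ⟨n, g, hg⟩ := hrep T x
    apply pow_pow_injective hR n
    change f x ^ p ^ n = f' x ^ p ^ n
    rw [← map_pow, ← map_pow, ← hg, h]
  obtain ⟨T, s, hs, hsB⟩ := exists_section (p := p) (B := B) R h0 hb (fun T => PerfectClosure (M ⧸ I T) p)
    (fun T => CharP.cast_eq_zero _ p) (fun T => PerfectRing.bijective_frobenius)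
    (fun {T U} h => t h)
    (fun {T U} h b => htof h (algebraMap B M b))
    (fun T h x => hextT T PerfectRing.bijective_frobenius (t h) (RingHom.id _) (fun g => htof h g) x)
    (fun {T U V} h h' x => hextT T PerfectRing.bijective_frobenius ((t h').comp (t h)) (t (h.trans h'))
      (fun g => by rw [RingHom.comp_apply, htof h, htof h', htof (h.trans h')]) x)
    π (fun T b => (hπof T _).trans (AlgHom.commutes (e T) b))
    (fun {T U} h x => hextT T hb ((π U).comp (t h)) (π T)
      (fun g => by rw [RingHom.comp_apply, htof h, hπof, hπof]; rfl) x)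
    (fun a => by
      obtain ⟨n, g, hg⟩ := hpow a
      obtain ⟨x, hx⟩ := pow_pow_surjective (PerfectRing.bijective_frobenius (R := PerfectClosure (M ⧸ I ∅) p) (p := p)) n
        (PerfectClosure.of _ p (Ideal.Quotient.mk _ g))
      refine ⟨∅, x, pow_pow_injective hb n ?_⟩
      change π ∅ x ^ p ^ n = a ^ p ^ n
      rw [← map_pow, show x ^ p ^ n = _ from hx, hπof]
      exact hg)
    (fun T x hx => by
      obtain ⟨n, g, hg⟩ := hrep T x
      have hgk : g ∈ RingHom.ker φ := by
        have h1 := hπof T (Ideal.Quotient.mk _ g)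
        rw [hg, map_pow, hx, zero_pow (pow_ne_zero n hp.ne_zero)] at h1
        exact h1.symm
      have hle : T ≤ insert ⟨g, hgk⟩ T := Finset.subset_insert _ _
      refine ⟨insert ⟨g, hgk⟩ T, hle, hinjpow _ n ?_⟩
      have hgm : g ∈ I (insert ⟨g, hgk⟩ T) :=
        Ideal.subset_span (Set.mem_image_of_mem _ (Finset.mem_coe.2 (Finset.mem_insert_self _ _)))
      change t hle x ^ p ^ n = 0 ^ p ^ n
      rw [← map_pow, ← hg, htof hle, zero_pow (pow_ne_zero n hp.ne_zero),
        Ideal.Quotient.eq_zero_iff_mem.2 hgm, map_zero])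
  choose m hm hmh using fun j : S => hrep T (s (φ (MvPolynomial.X j)))
  let rel : S → M := fun j => hm j - MvPolynomial.X j ^ p ^ m j
  let K : Ideal M := I T ⊔ Ideal.span (Set.range rel)
  have hK : K ≤ RingHom.ker φ := sup_le (hI T) (Ideal.span_le.2 (Set.range_subset_iff.2 fun j => by
    rw [SetLike.mem_coe, RingHom.mem_ker, map_sub, map_pow, sub_eq_zero]
    have h1 := congrArg (π T) (hmh j)
    rw [hπof, map_pow, hs] at h1
    exact h1))
  haveI : Algebra.FinitePresentation B (M ⧸ K) := Algebra.FinitePresentation.quotient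
    (Submodule.FG.sup (Submodule.fg_span (T.finite_toSet.image _)) (Submodule.fg_span (Set.finite_range _)))
  let k : (M ⧸ K) →ₐ[B] R := Ideal.Quotient.liftₐ K φ (fun x hx => hK hx)
  refine ⟨M ⧸ K, inferInstance, inferInstance, inferInstance, k.toRingHom, RingHom.ext k.commutes,
    ⟨fun a => ?_, fun x hx => ?_⟩⟩
  · obtain ⟨n, g, hg⟩ := hpow a
    exact ⟨n, Ideal.Quotient.mk K g, hg⟩
  obtain ⟨g, rfl⟩ := Ideal.Quotient.mk_surjective x
  have hg0 : φ g = 0 := hx
  have : Nontrivial (M ⧸ K) := k.toRingHom.domain_nontrivial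
  haveI : CharP (M ⧸ K) p := by
    rw [CharP.charP_iff_prime_eq_zero hp, ← map_natCast (algebraMap B (M ⧸ K)), CharP.cast_eq_zero, map_zero]
  let q : PerfectClosure (M ⧸ I T) p →+* PerfectClosure (M ⧸ K) p := PerfectClosure.lift (M ⧸ I T) p _
    ((PerfectClosure.of (M ⧸ K) p).comp (Ideal.Quotient.factor (le_sup_left : I T ≤ K)))
  have hqof : ∀ g : M, q (PerfectClosure.of _ p (Ideal.Quotient.mk _ g)) = PerfectClosure.of (M ⧸ K) p (Ideal.Quotient.mk K g) :=
    fun g => RingHom.congr_fun ((PerfectClosure.lift (M ⧸ I T) p (PerfectClosure (M ⧸ K) p)).symm_apply_apply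
      ((PerfectClosure.of (M ⧸ K) p).comp (Ideal.Quotient.factor (le_sup_left : I T ≤ K)))) _
  have hF : ((q.comp s).comp φ.toRingHom) = (PerfectClosure.of (M ⧸ K) p).comp (Ideal.Quotient.mk K) := by
    refine MvPolynomial.ringHom_ext (fun b => ?_) (fun j => ?_)
    · simp only [RingHom.comp_apply, AlgHom.toRingHom_eq_coe, RingHom.coe_coe]
      rw [show φ (MvPolynomial.C b) = algebraMap B R b from φ.commutes b, hsB]
      exact hqof _
    · apply pow_pow_injective (PerfectRing.bijective_frobenius (R := PerfectClosure (M ⧸ K) p) (p := p)) (m j)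
      change (q (s (φ (MvPolynomial.X j)))) ^ p ^ m j = PerfectClosure.of (M ⧸ K) p (Ideal.Quotient.mk K (MvPolynomial.X j)) ^ p ^ m j
      rw [← map_pow, ← hmh j, hqof, ← map_pow, ← map_pow]
      congr 1
      exact (Ideal.Quotient.mk_eq_mk_iff_sub_mem _ _).2 (Submodule.mem_sup_right (Ideal.subset_span ⟨j, rfl⟩))
  have h1 := RingHom.congr_fun hF g
  simp only [RingHom.comp_apply, AlgHom.toRingHom_eq_coe, RingHom.coe_coe, hg0, map_zero] at h1
  rw [PerfectClosure.of_apply, PerfectClosure.zero_def, PerfectClosure.mk_eq_iff] at h1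
  obtain ⟨z, hz⟩ := h1
  rw [iterate_frobenius, iterate_frobenius, zero_pow (pow_ne_zero _ hp.ne_zero)] at hz
  exact mem_pNilradical.2 ⟨0 + z, hz.symm⟩

end Groth.Agent.Lib.H58PerfFP
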