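import Groth.Agent.Lib.W2Lift.Basic
import Mathlib.Algebra.MvPolynomial.PDeriv
import Mathlib.Algebra.MvPolynomial.Basic
import Mathlib.Algebra.Polynomial.Coeff
import Groth.Agent.Lib.W2Lift.Quadric

set_option autoImplicit false
set_option linter.unusedSimpArgs false
universe u

namespace Groth.Agent.Lib.H58QuadricFrob
open Groth.Agent.Lib.W2Lift Groth.Agent.Lib.W2Lift.Quadric
open MvPolynomial
noncomputable section
variable {p : ℕ} [Fact p.Prime]
variable (k : Type u) [Field k] [CharP k p]
open scoped Classical in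

theorem not_isFLiftable [PerfectRing k p] (n : ℕ) (hn : 3 ≤ n) :
    ¬ FrobAlg.IsFLiftable p k (MvPolynomial (Fin n × Fin 2) k ⧸ Ideal.span
      {(∑ i : Fin n, X (i, (0 : Fin 2)) * X (i, (1 : Fin 2)) : MvPolynomial (Fin n × Fin 2) k)}) := by
  obtain ⟨m, rfl⟩ : ∃ m, n = m + 3 := ⟨n - 3, by omega⟩
  set q : MvPolynomial (Fin (m + 3) × Fin 2) k := ∑ i : Fin (m + 3), X (i, (0 : Fin 2)) * X (i, (1 : Fin 2)) with hq
  set mk := Ideal.Quotient.mk (Ideal.span {q}) with hmk
  rintro ⟨B, _, ι, π, Φ, hΦ⟩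
  have h := Basic.isExt_of_isLift k hΦ.toIsLift
  choose T hT using fun v => h.surj (mk (X v))
  obtain ⟨C0, hC⟩ := exists_sum_pow_eq (p := p) (Finset.univ (α := Fin (m + 3)))
    (fun i => (X i : MvPolynomial (Fin (m + 3)) ℤ))
  obtain ⟨c, hc⟩ := h.exists_eq_mul (b := ∑ i, T (i, 0) * T (i, 1)) (by
    simp only [map_sum, map_mul, hT]
    simp only [← map_mul, ← map_sum, hmk, Ideal.Quotient.eq_zero_iff_mem]
    exact Ideal.subset_span rfl)
  choose g hg using fun v => h.exists_eq_mul (b := Φ (T v) - T v ^ p) (by rw [map_sub, hΦ.red, map_pow, sub_self])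
  have hsum : ∑ i, (T (i, 0) * T (i, 1)) ^ p =
      (p : B) * (Φ c - ∑ i, (T (i, 0) ^ p * g (i, 1) + T (i, 1) ^ p * g (i, 0))) := by
    have h1 := congrArg Φ hc
    simp only [map_sum, map_mul, map_natCast] at h1
    have h2 : ∀ i, Φ (T (i, 0)) * Φ (T (i, 1)) =
        (T (i, 0) * T (i, 1)) ^ p + (p : B) * (T (i, 0) ^ p * g (i, 1) + T (i, 1) ^ p * g (i, 0)) := fun i => by
      have e0 := hg (i, 0)
      have e1 := hg (i, 1)
      rw [sub_eq_iff_eq_add] at e0 e1
      have hpp : (p : B) * g (i, 0) * ((p : B) * g (i, 1)) = 0 := h.mul_eq_zero (h.map_p_mul _) (h.map_p_mul _)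
      rw [e0, e1, mul_pow]
      linear_combination hpp
    rw [Finset.sum_congr rfl fun i _ => h2 i, Finset.sum_add_distrib, ← Finset.mul_sum] at h1
    linear_combination h1
  have hzero : π (aeval (fun i => T (i, 0) * T (i, 1)) C0) +
      (π c ^ p - ∑ i, (mk (X (i, (0 : Fin 2))) ^ p * π (g (i, 1)) + mk (X (i, (1 : Fin 2))) ^ p * π (g (i, 0)))) = 0 := by
    have h1 := congrArg (aeval fun i => T (i, 0) * T (i, 1)) hC
    simp only [map_pow, map_sum, map_add, map_mul, map_natCast, aeval_X] at h1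
    have h2 : (∑ i, T (i, 0) * T (i, 1)) ^ p = 0 := by
      rw [← h.pow_congr (x := 0) (y := ∑ i, T (i, 0) * T (i, 1)) (by rw [map_zero, hc, h.map_p_mul]),
        zero_pow (Fact.out : p.Prime).ne_zero]
    rw [h2, hsum, ← mul_add] at h1
    have h3 := (h.ann _).1 h1.symm
    rw [map_add, map_sub, hΦ.red] at h3
    simp only [map_sum, map_add, map_mul, map_pow, hT] at h3
    linear_combination h3
  obtain ⟨c', hc'⟩ := Ideal.Quotient.mk_surjective (π c)
  let ρ := Ideal.Quotient.factor (S := Ideal.span {q}) (T := ideal k p (m + 3))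
    (Ideal.span_le.2 (Set.singleton_subset_iff.2 (Ideal.subset_span (Or.inl rfl))))
  have hρ : ∀ f, ρ (mk f) = Ideal.Quotient.mk (ideal k p (m + 3)) f := fun f => rfl
  have hXp : ∀ v, Ideal.Quotient.mk (ideal k p (m + 3)) (X v) ^ p = 0 := fun v => by
    rw [← map_pow, Ideal.Quotient.eq_zero_iff_mem]; exact Ideal.subset_span (Or.inr ⟨v, rfl⟩)
  have hconst : ∀ f : MvPolynomial (Fin (m + 3) × Fin 2) k, Ideal.Quotient.mk (ideal k p (m + 3)) (f ^ p) =
      Ideal.Quotient.mk (ideal k p (m + 3)) (C (constantCoeff f ^ p)) := by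
    intro f
    induction f using MvPolynomial.induction_on with
    | C a => rw [constantCoeff_C, map_pow (C : k →+* MvPolynomial (Fin (m + 3) × Fin 2) k)]
    | add a b ha hb => rw [add_pow_expChar, map_add, ha, hb, ← map_add, ← map_add, map_add constantCoeff, add_pow_expChar]
    | mul_X a v ha => rw [mul_pow, map_mul, map_pow _ (X v), hXp, mul_zero, map_mul constantCoeff, constantCoeff_X, mul_zero,
        zero_pow (Fact.out : p.Prime).ne_zero, map_zero, map_zero]
  have hmem' : Ideal.Quotient.mk (ideal k p (m + 3))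
      (aeval (fun i => X (i, (0 : Fin 2)) * X (i, 1)) (map (Int.castRingHom k) C0) + C (constantCoeff c' ^ p)) = 0 := by
    have hev : mk (aeval (fun i => X (i, (0 : Fin 2)) * X (i, 1)) (map (Int.castRingHom k) C0)) =
        π (aeval (fun i => T (i, 0) * T (i, 1)) C0) := by
      rw [aeval_def, eval₂_map]
      change ((mk.comp (eval₂Hom _ _)) C0) = ((π.comp (eval₂Hom _ _)) C0)
      congr 1
      exact ringHom_ext (fun a => by simp) (fun i => by simp [hT])
    have h4 := congrArg ρ hzero
    rw [← hev, ← hc'] at h4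
    simp only [map_add, map_sub, map_sum, map_mul, map_pow, map_zero] at h4
    simp only [hρ, hXp, zero_mul, add_zero, Finset.sum_const_zero, sub_zero] at h4
    rw [map_add, ← hconst, map_pow]
    exact h4
  have h0 := functional_balanced_eq_zero k m (Ideal.Quotient.eq_zero_iff_mem.1 hmem')
  rw [map_add, map_add] at h0
  have hC0 : functional (p := p) k (balanced k (m + 3) (C (constantCoeff c' ^ p))) = 0 := by
    rw [show (C (constantCoeff c' ^ p) : MvPolynomial (Fin (m + 3) × Fin 2) k) = aeval (fun i => X (i, (0 : Fin 2)) * X (i, 1))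
      (C (constantCoeff c' ^ p)) by rw [aeval_C, MvPolynomial.algebraMap_eq], balanced_aeval, aeval_C]
    simp [functional, Derivation.coeFn_coe]
  rw [hC0, add_zero] at h0
  rw [balanced_aeval] at h0
  let D : MvPolynomial (Fin 2) ℤ := aeval (vals ℤ) C0
  have hD : (p : MvPolynomial (Fin 2) ℤ) * D = -(X 0 ^ p + X 1 ^ p + (-(X 0 + X 1)) ^ p) := by
    have h1 := congrArg (aeval (vals ℤ (n := m + 3))) hC
    simp only [map_pow, map_sum, map_add, map_mul, map_natCast, aeval_X, sum_vals,
      zero_pow (Fact.out : p.Prime).ne_zero, sum_vals_pow ℤ m p (Fact.out : p.Prime).ne_zero] at h1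
    rw [eq_neg_iff_add_eq_zero, add_comm]
    exact h1.symm
  have hD' : ((aeval ![(Polynomial.X : Polynomial ℤ), 0]) (pderiv (1 : Fin 2) D)).coeff (p - 1) =
      (-1) ^ (p + 1) := by
    have h1 := congrArg (fun f => ((aeval ![(Polynomial.X : Polynomial ℤ), 0]) (pderiv (1 : Fin 2) f)).coeff (p - 1)) hD
    have hp1 : (-Polynomial.X : Polynomial ℤ) ^ (p - 1) = Polynomial.C ((-1 : ℤ) ^ (p - 1)) * Polynomial.X ^ (p - 1) := by
      rw [neg_pow]; simp
    have hnat : ∀ f : MvPolynomial (Fin 2) ℤ, pderiv (1 : Fin 2) ((p : MvPolynomial (Fin 2) ℤ) * f) =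
        p • pderiv (1 : Fin 2) f := fun f => by rw [← nsmul_eq_mul, map_nsmul]
    simp only [hnat, map_nsmul, Polynomial.coeff_smul, map_neg, map_add, pderiv_pow, pderiv_X_self,
      pderiv_X_of_ne (zero_ne_one : (0 : Fin 2) ≠ 1), mul_zero, zero_add, map_mul, map_natCast, map_pow, aeval_X,
      Matrix.cons_val_zero, Matrix.cons_val_one, add_zero, mul_one, map_one, Polynomial.coeff_neg,
      Polynomial.coeff_add, Polynomial.coeff_natCast_mul, hp1, Polynomial.coeff_C_mul,
      Polynomial.coeff_X_pow_self, zero_pow (Nat.sub_ne_zero_of_lt (Fact.out : p.Prime).one_lt),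
      mul_neg, Polynomial.coeff_zero, nsmul_eq_mul] at h1
    have hpar : ((-1 : ℤ)) ^ (p + 1) = (-1) ^ (p - 1) := by
      have : p + 1 = p - 1 + 2 := by have := (Fact.out : p.Prime).one_lt; omega
      rw [this, pow_add]; simp
    have hne : (p : ℤ) ≠ 0 := by exact_mod_cast (Fact.out : p.Prime).ne_zero
    rw [hpar]
    rw [show ((-1 : Polynomial ℤ)) ^ (p - 1) = Polynomial.C ((-1 : ℤ) ^ (p - 1)) by simp,
      Polynomial.coeff_C_mul, Polynomial.coeff_X_pow_self] at h1
    exact mul_left_cancel₀ hne (by linear_combination h1)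
  have hcast : functional (p := p) k (aeval (vals k) (map (Int.castRingHom k) C0)) =
      ((-1 : ℤ) ^ (p + 1) : ℤ) := by
    rw [← hD']
    have hv : aeval (vals k (n := m + 3)) (map (Int.castRingHom k) C0) = map (Int.castRingHom k) D := by
      rw [aeval_def, eval₂_map]
      change (eval₂Hom _ _ C0) = ((map (Int.castRingHom k)).comp (aeval (vals ℤ)).toRingHom) C0
      congr 1
      refine ringHom_ext (fun a => by simp) (fun i => ?_)
      simp [vals, apply_ite (map (Int.castRingHom k))]
    rw [hv]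
    simp only [functional, LinearMap.comp_apply, AlgHom.toLinearMap_apply, Derivation.coeFn_coe,
      Polynomial.lcoeff_apply, pderiv_map]
    have : ∀ g : MvPolynomial (Fin 2) ℤ, aeval ![(Polynomial.X : Polynomial k), 0] (map (Int.castRingHom k) g)
        = Polynomial.map (Int.castRingHom k) (aeval ![(Polynomial.X : Polynomial ℤ), 0] g) := by
      intro g
      rw [aeval_def, eval₂_map]
      change eval₂Hom _ _ g = ((Polynomial.mapRingHom (Int.castRingHom k)).comp
        (aeval ![(Polynomial.X : Polynomial ℤ), 0]).toRingHom) g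
      congr 1
      refine ringHom_ext (fun a => by simp) (fun i => ?_)
      fin_cases i <;> simp
    rw [this, Polynomial.coeff_map, eq_intCast]
  rw [hcast] at h0
  simp at h0

end
end Groth.Agent.Lib.H58QuadricFrob
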