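import Groth.Agent.H52.FBase.PurInsepRed
import Mathlib.FieldTheory.IsPerfectClosure
import Mathlib.RingTheory.Artinian.Ring
import Mathlib.RingTheory.Noetherian.OfPrime

/-!
# Nilradicals after finite purely inseparable extensions
-/

set_option autoImplicit false
universe u

open TensorProduct
open Groth.Agent.H52.FBase

namespace Groth.Agent.Lib.H58RedPurInsep

theorem of_nilradical_defined {k k' P K : Type u} [Field k] [Field k'] [Field P] [CommRing K]
    [Algebra k k'] [Algebra k P] [Algebra k' P] [IsScalarTower k k' P] [Algebra k K] [PerfectField P]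
    (s : Finset (P ⊗[k] K)) (hs : Ideal.span (s : Set (P ⊗[k] K)) = nilradical (P ⊗[k] K))
    (hrange : ∀ x ∈ s, ∃ a : k' ⊗[k] K, Algebra.TensorProduct.cancelBaseChange k k' P P K (1 ⊗ₜ[k'] a) = x) :
    Algebra.IsGeometricallyReduced k' ((k' ⊗[k] K) ⧸ nilradical (k' ⊗[k] K)) := by
  let N : Ideal (k' ⊗[k] K) := nilradical (k' ⊗[k] K)
  let e := Algebra.TensorProduct.cancelBaseChange k k' P P K
  let j : (k' ⊗[k] K) →ₐ[k'] P ⊗[k'] (k' ⊗[k] K) := Algebra.TensorProduct.includeRight
  have hnil : nilradical (P ⊗[k'] (k' ⊗[k] K)) ≤ N.map j.toRingHom := by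
    intro z hz
    have h1 : e z ∈ nilradical (P ⊗[k] K) := mem_nilradical.mpr ((mem_nilradical.mp hz).map e)
    rw [← hs] at h1
    have h2 : Ideal.span (s : Set (P ⊗[k] K)) ≤ (N.map j.toRingHom).comap e.symm := by
      rw [Ideal.span_le]
      intro x hx
      obtain ⟨a, hax⟩ := hrange x hx
      have hjN : a ∈ N := by
        have hxn : IsNilpotent (j a) := by
          refine (IsNilpotent.map_iff e.injective).mp ?_
          show IsNilpotent (e (1 ⊗ₜ[k'] a))
          rw [show e (1 ⊗ₜ[k'] a) = x from hax]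
          have hx' : x ∈ nilradical (P ⊗[k] K) := by rw [← hs]; exact Ideal.subset_span hx
          exact mem_nilradical.mp hx'
        exact mem_nilradical.mpr
          ((IsNilpotent.map_iff (Algebra.TensorProduct.includeRight_injective (RingHom.injective _))).mp hxn)
      show e.symm x ∈ N.map j.toRingHom
      rw [← show e (j a) = x from hax, e.symm_apply_apply]
      exact Ideal.mem_map_of_mem j.toRingHom hjN
    simpa using h2 h1
  have hred : _root_.IsReduced (P ⊗[k'] ((k' ⊗[k] K) ⧸ N)) := by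
    let ψ : P ⊗[k'] (k' ⊗[k] K) →ₐ[k'] P ⊗[k'] ((k' ⊗[k] K) ⧸ N) :=
      Algebra.TensorProduct.map (AlgHom.id k' P) (Ideal.Quotient.mkₐ k' N)
    have hψ : Function.Surjective ψ :=
      LinearMap.lTensor_surjective P (g := (Ideal.Quotient.mkₐ k' N).toLinearMap) Ideal.Quotient.mk_surjective
    have hker : RingHom.ker ψ.toRingHom = N.map j.toRingHom := by
      refine Eq.trans (Algebra.TensorProduct.lTensor_ker (Ideal.Quotient.mkₐ k' N) Ideal.Quotient.mk_surjective) ?_
      congr 1
      exact Ideal.Quotient.mkₐ_ker k' N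
    constructor
    intro y hy
    obtain ⟨z, rfl⟩ := hψ y
    obtain ⟨n, hn⟩ := hy
    have h1 : z ^ n ∈ nilradical (P ⊗[k'] (k' ⊗[k] K)) := by
      have h2 : z ^ n ∈ RingHom.ker ψ.toRingHom := by
        rw [RingHom.mem_ker, map_pow]
        exact hn
      rw [hker] at h2
      refine (Ideal.map_le_iff_le_comap.mpr ?_) h2
      exact fun a ha => mem_nilradical.mpr ((mem_nilradical.mp ha).map j.toRingHom)
    have h3 : z ∈ RingHom.ker ψ.toRingHom := by
      rw [hker]
      obtain ⟨l, hl⟩ := mem_nilradical.mp h1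
      exact hnil (mem_nilradical.mpr ⟨n * l, by rw [pow_mul, hl]⟩)
    exact h3
  exact PurInsepRed.isGeometricallyReduced_descend (P := P)

/-- The nilradical of `P ⊗ A` is defined over `k'` when its generators have coefficients there. -/
theorem of_coefficients {k k' P A : Type u} [Field k] [Field k'] [Field P] [Algebra k k'] [Algebra k P]
    [Algebra k' P] [IsScalarTower k k' P] [CommRing A] [Algebra k A] [PerfectField P]
    (s : Finset (P ⊗[k] A)) (hs : Ideal.span (s : Set (P ⊗[k] A)) = nilradical (P ⊗[k] A))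
    (hcoef : ∀ x ∈ s, ∃ S : Finset (P × A), x = ∑ i ∈ S, i.1 ⊗ₜ[k] i.2 ∧
      ∀ i ∈ S, ∃ c : k', algebraMap k' P c = i.1) :
    Algebra.IsGeometricallyReduced k' ((k' ⊗[k] A) ⧸ nilradical (k' ⊗[k] A)) := by
  refine of_nilradical_defined (P := P) s hs fun x hx => ?_
  obtain ⟨S, rfl, hS⟩ := hcoef x hx
  choose c hc using hS
  refine ⟨∑ i ∈ S.attach, c i.1 i.2 ⊗ₜ[k] i.1.2, ?_⟩
  conv_rhs => rw [← Finset.sum_attach]
  rw [TensorProduct.tmul_sum, map_sum]
  refine Finset.sum_congr rfl fun i _ => ?_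
  rw [Algebra.TensorProduct.cancelBaseChange_tmul, Algebra.smul_def, mul_one, hc]

/-- A perfect `P` over which the nilradicals are finitely generated gives a finite extension over
which the reductions are geometrically reduced. -/
theorem exists_ext_of_fg {k P : Type u} [Field k] [Field P] [Algebra k P] [PerfectField P]
    [IsPurelyInseparable k P] {ι : Type} [Fintype ι] (A : ι → Type u) [∀ i, CommRing (A i)]
    [∀ i, Algebra k (A i)] (hfg : ∀ i, (nilradical (P ⊗[k] A i)).FG) :
    ∃ (k' : Type u) (_ : Field k') (_ : Algebra k k'), FiniteDimensional k k' ∧ IsPurelyInseparable k k' ∧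
      ∀ i, Algebra.IsGeometricallyReduced k' ((k' ⊗[k] A i) ⧸ nilradical (k' ⊗[k] A i)) := by
  classical
  choose s hs using hfg
  choose S hS using fun (i : ι) (x : P ⊗[k] A i) => TensorProduct.exists_finset x
  let T : Set P := ↑(Finset.univ.biUnion fun i => (s i).biUnion fun x => (S i x).image fun j => j.1)
  let k' := IntermediateField.adjoin k T
  have hfd : FiniteDimensional k k' :=
    IntermediateField.finiteDimensional_adjoin fun a _ => Algebra.IsIntegral.isIntegral a
  refine ⟨k', inferInstance, inferInstance, hfd, IsPurelyInseparable.tower_bot k k' P, fun i => ?_⟩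
  refine of_coefficients (P := P) (s i) (hs i) fun x hx => ?_
  exact ⟨S i x, hS i x, fun j hj => ⟨⟨j.1, IntermediateField.subset_adjoin k T
    (Finset.mem_biUnion.2 ⟨i, Finset.mem_univ _, Finset.mem_biUnion.2
      ⟨x, hx, Finset.mem_image.2 ⟨j, hj, rfl⟩⟩⟩)⟩, rfl⟩⟩

/-- Finitely many algebras of finite type. -/
theorem exists_ext_of_finiteType (k : Type u) [Field k] {ι : Type} [Fintype ι] (A : ι → Type u)
    [∀ i, CommRing (A i)] [∀ i, Algebra k (A i)] [∀ i, Algebra.FiniteType k (A i)] :
    ∃ (k' : Type u) (_ : Field k') (_ : Algebra k k'), FiniteDimensional k k' ∧ IsPurelyInseparable k k' ∧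
      ∀ i, Algebra.IsGeometricallyReduced k' ((k' ⊗[k] A i) ⧸ nilradical (k' ⊗[k] A i)) := by
  refine exists_ext_of_fg (P := ↥(perfectClosure k (AlgebraicClosure k))) A fun i => ?_
  have : IsNoetherianRing (↥(perfectClosure k (AlgebraicClosure k)) ⊗[k] A i) :=
    Algebra.FiniteType.isNoetherianRing ↥(perfectClosure k (AlgebraicClosure k))
      (↥(perfectClosure k (AlgebraicClosure k)) ⊗[k] A i)
  exact IsNoetherian.noetherian _

/-- The nilradical of `P ⊗ A` is generated by that of `k' ⊗ A` when the reduction of the latter is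
geometrically reduced. -/
theorem fg_nilradical {k k' P A : Type u} [Field k] [Field k'] [Field P] [Algebra k k'] [Algebra k P]
    [Algebra k' P] [IsScalarTower k k' P] [CommRing A] [Algebra k A]
    [IsNoetherianRing (k' ⊗[k] A)]
    [Algebra.IsGeometricallyReduced k' ((k' ⊗[k] A) ⧸ nilradical (k' ⊗[k] A))] :
    (nilradical (P ⊗[k] A)).FG := by
  let N : Ideal (k' ⊗[k] A) := nilradical (k' ⊗[k] A)
  let e := Algebra.TensorProduct.cancelBaseChange k k' P P A
  let j : (k' ⊗[k] A) →ₐ[k'] P ⊗[k'] (k' ⊗[k] A) := Algebra.TensorProduct.includeRight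
  let g : (k' ⊗[k] A) →+* P ⊗[k] A := e.toRingEquiv.toRingHom.comp j.toRingHom
  suffices nilradical (P ⊗[k] A) = N.map g by
    rw [this]; exact Ideal.FG.map (IsNoetherian.noetherian N) g
  refine le_antisymm (fun z hz => ?_)
    (Ideal.map_le_iff_le_comap.2 fun a ha => mem_nilradical.2 ((mem_nilradical.1 ha).map g))
  let ψ : P ⊗[k'] (k' ⊗[k] A) →ₐ[k'] P ⊗[k'] ((k' ⊗[k] A) ⧸ N) :=
    Algebra.TensorProduct.map (AlgHom.id k' P) (Ideal.Quotient.mkₐ k' N)
  have : _root_.IsReduced (((k' ⊗[k] A) ⧸ N) ⊗[k'] P) := GeomRed.isReduced_tensor_field P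
  have : _root_.IsReduced (P ⊗[k'] ((k' ⊗[k] A) ⧸ N)) :=
    isReduced_of_injective (Algebra.TensorProduct.comm k' P _) (AlgEquiv.injective _)
  have hker : RingHom.ker ψ.toRingHom = N.map j.toRingHom := by
    refine Eq.trans (Algebra.TensorProduct.lTensor_ker (Ideal.Quotient.mkₐ k' N) Ideal.Quotient.mk_surjective) ?_
    congr 1
    exact Ideal.Quotient.mkₐ_ker k' N
  have h1 : e.symm z ∈ RingHom.ker ψ.toRingHom :=
    IsReduced.eq_zero _ (((mem_nilradical.1 hz).map e.symm).map ψ)
  rw [hker] at h1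
  have h2 := Ideal.mem_map_of_mem e.toRingEquiv.toRingHom h1
  rw [Ideal.map_map] at h2
  rwa [show e.toRingEquiv.toRingHom (e.symm z) = z from e.apply_symm_apply z] at h2

/-- `P ⊗ K` is Artinian when its nilradical is finitely generated. -/
theorem isArtinianRing_of_fg {k P K : Type u} [Field k] [Field P] [Algebra k P]
    [IsPurelyInseparable k P] [Field K] [Algebra k K] (h : (nilradical (P ⊗[k] K)).FG) :
    IsArtinianRing (P ⊗[k] K) := by
  have : Nontrivial (P ⊗[k] K) := (Algebra.TensorProduct.includeRight_injective (R := k) (A := P)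
    (B := K) (RingHom.injective _)).nontrivial
  obtain ⟨m, hm⟩ := Ideal.exists_maximal (P ⊗[k] K)
  have hmn := PurInsepRed.maximal_le_nilradical m
  have hprime : ∀ q : Ideal (P ⊗[k] K), q.IsPrime → q = m := fun q hq =>
    (hm.eq_of_le hq.ne_top (hmn ▸ nilradical_le_prime q)).symm
  have : IsNoetherianRing (P ⊗[k] K) :=
    IsNoetherianRing.of_prime fun q hq => hprime q hq ▸ hmn ▸ h
  have : Ring.KrullDimLE 0 (P ⊗[k] K) := Ring.KrullDimLE.mk₀ fun q hq => hprime q hq ▸ hm
  exact IsNoetherianRing.isArtinianRing_of_krullDimLE_zero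

end Groth.Agent.Lib.H58RedPurInsep
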