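import Groth.Agent.S1544
import Groth.Agent.Lib.H58FrobHomeo
import Groth.Agent.Lib.PointDim.Basic
import Groth.Agent.Lib.GeomConn.Residue
import Groth.Agent.Lib.PBasis.Cartier
import Groth.Agent.Lib.Cyc.Residue
import Groth.Agent.Lib.QuietLib.RelFrob
import Groth.Prelude.Def_Frob

/-!
# The degree of the relative Frobenius at the generic point
-/

set_option autoImplicit false
set_option linter.style.haveILetI false
universe u
open CategoryTheory CategoryTheory.Limits AlgebraicGeometry EGA41
open Groth.Agent.Lib

namespace Groth.Agent.Lib.H58RelFrobDeg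

variable (p : ℕ) [Fact p.Prime]

/-- `[K : k(K^p)] = p ^ trdeg` for a finitely generated separable extension. -/
theorem finrank_pPower {k K : Type u} [Field k] [Field K] [Algebra k K] [CharP K p]
    [Algebra.EssFiniteType k K] [Algebra.IsGeometricallyReduced k K] :
    Module.finrank (pPowerSubalgebra p k K) K = p ^ Cardinal.toNat (Algebra.trdeg k K) := by
  classical
  obtain ⟨_, hfin, hidx⟩ := PBasis.Cartier.hasIndex_iff.1 (PBasis.Cartier.hasIndex_trdeg (K := k) (L := K))
  have hinj := PBasis.FieldSmooth.isGeometricallyReduced_iff_injective_int.1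
    (‹_› : Algebra.IsGeometricallyReduced k K)
  have hbot : imperfection ℤ k K = ⊥ := LinearMap.ker_eq_bot.2 hinj
  rw [hbot, finrank_bot, Nat.cast_zero, zero_sub, neg_inj, Nat.cast_inj] at hidx
  obtain ⟨B, hB⟩ := PBasis.Separable.exists_pBasis' (k := K) p k
  obtain ⟨bΩ, -⟩ := PBasis.Deriv.exists_basis_kaehler hB
  haveI : Finite B := Module.Finite.finite_basis bΩ
  haveI := Fintype.ofFinite B
  rw [← hidx, Module.finrank_eq_nat_card_basis bΩ]
  let bF : Module.Basis (PBasis.Basic.Exp p B) (pPowerSubalgebra p k K) K :=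
    Module.Basis.mk hB.1 hB.2.ge
  rw [Module.finrank_eq_nat_card_basis bF]
  let eq : PBasis.Basic.Exp p B ≃ (B → Fin p) :=
    { toFun := fun f i => ⟨f.1 i, f.2 i⟩
      invFun := fun g => ⟨Finsupp.equivFunOnFinite.symm fun i => (g i : ℕ), fun i => (g i).2⟩
      left_inv := fun f => Subtype.ext (Finsupp.ext fun i => rfl)
      right_inv := fun g => funext fun i => rfl }
  rw [Nat.card_congr eq, Nat.card_fun, Nat.card_fin]

theorem isField_pPower (k K : Type u) [Field k] [Field K] [Algebra k K] :
    IsField (pPowerSubalgebra p k K) := by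
  refine ⟨⟨0, 1, zero_ne_one⟩, mul_comm, fun {a} ha => ?_⟩
  have h : (a : K) ≠ 0 := fun h => ha (Subtype.ext h)
  refine ⟨⟨(a : K)⁻¹, ?_⟩, Subtype.ext (mul_inv_cancel₀ h)⟩
  have e : (a : K)⁻¹ = (a : K) ^ (p - 1) * ((a : K)⁻¹) ^ p := by
    rw [inv_pow, pow_sub₀ _ h (Fact.out : p.Prime).one_le, pow_one, mul_comm ((a : K) ^ p),
      mul_assoc, mul_inv_cancel₀ (pow_ne_zero _ h), mul_one]
  rw [e]
  exact mul_mem (pow_mem a.2 _) (Algebra.subset_adjoin ⟨_, rfl⟩)

variable {k : Type u} [Field k] [CharP k p] (X : Scheme.{u}) [X.Over (Spec (CommRingCat.of k))]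

local notation "fX" => X ↘ Spec (CommRingCat.of k)

attribute [local instance] Curv2.resAlgebra Curv2.stalkAlgebra

omit [Fact p.Prime] in
include k in
theorem charP_residueField (x : X) : CharP (X.residueField x) p :=
  charP_of_injective_algebraMap (algebraMap k (X.residueField x)).injective p

theorem kToRes_eq (x : X) :
    PointDim.Basic.kToRes fX x = CommRingCat.ofHom (algebraMap k (X.residueField x)) :=
  Spec.map_injective ((PointDim.Basic.specMap_kToRes _ x).trans
    (GeomConn.Residue.specMap_resMap k X x).symm)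

theorem mem_range_residueFieldMap (x : X) {y : X.residueField x}
    (hy : y ∈ pPowerSubalgebra p k (X.residueField x)) :
    ∃ z, ((FrobSch.relFrob fX p).residueFieldMap x).hom z = y := by
  haveI : FrobSch.IsCharP X p := FrobSch.IsCharP.of_hom fX p
  refine Algebra.adjoin_induction ?_ ?_ ?_ ?_ hy
  · rintro _ ⟨b, rfl⟩
    obtain ⟨z, hz⟩ := H58FrobHomeo.exists_residueFieldMap_frob_eq_pow p X x b
    have key : ∀ {g : X ⟶ X}
        (hg : g = FrobSch.relFrob fX p ≫ pullback.fst fX (FrobSch.frob _ p))
        (z : X.residueField (g x)), ∃ w, ((FrobSch.relFrob fX p).residueFieldMap x).hom w =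
          (g.residueFieldMap x).hom z := by
      intro g hg z
      subst hg
      rw [Scheme.residueFieldMap_comp]
      exact ⟨_, rfl⟩
    obtain ⟨w, hw⟩ := key (FrobSch.relFrob_fst fX p).symm z
    exact ⟨w, hw.trans hz⟩
  · intro c
    have h := PointDim.Basic.kToRes_comp (FrobSch.relFrob fX p)
      (pullback.snd fX (FrobSch.frob _ p)) fX (FrobSch.relFrob_snd fX p) x
    refine ⟨(PointDim.Basic.kToRes (pullback.snd fX (FrobSch.frob _ p)) _).hom c, ?_⟩
    rw [kToRes_eq X x] at h
    exact (congr($(h).hom c)).symm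
  · rintro a b - - ⟨z, rfl⟩ ⟨w, rfl⟩
    exact ⟨z + w, map_add _ _ _⟩
  · rintro a b - - ⟨z, rfl⟩ ⟨w, rfl⟩
    exact ⟨z * w, map_mul _ _ _⟩

theorem residueFieldMap_mem (x : X) (z : (FrobSch.frobTwist fX p).residueField
      (FrobSch.relFrob fX p x)) :
    ((FrobSch.relFrob fX p).residueFieldMap x).hom z ∈ pPowerSubalgebra p k (X.residueField x) := by
  haveI : FrobSch.IsCharP X p := FrobSch.IsCharP.of_hom fX p
  haveI := charP_residueField (k := k) p X x
  set K := X.residueField x
  let L0 := pPowerSubalgebra p k K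
  letI : Field L0 := (isField_pPower p k K).toField
  have hK : ((p : ℕ) : K) = 0 := CharP.cast_eq_zero K p
  have hk : ((p : ℕ) : CommRingCat.of k) = 0 := CharP.cast_eq_zero k p
  let φ0 : K →+* L0 :=
    (FrobSch.powHom p K hK).codRestrict L0 fun y => Algebra.subset_adjoin ⟨y, rfl⟩
  let F := FrobSch.frob (Spec (CommRingCat.of k)) p
  have hF : F = Spec.map (CommRingCat.ofHom (FrobSch.powHom p (CommRingCat.of k) hk)) :=
    QuietLib.RelFrob.frob_Spec p _ hk
  let pr : Spec (CommRingCat.of L0) ⟶ X :=
    Spec.map (CommRingCat.ofHom φ0) ≫ X.fromSpecResidueField x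
  let sr : Spec (CommRingCat.of L0) ⟶ Spec (CommRingCat.of k) :=
    Spec.map (CommRingCat.ofHom (algebraMap k L0))
  have w : pr ≫ fX = sr ≫ F := by
    simp only [pr, sr, hF, Category.assoc, ← GeomConn.Residue.specMap_resMap, ← Spec.map_comp]
    congr 1
    apply CommRingCat.hom_ext
    refine RingHom.ext fun c => Subtype.ext ?_
    exact (map_pow (algebraMap k K) c p).symm
  let a : Spec (CommRingCat.of L0) ⟶ FrobSch.frobTwist fX p := pullback.lift pr sr w
  let ι : CommRingCat.of L0 ⟶ K := CommRingCat.ofHom L0.val.toRingHom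
  have hcomp : Spec.map ι ≫ a = X.fromSpecResidueField x ≫ FrobSch.relFrob fX p := by
    apply pullback.hom_ext
    · simp only [a, Category.assoc, pullback.lift_fst, FrobSch.relFrob_fst, pr, ← Spec.map_comp_assoc]
      haveI : FrobSch.IsCharP (Spec K) p := FrobSch.IsCharP.of_hom (X.fromSpecResidueField x) p
      rw [← FrobSch.frob_comp p (X.fromSpecResidueField x), QuietLib.RelFrob.frob_Spec p K hK]
      congr 2
    · simp only [a, Category.assoc, pullback.lift_snd, FrobSch.relFrob_snd, sr, ← Spec.map_comp]
      exact GeomConn.Residue.specMap_resMap k X x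
  have key : ∀ (y : FrobSch.frobTwist fX p)
      (ψ : (FrobSch.frobTwist fX p).residueField y ⟶ CommRingCat.of L0),
      a = Spec.map ψ ≫ (FrobSch.frobTwist fX p).fromSpecResidueField y →
      ((FrobSch.relFrob fX p).residueFieldMap x).hom z ∈ L0 := by
    intro y ψ ha
    have hy : y = FrobSch.relFrob fX p x := by
      have h := congr($(hcomp).base (IsLocalRing.closedPoint K))
      rw [ha] at h
      rw [Scheme.Hom.comp_base, Scheme.Hom.comp_base, Scheme.Hom.comp_base] at h
      exact (((FrobSch.frobTwist fX p).fromSpecResidueField_apply y _).symm.trans h).trans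
        (congrArg (FrobSch.relFrob fX p) (X.fromSpecResidueField_apply x _))
    subst hy
    have h : Spec.map (ψ ≫ ι) = Spec.map ((FrobSch.relFrob fX p).residueFieldMap x) := by
      rw [← cancel_mono ((FrobSch.frobTwist fX p).fromSpecResidueField _), Spec.map_comp,
        Category.assoc, ← ha, hcomp, Scheme.Hom.SpecMap_residueFieldMap_fromSpecResidueField]
    rw [← Spec.map_injective h]
    exact (ψ.hom z).2
  exact key _ _ ((Scheme.SpecToEquivOfField L0 _).symm_apply_apply a).symm

theorem residueDegree_relFrob [LocallyOfFiniteType fX] [IsIntegral X]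
    [GeometricallyReduced fX] :
    (FrobSch.relFrob fX p).residueDegree (genericPoint X) =
      p ^ PointDim.Basic.natTdeg fX (genericPoint X) := by
  set η := genericPoint X
  haveI := charP_residueField (k := k) p X η
  haveI : Algebra.IsGeometricallyReduced k X.functionField :=
    (Groth.Agent.S1544.result k X).1 inferInstance
  let res : X.functionField →ₐ[k] X.residueField η :=
    { (X.residue η).hom with commutes' := fun c => rfl }
  have hbij : Function.Bijective res :=
    ⟨res.toRingHom.injective, X.residue_surjective η⟩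
  haveI : Algebra.IsGeometricallyReduced k (X.residueField η) :=
    Algebra.IsGeometricallyReduced.of_injective (AlgEquiv.ofBijective res hbij).symm.toAlgHom
      (AlgEquiv.injective _)
  haveI : Algebra.EssFiniteType k (X.residueField η) := by
    have h1 : ((fX).residueFieldMap η).hom.EssFiniteType := Cyc.Residue.residueFieldMap_essFiniteType η
    have h2 : (PointDim.Basic.kToRes fX η).hom.EssFiniteType := by
      rw [PointDim.Basic.kToRes_eq_residueFieldMap]
      exact RingHom.EssFiniteType.comp
        (RingHom.FiniteType.of_surjective _ (PointDim.Basic.kToRes_id_bijective _).2).essFiniteType h1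
    rw [kToRes_eq X η] at h2
    exact h2
  have hd : PointDim.Basic.natTdeg fX η = Cardinal.toNat (Algebra.trdeg k (X.residueField η)) := by
    unfold PointDim.Basic.natTdeg PointDim.Basic.tdeg
    rw [kToRes_eq X η]
  rw [hd, ← finrank_pPower p]
  let Y := (FrobSch.frobTwist fX p).residueField (FrobSch.relFrob fX p η)
  let ψ : Y →+* pPowerSubalgebra p k (X.residueField η) :=
    ((FrobSch.relFrob fX p).residueFieldMap η).hom.codRestrict _ (residueFieldMap_mem p X η)
  have hψ : Function.Bijective ψ :=
    ⟨fun _ _ h => ((FrobSch.relFrob fX p).residueFieldMap η).hom.injective (congrArg Subtype.val h),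
      fun y => (mem_range_residueFieldMap p X η y.2).imp fun z hz => Subtype.ext hz⟩
  let _ : Algebra Y (X.residueField η) := ((FrobSch.relFrob fX p).residueFieldMap η).hom.toAlgebra
  exact Algebra.finrank_eq_of_equiv_equiv (R₀ := Y) (S₀ := X.residueField η)
    (RingEquiv.ofBijective ψ hψ) (RingEquiv.refl _) rfl

theorem isIntegral_frobTwist [IsIntegral X] [GeometricallyReduced fX] :
    IsIntegral (FrobSch.frobTwist fX p) := by
  haveI : IsReduced (FrobSch.frobTwist fX p) :=
    GeometricallyReduced.geometrically_isReduced _ _ _ (.of_hasPullback _ _)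
  have hs : Surjective (FrobSch.relFrob fX p) :=
    ((UnivHomeo.Basic.iff_integral_universallyInjective_surjective _).1
      (H58FrobHomeo.isUnivHomeo_relFrob p fX)).2.2
  haveI : IrreducibleSpace ↥(FrobSch.frobTwist fX p) := by
    haveI : Nonempty ↥(FrobSch.frobTwist fX p) := ⟨FrobSch.relFrob fX p (genericPoint X)⟩
    haveI : PreirreducibleSpace ↥(FrobSch.frobTwist fX p) := ⟨by
      rw [← hs.surj.range_eq, ← Set.image_univ]
      exact (PreirreducibleSpace.isPreirreducible_univ (X := X)).image _
        (FrobSch.relFrob fX p).continuous.continuousOn⟩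
    exact ⟨inferInstance⟩
  exact isIntegral_of_irreducibleSpace_of_isReduced _

end Groth.Agent.Lib.H58RelFrobDeg
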