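import Groth.Prelude.Def_FrobAlg
import Groth.Agent.Lib.RelFrobEtale
import Mathlib.Algebra.Algebra.Epi
import Mathlib.RingTheory.Etale.Basic
import Mathlib.RingTheory.Ideal.IdempotentFG
import Mathlib.RingTheory.IntegralClosure.IsIntegralClosure.Basic
import Mathlib.RingTheory.Kaehler.Basic
import Mathlib.RingTheory.FinitePresentation
import Mathlib.RingTheory.Unramified.Basic
import Mathlib.RingTheory.Finiteness.Basic
import Mathlib.RingTheory.Nilpotent.Basic
import Mathlib.RingTheory.RingHom.Etale
import Mathlib.RingTheory.IntegralClosure.IntegralRestrict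

/-!
# Relative Frobenius and étaleness

For an algebra `B` over `A` of characteristic `p`: the relative Frobenius is integral with kernel
killed by the `p`th power; it detects formal unramifiedness; if it is bijective then `B` is
formally étale, and it is bijective for étale algebras.
-/

open TensorProduct FrobAlg

universe u v

namespace Groth.Agent.Lib.H58RelFrobEtaleUniv

open Groth.Agent.Lib.RelFrobEtale (relFrob_tmul relFrob_includeRight pow_eq pow_eq_zero_of_relFrob isIntegral natCast_eq_zero add_pow_p pow_eq_of_sub_mem)

variable (p : ℕ) [Fact p.Prime] {A : Type u} [CommRing A] [CharP A p]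
  {B : Type v} [CommRing B] [Algebra A B] [CharP B p]

theorem formallyUnramified_iff :
    Algebra.FormallyUnramified A B ↔
      @Algebra.FormallyUnramified (BaseChange p A B) B _ _ (relFrob p A B).toAlgebra := by
  let := (relFrob p A B).toAlgebra
  constructor
  · intro h
    rw [Algebra.FormallyUnramified.iff_comp_injective]
    intro C _ _ I hI g₁ g₂ hg
    let : Algebra A C := ((algebraMap (BaseChange p A B) C).comp
      ((Algebra.TensorProduct.includeRight : Twist p A →ₐ[A] BaseChange p A B).toRingHom.comp
        (toTwist p A).toRingHom)).toAlgebra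
    have hres : ∀ (g : B →ₐ[BaseChange p A B] C) (a : A), g (algebraMap A B a) = algebraMap A C a :=
      fun g a => by
        rw [← relFrob_includeRight p a]
        exact g.commutes _
    let G₁ : B →ₐ[A] C := { g₁.toRingHom with commutes' := hres g₁ }
    let G₂ : B →ₐ[A] C := { g₂.toRingHom with commutes' := hres g₂ }
    have := Algebra.FormallyUnramified.comp_injective (R := A) (A := B) I hI (a₁ := G₁) (a₂ := G₂)
      (AlgHom.ext fun b => AlgHom.congr_fun hg b)
    exact AlgHom.ext fun b => AlgHom.congr_fun this b
  · intro h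
    rw [Algebra.FormallyUnramified.iff_comp_injective]
    intro C _ _ I hI g₁ g₂ hg
    have hp0 : (p : C) = 0 := natCast_eq_zero p A
    have hmk : ∀ b, g₁ b - g₂ b ∈ I := fun b => Ideal.Quotient.eq.1 (AlgHom.congr_fun hg b)
    have key : ∀ x : BaseChange p A B, g₁ (relFrob p A B x) = g₂ (relFrob p A B x) := by
      intro x
      induction x using TensorProduct.induction_on with
      | zero => simp
      | tmul b a =>
        rw [relFrob_tmul, map_mul, map_mul, map_pow, map_pow, AlgHom.commutes, AlgHom.commutes,
          pow_eq_of_sub_mem p hp0 hI (hmk b)]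
      | add x y hx hy => simp only [map_add, hx, hy]
    let : Algebra (BaseChange p A B) C := (g₁.toRingHom.comp (relFrob p A B)).toAlgebra
    let G₁ : B →ₐ[BaseChange p A B] C := { g₁.toRingHom with commutes' := fun x => rfl }
    let G₂ : B →ₐ[BaseChange p A B] C := { g₂.toRingHom with commutes' := fun x => (key x).symm }
    have := Algebra.FormallyUnramified.comp_injective (R := BaseChange p A B) (A := B) I hI (a₁ := G₁) (a₂ := G₂)
      (AlgHom.ext fun b => AlgHom.congr_fun hg b)
    exact AlgHom.ext fun b => AlgHom.congr_fun this b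

/-- A copy of `C` as an algebra through the `p`-th power. -/
@[nolint unusedArguments]
def Pw (_p : ℕ) (C : Type v) : Type v := C

instance (p : ℕ) (C : Type v) [CommRing C] : CommRing (Pw p C) := inferInstanceAs (CommRing C)

theorem formallyEtale_of_bijective (h : Function.Bijective (relFrob p A B)) : Algebra.FormallyEtale A B := by
  rw [Algebra.FormallyEtale.iff_comp_bijective]
  intro C _ _ I hI
  have hp0 : (p : C) = 0 := natCast_eq_zero p A
  refine ⟨fun g₁ g₂ hg => AlgHom.ext fun b => ?_, fun f => ?_⟩
  · have hmk : ∀ b, g₁ b - g₂ b ∈ I := fun b => Ideal.Quotient.eq.1 (AlgHom.congr_fun hg b)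
    obtain ⟨x, rfl⟩ := h.2 b
    induction x using TensorProduct.induction_on with
    | zero => simp
    | tmul b a =>
      rw [relFrob_tmul, map_mul, map_mul, map_pow, map_pow, AlgHom.commutes, AlgHom.commutes,
        pow_eq_of_sub_mem p hp0 hI (hmk b)]
    | add x y hx hy => simp only [map_add, hx, hy]
  let φ : C →+* Pw p C :=
    { toFun := fun c => (c ^ p : C)
      map_one' := one_pow (M := C) p
      map_mul' := fun x y => mul_pow (M := C) x y p
      map_zero' := zero_pow (M₀ := C) (Fact.out : p.Prime).ne_zero
      map_add' := fun x y => add_pow_p p x y hp0 }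
  have hφ : ∀ a ∈ I, φ a = 0 := fun a ha => by
    show a ^ p = (0 : C)
    rw [pow_eq_of_sub_mem p hp0 hI (y := 0) (by rwa [sub_zero]), zero_pow (Fact.out : p.Prime).ne_zero]
  let F := Ideal.Quotient.lift I φ hφ
  let : Algebra A (Pw p C) := (F.comp (f.toRingHom.comp (algebraMap A B))).toAlgebra
  let f' : B →ₐ[A] Pw p C := { F.comp f.toRingHom with commutes' := fun a => rfl }
  let inc : Twist p A →ₐ[A] Pw p C :=
    { ((algebraMap A C : A →+* C).comp (toTwist p A).symm.toRingHom : Twist p A →+* Pw p C) with
      commutes' := fun a => by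
        show algebraMap A C ((toTwist p A).symm (algebraMap A (Twist p A) a)) = F (f (algebraMap A B a))
        rw [algebraMap_twist, RingEquiv.symm_apply_apply, map_pow, AlgHom.commutes]
        rfl }
  let g' : BaseChange p A B →+* C :=
    (Algebra.TensorProduct.lift f' inc fun _ _ => Commute.all _ _).toRingHom
  have hg' : ∀ b a, g' (b ⊗ₜ a) = (show C from F (f b)) * algebraMap A C ((toTwist p A).symm a) := fun b a =>
    Algebra.TensorProduct.lift_tmul f' inc _ b a
  let e := RingEquiv.ofBijective (relFrob p A B) h
  let g : B →ₐ[A] C :=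
    { g'.comp e.symm.toRingHom with
      commutes' := fun a => by
        show g' (e.symm (algebraMap A B a)) = _
        rw [show e.symm (algebraMap A B a) = (1 : B) ⊗ₜ toTwist p A a from
          e.injective (by rw [RingEquiv.apply_symm_apply]; exact (relFrob_includeRight p a).symm), hg',
          map_one, map_one, RingEquiv.symm_apply_apply]
        exact one_mul _ }
  refine ⟨g, AlgHom.ext fun b => ?_⟩
  obtain ⟨x, rfl⟩ := h.2 b
  show Ideal.Quotient.mk I (g' (e.symm (e x))) = f (e x)
  rw [RingEquiv.symm_apply_apply]
  show _ = f (relFrob p A B x)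
  induction x using TensorProduct.induction_on with
  | zero => simp
  | tmul b a =>
    rw [hg', relFrob_tmul, map_mul, map_mul, map_pow, AlgHom.commutes, Ideal.Quotient.mk_algebraMap]
    congr 1
    obtain ⟨c, hc⟩ := Ideal.Quotient.mk_surjective (f b)
    rw [← hc]
    show Ideal.Quotient.mk I (c ^ p) = _
    rw [map_pow]
  | add x y hx hy => simp only [map_add, hx, hy]

theorem surjective_of_formallyUnramified [Algebra.FormallyUnramified A B] [Algebra.FiniteType A B] :
    Function.Surjective (relFrob p A B) := by
  have h := (formallyUnramified_iff p).1 ‹Algebra.FormallyUnramified A B›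
  let := (relFrob p A B).toAlgebra
  obtain ⟨s, hs⟩ := ‹Algebra.FiniteType A B›.out
  have hft : Algebra.FiniteType (BaseChange p A B) B := ⟨⟨s, by
    rw [eq_top_iff]
    rintro b -
    have hb : b ∈ Algebra.adjoin A (s : Set B) := hs ▸ trivial
    induction hb using Algebra.adjoin_induction with
    | mem x hx => exact Algebra.subset_adjoin hx
    | algebraMap a =>
      rw [← relFrob_includeRight p a]
      exact Subalgebra.algebraMap_mem _ _
    | add x y _ _ hx hy => exact add_mem hx hy
    | mul x y _ _ hx hy => exact mul_mem hx hy⟩⟩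
  have : Algebra.IsIntegral (BaseChange p A B) B := ⟨isIntegral p⟩
  have : Module.Finite (BaseChange p A B) B := Algebra.IsIntegral.finite
  have hepi : Algebra.IsEpi (BaseChange p A B) B := by
    obtain ⟨e, he, hker⟩ := (Ideal.isIdempotentElem_iff_of_fg _ (KaehlerDifferential.ideal_fg _ B)).1
      ((Ideal.cotangent_subsingleton_iff _).1 (Algebra.FormallyUnramified.subsingleton_kaehlerDifferential (R := BaseChange p A B) (A := B)))
    have hnil : ∀ z ∈ KaehlerDifferential.ideal (BaseChange p A B) B, IsNilpotent z := by
      intro z hz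
      rw [← KaehlerDifferential.span_range_eq_ideal] at hz
      refine mem_nilradical.1 ((Ideal.span_le.2 ?_) hz)
      rintro _ ⟨b, rfl⟩
      refine mem_nilradical.2 ⟨p, ?_⟩
      have hp0 : (p : B ⊗[BaseChange p A B] B) = 0 := by
        rw [← map_natCast (algebraMap B (B ⊗[BaseChange p A B] B)), CharP.cast_eq_zero, map_zero]
      have h1 := add_pow_p p ((1 : B) ⊗ₜ[BaseChange p A B] b - b ⊗ₜ 1) (b ⊗ₜ[BaseChange p A B] (1 : B)) hp0
      rw [sub_add_cancel, Algebra.TensorProduct.tmul_pow, Algebra.TensorProduct.tmul_pow, one_pow,
        show b ^ p = (b ⊗ₜ[A] (1 : Twist p A) : BaseChange p A B) • (1 : B) by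
          rw [Algebra.smul_def, mul_one, RingHom.algebraMap_toAlgebra, relFrob_tmul, map_one, map_one, mul_one],
        smul_tmul] at h1
      exact left_eq_add.1 (h1.trans (add_comm _ _))
    have he0 : e = 0 := he.eq_zero_of_isNilpotent (hnil e (by rw [hker]; exact Submodule.mem_span_singleton_self e))
    refine (Algebra.isEpi_iff_forall_one_tmul_eq _ _).2 fun b => sub_eq_zero.1 ?_
    rw [← Ideal.mem_bot]
    have h0 : KaehlerDifferential.ideal (BaseChange p A B) B = ⊥ := by rw [hker, he0]; simp
    exact h0 ▸ KaehlerDifferential.one_smul_sub_smul_one_mem_ideal (BaseChange p A B) b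
  exact Algebra.isEpi_iff_surjective_algebraMap_of_finite.1 hepi

theorem bijective_of_etale [Algebra.Etale A B] : Function.Bijective (relFrob p A B) := by
  have hsurj : Function.Surjective (relFrob p A B) := surjective_of_formallyUnramified p
  refine ⟨?_, hsurj⟩
  let : Algebra (BaseChange p A B) B := (relFrob p A B).toAlgebra
  let iT : Algebra (Twist p A) (BaseChange p A B) := inferInstance
  let : SMul (Twist p A) (BaseChange p A B) := iT.toSMul
  let : Algebra (Twist p A) B := ((algebraMap A B).comp (toTwist p A).symm.toRingHom).toAlgebra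
  have : IsScalarTower (Twist p A) (BaseChange p A B) B := IsScalarTower.of_algebraMap_eq fun a => by
    show _ = relFrob p A B ((1 : B) ⊗ₜ a)
    rw [relFrob_tmul, one_pow, one_mul]
    rfl
  let eA : B ≃+* B := RingEquiv.refl B
  have hB : Algebra.Etale (Twist p A) B := by
    have h1 : (algebraMap A B).Etale := RingHom.etale_algebraMap.2 ‹_›
    exact RingHom.etale_algebraMap.1 (show ((algebraMap A B).comp (toTwist p A).symm.toRingHom).Etale from h1)
  have hB' : Algebra.Etale (Twist p A) (BaseChange p A B) :=
    Algebra.Etale.of_equiv (A := Twist p A ⊗[A] B)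
      { (Algebra.TensorProduct.comm A (Twist p A) B).toRingEquiv with commutes' := fun a => rfl }
  have := Algebra.Etale.of_restrictScalars (R := Twist p A) (A := BaseChange p A B) (B := B)
  have hidem := (Algebra.FormallyEtale.iff_of_surjective (R := BaseChange p A B) (S := B) hsurj).1 inferInstance
  have hfg : (RingHom.ker (algebraMap (BaseChange p A B) B)).FG :=
    Algebra.FinitePresentation.ker_fG_of_surjective (IsScalarTower.toAlgHom (Twist p A) (BaseChange p A B) B) hsurj
  obtain ⟨e, he, hker⟩ := (Ideal.isIdempotentElem_iff_of_fg _ hfg).1 hidem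
  have he0 : e = 0 := he.eq_zero_of_isNilpotent ⟨p, pow_eq_zero_of_relFrob p e
    (show e ∈ RingHom.ker (algebraMap (BaseChange p A B) B) by rw [hker]; exact Submodule.mem_span_singleton_self e)⟩
  have h0 : RingHom.ker (algebraMap (BaseChange p A B) B) = ⊥ := by rw [hker, he0]; simp
  exact (RingHom.injective_iff_ker_eq_bot _).2 h0

end Groth.Agent.Lib.H58RelFrobEtaleUniv
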