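import Groth.Agent.Lib.PBasis.Basic
import Groth.Agent.Lib.RelFrobFlat.Main
import Groth.Agent.S3191
import Mathlib.RingTheory.Kaehler.TensorProduct
import Mathlib.RingTheory.LocalRing.Module
import Mathlib.RingTheory.Spectrum.Prime.FreeLocus
import Mathlib.RingTheory.Smooth.Basic
import Mathlib.RingTheory.Nakayama
import Mathlib.RingTheory.Finiteness.ModuleFinitePresentation
import Mathlib.RingTheory.Artinian.Module
import Mathlib.FieldTheory.IsAlgClosed.AlgebraicClosure

/-!
# The rank of the relative Frobenius of a smooth algebra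
-/

set_option autoImplicit false
set_option linter.unusedSectionVars false
universe u

open TensorProduct EGA41
open scoped Pointwise

namespace Groth.Agent.Lib.H58RelFrobRank

section field

variable (p : ℕ) [Fact p.Prime] {K : Type u} [Field K] [CharP K p]
variable {C : Type u} [CommRing C] [Algebra K C]
variable (χ : C →ₐ[K] K) (hpow : ∀ c, c ^ p = algebraMap K C (χ c ^ p))

include hpow in
theorem pow_eq_zero_of_apply_eq_zero {c : C} (hc : χ c = 0) : c ^ p = 0 := by
  rw [hpow, hc, zero_pow (Fact.out : p.Prime).ne_zero, map_zero]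

include hpow in
theorem isLocalRing_of_character : IsLocalRing C := by
  have : Nontrivial C := χ.toRingHom.domain_nontrivial
  have hunit : ∀ c, χ c ≠ 0 → IsUnit c := fun c hc => by
    refine (isUnit_pow_iff (Fact.out : p.Prime).ne_zero).1 ?_
    rw [hpow]
    exact (IsUnit.mk0 _ (pow_ne_zero _ hc)).map (algebraMap K C)
  exact IsLocalRing.of_isUnit_or_isUnit_one_sub_self fun c => by
    by_cases hc : χ c = 0
    · exact Or.inr (hunit _ (by simp [hc]))
    · exact Or.inl (hunit _ hc)

theorem aeval_eq_zero_imp {κ : Type u} (x : κ → C) (d : κ → Derivation K C C)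
    (hd : ∀ i j [Decidable (i = j)], d j (x i) = if i = j then 1 else 0) [Nontrivial C] :
    ∀ (N : ℕ) (P : MvPolynomial κ K), (∀ m ∈ P.support, (∀ i, m i < p) ∧ m.degree ≤ N) →
      MvPolynomial.aeval x P = 0 → P = 0 := by
  classical
  have hD : ∀ (j : κ) (P : MvPolynomial κ K),
      d j (MvPolynomial.aeval x P) = MvPolynomial.aeval x (MvPolynomial.pderiv j P) := by
    intro j P
    induction P using MvPolynomial.induction_on with
    | C a => simp
    | add P Q hP hQ => simp [hP, hQ]
    | mul_X P i hP =>
      rw [map_mul, MvPolynomial.aeval_X, (d j).leibniz, hP, MvPolynomial.pderiv_mul, map_add, map_mul,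
        map_mul, MvPolynomial.aeval_X, hd]
      rcases eq_or_ne i j with rfl | h
      · simp [mul_comm, add_comm]
      · simp [MvPolynomial.pderiv_X_of_ne h, h, mul_comm]
  intro N
  induction N with
  | zero =>
    intro P hP h0
    have hPC : P = MvPolynomial.C (MvPolynomial.coeff 0 P) := by
      ext m
      rw [MvPolynomial.coeff_C]
      split_ifs with hm
      · rw [hm]
      · rw [← MvPolynomial.notMem_support_iff]
        intro hmem
        exact hm ((Finsupp.degree_eq_zero_iff m).1 (Nat.le_zero.1 (hP m hmem).2)).symm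
    rw [hPC, MvPolynomial.aeval_C, FaithfulSMul.algebraMap_eq_zero_iff] at h0
    rw [hPC, h0, map_zero]
  | succ N ih =>
    intro P hP h0
    have hpd : ∀ j, MvPolynomial.pderiv j P = 0 := by
      intro j
      refine ih _ (fun m hm => ?_) (by rw [← hD, h0, map_zero])
      rw [MvPolynomial.mem_support_iff, MvPolynomial.coeff_pderiv] at hm
      obtain ⟨h1, h2⟩ := hP _ (MvPolynomial.mem_support_iff.2 (left_ne_zero_of_mul hm))
      refine ⟨fun i => lt_of_le_of_lt (by simp) (h1 i), ?_⟩
      rw [map_add, Finsupp.degree_single] at h2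
      omega
    have hPC : P = MvPolynomial.C (MvPolynomial.coeff 0 P) := by
      ext m
      rw [MvPolynomial.coeff_C]
      split_ifs with hm
      · rw [hm]
      · by_contra hne
        obtain ⟨j, hj⟩ : ∃ j, m j ≠ 0 := by
          by_contra hj
          push Not at hj
          exact hm (Finsupp.ext fun i => (hj i).symm)
        have h1 := congrArg (MvPolynomial.coeff (m - Finsupp.single j 1)) (hpd j)
        rw [MvPolynomial.coeff_pderiv, MvPolynomial.coeff_zero,
          Finsupp.sub_add_single_one_cancel hj, mul_eq_zero, or_iff_right hne] at h1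
        have h2 : ((m j : ℕ) : K) = 0 := by
          rw [Finsupp.coe_tsub, Pi.sub_apply, Finsupp.single_eq_same, ← Nat.cast_one (R := K),
            ← Nat.cast_add, Nat.sub_add_cancel (Nat.one_le_iff_ne_zero.2 hj)] at h1
          exact h1
        rw [CharP.cast_eq_zero_iff K p] at h2
        exact hj (Nat.eq_zero_of_dvd_of_lt h2 ((hP m (MvPolynomial.mem_support_iff.2 hne)).1 j))
    rw [hPC, MvPolynomial.aeval_C, FaithfulSMul.algebraMap_eq_zero_iff] at h0
    rw [hPC, h0, map_zero]

include hpow in
/-- A finite algebra of height one over a field with free differentials. -/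
theorem finrank_eq_pow [Module.Finite K C] [Module.Free C (Ω[C⁄K])] [Module.Finite C (Ω[C⁄K])] :
    Module.finrank K C = p ^ Module.finrank C (Ω[C⁄K]) := by
  classical
  haveI : IsLocalRing C := isLocalRing_of_character p χ hpow
  haveI : Nontrivial C := χ.toRingHom.domain_nontrivial
  haveI : Module.FinitePresentation C (Ω[C⁄K]) := Module.finitePresentation_of_projective C _
  let v : {c : C // χ c = 0} → Ω[C⁄K] := fun c => KaehlerDifferential.D K C c.1
  have hv : Submodule.span C (Set.range v) = ⊤ := by
    refine top_le_iff.1 ?_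
    rw [← KaehlerDifferential.span_range_derivation K C, Submodule.span_le]
    rintro _ ⟨c, rfl⟩
    refine Submodule.subset_span ⟨⟨c - algebraMap K C (χ c), by simp⟩, ?_⟩
    simp [v]
  obtain ⟨κ, a, b, hb⟩ := Module.exists_basis_of_span_of_flat v hv
  haveI : Finite κ := Module.Finite.finite_basis b
  haveI := Fintype.ofFinite κ
  let x : κ → C := fun i => (a i).1
  have hx : ∀ i, χ (x i) = 0 := fun i => (a i).2
  let d : κ → Derivation K C C := fun j => (b.coord j).compDer (KaehlerDifferential.D K C)
  have hd : ∀ i j [Decidable (i = j)], d j (x i) = if i = j then 1 else 0 := by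
    intro i j _
    change b.coord j (v (a i)) = _
    rw [← hb, Module.Basis.coord_apply, Module.Basis.repr_self, Finsupp.single_apply]
  -- linear independence
  have hli : LinearIndependent K (PBasis.Basic.monos p x) := by
    rw [linearIndependent_iff']
    intro s g hg e he
    let P : MvPolynomial κ K := ∑ e ∈ s, MvPolynomial.monomial e.1 (g e)
    have hP0 : P = 0 := by
      refine aeval_eq_zero_imp p x d hd (Fintype.card κ * p) P (fun m hm => ?_) ?_
      · obtain ⟨e', -, he'⟩ := Finset.mem_biUnion.1 (MvPolynomial.support_sum hm)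
        have := Finset.mem_singleton.1 (MvPolynomial.support_monomial_subset he')
        subst this
        refine ⟨e'.2, ?_⟩
        rw [Finsupp.degree_apply]
        refine le_trans (Finset.sum_le_card_nsmul _ _ p fun i _ => (e'.2 i).le) ?_
        rw [smul_eq_mul]
        exact Nat.mul_le_mul_right p (Finset.card_le_univ _)
      · rw [map_sum, ← hg]
        refine Finset.sum_congr rfl fun e _ => ?_
        rw [MvPolynomial.aeval_monomial, Algebra.smul_def]
        rfl
    have h1 := congrArg (MvPolynomial.coeff e.1) hP0
    rw [MvPolynomial.coeff_sum, MvPolynomial.coeff_zero, Finset.sum_eq_single e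
      (fun b _ hbe => by rw [MvPolynomial.coeff_monomial, if_neg (fun h => hbe (Subtype.ext h))])
      (fun h => absurd he h), MvPolynomial.coeff_monomial, if_pos rfl] at h1
    exact h1
  -- generation
  have hgen : Algebra.adjoin K (Set.range x) = ⊤ := by
    let m : Ideal C := RingHom.ker χ
    haveI : IsNoetherianRing C := IsNoetherianRing.of_finite K C
    obtain ⟨L, hL⟩ := (Ideal.FG.isNilpotent_iff_le_nilradical (IsNoetherian.noetherian m : m.FG)).2
      (fun c (hc : χ c = 0) => ⟨p, pow_eq_zero_of_apply_eq_zero p χ hpow hc⟩)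
    let N : Ideal C := Ideal.span (Set.range x)
    have hNm : N ≤ m := Ideal.span_le.2 (Set.range_subset_iff.2 hx)
    have hmN : m ≤ N := by
      let der : Derivation K C (C ⧸ (N ⊔ m • m)) :=
        Derivation.mk' (((N ⊔ m • m).mkQ.restrictScalars K).comp
          (LinearMap.id - (Algebra.linearMap K C).comp χ.toLinearMap)) fun y z => by
          simp only [LinearMap.comp_apply, LinearMap.coe_restrictScalars, LinearMap.sub_apply,
            LinearMap.id_apply, Algebra.linearMap_apply, AlgHom.toLinearMap_apply, Submodule.mkQ_apply,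
            ← Submodule.Quotient.mk_smul, ← Submodule.Quotient.mk_add, smul_eq_mul, map_mul]
          rw [Submodule.Quotient.eq]
          refine Submodule.mem_sup_right ?_
          have h1 : ∀ w : C, w - algebraMap K C (χ w) ∈ m := fun w => by
            change χ _ = 0; simp
          have h2 := neg_mem (Submodule.smul_mem_smul (h1 y) (h1 z))
          rw [smul_eq_mul] at h2
          convert h2 using 1
          ring
      have hlift : der.liftKaehlerDifferential = 0 := b.ext fun i => by
        rw [hb, Derivation.liftKaehlerDifferential_comp_D]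
        change Submodule.Quotient.mk (x i - algebraMap K C (χ (x i))) = 0
        rw [hx, map_zero, sub_zero, Submodule.Quotient.mk_eq_zero]
        exact Submodule.mem_sup_left (Ideal.subset_span ⟨i, rfl⟩)
      refine Submodule.le_of_le_smul_of_le_jacobson_bot (I := m) (IsNoetherian.noetherian m) ?_ ?_
      · intro c hc
        rw [Ideal.mem_jacobson_bot]
        intro y
        exact IsNilpotent.isUnit_add_one ((Commute.all _ _).isNilpotent_mul_right
          ⟨p, pow_eq_zero_of_apply_eq_zero p χ hpow hc⟩)
      · intro c hc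
        have h1 : der c = 0 := by rw [← Derivation.liftKaehlerDifferential_comp_D der c, hlift]; rfl
        change Submodule.Quotient.mk (c - algebraMap K C (χ c)) = 0 at h1
        rw [show χ c = 0 from hc, map_zero, sub_zero, Submodule.Quotient.mk_eq_zero] at h1
        exact h1
    have hmeq : m = N := le_antisymm hmN hNm
    have key : ∀ (i : ℕ) (y : C), y ∈ N ^ (L - i) → y ∈ Algebra.adjoin K (Set.range x) := by
      intro i
      induction i with
      | zero =>
        intro y hy
        rw [Nat.sub_zero, ← hmeq, hL, Ideal.zero_eq_bot, Ideal.mem_bot] at hy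
        rw [hy]; exact zero_mem _
      | succ i ih =>
        intro y hy
        by_cases hi : L ≤ i
        · exact ih y (by rwa [show L - i = L - (i + 1) by omega])
        obtain ⟨j, hj⟩ : ∃ j, j = L - (i + 1) := ⟨_, rfl⟩
        rw [← hj] at hy
        rw [show L - i = j + 1 by omega] at ih
        have hsp : N ^ j = Ideal.span (Set.range x ^ j) := Submodule.span_pow _ _
        have hsub : ∀ j : ℕ, Set.range x ^ j ⊆ (Algebra.adjoin K (Set.range x) : Set C) := by
          intro j
          induction j with
          | zero => rw [pow_zero]; exact Set.one_subset.2 (one_mem _)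
          | succ j ihj =>
            rw [pow_succ]
            exact Set.mul_subset_iff.2 fun u hu w hw => mul_mem (ihj hu) (Algebra.subset_adjoin hw)
        rw [hsp] at hy
        refine Submodule.span_induction (fun z hz => ?_) (zero_mem _) (fun _ _ _ _ h1 h2 => add_mem h1 h2)
          (fun r z hz hzT => ?_) hy
        · exact hsub j hz
        · replace hz : z ∈ N ^ j := by rw [hsp]; exact hz
          rw [smul_eq_mul, ← sub_add_cancel r (algebraMap K C (χ r)), add_mul]
          refine add_mem (ih _ ?_) (mul_mem (Subalgebra.algebraMap_mem _ _) hzT)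
          rw [pow_succ', ← hmeq]
          refine Ideal.mul_mem_mul ?_ (hmeq.symm ▸ hz)
          change χ _ = 0; simp
    refine top_le_iff.1 fun y _ => key L y ?_
    rw [Nat.sub_self, pow_zero, Ideal.one_eq_top]
    exact Submodule.mem_top
  have hspan : Submodule.span K (Set.range (PBasis.Basic.monos p x)) = ⊤ := by
    rw [PBasis.Basic.span_monos_eq (Fact.out : p.Prime).one_lt x (fun _ => (0 : K)) fun i => by
      rw [map_zero, pow_eq_zero_of_apply_eq_zero p χ hpow (hx i)], hgen]
    exact Algebra.top_toSubmodule
  let eq : PBasis.Basic.Exp p κ ≃ (κ → Fin p) :=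
    { toFun := fun f i => ⟨f.1 i, f.2 i⟩
      invFun := fun g => ⟨Finsupp.equivFunOnFinite.symm fun i => (g i : ℕ), fun i => (g i).2⟩
      left_inv := fun f => Subtype.ext (Finsupp.ext fun i => rfl)
      right_inv := fun g => funext fun i => rfl }
  rw [Module.finrank_eq_nat_card_basis (Module.Basis.mk hli hspan.ge), Nat.card_congr eq, Nat.card_fun,
    Nat.card_fin, Module.finrank_eq_nat_card_basis b]

include p in
theorem finrank_geometric_fibre {R B : Type u} [CommRing R] [CommRing B] [Algebra R B] [Module.Finite R B]
    [CharP B p] [Algebra R K] (χB : B →ₐ[R] K)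
    (hB : ∀ b : B, b ^ p ∈ Set.range (algebraMap R B))
    [Module.Finite B (Ω[B⁄R])] [Module.Projective B (Ω[B⁄R])] (r : ℕ)
    (hr : ∀ P : PrimeSpectrum B, Module.rankAtStalk (R := B) (Ω[B⁄R]) P = r) :
    Module.finrank K (K ⊗[R] B) = p ^ r := by
  classical
  let χ : K ⊗[R] B →ₐ[K] K := Algebra.TensorProduct.lift (Algebra.ofId K K) χB fun _ _ => Commute.all _ _
  haveI : Nontrivial (K ⊗[R] B) := χ.toRingHom.domain_nontrivial
  haveI : CharP (K ⊗[R] B) p := charP_of_injective_algebraMap (algebraMap K (K ⊗[R] B)).injective p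
  have hpow : ∀ c : K ⊗[R] B, c ^ p = algebraMap K (K ⊗[R] B) (χ c ^ p) := by
    intro c
    induction c using TensorProduct.induction_on with
    | zero => simp [(Fact.out : p.Prime).ne_zero]
    | tmul l b =>
      obtain ⟨z, hz⟩ := hB b
      have h2 : χ (l ⊗ₜ[R] b) = l * χB b := Algebra.TensorProduct.lift_tmul _ _ _ _ _
      rw [h2, Algebra.TensorProduct.tmul_pow, Algebra.TensorProduct.algebraMap_apply, mul_pow, ← map_pow χB,
        ← hz, AlgHom.commutes, Algebra.algebraMap_self, RingHom.id_apply,
        ← mul_comm (algebraMap R K z), ← Algebra.smul_def, TensorProduct.smul_tmul, Algebra.smul_def, mul_one]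
    | add x y hx hy => rw [add_pow_char, hx, hy, map_add χ, add_pow_char, map_add]
  haveI : IsLocalRing (K ⊗[R] B) := isLocalRing_of_character p χ hpow
  letI : Algebra B (K ⊗[R] B) := Algebra.TensorProduct.rightAlgebra
  let eC : (K ⊗[R] B) ⊗[B] Ω[B⁄R] ≃ₗ[K ⊗[R] B] Ω[(K ⊗[R] B)⁄K] :=
    KaehlerDifferential.tensorKaehlerEquiv R K B (K ⊗[R] B)
  haveI : Module.Finite (K ⊗[R] B) (Ω[(K ⊗[R] B)⁄K]) := Module.Finite.equiv eC
  haveI : Module.Projective (K ⊗[R] B) (Ω[(K ⊗[R] B)⁄K]) := Module.Projective.of_equiv eC
  haveI : Module.Free (K ⊗[R] B) (Ω[(K ⊗[R] B)⁄K]) := Module.free_of_flat_of_isLocalRing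
  let P₀ : PrimeSpectrum (K ⊗[R] B) := ⟨RingHom.ker χ, RingHom.ker_isPrime _⟩
  have hrk : Module.finrank (K ⊗[R] B) (Ω[(K ⊗[R] B)⁄K]) = r := by
    have h := congrFun (Module.rankAtStalk_eq_finrank_of_free (R := K ⊗[R] B) (M := Ω[(K ⊗[R] B)⁄K])) P₀
    rw [← Module.rankAtStalk_eq_of_equiv eC, Module.rankAtStalk_baseChange, hr] at h
    exact h.symm
  rw [finrank_eq_pow p χ hpow, hrk]

end field

section relFrob

variable (p : ℕ) [Fact p.Prime] (A : Type u) [CommRing A] [CharP A p]
variable (B : Type u) [CommRing B] [Algebra A B] [CharP B p]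

theorem finite_projective_rank [Algebra.Smooth A B] (r : ℕ)
    (hr : ∀ q : PrimeSpectrum B, Module.rankAtStalk (R := B) (KaehlerDifferential A B) q = r) :
    letI := (FrobAlg.relFrob p A B).toAlgebra
    Module.Finite (FrobAlg.BaseChange p A B) B ∧ Module.Projective (FrobAlg.BaseChange p A B) B ∧
      ∀ q : PrimeSpectrum (FrobAlg.BaseChange p A B),
        Module.rankAtStalk (R := FrobAlg.BaseChange p A B) B q = p ^ r := by
  classical
  let T := FrobAlg.Twist p A
  let BC := FrobAlg.BaseChange p A B
  letI algBC : Algebra BC B := (FrobAlg.relFrob p A B).toAlgebra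
  have hmap : ∀ z : BC, algebraMap BC B z = FrobAlg.relFrob p A B z := fun z => rfl
  have htmul : ∀ (b : B) (a : T), algebraMap BC B (b ⊗ₜ[A] a) =
      b ^ p * algebraMap A B ((FrobAlg.toTwist p A).symm a) := fun b a =>
    (hmap _).trans (RelFrobFlat.Main.relFrob_tmul p A B b a)
  haveI : Algebra.FinitePresentation BC B := by
    let f : T →+* BC := (Algebra.TensorProduct.includeRight : T →ₐ[A] BC).toRingHom
    have hcomp : (algebraMap BC B).comp f = (algebraMap A B).comp ((FrobAlg.toTwist p A).symm : T →+* A) := by
      refine RingHom.ext fun a => ?_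
      change algebraMap BC B ((1 : B) ⊗ₜ[A] a) = _
      rw [htmul, one_pow, one_mul]
      rfl
    have hf : f.FiniteType := by
      have h : Algebra.FiniteType T BC :=
        Algebra.FiniteType.equiv (inferInstance : Algebra.FiniteType T (T ⊗[A] B))
          (Algebra.TensorProduct.commRight A T B)
      exact RingHom.finiteType_algebraMap.2 h
    have hgf : ((algebraMap BC B).comp f).FinitePresentation := by
      rw [hcomp]
      exact (RingHom.finitePresentation_algebraMap.2 inferInstance).comp
        (RingHom.FinitePresentation.of_bijective (FrobAlg.toTwist p A).symm.bijective)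
    exact RingHom.finitePresentation_algebraMap.1 (RingHom.FinitePresentation.of_comp_finiteType f hgf hf)
  haveI : Algebra.IsIntegral BC B := ⟨fun b => (Groth.Agent.S3191.result p A B).1 b⟩
  haveI : Module.Finite BC B := Algebra.IsIntegral.finite
  haveI : Module.FinitePresentation BC B := Module.FinitePresentation.of_finite_of_finitePresentation BC B
  haveI : Module.Flat BC B := RelFrobFlat.Main.relFrob_flat p A B
  refine ⟨inferInstance, Module.Flat.projective_of_finitePresentation, fun q => ?_⟩
  -- Kähler differentials over `BC` and over `A` agree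
  have hDp : ∀ {M : Type u} [AddCommGroup M] [Module B M] [Module A M] (D : Derivation A B M) (z : BC),
      D (algebraMap BC B z) = 0 := by
    intro M _ _ _ D z
    induction z using TensorProduct.induction_on with
    | zero => rw [map_zero, map_zero]
    | tmul b a =>
      rw [htmul, D.leibniz, D.map_algebraMap, smul_zero, zero_add, D.leibniz_pow,
        ← Nat.cast_smul_eq_nsmul B, CharP.cast_eq_zero, zero_smul, smul_zero]
    | add x y hx hy => rw [map_add, map_add, hx, hy, add_zero]
  have hDA : ∀ (a : A), KaehlerDifferential.D BC B (algebraMap A B a) = 0 := fun a => by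
    have h : algebraMap A B a = algebraMap BC B (1 ⊗ₜ[A] FrobAlg.toTwist p A a) := by
      rw [htmul, one_pow, one_mul, RingEquiv.symm_apply_apply]
    rw [h, Derivation.map_algebraMap]
  let DA : Derivation A B (Ω[B⁄BC]) := Derivation.mk'
    { toFun := KaehlerDifferential.D BC B
      map_add' := map_add _
      map_smul' := fun a b => by
        rw [Algebra.smul_def, Derivation.leibniz, hDA, smul_zero, add_zero, RingHom.id_apply, algebraMap_smul] }
    fun a b => Derivation.leibniz _ a b
  let DB : Derivation BC B (Ω[B⁄A]) := Derivation.mk'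
    { toFun := KaehlerDifferential.D A B
      map_add' := map_add _
      map_smul' := fun z b => by
        rw [Algebra.smul_def, Derivation.leibniz, hDp, smul_zero, add_zero, RingHom.id_apply, algebraMap_smul] }
    fun a b => Derivation.leibniz _ a b
  let eΩ : Ω[B⁄A] ≃ₗ[B] Ω[B⁄BC] := LinearEquiv.ofLinearMap DA.liftKaehlerDifferential DB.liftKaehlerDifferential
    (LinearMap.ext_on_range (KaehlerDifferential.span_range_derivation BC B) fun b => by
      rw [LinearMap.comp_apply, Derivation.liftKaehlerDifferential_comp_D]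
      change DA.liftKaehlerDifferential (KaehlerDifferential.D A B b) = _
      rw [Derivation.liftKaehlerDifferential_comp_D]
      rfl)
    (LinearMap.ext_on_range (KaehlerDifferential.span_range_derivation A B) fun b => by
      rw [LinearMap.comp_apply, Derivation.liftKaehlerDifferential_comp_D]
      change DB.liftKaehlerDifferential (KaehlerDifferential.D BC B b) = _
      rw [Derivation.liftKaehlerDifferential_comp_D]
      rfl)
  -- a geometric point of `B` above `q`
  have hkerle : RingHom.ker (algebraMap BC B) ≤ q.asIdeal := fun z hz => by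
    have h0 : z ^ p = 0 := (Groth.Agent.S3191.result p A B).2 z hz
    exact q.isPrime.mem_of_pow_mem p (h0 ▸ q.asIdeal.zero_mem)
  obtain ⟨Q, -, hQ, hQq⟩ := Ideal.exists_ideal_over_prime_of_isIntegral q.asIdeal (⊥ : Ideal B) hkerle
  haveI := hQ
  let K := AlgebraicClosure (FractionRing (B ⧸ Q))
  let χ₀ : B →+* K := (algebraMap (FractionRing (B ⧸ Q)) K).comp
    ((algebraMap (B ⧸ Q) (FractionRing (B ⧸ Q))).comp (Ideal.Quotient.mk Q))
  have hχ₀ : ∀ b, χ₀ b = 0 ↔ b ∈ Q := fun b => by
    rw [RingHom.comp_apply, map_eq_zero, RingHom.comp_apply, IsFractionRing.to_map_eq_zero_iff,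
      Ideal.Quotient.eq_zero_iff_mem]
  haveI : CharP K p := by
    rw [CharP.charP_iff_prime_eq_zero Fact.out, ← map_natCast χ₀, CharP.cast_eq_zero, map_zero]
  letI : Algebra BC K := (χ₀.comp (algebraMap BC B)).toAlgebra
  let χB : B →ₐ[BC] K := ⟨χ₀, fun _ => rfl⟩
  haveI : Module.Finite B (Ω[B⁄BC]) := Module.Finite.equiv eΩ
  haveI : Module.Projective B (Ω[B⁄BC]) := Module.Projective.of_equiv eΩ
  have hfib := finrank_geometric_fibre p χB (fun b => ⟨b ⊗ₜ[A] (1 : T), by rw [htmul, map_one, map_one, mul_one]⟩) r
    fun P => by rw [← Module.rankAtStalk_eq_of_equiv eΩ, hr]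
  let P₁ : PrimeSpectrum K := ⟨⊥, Ideal.isPrime_bot⟩
  have hq : P₁.comap (algebraMap BC K) = q := by
    ext1
    rw [← hQq]
    ext z
    exact hχ₀ _
  rw [← hq, ← Module.rankAtStalk_baseChange (S := K) (M := B),
    congrFun (Module.rankAtStalk_eq_finrank_of_free (R := K) (M := K ⊗[BC] B)) P₁]
  exact hfib

end relFrob

end Groth.Agent.Lib.H58RelFrobRank
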