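import Groth.Prelude.Def_FrobAlg
import Mathlib.LinearAlgebra.TensorProduct.Basis

/-! # Coordinates on a Frobenius twist of a free module -/

set_option autoImplicit false
universe u v

open TensorProduct

namespace Groth.Agent.Lib.H58VerschCoord

variable (p : ℕ) [Fact p.Prime] {k : Type u} [CommRing k] [CharP k p] {M : Type v} [CommRing M] [Algebra k M]
  {ι : Type} [Fintype ι] [DecidableEq ι]

/-- coordinates with respect to a basis, twisted back along the Frobenius -/
noncomputable def coords (bb : Module.Basis ι k M) : FrobAlg.BaseChange p k M ≃+ (ι → k) :=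
  (TensorProduct.equivFinsuppOfBasisLeft bb).toAddEquiv.trans
    ((Finsupp.linearEquivFunOnFinite k (FrobAlg.Twist p k) ι).toAddEquiv.trans
      (AddEquiv.arrowCongr (Equiv.refl ι) (FrobAlg.toTwist p k).symm.toAddEquiv))

lemma coords_apply (bb : Module.Basis ι k M) (z : FrobAlg.BaseChange p k M) (i : ι) :
    coords p bb z i = (FrobAlg.toTwist p k).symm (TensorProduct.equivFinsuppOfBasisLeft bb z i) := rfl

lemma coords_mul (bb : Module.Basis ι k M) (z : FrobAlg.BaseChange p k M) (r : k) :
    coords p bb (z * ((1 : M) ⊗ₜ[k] FrobAlg.toTwist p k r)) = r • coords p bb z := by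
  funext i
  rw [Pi.smul_apply, smul_eq_mul, coords_apply, coords_apply]
  induction z using TensorProduct.induction_on with
  | zero => simp
  | add u w hu hw => simp only [add_mul, map_add, Finsupp.add_apply, hu, hw, mul_add]
  | tmul m s' =>
    rw [Algebra.TensorProduct.tmul_mul_tmul, mul_one, TensorProduct.equivFinsuppOfBasisLeft_apply_tmul_apply,
      TensorProduct.equivFinsuppOfBasisLeft_apply_tmul_apply, ← smul_mul_assoc, map_mul, RingEquiv.symm_apply_apply, mul_comm]

end Groth.Agent.Lib.H58VerschCoord
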