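import Mathlib

open TensorProduct WithConv

universe u v

namespace Groth.Agent.Lib.HopfConnKrull

variable {k : Type u} [Field k] {A : Type v} [CommRing A] [HopfAlgebra k A]

/-- A point, viewed in `A`. -/
noncomputable def ι (g : WithConv (A →ₐ[k] k)) : WithConv (A →ₐ[k] A) :=
  toConv ((Algebra.ofId k A).comp g.ofConv)

theorem ι_mul (g h : WithConv (A →ₐ[k] k)) : ι (g * h) = ι g * ι h := by
  apply WithConv.ofConv_injective
  exact AlgHom.comp_convMul_distrib _ g h

theorem ι_one : ι (1 : WithConv (A →ₐ[k] k)) = 1 := by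
  apply WithConv.ofConv_injective
  refine AlgHom.ext fun a => ?_
  show algebraMap k A ((1 : WithConv (A →ₐ[k] k)) a) = algebraMap k A (Coalgebra.counit a)
  rw [AlgHom.convOne_apply]
  rfl

/-- Translation by a point. -/
noncomputable def τ (g : WithConv (A →ₐ[k] k)) : A →ₐ[k] A := (ι g * toConv (AlgHom.id k A)).ofConv

theorem τ_one : τ (1 : WithConv (A →ₐ[k] k)) = AlgHom.id k A := by
  rw [τ, ι_one, one_mul, ofConv_toConv]

theorem point_comp_τ (x g : WithConv (A →ₐ[k] k)) : x.ofConv.comp (τ g) = (g * x).ofConv := by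
  rw [τ, AlgHom.comp_convMul_distrib]
  have h1 : toConv (x.ofConv.comp (ι g).ofConv) = g := by
    apply WithConv.ofConv_injective
    exact AlgHom.ext fun a => x.ofConv.commutes _
  rw [h1, ofConv_toConv, AlgHom.comp_id, toConv_ofConv]

theorem τ_mul (g h : WithConv (A →ₐ[k] k)) : τ (g * h) = (τ h).comp (τ g) := by
  conv_rhs => rw [τ, τ, AlgHom.comp_convMul_distrib]
  have h1 : toConv ((ι h * toConv (AlgHom.id k A)).ofConv.comp (ι g).ofConv) = ι g := by
    apply WithConv.ofConv_injective
    exact AlgHom.ext fun a => (ι h * toConv (AlgHom.id k A)).ofConv.commutes _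
  rw [h1, ofConv_toConv, AlgHom.comp_id, toConv_ofConv, ← mul_assoc, ← ι_mul, τ]

theorem τ_inv_right (g : WithConv (A →ₐ[k] k)) (a : A) : τ g (τ g⁻¹ a) = a := by
  rw [← AlgHom.comp_apply, ← τ_mul, inv_mul_cancel, τ_one, AlgHom.id_apply]

theorem τ_inv_left (g : WithConv (A →ₐ[k] k)) (a : A) : τ g⁻¹ (τ g a) = a := by
  rw [← AlgHom.comp_apply, ← τ_mul, mul_inv_cancel, τ_one, AlgHom.id_apply]

theorem τ_surjective (g : WithConv (A →ₐ[k] k)) : Function.Surjective (τ g) :=
  fun a => ⟨τ g⁻¹ a, τ_inv_right g a⟩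

theorem comap_τ_iInf_pow (g : WithConv (A →ₐ[k] k)) :
    (⨅ n : ℕ, RingHom.ker (Bialgebra.counitAlgHom k A) ^ n).comap (τ g) =
      ⨅ n : ℕ, RingHom.ker g.ofConv ^ n := by
  let e : A ≃+* A :=
    { (τ g : A →+* A) with invFun := τ g⁻¹, left_inv := τ_inv_left g, right_inv := τ_inv_right g }
  have hker : (RingHom.ker (Bialgebra.counitAlgHom k A)).comap e = RingHom.ker g.ofConv := by
    ext a
    have h := congrArg (fun f : A →ₐ[k] k => f a) (point_comp_τ (1 : WithConv (A →ₐ[k] k)) g)
    simp only [mul_one, AlgHom.comp_apply] at h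
    rw [Ideal.mem_comap, RingHom.mem_ker, RingHom.mem_ker]
    show Coalgebra.counit (R := k) (τ g a) = 0 ↔ g.ofConv a = 0
    rw [← h]
    rfl
  have hpow : ∀ n : ℕ, (RingHom.ker (Bialgebra.counitAlgHom k A) ^ n).comap e =
      RingHom.ker g.ofConv ^ n := by
    intro n
    rw [← hker, ← Ideal.map_symm (f := e), ← Ideal.map_symm (f := e)]
    exact Ideal.map_pow _ _ _
  refine Eq.trans ?_ (iInf_congr hpow)
  rw [← Ideal.comap_iInf]
  rfl

variable [IsAlgClosed k] [Algebra.FiniteType k A]

theorem exists_point (m : Ideal A) [m.IsMaximal] : ∃ g : WithConv (A →ₐ[k] k), RingHom.ker g.ofConv = m := by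
  let := Ideal.Quotient.field m
  have : Module.Finite k (A ⧸ m) := finite_of_finite_type_of_isJacobsonRing k (A ⧸ m)
  have : Algebra.IsIntegral k (A ⧸ m) := Algebra.IsIntegral.of_finite k _
  have hb := IsAlgClosed.algebraMap_bijective_of_isIntegral (k := k) (K := A ⧸ m)
  let e : k ≃ₐ[k] A ⧸ m := AlgEquiv.ofBijective (Algebra.ofId k _) hb
  refine ⟨toConv (e.symm.toAlgHom.comp (Ideal.Quotient.mkₐ k m)), ?_⟩
  ext a
  simp [RingHom.mem_ker, Ideal.Quotient.eq_zero_iff_mem]

theorem isNilpotent_of_points {a : A} (h : ∀ g : WithConv (A →ₐ[k] k), g a = 0) : IsNilpotent a := by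
  haveI : IsJacobsonRing A := isJacobsonRing_of_finiteType (A := k)
  have h1 : a ∈ Ideal.jacobson (⊥ : Ideal A) := by
    refine Ideal.mem_sInf.2 fun m hm => ?_
    haveI : m.IsMaximal := hm.2
    obtain ⟨g, hg⟩ := exists_point (k := k) m
    rw [← hg]
    exact h g
  rw [← Ideal.radical_eq_jacobson] at h1
  obtain ⟨n, hn⟩ := h1
  exact ⟨n, hn⟩

theorem iInf_pow_eq_bot (hconn : ∀ e : A, IsIdempotentElem e → e = 0 ∨ e = 1) :
    (⨅ n : ℕ, RingHom.ker (Bialgebra.counitAlgHom k A) ^ n) = ⊥ := by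
  classical
  haveI : IsNoetherianRing A := Algebra.FiniteType.isNoetherianRing k A
  set m := RingHom.ker (Bialgebra.counitAlgHom k A) with hm
  set K := ⨅ n : ℕ, m ^ n with hK
  have hann : ∀ (I : Ideal A) (f : A), f ∈ (⨅ n : ℕ, I ^ n) → ∃ r ∈ I, r * f = f := by
    intro I f hf
    have hf' : f ∈ (⨅ i : ℕ, I ^ i • (⊤ : Submodule A A)) := by
      have : ∀ i : ℕ, I ^ i • (⊤ : Submodule A A) = I ^ i := fun i => by
        rw [smul_eq_mul, ← Ideal.one_eq_top, mul_one]
      simpa only [this] using hf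
    obtain ⟨r, hr⟩ := (Ideal.mem_iInf_smul_pow_eq_bot_iff I f).1 hf'
    exact ⟨r.1, r.2, by simpa [smul_eq_mul] using hr⟩
  obtain ⟨s, hs1, hsK⟩ : ∃ s : A, Bialgebra.counitAlgHom k A s = 1 ∧ ∀ f ∈ K, s * f = 0 := by
    obtain ⟨T, hT⟩ := IsNoetherian.noetherian K
    choose! r hr hrf using fun f hf => hann m f hf
    refine ⟨∏ f ∈ T, (1 - r f), ?_, fun f hf => ?_⟩
    · rw [map_prod]
      refine Finset.prod_eq_one fun f hf => ?_
      have h0 := hr f (show f ∈ K by rw [← hT]; exact Submodule.subset_span hf)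
      rw [hm, RingHom.mem_ker] at h0
      rw [map_sub, map_one, h0, sub_zero]
    · rw [← hT] at hf
      induction hf using Submodule.span_induction with
      | zero => simp
      | add x y _ _ hx hy => rw [mul_add, hx, hy, add_zero]
      | smul c x _ hx => rw [smul_eq_mul, mul_left_comm, hx, mul_zero]
      | mem x hx =>
        rw [← Finset.mul_prod_erase _ _ hx, mul_right_comm, sub_mul, one_mul,
          hrf x (show x ∈ K by rw [← hT]; exact Submodule.subset_span hx), sub_self, zero_mul]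
  -- points where `s` does not vanish stabilise `K`
  have hstab : ∀ g : WithConv (A →ₐ[k] k), g.ofConv s ≠ 0 → K.comap (τ g) = K := by
    intro g hg
    have hle : K ≤ K.comap (τ g) := by
      intro f hf
      rw [hK, comap_τ_iInf_pow, Ideal.mem_iInf]
      intro n
      let r : A := 1 - algebraMap k A (g.ofConv s)⁻¹ * s
      have hr : r ∈ RingHom.ker g.ofConv := by
        simp [r, RingHom.mem_ker, inv_mul_cancel₀ hg]
      have hrf : r * f = f := by
        rw [sub_mul, one_mul, mul_assoc, hsK f hf, mul_zero, sub_zero]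
      have : ∀ n : ℕ, r ^ n * f = f := fun n => by
        induction n with
        | zero => simp
        | succ n ih => rw [pow_succ, mul_assoc, hrf, ih]
      rw [← this n]
      exact Ideal.mul_mem_right _ _ (Ideal.pow_mem_pow hr n)
    let c : ℕ → Ideal A := fun n => (fun I : Ideal A => I.comap (τ g))^[n] K
    have hmono : Monotone c := by
      refine monotone_nat_of_le_succ fun n => ?_
      induction n with
      | zero => exact hle
      | succ n ih =>
        simp only [c, Function.iterate_succ_apply']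
        simp only [c, Function.iterate_succ_apply'] at ih
        exact Ideal.comap_mono ih
    obtain ⟨n, hn⟩ := monotone_stabilizes_iff_noetherian.2 ‹IsNoetherianRing A› ⟨c, hmono⟩
    have h1 : c n = c (n + 1) := hn (n + 1) (Nat.le_succ n)
    simp only [c, Function.iterate_succ_apply] at h1
    exact ((Ideal.comap_injective_of_surjective (τ g) (τ_surjective g)).iterate n h1).symm
  let H : WithConv (A →ₐ[k] k) → Prop := fun g => K.comap (τ g) = K
  have hmul : ∀ g h, H g → H h → H (g * h) := by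
    intro g h hg hh
    show K.comap (τ (g * h)) = K
    rw [τ_mul, show K.comap ((τ h).comp (τ g)) = (K.comap (τ h)).comap (τ g) from rfl, hh, hg]
  have hinv : ∀ g, H g → H g⁻¹ := by
    intro g hg
    show K.comap (τ g⁻¹) = K
    conv_lhs => rw [← hg]
    ext a
    show τ g (τ g⁻¹ a) ∈ K ↔ a ∈ K
    rw [τ_inv_right]
  have h1 : H 1 := by
    show K.comap (τ 1) = K
    rw [τ_one]
    rfl
  let sp : WithConv (A →ₐ[k] k) → A := fun g => τ g⁻¹ s
  have hsp : ∀ g x : WithConv (A →ₐ[k] k), x.ofConv (sp g) = (g⁻¹ * x).ofConv s := fun g x => by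
    rw [← point_comp_τ x g⁻¹]
    rfl
  have hsp1 : ∀ g : WithConv (A →ₐ[k] k), g.ofConv (sp g) = 1 := fun g => by
    rw [hsp, inv_mul_cancel]
    exact hs1
  have hsp0 : ∀ g x : WithConv (A →ₐ[k] k), x.ofConv (sp g) ≠ 0 → (H g ↔ H x) := by
    intro g x hx
    rw [hsp] at hx
    have hgx : H (g⁻¹ * x) := hstab _ hx
    refine ⟨fun hg => ?_, fun hxH => ?_⟩
    · simpa using hmul _ _ hg hgx
    · simpa using hmul _ _ hxH (hinv _ hgx)
  have hall : ∀ g, H g := by
    let J1 := Ideal.span (sp '' {g | H g})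
    let J2 := Ideal.span (sp '' {g | ¬H g})
    have hv1 : ∀ a ∈ J1, ∀ x, ¬H x → x.ofConv a = 0 := by
      intro a ha x hx
      refine (Ideal.span_le (I := RingHom.ker x.ofConv)).2 ?_ ha
      rintro _ ⟨g, hg, rfl⟩
      by_contra h0
      exact hx ((hsp0 g x h0).1 hg)
    have hv2 : ∀ a ∈ J2, ∀ x, H x → x.ofConv a = 0 := by
      intro a ha x hx
      refine (Ideal.span_le (I := RingHom.ker x.ofConv)).2 ?_ ha
      rintro _ ⟨g, hg, rfl⟩
      by_contra h0
      exact hg ((hsp0 g x h0).2 hx)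
    have htop : J1 ⊔ J2 = ⊤ := by
      by_contra h
      obtain ⟨M, hM, hle⟩ := Ideal.exists_le_maximal _ h
      obtain ⟨g, hg⟩ := exists_point (k := k) M
      have hmem : sp g ∈ J1 ⊔ J2 := by
        by_cases hg' : H g
        · exact Ideal.mem_sup_left (Ideal.subset_span ⟨g, hg', rfl⟩)
        · exact Ideal.mem_sup_right (Ideal.subset_span ⟨g, hg', rfl⟩)
      have h0 := hle hmem
      rw [← hg, RingHom.mem_ker, hsp1] at h0
      exact one_ne_zero h0
    obtain ⟨a, ha, b, hb, hab⟩ := Submodule.mem_sup.1 ((Ideal.eq_top_iff_one _).1 htop)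
    obtain ⟨n, hn⟩ := isNilpotent_of_points (k := k) (a := a * b) fun x => by
      show x.ofConv (a * b) = 0
      by_cases hx : H x
      · rw [map_mul, hv2 b hb x hx, mul_zero]
      · rw [map_mul, hv1 a ha x hx, zero_mul]
    have hn1 : (a * b) ^ (n + 1) = 0 := by rw [pow_succ, hn, zero_mul]
    obtain ⟨u, v, huv⟩ := IsCoprime.pow (m := n + 1) (n := n + 1) (show IsCoprime a b from ⟨1, 1, by simpa using hab⟩)
    have hidem : IsIdempotentElem (u * a ^ (n + 1)) := by
      show u * a ^ (n + 1) * (u * a ^ (n + 1)) = u * a ^ (n + 1)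
      rw [mul_pow] at hn1
      linear_combination (u * a ^ (n + 1)) * huv - u * v * hn1
    intro g
    rcases hconn _ hidem with h0 | h0
    · exfalso
      have hx := congrArg (fun z => (1 : WithConv (A →ₐ[k] k)).ofConv z) huv
      simp only [h0, zero_add, map_mul, map_pow, map_one, hv2 b hb 1 h1, zero_pow (Nat.succ_ne_zero n), mul_zero]
        at hx
      exact zero_ne_one hx
    · by_contra hg
      have hx := congrArg (fun z => g.ofConv z) h0
      simp only [map_mul, map_pow, map_one, hv1 a ha g hg, zero_pow (Nat.succ_ne_zero n), mul_zero] at hx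
      exact zero_ne_one hx
  rw [eq_bot_iff]
  intro f hf
  rw [Ideal.mem_bot]
  by_contra hne
  have hA : Ideal.span ({f} : Set A) ≠ ⊥ := by simpa using hne
  have hne' : (Ideal.span ({f} : Set A)).annihilator ≠ ⊤ := by
    intro h
    have : (1 : A) • f = 0 := Submodule.mem_annihilator.1 (by rw [h]; exact Submodule.mem_top) f (Ideal.subset_span (Set.mem_singleton f))
    exact hne (by simpa using this)
  obtain ⟨M, hM, hle⟩ := Ideal.exists_le_maximal _ hne'
  obtain ⟨g, hg⟩ := exists_point (k := k) M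
  have hfg : f ∈ ⨅ n : ℕ, RingHom.ker g.ofConv ^ n := by
    rw [← comap_τ_iInf_pow, ← hm, ← hK, hall g]; exact hf
  obtain ⟨r, hr, hrf⟩ := hann _ f hfg
  have h2 : (1 - r) ∈ (Ideal.span ({f} : Set A)).annihilator := by
    show (1 - r) ∈ Submodule.annihilator (Submodule.span A ({f} : Set A))
    rw [Submodule.mem_annihilator_span_singleton, smul_eq_mul, sub_mul, one_mul, hrf, sub_self]
  have h3 := hle h2
  rw [← hg, RingHom.mem_ker, map_sub, map_one, RingHom.mem_ker.1 hr, sub_zero] at h3
  exact one_ne_zero h3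

end Groth.Agent.Lib.HopfConnKrull
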