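import Mathlib.RingTheory.HopfAlgebra.Basic
import Mathlib.RingTheory.Bialgebra.Hom
import Mathlib.RingTheory.Trace.Basic
import Mathlib.RingTheory.Flat.Basic
import Mathlib.LinearAlgebra.Dual.Basis
import Groth.Agent.Lib.Unram.TraceEtale

/-!
The trace form of a finite-dimensional commutative Hopf algebra of invertible dimension is
non-degenerate.
-/

noncomputable section

universe u

open TensorProduct Coalgebra

namespace Groth.Agent.Lib.HopfTraceForm

variable (k A : Type u) [Field k] [CommRing A] [HopfAlgebra k A]

/-- `(g, h) ↦ (g, g h)`. -/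
def shear : A ⊗[k] A →ₐ[A] A ⊗[k] A :=
  Algebra.TensorProduct.lift (Algebra.ofId A _) (Bialgebra.comulAlgHom k A) fun _ _ ↦ .all _ _

lemma shear_tmul (a b : A) : shear k A (a ⊗ₜ b) = (a ⊗ₜ 1) * comul (R := k) b := by
  rw [shear, Algebra.TensorProduct.lift_tmul, Bialgebra.comulAlgHom_apply]
  rfl

lemma shear_surjective : Function.Surjective (shear k A) := by
  intro z
  induction z using TensorProduct.induction_on with
  | zero => exact ⟨0, map_zero _⟩
  | add p q hp hq =>
      obtain ⟨p, rfl⟩ := hp
      obtain ⟨q, rfl⟩ := hq
      exact ⟨p + q, map_add _ _ _⟩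
  | tmul a b =>
    refine ⟨(a ⊗ₜ 1) * (HopfAlgebra.antipode k (A := A)).rTensor A (comul b), ?_⟩
    have hz : ∀ z : A ⊗[k] A, shear k A ((HopfAlgebra.antipode k (A := A)).rTensor A z) =
        ((LinearMap.mul' k A ∘ₗ (HopfAlgebra.antipode k).rTensor A)).rTensor A
          ((TensorProduct.assoc k A A A).symm ((comul (R := k) (A := A)).lTensor A z)) := by
      intro z
      induction z using TensorProduct.induction_on with
      | zero => simp
      | add p q hp hq => simp only [map_add, hp, hq]
      | tmul p q =>
        simp only [LinearMap.rTensor_tmul, LinearMap.lTensor_tmul, shear_tmul]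
        generalize comul (R := k) q = w
        induction w using TensorProduct.induction_on with
        | zero => simp
        | add s t hs ht => simp only [tmul_add, mul_add, map_add, hs, ht]
        | tmul s t => simp
    rw [map_mul, hz, coassoc_symm_apply]
    have h1 : shear k A (a ⊗ₜ 1) = a ⊗ₜ 1 := by rw [shear_tmul, Bialgebra.comul_one, mul_one]
    have h2 : ∀ w : A ⊗[k] A, (LinearMap.mul' k A ∘ₗ (HopfAlgebra.antipode k).rTensor A).rTensor A
        ((comul (R := k) (A := A)).rTensor A w) =
        (Algebra.linearMap k A).rTensor A ((counit (R := k) (A := A)).rTensor A w) := by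
      intro w
      induction w using TensorProduct.induction_on with
      | zero => simp
      | add s t hs ht => simp only [map_add, hs, ht]
      | tmul s t => simp [HopfAlgebra.mul_antipode_rTensor_comul_apply]
    rw [h1, h2, rTensor_counit_comul, LinearMap.rTensor_tmul, Algebra.linearMap_apply, map_one,
      Algebra.TensorProduct.tmul_mul_tmul, mul_one, one_mul]

theorem traceForm_injective [Module.Finite k A] (hn : (Module.finrank k A : k) ≠ 0) :
    Function.Injective (Algebra.traceForm k A) := by
  classical
  let K : Submodule k A := LinearMap.ker (Algebra.traceForm k A)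
  suffices ∀ x ∈ K, x = 0 from (injective_iff_map_eq_zero _).2 this
  have hK : ∀ {x : A}, x ∈ K → ∀ y, Algebra.trace k A (x * y) = 0 := fun hx y ↦
    LinearMap.congr_fun (LinearMap.mem_ker.1 hx) y
  have hbij : Function.Bijective (shear k A) :=
    ⟨OrzechProperty.injective_of_surjective_endomorphism (shear k A).toLinearMap
      (shear_surjective k A), shear_surjective k A⟩
  let σ : A ⊗[k] A ≃ₐ[A] A ⊗[k] A := AlgEquiv.ofBijective (shear k A) hbij
  have htr : ∀ x ∈ K, ∀ w : A ⊗[k] A,
      Algebra.trace A (A ⊗[k] A) (comul (R := k) x * w) = 0 := by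
    intro x hx w
    obtain ⟨z, rfl⟩ := σ.surjective w
    have h1 : σ (1 ⊗ₜ x) = comul (R := k) x := by
      show shear k A (1 ⊗ₜ x) = _
      rw [shear_tmul, ← Algebra.TensorProduct.one_def, one_mul]
    rw [← h1, ← map_mul, Algebra.trace_eq_of_algEquiv]
    induction z using TensorProduct.induction_on with
    | zero => simp
    | add p q hp hq => simp only [mul_add, map_add, hp, hq, add_zero]
    | tmul a b =>
      have h2 : (1 : A) ⊗ₜ[k] x * a ⊗ₜ b = a • ((1 : A) ⊗ₜ[k] (x * b)) := by
        rw [Algebra.TensorProduct.tmul_mul_tmul, one_mul, smul_tmul', smul_eq_mul, mul_one]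
      rw [h2, map_smul, Unram.TraceEtale.trace_one_tmul k A A, hK hx, map_zero, smul_zero]
  -- `comul x ∈ A ⊗ K`
  have hmem : ∀ x ∈ K, ∃ z : A ⊗[k] K, K.subtype.lTensor A z = comul (R := k) x := by
    intro x hx
    let b := Module.Free.chooseBasis k A
    have hker : (Algebra.traceForm k A).lTensor A (comul (R := k) x) = 0 := by
      apply (Algebra.TensorProduct.basis A b.dualBasis).ext_elem
      intro i
      have key : ∀ u : A ⊗[k] A,
          (Algebra.TensorProduct.basis A b.dualBasis).repr ((Algebra.traceForm k A).lTensor A u) i =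
            Algebra.trace A (A ⊗[k] A) (u * (1 ⊗ₜ b i)) := by
        intro u
        induction u using TensorProduct.induction_on with
        | zero => simp
        | add p q hp hq => simp only [add_mul, map_add, Finsupp.add_apply, hp, hq]
        | tmul p q =>
          have h2 : p ⊗ₜ[k] q * ((1 : A) ⊗ₜ b i) = p • ((1 : A) ⊗ₜ[k] (q * b i)) := by
            rw [Algebra.TensorProduct.tmul_mul_tmul, smul_tmul', smul_eq_mul]
          rw [h2, map_smul, Unram.TraceEtale.trace_one_tmul k A A, LinearMap.lTensor_tmul,
            Algebra.TensorProduct.basis_repr_tmul]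
          simp [Module.Basis.dualBasis_repr, Algebra.smul_def, mul_comm]
      rw [key, htr x hx]
      simp
    exact (Module.Flat.lTensor_exact A
      (LinearMap.exact_subtype_ker_map (Algebra.traceForm k A)) _).1 hker
  have hcounit : ∀ x ∈ K, counit (R := k) x = 0 := by
    intro x hx
    obtain ⟨z, hz⟩ := hmem x hx
    have hK' : ∀ z : A ⊗[k] K,
        LinearMap.mul' k A ((HopfAlgebra.antipode k).rTensor A (K.subtype.lTensor A z)) ∈ K := by
      intro z
      induction z using TensorProduct.induction_on with
      | zero => simp
      | add p q hp hq => simpa only [map_add] using add_mem hp hq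
      | tmul a q =>
        simp only [LinearMap.lTensor_tmul, Submodule.subtype_apply, LinearMap.rTensor_tmul,
          LinearMap.mul'_apply]
        refine LinearMap.mem_ker.2 (LinearMap.ext fun y ↦ ?_)
        rw [Algebra.traceForm_apply, LinearMap.zero_apply, mul_assoc, mul_left_comm]
        exact hK q.2 _
    have h := hK' z
    rw [hz, HopfAlgebra.mul_antipode_rTensor_comul_apply] at h
    have h2 := hK h 1
    rw [mul_one, Algebra.trace_algebraMap] at h2
    simpa [nsmul_eq_mul, hn] using h2
  intro x hx
  obtain ⟨z, hz⟩ := hmem x hx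
  have hK' : ∀ z : A ⊗[k] K, (counit (R := k) (A := A)).lTensor A (K.subtype.lTensor A z) = 0 := by
    intro z
    induction z using TensorProduct.induction_on with
    | zero => simp
    | add p q hp hq => simp only [map_add, hp, hq, add_zero]
    | tmul a q => simp [hcounit q.1 q.2]
  have h := hK' z
  rw [hz, lTensor_counit_comul] at h
  simpa using congrArg (TensorProduct.rid k A) h

theorem etale_of_finrank_ne_zero [Module.Finite k A] (hn : (Module.finrank k A : k) ≠ 0) :
    Algebra.Etale k A :=
  (Unram.TraceEtale.etale_iff_bijective_traceForm k A).2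
    ⟨traceForm_injective k A hn,
      (LinearMap.injective_iff_surjective_of_finrank_eq_finrank Subspace.dual_finrank_eq.symm).1
        (traceForm_injective k A hn)⟩

end Groth.Agent.Lib.HopfTraceForm
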