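import Mathlib

open TensorProduct

universe u v w

namespace Groth.Agent.Lib.OTRankTwo

section
variable {R : Type u} [CommRing R] {A : Type v} [CommRing A] [Bialgebra R A] (x : A)

/-- `ker ε` is free of rank one on `x`. -/
structure Gen (x : A) : Prop where
  hx : Bialgebra.counitAlgHom R A x = 0
  hgen : ∀ f : A, Bialgebra.counitAlgHom R A f = 0 → ∃ r : R, f = r • x
  hfree : ∀ r : R, r • x = 0 → r = 0

variable {x} (h : Gen (R := R) x)
include h

theorem Gen.exists_coord (f : A) : ∃ r : R, f = Bialgebra.counitAlgHom R A f • (1 : A) + r • x := by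
  obtain ⟨r, hr⟩ := h.hgen (f - Bialgebra.counitAlgHom R A f • 1) (by simp)
  exact ⟨r, by rw [← hr]; abel⟩

theorem Gen.coord_unique {s t s' t' : R} (he : s • (1 : A) + t • x = s' • 1 + t' • x) :
    s = s' ∧ t = t' := by
  have h1 := congrArg (Bialgebra.counitAlgHom R A) he
  simp only [map_add, map_smul, map_one, h.hx, smul_zero, add_zero, smul_eq_mul, mul_one, mul_zero] at h1
  subst h1
  refine ⟨rfl, sub_eq_zero.1 (h.hfree _ ?_)⟩
  rw [sub_smul, sub_eq_zero]
  exact add_left_cancel he

/-- The coordinate along `x`. -/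
noncomputable def Gen.phi : A →ₗ[R] R where
  toFun f := (h.exists_coord f).choose
  map_add' f g := by
    refine (h.coord_unique (s := Bialgebra.counitAlgHom R A (f + g))
      (s' := Bialgebra.counitAlgHom R A (f + g)) ?_).2
    rw [← (h.exists_coord (f + g)).choose_spec, add_smul, map_add, add_smul, add_add_add_comm,
      ← (h.exists_coord f).choose_spec, ← (h.exists_coord g).choose_spec]
  map_smul' r f := by
    refine (h.coord_unique (s := Bialgebra.counitAlgHom R A (r • f))
      (s' := Bialgebra.counitAlgHom R A (r • f)) ?_).2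
    rw [← (h.exists_coord (r • f)).choose_spec, RingHom.id_apply, map_smul, smul_eq_mul, smul_eq_mul,
      mul_smul, mul_smul, ← smul_add, ← (h.exists_coord f).choose_spec]

theorem Gen.eq_coord (f : A) : f = Bialgebra.counitAlgHom R A f • (1 : A) + h.phi f • x :=
  (h.exists_coord f).choose_spec

theorem Gen.phi_x : h.phi x = 1 := by
  refine (h.coord_unique (s := Bialgebra.counitAlgHom R A x) (s' := 0) ?_).2
  rw [← h.eq_coord x, zero_smul, zero_add, one_smul]

theorem Gen.phi_one : h.phi 1 = 0 := by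
  refine (h.coord_unique (s := Bialgebra.counitAlgHom R A 1) (s' := 1) ?_).2
  rw [← h.eq_coord 1, one_smul, zero_smul, add_zero]

theorem Gen.exists_tensor (z : A ⊗[R] A) : ∃ α β γ δ : R,
    z = α • ((1 : A) ⊗ₜ[R] (1 : A)) + β • (x ⊗ₜ[R] 1) + γ • (1 ⊗ₜ[R] x) + δ • (x ⊗ₜ[R] x) := by
  induction z using TensorProduct.induction_on with
  | zero => exact ⟨0, 0, 0, 0, by simp⟩
  | add z w hz hw =>
    obtain ⟨α, β, γ, δ, rfl⟩ := hz
    obtain ⟨α', β', γ', δ', rfl⟩ := hw
    exact ⟨α + α', β + β', γ + γ', δ + δ', by simp only [add_smul]; abel⟩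
  | tmul f g =>
    refine ⟨Bialgebra.counitAlgHom R A f * Bialgebra.counitAlgHom R A g,
      h.phi f * Bialgebra.counitAlgHom R A g, Bialgebra.counitAlgHom R A f * h.phi g,
      h.phi f * h.phi g, ?_⟩
    conv_lhs => rw [h.eq_coord f, h.eq_coord g]
    simp only [add_tmul, tmul_add, ← smul_tmul', tmul_smul, smul_smul]
    module

/-- The coefficient of `x ⊗ x`. -/
noncomputable def Gen.phi2 : A ⊗[R] A →ₗ[R] R :=
  (TensorProduct.lid R R).toLinearMap ∘ₗ TensorProduct.map h.phi h.phi

theorem Gen.phi2_tmul (f g : A) : h.phi2 (f ⊗ₜ[R] g) = h.phi f * h.phi g := by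
  simp [Gen.phi2]

theorem Gen.exists_sq_comul : ∃ a b : R, x * x = a • x ∧
    Bialgebra.comulAlgHom R A x = x ⊗ₜ[R] 1 + 1 ⊗ₜ[R] x + b • (x ⊗ₜ[R] x) := by
  obtain ⟨a, ha⟩ := h.hgen (x * x) (by rw [map_mul, h.hx, mul_zero])
  obtain ⟨α, β, γ, δ, hz⟩ := h.exists_tensor (Bialgebra.comulAlgHom R A x)
  have hc : Coalgebra.counit (R := R) x = 0 := h.hx
  have h1 : (TensorProduct.lid R A) (Coalgebra.counit.rTensor A (Bialgebra.comulAlgHom R A x)) = x := by
    rw [Bialgebra.comulAlgHom_apply, Coalgebra.rTensor_counit_comul, lid_tmul, one_smul]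
  have h2 : (TensorProduct.rid R A) (Coalgebra.counit.lTensor A (Bialgebra.comulAlgHom R A x)) = x := by
    rw [Bialgebra.comulAlgHom_apply, Coalgebra.lTensor_counit_comul, rid_tmul, one_smul]
  rw [hz] at h1 h2
  simp only [map_add, map_smul, LinearMap.rTensor_tmul, LinearMap.lTensor_tmul, lid_tmul, rid_tmul, hc,
    Bialgebra.counit_one, zero_smul, one_smul, smul_zero, add_zero] at h1 h2
  have hg := h.coord_unique (s := α) (t := γ) (s' := 0) (t' := 1) (by simpa using h1)
  have hb := h.coord_unique (s := α) (t := β) (s' := 0) (t' := 1) (by simpa using h2)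
  refine ⟨a, δ, ha, ?_⟩
  rw [hz, hg.1, hg.2, hb.2, zero_smul, zero_add, one_smul, one_smul]

end

section
variable {R : Type u} [CommRing R] {A : Type v} [CommRing A] [HopfAlgebra R A] {x : A}
  (h : Gen (R := R) x)
include h

theorem Gen.mul_eq_neg_two {a b : R} (ha : x * x = a • x)
    (hb : Bialgebra.comulAlgHom R A x = x ⊗ₜ[R] 1 + 1 ⊗ₜ[R] x + b • (x ⊗ₜ[R] x)) : a * b = -2 := by
  have hsq0 : Bialgebra.comulAlgHom R A (x * x) = Bialgebra.comulAlgHom R A (a • x) := by rw [ha]
  rw [map_mul, map_smul] at hsq0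
  have hsq := congrArg (fun z => h.phi2 z) hsq0
  simp only [hb, add_mul, mul_add, smul_mul_assoc, mul_smul_comm,
    Algebra.TensorProduct.tmul_mul_tmul, one_mul, mul_one, ha, map_add, h.phi2_tmul, h.phi_x, h.phi_one,
    smul_eq_mul, tmul_smul, ← smul_tmul', mul_zero, zero_mul, add_zero, zero_add, smul_add] at hsq
  simp only [LinearMap.map_smul, _root_.map_smul, smul_eq_mul, h.phi2_tmul, h.phi_x, h.phi_one, mul_zero,
    zero_mul, mul_one, add_zero, zero_add] at hsq
  have hant := HopfAlgebra.mul_antipode_rTensor_comul_apply (R := R) x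
  have hc : Coalgebra.counit (R := R) x = 0 := h.hx
  rw [← Bialgebra.comulAlgHom_apply, hb, hc, map_zero] at hant
  obtain ⟨t, c, hS⟩ : ∃ t c : R, HopfAlgebra.antipode R x = t • (1 : A) + c • x :=
    ⟨_, _, h.eq_coord _⟩
  simp only [map_add, map_smul, LinearMap.rTensor_tmul, LinearMap.mul'_apply, HopfAlgebra.antipode_one,
    one_mul, mul_one, hS, add_mul, smul_mul_assoc, ha, smul_smul] at hant
  have hu := h.coord_unique (s := t) (t := c + 1 + (b * t + b * (c * a))) (s' := 0) (t' := 0) (by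
    rw [zero_smul, zero_smul, add_zero, ← hant]
    simp only [add_smul, one_smul, smul_add, smul_smul]
    abel)
  obtain ⟨rfl, hc2⟩ := hu
  linear_combination (-c) * hsq + (a * b + 2) * hc2

end

section
variable {R : Type u} [CommRing R] {A : Type v} [CommRing A] [Bialgebra R A] {x : A}
  {A' : Type w} [CommRing A'] [Bialgebra R A'] {x' : A'}

/-- The linear map fixing `1` and sending `x` to `s • x'`. -/
noncomputable def linMap (h : Gen (R := R) x) (x' : A') (s : R) : A →ₗ[R] A' :=
  (Algebra.linearMap R A') ∘ₗ (Bialgebra.counitAlgHom R A).toLinearMap +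
    (LinearMap.toSpanSingleton R A' (s • x')) ∘ₗ h.phi

theorem linMap_apply (h : Gen (R := R) x) (s : R) (f : A) :
    linMap h x' s f = Bialgebra.counitAlgHom R A f • (1 : A') + h.phi f • (s • x') := by
  simp [linMap, Algebra.smul_def]

theorem linMap_one (h : Gen (R := R) x) (s : R) : linMap h x' s 1 = 1 := by
  rw [linMap_apply, map_one, h.phi_one, one_smul, zero_smul, add_zero]

theorem linMap_x (h : Gen (R := R) x) (s : R) : linMap h x' s x = s • x' := by
  rw [linMap_apply, h.hx, h.phi_x, zero_smul, one_smul, zero_add]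

theorem linMap_linMap (h : Gen (R := R) x) (h' : Gen (R := R) x') {s t : R} (hst : s * t = 1) (f : A) :
    linMap h' x t (linMap h x' s f) = f := by
  conv_rhs => rw [h.eq_coord f]
  rw [linMap_apply h, map_add, map_smul, map_smul, map_smul, linMap_one, linMap_x, smul_smul s t,
    hst, one_smul]

theorem linMap_mul (h : Gen (R := R) x) {a a' : R} (ha : x * x = a • x) (ha' : x' * x' = a' • x')
    {s : R} (has : a = a' * s) (f g : A) :
    linMap h x' s (f * g) = linMap h x' s f * linMap h x' s g := by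
  rw [h.eq_coord f, h.eq_coord g]
  simp only [add_mul, mul_add, smul_mul_assoc, mul_smul_comm, one_mul, mul_one, ha, map_add, map_smul,
    linMap_one, linMap_x, ha', smul_smul, has, smul_add]
  module

/-- The isomorphism `G_{a,b} ≅ G_{a',b'}`. -/
noncomputable def bialgEquiv (h : Gen (R := R) x) (h' : Gen (R := R) x') {a b a' b' : R}
    (ha : x * x = a • x)
    (hb : Bialgebra.comulAlgHom R A x = x ⊗ₜ[R] 1 + 1 ⊗ₜ[R] x + b • (x ⊗ₜ[R] x))
    (ha' : x' * x' = a' • x')
    (hb' : Bialgebra.comulAlgHom R A' x' = x' ⊗ₜ[R] 1 + 1 ⊗ₜ[R] x' + b' • (x' ⊗ₜ[R] x'))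
    (s : Rˣ) (has : a = a' * s) (hbs : b' = b * s) : A ≃ₐc[R] A' :=
  BialgEquiv.ofAlgEquiv
    (AlgEquiv.ofLinearEquiv
      (LinearEquiv.ofLinear (linMap h x' (s : R)) (linMap h' x ((s⁻¹ : Rˣ) : R))
        (LinearMap.ext fun f => linMap_linMap h' h s.inv_mul f)
        (LinearMap.ext fun f => linMap_linMap h h' s.mul_inv f))
      (linMap_one h _) (linMap_mul h ha ha' has))
    (AlgHom.ext fun f => by
      show Bialgebra.counitAlgHom R A' (linMap h x' (s : R) f) = _
      have hc' : Coalgebra.counit (R := R) x' = 0 := h'.hx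
      simp [linMap_apply, hc'])
    (AlgHom.ext fun f => by
      show Algebra.TensorProduct.map _ _ (Bialgebra.comulAlgHom R A f) =
        Bialgebra.comulAlgHom R A' (linMap h x' (s : R) f)
      rw [h.eq_coord f, map_add, map_smul, map_smul, map_add, map_smul, map_smul, map_one, map_one,
        map_add, map_smul, map_smul, linMap_one, linMap_x, map_add, map_smul, map_smul, map_smul, map_one,
        hb, hb']
      congr 2
      simp only [map_add, map_smul, Algebra.TensorProduct.map_tmul, map_one]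
      show linMap h x' (s : R) x ⊗ₜ[R] 1 + 1 ⊗ₜ[R] linMap h x' (s : R) x +
        b • (linMap h x' (s : R) x ⊗ₜ[R] linMap h x' (s : R) x) = _
      simp only [linMap_x, ← smul_tmul', tmul_smul, smul_add, smul_smul, hbs]
      module)

theorem exists_unit_of_bialgEquiv (h : Gen (R := R) x) (h' : Gen (R := R) x') {a b a' b' : R}
    (ha : x * x = a • x)
    (hb : Bialgebra.comulAlgHom R A x = x ⊗ₜ[R] 1 + 1 ⊗ₜ[R] x + b • (x ⊗ₜ[R] x))
    (ha' : x' * x' = a' • x')
    (hb' : Bialgebra.comulAlgHom R A' x' = x' ⊗ₜ[R] 1 + 1 ⊗ₜ[R] x' + b' • (x' ⊗ₜ[R] x'))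
    (e : A ≃ₐc[R] A') : ∃ s : Rˣ, a = a' * (s : R) ∧ b' = b * (s : R) := by
  have hcu : ∀ f, Bialgebra.counitAlgHom R A' (e f) = Bialgebra.counitAlgHom R A f := fun f =>
    CoalgHomClass.counit_comp_apply e f
  have hcu' : ∀ f, Bialgebra.counitAlgHom R A (e.symm f) = Bialgebra.counitAlgHom R A' f := fun f =>
    CoalgHomClass.counit_comp_apply e.symm f
  obtain ⟨r, hr⟩ := h'.hgen (e x) (by rw [hcu, h.hx])
  obtain ⟨r', hr'⟩ := h.hgen (e.symm x') (by rw [hcu', h'.hx])
  have hrr : r' * r = 1 := by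
    refine sub_eq_zero.1 (h'.hfree _ ?_)
    have h3 := congrArg e hr'
    rw [BialgEquiv.apply_symm_apply, map_smul, hr, smul_smul] at h3
    rw [sub_smul, one_smul, ← h3, sub_self]
  refine ⟨⟨r, r', by rw [mul_comm, hrr], hrr⟩, ?_, ?_⟩
  · have h3 := congrArg e ha
    rw [map_mul, map_smul, hr, smul_mul_smul_comm, ha', smul_smul, smul_smul] at h3
    have h4 : r * r * a' = a * r := sub_eq_zero.1 (h'.hfree _ (by rw [sub_smul, h3, sub_self]))
    show a = a' * r
    linear_combination (a' * r - a) * hrr - r' * h4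
  · have h3 : TensorProduct.map e.toLinearMap e.toLinearMap (Coalgebra.comul x) = Coalgebra.comul (e x) :=
      CoalgHomClass.map_comp_comul_apply e x
    rw [← Bialgebra.comulAlgHom_apply, ← Bialgebra.comulAlgHom_apply, hb, hr, map_smul, hb'] at h3
    have h5 := congrArg h'.phi2 h3
    have h1' : e.toLinearMap (1 : A) = (1 : A') := map_one e
    have hx1 : e.toLinearMap x = r • x' := hr
    simp only [map_add, map_smul, TensorProduct.map_tmul, h1', hx1, ← smul_tmul', tmul_smul,
      h'.phi2_tmul, h'.phi_x, h'.phi_one, smul_eq_mul, mul_zero, zero_mul, add_zero, zero_add,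
      mul_one] at h5
    show b' = b * r
    linear_combination (b * r - b') * hrr - r' * h5

end

end Groth.Agent.Lib.OTRankTwo
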