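import Groth.Prelude.Def_NonAbH2
import Mathlib.AlgebraicGeometry.Sites.Fpqc
import Mathlib.CategoryTheory.Sites.Canonical

/-!
# Descending morphisms of schemes over a base along locally split morphisms
-/

set_option autoImplicit false

universe u

open CategoryTheory CategoryTheory.Limits MonoidalCategory CartesianMonoidalCategory AlgebraicGeometry

namespace Groth.Agent.Lib.OverDescent

variable {S : Scheme.{u}} (J : GrothendieckTopology Scheme.{u}) [J.Subcanonical]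

/-- `q` has sections locally on its target. -/
def LocallySplit {X Y : Over S} (q : X ⟶ Y) : Prop :=
  ∃ R ∈ J Y.left, ∀ ⦃T : Scheme.{u}⦄ (t : T ⟶ Y.left), R t →
    ∃ s : Over.mk (t ≫ Y.hom) ⟶ X, s ≫ q = Over.homMk t rfl

omit [J.Subcanonical] in
theorem locallySplit_id (X : Over S) : LocallySplit J (𝟙 X) :=
  ⟨⊤, J.top_mem _, fun _ t _ => ⟨Over.homMk t rfl, Category.comp_id _⟩⟩

omit [J.Subcanonical] in
theorem locallySplit_tensor {X Y X' Y' : Over S} {q : X ⟶ Y} {q' : X' ⟶ Y'} (h : LocallySplit J q)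
    (h' : LocallySplit J q') : LocallySplit J (q ⊗ₘ q') := by
  obtain ⟨R, hR, hs⟩ := h
  obtain ⟨R', hR', hs'⟩ := h'
  refine ⟨R.pullback (fst Y Y').left ⊓ R'.pullback (snd Y Y').left,
    J.intersection_covering (J.pullback_stable _ hR) (J.pullback_stable _ hR'), ?_⟩
  rintro T t ⟨h₁, h₂⟩
  obtain ⟨s₁, e₁⟩ := hs _ h₁
  obtain ⟨s₂, e₂⟩ := hs' _ h₂
  refine ⟨lift (Over.homMk s₁.left (by rw [Over.w s₁]; exact (Category.assoc _ _ _).trans (congrArg (t ≫ ·) (Over.w _))))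
    (Over.homMk s₂.left (by rw [Over.w s₂]; exact (Category.assoc _ _ _).trans (congrArg (t ≫ ·) (Over.w _)))), ?_⟩
  rw [lift_map]
  refine CartesianMonoidalCategory.hom_ext _ _ ?_ ?_
  · rw [lift_fst]
    exact Over.OverMorphism.ext ((congrArg CommaMorphism.left e₁ :))
  · rw [lift_snd]
    exact Over.OverMorphism.ext ((congrArg CommaMorphism.left e₂ :))

theorem locallySplit_of_isLocallyTrivialFor (K : Precoverage Scheme.{u}) (hK : K.toGrothendieck ≤ J) {E P : Over S}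
    (v : E ⟶ P) (h : NonAbH1.IsLocallyTrivialFor K (Over.mk v.left : Over P.left)) : LocallySplit J v := by
  obtain ⟨R₀, hR₀, hsec⟩ := h
  refine ⟨Sieve.generate R₀, hK _ (Precoverage.generate_mem_toGrothendieck hR₀), ?_⟩
  rintro T t ⟨W, a, f₁, hf₁, rfl⟩
  obtain ⟨s, hs⟩ := hsec f₁ hf₁
  replace hs : s ≫ v.left = f₁ := hs
  refine ⟨Over.homMk (a ≫ s) ?_, Over.OverMorphism.ext ?_⟩
  · change (a ≫ s) ≫ E.hom = (a ≫ f₁) ≫ P.hom
    rw [← Over.w v, Category.assoc, reassoc_of% hs, Category.assoc]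
  · change (a ≫ s) ≫ v.left = a ≫ f₁
    rw [Category.assoc, hs]

variable {J} {X Y Z : Over S} {q : X ⟶ Y}

theorem epi_of_local (hq : LocallySplit J q) {a b : Y ⟶ Z} (h : q ≫ a = q ≫ b) : a = b := by
  obtain ⟨R, hR, hs⟩ := hq
  refine Over.OverMorphism.ext ?_
  refine (GrothendieckTopology.Subcanonical.isSheaf_of_isRepresentable (J := J)
    (yoneda.obj Z.left) R hR).isSeparatedFor.ext fun T t ht => ?_
  obtain ⟨s, e⟩ := hs t ht
  have h1 := congrArg CommaMorphism.left (congrArg (s ≫ ·) h)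
  simp only [← Category.assoc, e] at h1
  exact h1

theorem exists_desc (hq : LocallySplit J q) (c : X ⟶ Z)
    (hinv : ∀ (T : Over S) (x x' : T ⟶ X), x ≫ q = x' ≫ q → x ≫ c = x' ≫ c) :
    ∃ d : Y ⟶ Z, q ≫ d = c := by
  obtain ⟨R, hR, hs₀⟩ := hq
  choose s hs using hs₀
  let fam : Presieve.FamilyOfElements (yoneda.obj Z.left) (R : Presieve Y.left) :=
    fun T t ht => (s t ht ≫ c).left
  have hc : fam.Compatible := by
    intro T₁ T₂ W g₁ g₂ f₁ f₂ h₁ h₂ hgf
    let m₁ : Over.mk ((g₁ ≫ f₁) ≫ Y.hom) ⟶ Over.mk (f₁ ≫ Y.hom) := Over.homMk g₁ (by simp)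
    let m₂ : Over.mk ((g₁ ≫ f₁) ≫ Y.hom) ⟶ Over.mk (f₂ ≫ Y.hom) := Over.homMk g₂ (by simp [reassoc_of% hgf])
    have key := congrArg CommaMorphism.left (hinv _ (m₁ ≫ s f₁ h₁) (m₂ ≫ s f₂ h₂)
      ((Category.assoc _ _ _).trans ((congrArg (m₁ ≫ ·) (hs f₁ h₁)).trans
        ((Over.OverMorphism.ext hgf).trans
          ((congrArg (m₂ ≫ ·) (hs f₂ h₂)).symm.trans (Category.assoc _ _ _).symm)))))
    simp only [Category.assoc] at key
    exact key
  have hsh := GrothendieckTopology.Subcanonical.isSheaf_of_isRepresentable (J := J) (yoneda.obj Z.left) R hR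
  let d₀ : Y.left ⟶ Z.left := hsh.amalgamate fam hc
  have hd₀ : ∀ ⦃T : Scheme.{u}⦄ (t : T ⟶ Y.left) (ht : R t), t ≫ d₀ = (s t ht ≫ c).left :=
    fun T t ht => hsh.valid_glue hc t ht
  have hhom : d₀ ≫ Z.hom = Y.hom := by
    refine (GrothendieckTopology.Subcanonical.isSheaf_of_isRepresentable (J := J)
      (yoneda.obj S) R hR).isSeparatedFor.ext fun T t ht => ?_
    change t ≫ d₀ ≫ Z.hom = t ≫ Y.hom
    rw [← Category.assoc, hd₀ t ht]
    exact Over.w (s t ht ≫ c)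
  refine ⟨Over.homMk d₀ hhom, Over.OverMorphism.ext ?_⟩
  refine (GrothendieckTopology.Subcanonical.isSheaf_of_isRepresentable (J := J)
    (yoneda.obj Z.left) _ (J.pullback_stable q.left hR)).isSeparatedFor.ext fun T t ht => ?_
  change t ≫ q.left ≫ d₀ = t ≫ c.left
  rw [← Category.assoc, hd₀ (t ≫ q.left) ht]
  let x : Over.mk ((t ≫ q.left) ≫ Y.hom) ⟶ X := Over.homMk t (by simp)
  exact congrArg CommaMorphism.left (hinv _ (s (t ≫ q.left) ht) x
    ((hs (t ≫ q.left) ht).trans (Over.OverMorphism.ext rfl)))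

end Groth.Agent.Lib.OverDescent
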