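import Groth.Agent.Lib.FFDesc.Lqf
import Groth.Agent.Lib.AlgSpace.DiagProp

/-!
# Points with values in a product of rings of a quasi-compact monomorphism
-/

set_option autoImplicit false

universe u

open CategoryTheory CategoryTheory.Limits AlgebraicGeometry Opposite

namespace Groth.Agent.Lib.PiPointsInj

variable {ι : Type u} (A : ι → CommRingCat.{u})

theorem locallyQuasiFinite_of_mono {E Y : Scheme.{u}} (e : E ⟶ Y) [Mono e] [LocallyOfFiniteType e] :
    LocallyQuasiFinite e :=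
  locallyQuasiFinite_iff_isDiscrete_preimage_singleton.2 fun _ =>
    (Set.subsingleton_singleton.preimage e.injective).isDiscrete

theorem exists_section_of_quasiAffine {E : Scheme.{u}} [E.IsQuasiAffine]
    (e : E ⟶ Spec (CommRingCat.of (∀ i, A i))) (u : ∀ i, Spec (A i) ⟶ E)
    (hu : ∀ i, u i ≫ e = Spec.map (CommRingCat.ofHom (Pi.evalRingHom (fun j => (A j : Type u)) i))) :
    ∃ w : Spec (CommRingCat.of (∀ i, A i)) ⟶ E, w ≫ e = 𝟙 _ := by
  classical
  let R : CommRingCat.{u} := CommRingCat.of (∀ i, A i)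
  let j := E.toSpecΓ
  let ev : ∀ i, R ⟶ A i := fun i => CommRingCat.ofHom (Pi.evalRingHom (fun j => (A j : Type u)) i)
  obtain ⟨t, ht⟩ := (PrimeSpectrum.isCompact_isOpen_iff
    (s := (Set.range j : Set (PrimeSpectrum Γ(E, ⊤))))).1
    ⟨isCompact_range j.continuous, j.isOpenEmbedding.isOpen_range⟩
  choose φ hφ using fun i => Spec.map_surjective (u i ≫ j)
  let Φ : Γ(E, ⊤) ⟶ R := CommRingCat.ofHom (RingHom.pi fun i => (φ i).hom)
  have hΦ : ∀ i, Φ ≫ ev i = φ i := fun i => rfl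
  have hone : ∀ i, (Ideal.span (t : Set Γ(E, ⊤))).map (φ i).hom = ⊤ := by
    intro i
    by_contra h
    obtain ⟨p, hp, hle⟩ := Ideal.exists_le_maximal _ h
    let x : Spec (A i) := ⟨p, hp.isPrime⟩
    have hx : (Spec.map (φ i)).base x ∈ Set.range j := ⟨(u i).base x, by rw [hφ i]; rfl⟩
    refine (Set.ext_iff.1 ht _).2 hx fun r hr => ?_
    exact hle (Ideal.mem_map_of_mem _ (Ideal.subset_span hr))
  choose c hc using fun i => (Submodule.mem_span_range_iff_exists_fun (A i) (v := fun b : (t : Set Γ(E, ⊤)) => φ i b)).1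
    (Set.image_eq_range (φ i).hom (t : Set Γ(E, ⊤)) ▸
      ((Ideal.eq_top_iff_one _).1 ((Ideal.map_span _ _).symm.trans (hone i))))
  have htop : (1 : R) ∈ (Ideal.span (t : Set Γ(E, ⊤))).map Φ.hom := by
    have h1 : (1 : R) = ∑ b : (t : Set Γ(E, ⊤)), (fun i => c i b : ∀ i, A i) * Φ b := by
      funext i
      rw [Finset.sum_apply]
      exact (hc i).symm
    rw [h1]
    exact Ideal.sum_mem _ fun b _ => Ideal.mul_mem_left _ _
      (Ideal.mem_map_of_mem _ (Ideal.subset_span b.2))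
  have hrange : Set.range (Spec.map Φ) ⊆ Set.range j := by
    rintro _ ⟨x, rfl⟩
    refine (Set.ext_iff.1 ht _).1 fun hx => x.2.ne_top ((Ideal.eq_top_iff_one _).2 ?_)
    exact Ideal.map_le_iff_le_comap.2 (Ideal.span_le.2 hx) htop
  refine ⟨IsOpenImmersion.lift j (Spec.map Φ) hrange, ?_⟩
  let θ : R ⟶ Γ(E, ⊤) := (Scheme.ΓSpecIso R).inv ≫ e.appTop
  have he : j ≫ Spec.map θ = e := by
    rw [Spec.map_comp, ← Category.assoc, ← Scheme.toSpecΓ_naturality, Category.assoc,
      toSpecΓ_SpecMap_ΓSpecIso_inv, Category.comp_id]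
  have hθ : ∀ i, θ ≫ φ i = ev i := fun i => by
    apply Spec.map_injective
    rw [Spec.map_comp, hφ i, Category.assoc, he, hu i]
  have hid : θ ≫ Φ = 𝟙 R := by
    refine CommRingCat.hom_ext (RingHom.ext fun a => funext fun i => ?_)
    exact DFunLike.congr_fun (congrArg CommRingCat.Hom.hom (hθ i)) a
  rw [← he]
  rw [← Category.assoc, IsOpenImmersion.lift_fac, ← Spec.map_comp, hid, Spec.map_id]

theorem exists_section_of_mono {E : Scheme.{u}}
    (e : E ⟶ Spec (CommRingCat.of (∀ i, A i))) [Mono e] [LocallyOfFiniteType e] [QuasiCompact e]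
    (u : ∀ i, Spec (A i) ⟶ E)
    (hu : ∀ i, u i ≫ e = Spec.map (CommRingCat.ofHom (Pi.evalRingHom (fun j => (A j : Type u)) i))) :
    ∃ w : Spec (CommRingCat.of (∀ i, A i)) ⟶ E, w ≫ e = 𝟙 _ := by
  have := locallyQuasiFinite_of_mono e
  have : (e ⁻¹ᵁ ⊤ : E.Opens).toScheme.IsQuasiAffine :=
    (FFDesc.isQuasiAffine_of_lqf e).2 ⊤ (isAffineOpen_top _)
  have : CompactSpace E := QuasiCompact.compactSpace_of_compactSpace e
  have : E.IsQuasiAffine :=
    Scheme.IsQuasiAffine.of_isImmersion (Y := (e ⁻¹ᵁ ⊤ : E.Opens).toScheme) E.topIso.inv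
  exact exists_section_of_quasiAffine A e u hu

end Groth.Agent.Lib.PiPointsInj
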