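import Groth.Agent.S10419
import Groth.Agent.H8.EDSInduction
import Groth.Agent.Lib.HensChart.Lift
import Groth.Agent.Lib.AlgSpace.Coprod

/-!
# Points with values in a product of henselian local rings of a quasi-compact quasi-separated space
-/

set_option autoImplicit false
set_option linter.style.haveILetI false

universe u

open CategoryTheory CategoryTheory.Limits AlgebraicGeometry Opposite

namespace Groth.Agent.Lib.PiPointsSurj

open AlgSp (Sp yon RepWith IsAlgSpace Points Space)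
open Groth.Agent.Lib.AlgSpace

variable {S : Scheme.{u}}

/-- A field valued point landing in the image of a closed immersion factors through it. -/
theorem exists_lift_of_closedImmersion {F Z : Sp S} {i : Z ⟶ F} (hi : RepWith @IsClosedImmersion i)
    {k : Type u} [Field k] {str : Spec (CommRingCat.of k) ⟶ S}
    (x : (yon S).obj (Over.mk str) ⟶ F)
    (hx : Points.ofPt x (IsLocalRing.closedPoint k) ∈ Set.range (Points.map i)) :
    ∃ l : (yon S).obj (Over.mk str) ⟶ Z, l ≫ i = x := by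
  obtain ⟨W, c, fst, sq, hc⟩ := repWith_exists hi x
  haveI : IsClosedImmersion c.left := hc
  obtain ⟨z, hz⟩ := hx
  obtain ⟨w, -, hw⟩ := Groth.Agent.Lib.AlgSpDecent.Core.exists_point_of_isPullback sq z
    (Points.ofScheme (Over.mk str) (IsLocalRing.closedPoint k))
    (by rw [hz, Groth.Agent.Lib.AlgSpDecent.Core.map_ofScheme])
  obtain ⟨w, rfl⟩ : ∃ w', Points.ofScheme W w' = w := ⟨_, Points.ofScheme_toScheme W w⟩
  haveI : Surjective c.left := ⟨fun y => ⟨w, @Subsingleton.elim (PrimeSpectrum k) _ _ _⟩⟩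
  haveI : _root_.AlgebraicGeometry.IsReduced (Over.mk str).left :=
    inferInstanceAs (_root_.AlgebraicGeometry.IsReduced (Spec (CommRingCat.of k)))
  haveI : IsIso c.left := isIso_of_isClosedImmersion_of_surjective c.left
  haveI : IsIso ((Over.forget S).map c) := inferInstanceAs (IsIso c.left)
  haveI : IsIso c := isIso_of_reflects_iso c (Over.forget S)
  refine ⟨inv ((yon S).map c) ≫ fst, ?_⟩
  rw [Category.assoc, sq.w, IsIso.inv_hom_id_assoc]

/-- Finitely many affine etale charts through which every field valued point factors. -/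
theorem exists_charts [QuasiSeparatedSpace ↥S] (X : Space S) (hqc : AlgSp.IsQuasiCompactSp X.obj)
    (hqs : AlgSp.IsQuasiSeparatedSp X.obj) :
    ∃ (J : Type u) (_ : Finite J) (W : J → Over S) (a : ∀ j, (yon S).obj (W j) ⟶ X.obj),
      (∀ j, IsAffine (W j).left) ∧ (∀ j, RepWith @Etale (a j)) ∧
      ∀ (k : Type u) [Field k] (str : Spec (CommRingCat.of k) ⟶ S)
        (x : (yon S).obj (Over.mk str) ⟶ X.obj),
        ∃ (j : J) (g : Over.mk str ⟶ W j), (yon S).map g ≫ a j = x := by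
  classical
  obtain ⟨n, Uo, j, k, T, i, hj, hk, hj1, hemp, hT, hV⟩ := Groth.Agent.S10419.result X hqc hqs
  choose V f hVs hVc hf hfs hiso using fun p : ULift.{u} (Fin n) => hV (p.down.1 + 1) (by omega)
  haveI := hVc
  let 𝒰 := fun p => (V p).left.affineCover.finiteSubcover
  haveI : MorphismProperty.IsStableUnderComposition (@Etale : MorphismProperty Scheme.{u}) :=
    ⟨fun f g (_ : Etale f) (_ : Etale g) ↦ inferInstanceAs (Etale (f ≫ g))⟩
  let W : (Σ p, (𝒰 p).I₀) → Over S := fun q => Over.mk ((𝒰 q.1).f q.2 ≫ (V q.1).hom)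
  let κ : ∀ q, W q ⟶ V q.1 := fun q => Over.homMk ((𝒰 q.1).f q.2) rfl
  let a : ∀ q, (yon S).obj (W q) ⟶ X.obj := fun q => (yon S).map (κ q) ≫ f q.1 ≫ (j _).hom
  have hetale : ∀ {F G : Sp S} {m : F ⟶ G}, RepWith @IsOpenImmersion m → RepWith @Etale m :=
    fun h => Groth.Agent.H8.EDSInduction.repWith_etale_of_openImm h
  refine ⟨_, inferInstance, W, a, fun q => inferInstanceAs (IsAffine ((V q.1).left.affineCover.X _)),
    fun q => ?_, ?_⟩
  · haveI : IsOpenImmersion (κ q).left := inferInstanceAs (IsOpenImmersion ((𝒰 q.1).f q.2))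
    exact repWith_comp (hetale ((AlgSp.repWith_yon_map_iff _ (κ q)).2 inferInstance))
      (repWith_comp (hf q.1) (hetale (hj _)))
  intro K _ str x
  let ξ := Points.ofPt x (IsLocalRing.closedPoint K)
  let O : ℕ → Set (Points X.obj) := fun p => Set.range (Points.map (j p).hom)
  have hO1 : ξ ∈ O 1 := by
    haveI : IsIso (j 1).hom :=
      inferInstanceAs (IsIso ((ObjectProperty.ι (AlgSp.IsAlgSpace (S := S))).map (j 1)))
    exact ⟨Points.map (inv (j 1).hom) ξ, by rw [← Points.map_comp, IsIso.inv_hom_id, Points.map_id]⟩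
  have hex : ∃ p, 1 ≤ p ∧ p ≤ n ∧ ξ ∈ O p ∧ ξ ∉ O (p + 1) := by
    by_contra h
    push_neg at h
    have : ∀ p, p ≤ n → ξ ∈ O (p + 1) := by
      intro p hp
      induction p with
      | zero => exact hO1
      | succ p ih => exact h (p + 1) (by omega) hp (ih (by omega))
    obtain ⟨z, -⟩ := this n le_rfl
    exact hemp.elim z
  obtain ⟨p, hp1, hpn, hp, hp'⟩ := hex
  obtain ⟨p', rfl⟩ : ∃ p', p = p' + 1 := ⟨p - 1, by omega⟩
  let q : ULift.{u} (Fin n) := ⟨⟨p', by omega⟩⟩
  obtain ⟨x', hx'⟩ := (exists_lift_iff_range_subset (hj (p' + 1)) x).2 (by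
    rintro _ ⟨z, rfl⟩
    obtain ⟨z, rfl⟩ : ∃ z', Points.ofScheme (Over.mk str) z' = z := ⟨_, Points.ofScheme_toScheme _ z⟩
    rw [Groth.Agent.Lib.AlgSpDecent.Core.map_ofScheme,
      show z = IsLocalRing.closedPoint K from @Subsingleton.elim (PrimeSpectrum K) _ _ _]
    exact hp)
  obtain ⟨hci, hr, -⟩ := hT (p' + 1)
  obtain ⟨l, hl⟩ := exists_lift_of_closedImmersion hci x' (by
    rw [hr]
    rintro ⟨z, hz⟩
    refine hp' ⟨z, ?_⟩
    rw [← hk (p' + 1)]
    show Points.map ((k (p' + 1)).hom ≫ (j (p' + 1)).hom) z = ξ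
    rw [Points.map_comp, hz, Points.map_ofPt, hx'])
  have sq := IsPullback.of_hasPullback (i (p' + 1)).hom (f q)
  haveI := hiso q _ _ _ sq
  obtain ⟨v, hv⟩ := (yon S).map_surjective (l ≫ inv (pullback.fst (i (p' + 1)).hom (f q)) ≫
    pullback.snd (i (p' + 1)).hom (f q))
  have hv' : (yon S).map v ≫ f q = x' := by
    rw [hv, Category.assoc, Category.assoc, ← sq.w, IsIso.inv_hom_id_assoc, hl]
  obtain ⟨c, hc⟩ := (𝒰 q).exists_eq (v.left (IsLocalRing.closedPoint K))
  let c' := (𝒰 q).idx (v.left (IsLocalRing.closedPoint K))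
  have hrange : Set.range v.left ⊆ Set.range ((𝒰 q).f c) := by
    rintro _ ⟨z, rfl⟩
    obtain ⟨y, hy⟩ := hc
    refine ⟨y, hy.trans (congrArg _ ?_)⟩
    exact @Subsingleton.elim (PrimeSpectrum K) _ _ _
  haveI : IsOpenImmersion ((𝒰 q).f c) := inferInstance
  let g : Over.mk str ⟶ W ⟨q, c⟩ := Over.homMk (IsOpenImmersion.lift ((𝒰 q).f c) v.left hrange) (by
    show _ ≫ (𝒰 q).f c ≫ (V q).hom = str
    rw [IsOpenImmersion.lift_fac_assoc]
    exact Over.w v)
  have hg : g ≫ κ ⟨q, c⟩ = v := Over.OverMorphism.ext (IsOpenImmersion.lift_fac _ _ _)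
  refine ⟨⟨q, c⟩, g, ?_⟩
  show (yon S).map g ≫ (yon S).map (κ ⟨q, c⟩) ≫ f q ≫ (j (p' + 1)).hom = x
  rw [← Functor.map_comp_assoc, hg, reassoc_of% hv', hx']

/-- Maps out of the spectrum of a product into an affine scheme are determined componentwise. -/
theorem hom_ext_pi {ι : Type u} (A : ι → CommRingCat.{u}) {T : Scheme.{u}} [IsAffine T]
    {f g : Spec (CommRingCat.of (∀ i, A i)) ⟶ T}
    (h : ∀ i, Spec.map (CommRingCat.ofHom (Pi.evalRingHom (fun j => (A j : Type u)) i)) ≫ f =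
      Spec.map (CommRingCat.ofHom (Pi.evalRingHom (fun j => (A j : Type u)) i)) ≫ g) : f = g := by
  rw [← cancel_mono T.isoSpec.hom]
  obtain ⟨α, hα⟩ := Spec.map_surjective (f ≫ T.isoSpec.hom)
  obtain ⟨β, hβ⟩ := Spec.map_surjective (g ≫ T.isoSpec.hom)
  rw [← hα, ← hβ]
  congr 1
  refine CommRingCat.hom_ext (RingHom.ext fun r => funext fun i => ?_)
  have := congrArg (fun q => q ≫ T.isoSpec.hom) (h i)
  simp only [Category.assoc, ← hα, ← hβ, ← Spec.map_comp] at this
  exact DFunLike.congr_fun (congrArg CommRingCat.Hom.hom (Spec.map_injective this)) r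

theorem exists_pi_point [IsAffine S] (X : Space S) (hqc : AlgSp.IsQuasiCompactSp X.obj)
    (hqs : AlgSp.IsQuasiSeparatedSp X.obj) {ι : Type u} (A : ι → CommRingCat.{u})
    [∀ i, HenselianLocalRing (A i)] (h : Spec (CommRingCat.of (∀ i, A i)) ⟶ S)
    (x : ∀ i, (yon S).obj (Over.mk
      (Spec.map (CommRingCat.ofHom (Pi.evalRingHom (fun j => (A j : Type u)) i)) ≫ h)) ⟶ X.obj) :
    ∃ z : (yon S).obj (Over.mk h) ⟶ X.obj, ∀ i,
      (yon S).map (Over.homMk (Spec.map (CommRingCat.ofHom (Pi.evalRingHom (fun j => (A j : Type u)) i)))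
        rfl : Over.mk (Spec.map (CommRingCat.ofHom (Pi.evalRingHom (fun j => (A j : Type u)) i)) ≫ h) ⟶
          Over.mk h) ≫ z = x i := by
  classical
  obtain ⟨J, _, W, a, hW, ha, hcov⟩ := exists_charts X hqc hqs
  choose j g₀ hg₀ using fun i => hcov (IsLocalRing.ResidueField (A i)) _
    ((yon S).map (HensChart.quotι (IsLocalRing.maximalIdeal (A i))
      (Spec.map (CommRingCat.ofHom (Pi.evalRingHom (fun j => (A j : Type u)) i)) ≫ h)) ≫ x i)
  choose g hg hg' using fun i => HensChart.exists_lift_henselian (x i)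
    (HensChart.repWith_smooth_of_etale (ha (j i))) (g₀ i) (hg₀ i)
  let hc := isColimitSigmaOver W
  let Q : Over S := sigmaOver W
  haveI : IsAffine Q.left := inferInstanceAs (IsAffine (∐ fun j => (W j).left))
  let b : (yon S).obj Q ⟶ X.obj := Cofan.IsColimit.desc hc a
  let u : ∀ i, _ ⟶ Q := fun i => g i ≫ sigmaOverι W (j i)
  have hu : ∀ i, (yon S).map (u i) ≫ b = x i := fun i => by
    rw [Functor.map_comp, Category.assoc,
      show (yon S).map (sigmaOverι W (j i)) ≫ b = a (j i) from Cofan.IsColimit.fac hc a (j i), hg]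
  choose φ hφ using fun i => Spec.map_surjective ((u i).left ≫ Q.left.isoSpec.hom)
  let w : Spec (CommRingCat.of (∀ i, A i)) ⟶ Q.left :=
    Spec.map (CommRingCat.ofHom (RingHom.pi fun i => (φ i).hom)) ≫ Q.left.isoSpec.inv
  have hw : ∀ i, Spec.map (CommRingCat.ofHom (Pi.evalRingHom (fun j => (A j : Type u)) i)) ≫ w =
      (u i).left := fun i => by
    show Spec.map _ ≫ Spec.map _ ≫ Q.left.isoSpec.inv = _
    rw [← Category.assoc, ← Spec.map_comp, Iso.comp_inv_eq, ← hφ i]
    rfl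
  have hwS : w ≫ Q.hom = h := hom_ext_pi A fun i => by
    rw [← Category.assoc, hw i]
    exact Over.w (u i)
  refine ⟨(yon S).map (Over.homMk w hwS) ≫ b, fun i => ?_⟩
  rw [← Functor.map_comp_assoc, ← hu i]
  congr 2
  exact Over.OverMorphism.ext (hw i)

end Groth.Agent.Lib.PiPointsSurj
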