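import Mathlib.RingTheory.PicardGroup
import Mathlib.FieldTheory.Minpoly.IsIntegrallyClosed
import Mathlib.GroupTheory.FiniteAbelian.Basic
import Mathlib.RingTheory.Int.Basic
import Mathlib.RingTheory.IntegralClosure.IsIntegralClosure.Basic
import Mathlib.Analysis.Complex.Polynomial.Basic

/-!
# Surjectivity of Picard groups along a quotient with a conductor element
-/

noncomputable section

open scoped TensorProduct

universe u

namespace Groth.Agent.PicSurj99

section Invertible

variable {S L : Type*} [CommRing S] [AddCommGroup L] [Module S L] [Module.Invertible S L]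

lemma smul_comm' (f : Module.Dual S L) (x y : L) : f x • y = f y • x := by
  have h : y ⊗ₜ[S] x = x ⊗ₜ[S] y := by
    have := DFunLike.congr_fun (Module.Invertible.tensorProductComm_eq_refl (R := S) (M := L))
      (x ⊗ₜ[S] y)
    simpa using this
  have := congrArg (TensorProduct.lift ((LinearMap.lsmul S L).comp f)) h
  simpa using this.symm

lemma span_trace_eq_top : Ideal.span {r : S | ∃ (g : Module.Dual S L) (l : L), g l = r} = ⊤ := by
  rw [eq_top_iff]
  rintro r -
  obtain ⟨z, rfl⟩ := (Module.Invertible.linearEquiv S L).surjective r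
  induction z using TensorProduct.induction_on with
  | zero => simp
  | tmul g l => exact Ideal.subset_span ⟨g, l, (contractLeft_apply g l).symm⟩
  | add a b ha hb => rw [map_add]; exact Ideal.add_mem _ ha hb

theorem exists_ideal_avoiding (T : Finset (Ideal S)) (hT : ∀ m ∈ T, m.IsMaximal)
    {ι : Type*} (p : ι → Ideal S) (hp : ∀ j, (p j).IsPrime) (hbot : ⨅ j, p j = ⊥)
    (hcov : ∀ j, ∃ m ∈ T, p j ≤ m) :
    ∃ J : Ideal S, Nonempty (L ≃ₗ[S] J) ∧ ∀ m ∈ T, ¬ J ≤ m := by
  classical
  have hf : ∀ m : T, ∃ (g : Module.Dual S L) (l : L), g l ∉ (m : Ideal S) := by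
    intro m
    by_contra h
    push Not at h
    refine (hT m m.2).ne_top (top_unique ?_)
    rw [← span_trace_eq_top (S := S) (L := L)]
    exact Ideal.span_le.mpr (by rintro r ⟨g, l, rfl⟩; exact h g l)
  choose g l hgl using hf
  have hh : ∀ m : T, ∃ h : S, h ∉ (m : Ideal S) ∧ ∀ m' : T, m' ≠ m → h ∈ (m' : Ideal S) := by
    intro m
    have : ∀ m' : T, ∃ a : S, a ∉ (m : Ideal S) ∧ (m' ≠ m → a ∈ (m' : Ideal S)) := by
      intro m'
      by_cases h : m' = m
      · exact ⟨1, (hT m m.2).ne_top ∘ (Ideal.eq_top_iff_one _).mpr, fun h' => absurd h h'⟩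
      · obtain ⟨a, ha, ha'⟩ := SetLike.not_le_iff_exists.mp
          (fun hle => h (Subtype.ext ((hT m' m'.2).eq_of_le (hT m m.2).ne_top hle)))
        exact ⟨a, ha', fun _ => ha⟩
    choose a ha ha' using this
    refine ⟨∏ m' : T, a m', fun hmem => ?_, fun m' hm' => by
      rw [← Finset.mul_prod_erase _ a (Finset.mem_univ m')]
      exact Ideal.mul_mem_right _ _ (ha' m' hm')⟩
    obtain ⟨m', -, hm'⟩ := (hT m m.2).isPrime.prod_mem_iff.mp hmem
    exact ha m' hm'
  choose h hh hh' using hh
  let f : Module.Dual S L := ∑ m : T, h m • g m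
  have hf : ∀ m : T, f (l m) ∉ (m : Ideal S) := by
    intro m hmem
    simp only [f, LinearMap.coe_sum, Finset.sum_apply, LinearMap.smul_apply, smul_eq_mul] at hmem
    rw [← Finset.add_sum_erase _ _ (Finset.mem_univ m)] at hmem
    have hrest : ∑ m' ∈ Finset.univ.erase m, h m' * g m' (l m) ∈ (m : Ideal S) :=
      Ideal.sum_mem _ fun m' hm' =>
        Ideal.mul_mem_right _ _ (hh' m' m (Finset.mem_erase.mp hm').1.symm)
    rcases (hT m m.2).isPrime.mem_or_mem ((Ideal.add_mem_iff_left _ hrest).mp hmem) with h1 | h1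
    · exact hh m h1
    · exact hgl m h1
  have hinj : Function.Injective f := by
    rw [← LinearMap.ker_eq_bot, LinearMap.ker_eq_bot']
    intro x hx
    have key : ∀ g' : Module.Dual S L, g' x = 0 := by
      intro g'
      rw [← Ideal.mem_bot, ← hbot, Submodule.mem_iInf]
      intro j
      obtain ⟨m, hm, hle⟩ := hcov j
      have h0 : f (l ⟨m, hm⟩) • x = 0 := by rw [smul_comm', hx, zero_smul]
      have h1 : f (l ⟨m, hm⟩) * g' x ∈ p j := by
        rw [← smul_eq_mul, ← map_smul, h0, map_zero]
        exact zero_mem _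
      exact ((hp j).mem_or_mem h1).resolve_left fun h2 => hf ⟨m, hm⟩ (hle h2)
    have h1 : ∀ r ∈ Ideal.span {r : S | ∃ (g' : Module.Dual S L) (y : L), g' y = r}, r • x = 0 := by
      intro r hr
      induction hr using Submodule.span_induction with
      | mem r hr =>
        obtain ⟨g', y, rfl⟩ := hr
        rw [smul_comm', key, zero_smul]
      | zero => exact zero_smul S x
      | add a b _ _ ha hb => rw [add_smul, ha, hb, add_zero]
      | smul a b _ hb => rw [smul_eq_mul, mul_smul, hb, smul_zero]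
    simpa using h1 1 (by rw [span_trace_eq_top]; trivial)
  exact ⟨LinearMap.range f, ⟨LinearEquiv.ofInjective f hinj⟩, fun m hm hle =>
    hf ⟨m, hm⟩ (hle ⟨_, rfl⟩)⟩

end Invertible

theorem invertible_of_surjective {R : Type*} [CommRing R] (N : Ideal R)
    (hsur : Ideal.span {r : R | ∃ (F : Module.Dual R N) (x : N), F x = r} = ⊤) :
    Module.Invertible R N := by
  have hcomm : ∀ (F : Module.Dual R N) (x y : N), F x • y = F y • x := by
    intro F x y
    refine Subtype.ext ?_
    show F x * (y : R) = F y * (x : R)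
    rw [mul_comm (F x), mul_comm (F y), ← smul_eq_mul, ← map_smul, ← smul_eq_mul, ← map_smul]
    congr 1
    exact Subtype.ext (mul_comm (y : R) (x : R))
  have hz : ∃ z : Module.Dual R N ⊗[R] N, contractLeft R N z = 1 := by
    have : Ideal.span {r : R | ∃ (F : Module.Dual R N) (x : N), F x = r} ≤
        LinearMap.range (contractLeft R N) :=
      Submodule.span_le.mpr (by rintro r ⟨F, x, rfl⟩; exact ⟨F ⊗ₜ x, contractLeft_apply F x⟩)
    exact this (hsur ▸ Submodule.mem_top)
  obtain ⟨z₀, hz₀⟩ := hz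
  have key : ∀ (w z : Module.Dual R N ⊗[R] N),
      contractLeft R N w • z = contractLeft R N z • w := by
    intro w z
    induction w using TensorProduct.induction_on with
    | zero => simp
    | add a b ha hb => rw [map_add, add_smul, ha, hb, smul_add]
    | tmul F x =>
      induction z using TensorProduct.induction_on with
      | zero => simp
      | add a b ha hb => rw [map_add, add_smul, smul_add, ha, hb]
      | tmul G y =>
        rw [contractLeft_apply, contractLeft_apply, ← TensorProduct.tmul_smul, hcomm F x y,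
          TensorProduct.tmul_smul, TensorProduct.smul_tmul', TensorProduct.smul_tmul']
        congr 1
        ext v
        show F y * G v = G y * F v
        calc F y * G v = G (F y • v) := by rw [map_smul, smul_eq_mul]
          _ = G (F v • y) := by rw [hcomm F y v]
          _ = G y * F v := by rw [map_smul, smul_eq_mul, mul_comm]
  refine ⟨?_, fun r => ⟨r • z₀, by rw [map_smul, hz₀, smul_eq_mul, mul_one]⟩⟩
  intro a b hab
  rw [← one_smul R a, ← one_smul R b, ← hz₀, key z₀ a, key z₀ b, hab]

theorem mem_range_mapAlgebra {R S : Type u} [CommRing R] [CommRing S] [Algebra R S]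
    (hs : Function.Surjective (algebraMap R S)) (e : R)
    (he : ∀ x ∈ RingHom.ker (algebraMap R S), e * x = 0)
    (L : Type u) [AddCommGroup L] [Module S L] [Module.Invertible S L]
    (J : Ideal S) (eJ : L ≃ₗ[S] J) (hJ : J ⊔ Ideal.span {algebraMap R S e} = ⊤) :
    CommRing.Pic.mk S L ∈ Set.range (CommRing.Pic.mapAlgebra R S) := by
  let N : Ideal R := J.comap (algebraMap R S)
  haveI : Module.Invertible S J := .congr eJ
  have hl : ∀ s : S, ∃ r, algebraMap R S r = s := hs
  choose σ hσ using hl
  have hwd : ∀ a b : R, algebraMap R S a = algebraMap R S b → e * a = e * b := by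
    intro a b h
    have := he (a - b) (by rw [RingHom.mem_ker, map_sub, h, sub_self])
    rwa [mul_sub, sub_eq_zero] at this
  let lam : S →ₗ[R] R :=
    { toFun := fun s => e * σ s
      map_add' := fun s t => by
        rw [← mul_add]; exact hwd _ _ (by rw [map_add, hσ, hσ, hσ])
      map_smul' := fun r s => by
        rw [RingHom.id_apply, smul_eq_mul, mul_left_comm]
        exact hwd _ _ (by rw [map_mul, hσ, hσ, Algebra.smul_def]) }
  let π : N →ₗ[R] J :=
    { toFun := fun x => ⟨algebraMap R S x, x.2⟩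
      map_add' := fun x y => Subtype.ext (map_add _ _ _)
      map_smul' := fun r x => Subtype.ext (by
        show algebraMap R S (r * (x : R)) = r • algebraMap R S x
        rw [map_mul, Algebra.smul_def]) }
  have hπ : Function.Surjective π := fun y =>
    ⟨⟨σ y, by show algebraMap R S (σ y) ∈ J; rw [hσ]; exact y.2⟩, Subtype.ext (hσ y)⟩
  haveI hN : Module.Invertible R N := by
    refine invertible_of_surjective N ?_
    set T := Ideal.span {r : R | ∃ (F : Module.Dual R N) (x : N), F x = r}
    have h1 : ∀ r : S, r ∈ Ideal.span {r : S | ∃ (g : Module.Dual S J) (l : J), g l = r} →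
        lam r ∈ T := by
      intro r hr
      induction hr using Submodule.span_induction with
      | mem r hr =>
        obtain ⟨g, l, rfl⟩ := hr
        obtain ⟨x, rfl⟩ := hπ l
        exact Ideal.subset_span ⟨lam ∘ₗ (g.restrictScalars R ∘ₗ π), x, rfl⟩
      | zero => rw [map_zero]; exact zero_mem _
      | add a b _ _ ha hb => rw [map_add]; exact add_mem ha hb
      | smul a b _ hb =>
        obtain ⟨a, rfl⟩ := hs a
        rw [smul_eq_mul, ← Algebra.smul_def, map_smul]
        exact T.mul_mem_left a hb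
    have he1 : e ∈ T := by
      have := h1 1 (by rw [span_trace_eq_top]; trivial)
      have e1 : lam 1 = e * 1 := hwd _ _ (by rw [hσ, map_one])
      rwa [e1, mul_one] at this
    have h2 : (1 : S) ∈ J ⊔ Ideal.span {algebraMap R S e} := by rw [hJ]; trivial
    obtain ⟨j, hj, _, hk, hjk⟩ := Submodule.mem_sup.mp h2
    obtain ⟨s, rfl⟩ := Ideal.mem_span_singleton'.mp hk
    obtain ⟨s, rfl⟩ := hs s
    have hjN : 1 - s * e ∈ N := by
      show algebraMap R S (1 - s * e) ∈ J
      rw [map_sub, map_one, map_mul, ← hjk, add_sub_cancel_right]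
      exact hj
    rw [Ideal.eq_top_iff_one, ← sub_add_cancel (1 : R) (s * e)]
    exact add_mem (Ideal.subset_span ⟨N.subtype, ⟨_, hjN⟩, rfl⟩) (T.mul_mem_left s he1)
  let β : S ⊗[R] N →ₗ[S] J := LinearMap.liftBaseChange S π
  have hβ : Function.Surjective β := fun y => by
    obtain ⟨x, rfl⟩ := hπ y
    exact ⟨1 ⊗ₜ x, by simp [β]⟩
  refine ⟨CommRing.Pic.mk R N, ?_⟩
  rw [CommRing.Pic.mapAlgebra_apply, CommRing.Pic.mk_eq_mk_iff]
  exact ⟨TensorProduct.AlgebraTensorModule.congr (LinearEquiv.refl S S)
    (CommRing.Pic.mk.linearEquiv R N) ≪≫ₗ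
    LinearEquiv.ofBijective β (Module.Invertible.bijective_of_surjective hβ) ≪≫ₗ eJ.symm⟩

theorem finite_maximals_containing {S : Type*} [CommRing S] [Module.Finite ℤ S]
    (a : ℤ) (ha : a ≠ 0) : {m : Ideal S | m.IsMaximal ∧ (a : S) ∈ m}.Finite := by
  let I : Ideal S := Ideal.span {(a : S)}
  haveI : Module.Finite ℤ (S ⧸ I) :=
    Module.Finite.of_surjective ((Ideal.Quotient.mkₐ ℤ I).toLinearMap)
      Ideal.Quotient.mk_surjective
  haveI : Finite (S ⧸ I) := by
    refine Module.finite_of_fg_torsion _ fun x => ?_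
    refine ⟨⟨a, mem_nonZeroDivisors_of_ne_zero ha⟩, ?_⟩
    show a • x = 0
    rw [zsmul_eq_mul, show ((a : S ⧸ I)) = Ideal.Quotient.mk I (a : S) from (map_intCast _ a).symm,
      Ideal.Quotient.eq_zero_iff_mem.mpr (Ideal.mem_span_singleton_self _), zero_mul]
  haveI : Finite (Ideal (S ⧸ I)) := Finite.of_injective _ SetLike.coe_injective
  refine (Set.finite_range fun K : Ideal (S ⧸ I) => K.comap (Ideal.Quotient.mk I)).subset ?_
  rintro m ⟨-, hm⟩
  refine ⟨m.map (Ideal.Quotient.mk I), ?_⟩
  show (m.map (Ideal.Quotient.mk I)).comap (Ideal.Quotient.mk I) = m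
  rw [Ideal.comap_map_of_surjective _ Ideal.Quotient.mk_surjective, ← RingHom.ker_eq_comap_bot,
    Ideal.mk_ker]
  exact sup_eq_left.mpr ((Ideal.span_singleton_le_iff_mem _).mpr hm)

theorem aeval_reverse_comp {F : Type*} [Field F] (q : ℕ) (P : Polynomial ℤ) (t : F)
    (ht : t ≠ 0) :
    Polynomial.aeval t (P.comp (Polynomial.C (q : ℤ) * Polynomial.X)).reverse = 0 ↔
      Polynomial.aeval ((q : F) / t) P = 0 := by
  haveI : Invertible t⁻¹ := invertibleOfNonzero (inv_ne_zero ht)
  have h := Polynomial.eval₂_reverse_eq_zero_iff (algebraMap ℤ F) t⁻¹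
    (P.comp (Polynomial.C (q : ℤ) * Polynomial.X))
  rw [invOf_eq_inv, inv_inv, ← Polynomial.aeval_def, ← Polynomial.aeval_def,
    Polynomial.aeval_comp] at h
  simpa [div_eq_mul_inv] using h

theorem isIntegral_div {K : Type*} [Field K] [CharZero K] (x : K) (hx : IsIntegral ℤ x) (q : ℕ)
    (hq : q ≠ 0) (hw : ∀ z ∈ (minpoly ℤ x).aroots ℂ, ‖z‖ = Real.sqrt q) :
    IsIntegral ℤ ((q : K) / x) := by
  set P := minpoly ℤ x with hP
  have hmon : P.Monic := minpoly.monic hx
  have hirr : Irreducible P := minpoly.irreducible hx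
  have hroot : ∀ z : ℂ, Polynomial.aeval z P = 0 → Polynomial.aeval ((q : ℂ) / z) P = 0 := by
    intro z hz
    have hzn := hw z (Polynomial.mem_aroots.mpr ⟨hmon.ne_zero, hz⟩)
    have hz0 : z ≠ 0 := by
      intro h0
      rw [h0, norm_zero] at hzn
      exact absurd hzn.symm (Real.sqrt_ne_zero'.mpr (by positivity))
    have hconj : (q : ℂ) / z = starRingEnd ℂ z := by
      rw [div_eq_iff hz0, mul_comm, Complex.mul_conj, Complex.normSq_eq_norm_sq, hzn,
        Real.sq_sqrt (Nat.cast_nonneg q)]
      norm_num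
    rw [hconj]
    have h := Polynomial.hom_eval₂ P (algebraMap ℤ ℂ) (starRingEnd ℂ) z
    rw [← Polynomial.aeval_def, hz, map_zero,
      RingHom.ext_int ((starRingEnd ℂ).comp (algebraMap ℤ ℂ)) (algebraMap ℤ ℂ)] at h
    exact h.symm
  let Q : Polynomial ℤ := (P.comp (Polynomial.C (q : ℤ) * Polynomial.X)).reverse
  obtain ⟨z, hz⟩ := IsAlgClosed.exists_aeval_eq_zero_of_injective ℂ
    (algebraMap ℤ ℂ).injective_int P (minpoly.degree_pos hx).ne'
  have hz0 : z ≠ 0 := by
    intro h0
    have := hw z (Polynomial.mem_aroots.mpr ⟨hmon.ne_zero, hz⟩)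
    rw [h0, norm_zero] at this
    exact absurd this.symm (Real.sqrt_ne_zero'.mpr (by positivity))
  have hzint : IsIntegral ℤ z := ⟨P, hmon, hz⟩
  have hPz : minpoly ℤ z = P :=
    Polynomial.eq_of_monic_of_associated (minpoly.monic hzint) hmon
      ((minpoly.irreducible hzint).associated_of_dvd hirr (minpoly.isIntegrallyClosed_dvd hzint hz))
  have hdvd : P ∣ Q := hPz ▸ minpoly.isIntegrallyClosed_dvd hzint ((aeval_reverse_comp q P z hz0).mpr (hroot z hz))
  obtain ⟨c, hc⟩ := hdvd
  have hx0 : x ≠ 0 := by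
    intro h0
    have h1 : P = Polynomial.X := by
      have hdX : P ∣ Polynomial.X := minpoly.isIntegrallyClosed_dvd hx (by rw [h0, Polynomial.aeval_X])
      exact Polynomial.eq_of_monic_of_associated hmon Polynomial.monic_X
        (hirr.associated_of_dvd Polynomial.irreducible_X hdX)
    have := hw 0 (Polynomial.mem_aroots.mpr ⟨hmon.ne_zero, by simp [h1]⟩)
    rw [norm_zero] at this
    exact absurd this.symm (Real.sqrt_ne_zero'.mpr (by positivity))
  refine ⟨P, hmon, (aeval_reverse_comp q P x hx0).mp ?_⟩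
  show Polynomial.aeval x Q = 0
  rw [hc, map_mul, hP, minpoly.aeval, zero_mul]

end Groth.Agent.PicSurj99
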