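import Mathlib.FieldTheory.IsSepClosed
import Mathlib.LinearAlgebra.Dimension.OrzechProperty
import Mathlib.RingTheory.Artinian.Module
import Mathlib.LinearAlgebra.Dimension.Finite
import Mathlib.LinearAlgebra.Basis.VectorSpace
import Mathlib.LinearAlgebra.FiniteDimensional.Lemmas
import Mathlib.RingTheory.Finiteness.Cardinality
import Mathlib.Tactic.LinearCombination
import Mathlib.Tactic.Module

/-!
# `q`-linear endomorphisms over a separably closed field

If the image of a `q`-linear endomorphism `φ` of a finite-dimensional space spans it, the fixed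
vectors span it; `1 - φ` is surjective in general.
-/

universe u v

open Polynomial

namespace Groth.Agent.Lib.QLinear

variable {k : Type u} [Field k] [IsSepClosed k] (p r : ℕ) [Fact p.Prime] [CharP k p] (hr : 0 < r)

include hr in
theorem one_lt_q : 1 < p ^ r := Nat.one_lt_pow hr.ne' (Fact.out : p.Prime).one_lt

include hr in
theorem natCast_q : ((p ^ r : ℕ) : k) = 0 := by simp [CharP.cast_eq_zero, hr.ne']

include hr in
theorem exists_root_pow_sub_add (a : k) : ∃ c : k, c ^ p ^ r - c + a = 0 := by
  have hq := one_lt_q p r hr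
  have hdeg : (X ^ p ^ r - X + C a : k[X]).natDegree = p ^ r := by
    rw [natDegree_add_C, natDegree_sub_eq_left_of_natDegree_lt (by rw [natDegree_X, natDegree_X_pow]; exact hq),
      natDegree_X_pow]
  obtain ⟨c, hc⟩ := IsSepClosed.exists_root (X ^ p ^ r - X + C a : k[X])
    (fun h => by have := natDegree_eq_of_degree_eq_some (n := 0) h; omega)
    (by
      show IsCoprime _ _
      rw [derivative_add, derivative_sub, derivative_X_pow, derivative_X, derivative_C, natCast_q p r hr, map_zero,
        zero_mul, zero_sub, add_zero]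
      exact isCoprime_one_right.neg_right)
  exact ⟨c, by simpa using hc⟩

variable {V : Type v} [AddCommGroup V] [Module k V] (φ : V →+ V)
  (hφ : ∀ (c : k) (v : V), φ (c • v) = c ^ (p ^ r) • φ v)

omit [IsSepClosed k] in
include hφ in
theorem map_span (S : Set V) : Submodule.span k (φ '' (Submodule.span k S : Set V)) = Submodule.span k (φ '' S) := by
  refine le_antisymm (Submodule.span_le.2 ?_) (Submodule.span_mono (Set.image_mono Submodule.subset_span))
  rintro _ ⟨w, hw, rfl⟩
  induction hw using Submodule.span_induction with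
  | mem v hv => exact Submodule.subset_span ⟨v, hv, rfl⟩
  | zero => simp
  | add a b _ _ ha hb => rw [map_add]; exact add_mem ha hb
  | smul a v _ hv => rw [hφ]; exact Submodule.smul_mem _ _ hv

variable [FiniteDimensional k V]

omit [IsSepClosed k] in
include hφ in
/-- If the image spans, `φ` preserves linear independence. -/
theorem linearIndependent_map (hss : Submodule.span k (Set.range φ) = ⊤) {ι : Type*} {f : ι → V}
    (hf : LinearIndependent k f) : LinearIndependent k (φ ∘ f) := by
  let B := Module.Basis.extend hf.linearIndepOn_id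
  have hfin : Fintype (hf.linearIndepOn_id.extend (Set.subset_univ _)) := Module.Finite.finite_basis B |> fun _ => Fintype.ofFinite _
  have hspan : ⊤ ≤ Submodule.span k (Set.range (φ ∘ B)) := by
    rw [Set.range_comp, ← map_span p r φ hφ, B.span_eq, Submodule.top_coe, Set.image_univ, hss]
  have hli : LinearIndependent k (φ ∘ B) :=
    linearIndependent_of_top_le_span_of_card_eq_finrank hspan (Module.finrank_eq_card_basis B).symm
  have hmem : ∀ i, f i ∈ hf.linearIndepOn_id.extend (Set.subset_univ _) :=
    fun i => hf.linearIndepOn_id.subset_extend _ ⟨i, rfl⟩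
  have h2 := hli.comp (fun i => (⟨f i, hmem i⟩ : hf.linearIndepOn_id.extend (Set.subset_univ _)))
    fun a b h => hf.injective (congrArg Subtype.val h)
  convert h2 using 1
  funext i
  show φ (f i) = φ (B ⟨f i, hmem i⟩)
  rw [Module.Basis.extend_apply_self]

include hr hφ in
theorem exists_fixed [Nontrivial V] (hss : Submodule.span k (Set.range φ) = ⊤) :
    ∃ x, x ≠ 0 ∧ φ x = x := by
  classical
  let q := p ^ r
  have hq : 1 < q := one_lt_q p r hr
  obtain ⟨v, hv⟩ := exists_ne (0 : V)
  let u : ℕ → V := fun i => φ^[i] v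
  have hu : ∀ i, φ (u i) = u (i + 1) := fun i => (Function.iterate_succ_apply' φ i v).symm
  have hex : ∃ m, ¬ LinearIndependent k (fun i : Fin m => u i) := by
    refine ⟨Module.finrank k V + 1, fun h => ?_⟩
    have := h.fintype_card_le_finrank
    simp at this
  have hr' := Nat.find_spec hex
  have hmin : ∀ i < Nat.find hex, LinearIndependent k (fun j : Fin i => u j) := fun i hi => by
    simpa using Nat.find_min hex hi
  generalize Nat.find hex = m at hr' hmin
  obtain ⟨n, rfl⟩ : ∃ n, m = n + 2 := ⟨m - 2, by
    rcases m with _ | _ | m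
    · exact absurd linearIndependent_empty_type hr'
    · exact absurd (show LinearIndependent k (fun i : Fin 1 => u i) from linearIndependent_unique_iff.2 (by simpa [u] using hv)) hr'
    · omega⟩
  have hli : LinearIndependent k (fun i : Fin (n + 1) => u i) := hmin _ (by omega)
  have hmem : u (n + 1) ∈ Submodule.span k (Set.range fun i : Fin (n + 1) => u i) := by
    by_contra hn
    refine hr' ?_
    rw [linearIndependent_finSucc']
    exact ⟨hli, hn⟩
  obtain ⟨a, ha⟩ := (Submodule.mem_span_range_iff_exists_fun k).1 hmem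
  have hlast : ∀ (c : ℕ → k), ∑ i ∈ Finset.range (n + 1), c i • u i = 0 → c n = 0 := fun c hc =>
    Fintype.linearIndependent_iff.1 hli (fun i => c i) (by rwa [Fin.sum_univ_eq_sum_range (fun i => c i • u i)])
      (Fin.last n)
  have ha0 : a 0 ≠ 0 := by
    intro h0
    have hli' := linearIndependent_map p r φ hφ hss hli
    have hsum : ∑ i : Fin (n + 1), (if h : (i : ℕ) = n then (-1 : k) else a ⟨i + 1, by omega⟩) • φ (u i) = 0 := by
      rw [Fin.sum_univ_castSucc]
      simp only [Fin.val_castSucc, Fin.val_last, dite_true, hu, neg_smul, one_smul, add_neg_eq_zero]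
      rw [← ha, Fin.sum_univ_succ, h0, zero_smul, zero_add]
      refine Finset.sum_congr rfl fun i _ => ?_
      rw [dif_neg (by omega)]
      simp only [Fin.val_succ]
      rfl
    have := Fintype.linearIndependent_iff.1 hli' _ hsum (Fin.last n)
    simp at this
  let b : ℕ → k := fun i => if h : i < n + 1 then a ⟨i, h⟩ else 0
  let P : ℕ → k[X] := fun i => Nat.rec (C (b 0) * X ^ q) (fun j Q => Q ^ q + C (b (j + 1)) * X ^ q) i
  have hPd : ∀ i, (P i).natDegree = q ^ (i + 1) := by
    intro i
    induction i with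
    | zero => simp only [P, zero_add, pow_one]; exact natDegree_C_mul_X_pow q _ (by simpa [b] using ha0)
    | succ i ih =>
      show (P i ^ q + C (b (i + 1)) * X ^ q).natDegree = _
      rw [natDegree_add_eq_left_of_natDegree_lt, natDegree_pow, ih, ← pow_succ']
      refine (natDegree_C_mul_X_pow_le _ _).trans_lt ?_
      rw [natDegree_pow, ih, ← pow_succ']
      exact lt_self_pow₀ hq (by omega)
  have hder : ∀ i, derivative (P i) = 0 := by
    have hq0 : ((q : ℕ) : k) = 0 := natCast_q p r hr
    intro i
    cases i <;> simp [P, derivative_pow, hq0]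
  have hP0 : ∀ i, (P i).eval 0 = 0 := by
    intro i
    induction i with
    | zero => simp [P, zero_pow (show q ≠ 0 by omega)]
    | succ i ih =>
      show (P i ^ q + C (b (i + 1)) * X ^ q).eval 0 = 0
      simp [ih, zero_pow (show q ≠ 0 by omega)]
  obtain ⟨g, hg⟩ : X ∣ P n - X := by
    rw [X_dvd_iff, coeff_zero_eq_eval_zero]; simp [hP0]
  have hg0 : g.eval 0 = -1 := by
    have := congrArg (fun f => (derivative f).eval 0) hg
    simpa [hder] using this.symm
  have hgsep : g.Separable := by
    refine Polynomial.Separable.of_dvd ?_ (Dvd.intro_left X hg.symm)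
    show IsCoprime _ _
    rw [derivative_sub, hder, derivative_X, zero_sub]
    exact isCoprime_one_right.neg_right
  obtain ⟨t, ht⟩ := IsSepClosed.exists_root g (by
    intro h
    have h1 : (P n - X).natDegree ≤ 1 := by
      rw [hg]
      refine natDegree_mul_le.trans ?_
      rw [natDegree_X, natDegree_eq_of_degree_eq_some (n := 0) h]
    rw [natDegree_sub_eq_left_of_natDegree_lt (by rw [natDegree_X, hPd]; exact Nat.one_lt_pow (by omega) hq), hPd] at h1
    exact absurd h1 (not_le.2 (Nat.one_lt_pow (by omega) hq))) hgsep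
  have ht0 : t ≠ 0 := by
    rintro rfl
    rw [IsRoot.def, hg0] at ht
    exact neg_ne_zero.2 one_ne_zero ht
  have htn : (P n).eval t = t := by
    have := congrArg (eval t) hg
    rw [eval_mul, ht.eq_zero, mul_zero] at this
    simpa [sub_eq_zero] using this
  let c : ℕ → k := fun i => (P i).eval t
  refine ⟨∑ i ∈ Finset.range (n + 1), c i • u i, fun h => ht0 (htn ▸ hlast c h), ?_⟩
  have ha' : u (n + 1) = ∑ i ∈ Finset.range (n + 1), b i • u i := by
    rw [← ha, ← Fin.sum_univ_eq_sum_range (fun i => b i • u i)]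
    exact Finset.sum_congr rfl fun i _ => by simp only [b, dif_pos i.2, Fin.eta]
  rw [map_sum]
  simp only [hφ, hu]
  rw [Finset.sum_range_succ, Finset.sum_range_succ' (fun i => c i • u i), ha', Finset.smul_sum,
    Finset.sum_range_succ', show c n = t from htn]
  have hc0 : c 0 = b 0 * t ^ q := by simp [c, P]
  have hcs : ∀ i, c (i + 1) = c i ^ q + b (i + 1) * t ^ q := fun i => by simp [c, P]
  simp only [hc0, hcs, add_smul, Finset.sum_add_distrib, mul_smul, smul_comm (t ^ q)]
  rw [show p ^ r = q from rfl]
  simp only [← mul_smul, mul_comm]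
  abel

include hr hφ in
theorem span_fixed_eq_top (hss : Submodule.span k (Set.range φ) = ⊤) :
    Submodule.span k {v | φ v = v} = ⊤ := by
  classical
  set W := Submodule.span k {v | φ v = v}
  by_contra hW
  have hφW : ∀ w ∈ W, φ w ∈ W := by
    intro w hw
    induction hw using Submodule.span_induction with
    | mem v hv => exact Submodule.subset_span (show φ (φ v) = φ v by rw [show φ v = v from hv]; exact hv)
    | zero => simp
    | add a b _ _ ha hb => rw [map_add]; exact add_mem ha hb
    | smul a v _ hv => rw [hφ]; exact W.smul_mem _ hv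
  let φq : (V ⧸ W) →+ (V ⧸ W) := QuotientAddGroup.map W.toAddSubgroup W.toAddSubgroup φ hφW
  have hφq : ∀ v, φq (W.mkQ v) = W.mkQ (φ v) := fun v => rfl
  have hnt : Nontrivial (V ⧸ W) := Submodule.Quotient.nontrivial_iff.2 hW
  obtain ⟨x, hx0, hx⟩ := exists_fixed p r hr φq (fun a v => by
      obtain ⟨v, rfl⟩ := W.mkQ_surjective v
      rw [← map_smul, hφq, hφ, map_smul, hφq]) (by
      rw [eq_top_iff]
      calc ⊤ = (Submodule.span k (Set.range φ)).map W.mkQ := by
            rw [hss, Submodule.map_top, Submodule.range_mkQ]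
        _ ≤ _ := by
            rw [Submodule.map_span]
            refine Submodule.span_mono ?_
            rintro _ ⟨_, ⟨v, rfl⟩, rfl⟩
            exact ⟨W.mkQ v, hφq v⟩)
  obtain ⟨v, rfl⟩ := W.mkQ_surjective x
  rw [hφq, Submodule.mkQ_apply, Submodule.mkQ_apply, Submodule.Quotient.eq] at hx
  have hsolve : ∀ w ∈ W, ∀ a : k, ∃ u ∈ W, u - φ u = a • w := by
    intro w hw
    induction hw using Submodule.span_induction with
    | mem e he =>
      intro a
      obtain ⟨c, hc⟩ := exists_root_pow_sub_add p r hr a
      refine ⟨c • e, W.smul_mem _ (Submodule.subset_span he), ?_⟩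
      rw [hφ, show φ e = e from he, ← sub_smul]
      congr 1
      linear_combination (-1 : k) * hc
    | zero => exact fun a => ⟨0, zero_mem _, by simp⟩
    | add u v _ _ hu hv =>
      intro a
      obtain ⟨u', hu', eu⟩ := hu a
      obtain ⟨v', hv', ev⟩ := hv a
      exact ⟨u' + v', add_mem hu' hv', by rw [map_add, smul_add, ← eu, ← ev]; abel⟩
    | smul b u _ hu =>
      intro a
      simpa [smul_smul] using hu (a * b)
  obtain ⟨u, hu, eu⟩ := hsolve _ hx 1
  rw [one_smul] at eu
  refine hx0 ((Submodule.Quotient.mk_eq_zero W).2 ?_)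
  have : v + u ∈ W := Submodule.subset_span (show φ (v + u) = v + u by
    rw [map_add, show φ u = u - (φ v - v) by rw [← eu]; abel]; abel)
  simpa using sub_mem this hu

include hr hφ in
theorem exists_basis_fixed (hss : Submodule.span k (Set.range φ) = ⊤) :
    ∃ b : Module.Basis (Fin (Module.finrank k V)) k V, ∀ i, φ (b i) = b i := by
  obtain ⟨B, hB1, hB2, hB3⟩ := exists_linearIndependent k {v | φ v = v}
  let b₀ : Module.Basis B k V := Module.Basis.mk hB3
    (by rw [Subtype.range_coe, hB2, span_fixed_eq_top p r hr φ hφ hss])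
  refine ⟨b₀.reindex (b₀.indexEquiv (Module.finBasis k V)), fun i => ?_⟩
  rw [Module.Basis.reindex_apply, Module.Basis.mk_apply]
  exact hB1 (Subtype.coe_prop _)

omit [IsSepClosed k] [FiniteDimensional k V] in
include hφ in
theorem iterate_sum {ι : Type*} (s : Finset ι) (c : ι → k) (w : ι → V) (hw : ∀ i ∈ s, φ (w i) = w i) (n : ℕ) :
    φ^[n] (∑ i ∈ s, c i • w i) = ∑ i ∈ s, c i ^ (p ^ r) ^ n • w i := by
  induction n with
  | zero => simp
  | succ n ih =>
    rw [Function.iterate_succ_apply', ih, map_sum]
    exact Finset.sum_congr rfl fun i hi => by rw [hφ, hw i hi, ← pow_mul, ← pow_succ]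

omit [IsSepClosed k] [FiniteDimensional k V] in
include hφ in
theorem coeff_eq_of_iterate {ι : Type*} [Fintype ι] (b : Module.Basis ι k V) (hb : ∀ i, φ (b i) = b i) (n : ℕ)
    {v : V} (hv : φ^[n] v = v) (i : ι) : b.repr v i ^ (p ^ r) ^ n = b.repr v i := by
  have h : φ^[n] v = ∑ j, b.repr v j ^ (p ^ r) ^ n • b j := by
    conv_lhs => rw [← b.sum_repr v]
    exact iterate_sum p r φ hφ _ _ _ (fun j _ => hb j) n
  rw [hv] at h
  conv_rhs => rw [h, b.repr_sum_self]

include hr hφ in
theorem sub_surjective : Function.Surjective (fun v : V => v - φ v) := by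
  classical
  suffices h : ∀ (m : ℕ) (W : Submodule k V), Module.finrank k W ≤ m → (∀ w ∈ W, φ w ∈ W) →
      ∀ y ∈ W, ∃ x ∈ W, x - φ x = y by
    intro y
    obtain ⟨x, -, hx⟩ := h _ ⊤ le_rfl (fun _ _ => trivial) y trivial
    exact ⟨x, hx⟩
  intro m
  induction m with
  | zero =>
    intro W hW _ y hy
    rw [Nat.le_zero, Submodule.finrank_eq_zero] at hW
    subst hW
    exact ⟨0, zero_mem _, by rw [(Submodule.mem_bot k).1 hy]; simp⟩
  | succ m ih =>
    intro W hW hWφ y hy
    let W' := Submodule.span k (φ '' W)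
    have hle : W' ≤ W := Submodule.span_le.2 (by rintro _ ⟨w, hw, rfl⟩; exact hWφ w hw)
    by_cases heq : W' = W
    · let φW : W →+ W :=
        { toFun := fun w => ⟨φ w, hWφ w w.2⟩
          map_zero' := Subtype.ext (map_zero φ)
          map_add' := fun a b => Subtype.ext (map_add φ _ _) }
      have hφW' : ∀ (c : k) (w : W), φW (c • w) = c ^ p ^ r • φW w := fun c w => Subtype.ext (hφ c w)
      have hssW : Submodule.span k (Set.range φW) = ⊤ := by
        refine Submodule.map_injective_of_injective W.subtype_injective ?_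
        rw [Submodule.map_span, Submodule.map_subtype_top]
        refine Eq.trans ?_ heq
        congr 1
        ext z
        constructor
        · rintro ⟨_, ⟨w, rfl⟩, rfl⟩; exact ⟨w, w.2, rfl⟩
        · rintro ⟨w, hw, rfl⟩; exact ⟨_, ⟨⟨w, hw⟩, rfl⟩, rfl⟩
      obtain ⟨b, hb⟩ := exists_basis_fixed p r hr φW hφW' hssW
      choose c hc using fun i => exists_root_pow_sub_add p r hr (b.repr ⟨y, hy⟩ i)
      refine ⟨_, (∑ i, c i • b i).2, ?_⟩
      have : (∑ i, c i • b i) - φW (∑ i, c i • b i) = ⟨y, hy⟩ := by
        rw [map_sum, ← Finset.sum_sub_distrib]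
        conv_rhs => rw [← b.sum_repr ⟨y, hy⟩]
        refine Finset.sum_congr rfl fun i _ => ?_
        rw [hφW', hb, ← sub_smul]
        congr 1
        linear_combination (-1 : k) * hc i
      exact congrArg Subtype.val this
    · have hlt : Module.finrank k W' < Module.finrank k W :=
        Submodule.finrank_lt_finrank_of_lt (lt_of_le_of_ne hle heq)
      obtain ⟨x, hx, hx'⟩ := ih W' (by omega) (fun w hw => Submodule.subset_span ⟨w, hle hw, rfl⟩)
        (φ y) (Submodule.subset_span ⟨y, hy, rfl⟩)
      refine ⟨y + x, add_mem hy (hle hx), ?_⟩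
      rw [map_add, ← hx']
      abel

/-- The semisimple part: the intersection of the spans of the images of the iterates. -/
def ss : Submodule k V := ⨅ n : ℕ, Submodule.span k (Set.range (φ^[n + 1]))

omit [IsSepClosed k] [FiniteDimensional k V] in
theorem mem_ss_of_fixed {v : V} (hv : φ v = v) : v ∈ ss (k := k) φ :=
  (Submodule.mem_iInf _).2 fun n => Submodule.subset_span ⟨v, Function.iterate_fixed hv (n + 1)⟩

omit [IsSepClosed k] in
include hφ in
theorem span_image_ss : Submodule.span k (φ '' (ss (k := k) φ : Set V)) = ss (k := k) φ := by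
  classical
  let S : ℕ → Submodule k V := fun n => Submodule.span k (Set.range (φ^[n + 1]))
  have hsucc : ∀ n, S (n + 1) = Submodule.span k (φ '' (S n : Set V)) := fun n => by
    rw [map_span p r φ hφ, ← Set.range_comp, ← Function.iterate_succ']
  have hanti : Antitone S := antitone_nat_of_succ_le fun n => by
    refine Submodule.span_mono ?_
    rintro _ ⟨v, rfl⟩
    exact ⟨φ v, (Function.iterate_succ_apply φ (n + 1) v).symm⟩
  obtain ⟨N, hN⟩ := IsArtinian.monotone_stabilizes (⟨fun n => OrderDual.toDual (S n), hanti.dual_right⟩ : ℕ →o (Submodule k V)ᵒᵈ)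
  have hss : ss (k := k) φ = S N := by
    refine le_antisymm (iInf_le _ N) (le_iInf fun n => ?_)
    rcases le_total n N with h | h
    · exact hanti h
    · exact (congrArg OrderDual.ofDual (hN n h)).le
  rw [hss, ← hsucc]
  exact (congrArg OrderDual.ofDual (hN (N + 1) (Nat.le_succ N))).symm

include hr hφ in
theorem exists_basis_fixed_ss :
    ∃ b : Module.Basis (Fin (Module.finrank k ↥(ss (k := k) φ))) k ↥(ss (k := k) φ),
      (∀ i, φ (b i : V) = (b i : V)) ∧
      ∀ v : V, φ v = v → ∃ c : Fin (Module.finrank k ↥(ss (k := k) φ)) → k,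
        (∀ i, c i ^ (p ^ r) = c i) ∧ v = ∑ i, c i • (b i : V) := by
  set W := ss (k := k) φ
  have hW : ∀ w ∈ W, φ w ∈ W := fun w hw => (span_image_ss p r φ hφ).le (Submodule.subset_span ⟨w, hw, rfl⟩)
  let φW : W →+ W :=
    { toFun := fun w => ⟨φ w, hW w w.2⟩
      map_zero' := Subtype.ext (map_zero φ)
      map_add' := fun a b => Subtype.ext (map_add φ _ _) }
  have hφW' : ∀ (c : k) (w : W), φW (c • w) = c ^ p ^ r • φW w := fun c w => Subtype.ext (hφ c w)
  have hssW : Submodule.span k (Set.range φW) = ⊤ := by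
    refine Submodule.map_injective_of_injective W.subtype_injective ?_
    rw [Submodule.map_span, Submodule.map_subtype_top]
    refine Eq.trans ?_ (span_image_ss p r φ hφ)
    congr 1
    ext z
    constructor
    · rintro ⟨_, ⟨w, rfl⟩, rfl⟩; exact ⟨w, w.2, rfl⟩
    · rintro ⟨w, hw, rfl⟩; exact ⟨_, ⟨⟨w, hw⟩, rfl⟩, rfl⟩
  obtain ⟨b, hb⟩ := exists_basis_fixed p r hr φW hφW' hssW
  refine ⟨b, fun i => congrArg Subtype.val (hb i), fun v hv => ?_⟩
  have hv' : v ∈ W := mem_ss_of_fixed φ hv
  refine ⟨b.repr ⟨v, hv'⟩, fun i => ?_, ?_⟩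
  · simpa using coeff_eq_of_iterate p r φW hφW' b hb 1 (v := ⟨v, hv'⟩) (Subtype.ext hv) i
  · have := congrArg Subtype.val (b.sum_repr ⟨v, hv'⟩)
    rw [← Submodule.subtype_apply, map_sum] at this
    simp only [map_smul, Submodule.subtype_apply] at this
    exact this.symm

end Groth.Agent.Lib.QLinear
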