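import Mathlib

/-!
# Spreading a congruence of hermitian matrices out of a localisation

* `exists_scalar`: a congruence over a localisation comes from one where a single scalar is inverted
* `exists_num`: polynomials over a localisation have polynomial numerators
-/

universe u v

open scoped TensorProduct

namespace Groth.Agent.Lib.RInvSpreadSqrt

variable {B : Type u} [CommRing B] (M : Submonoid B)

theorem exists_num {σ : Type*} (Bp : Type u) [CommRing Bp] [Algebra B Bp] [IsLocalization M Bp] (g : MvPolynomial σ Bp) :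
    ∃ (F : MvPolynomial σ B) (c : B), c ∈ M ∧
      MvPolynomial.map (algebraMap B Bp) F = MvPolynomial.C (algebraMap B Bp c) * g := by
  induction g using MvPolynomial.induction_on with
  | C r =>
    obtain ⟨⟨x, c⟩, hx⟩ := IsLocalization.surj M r
    exact ⟨MvPolynomial.C x, c, c.2, by rw [MvPolynomial.map_C, ← map_mul]; exact congrArg _ (hx.symm.trans (mul_comm _ _))⟩
  | add f g hf hg =>
    obtain ⟨F, c, hc, hF⟩ := hf
    obtain ⟨G, d, hd, hG⟩ := hg
    refine ⟨MvPolynomial.C d * F + MvPolynomial.C c * G, c * d, M.mul_mem hc hd, ?_⟩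
    rw [map_add, map_mul, map_mul, hF, hG, MvPolynomial.map_C, MvPolynomial.map_C, map_mul, map_mul]
    ring
  | mul_X f i hf =>
    obtain ⟨F, c, hc, hF⟩ := hf
    exact ⟨F * MvPolynomial.X i, c, hc, by rw [map_mul, hF, MvPolynomial.map_X, mul_assoc]⟩

variable {A : Type v} [CommRing A] [Algebra B A] (lam : A ≃ₐ[B] A) {n : ℕ}

/-- `θ ⊗ id`. -/
noncomputable abbrev Θ {C C' : Type u} [CommRing C] [Algebra B C] [CommRing C'] [Algebra B C'] (θ : C →ₐ[B] C') :
    C ⊗[B] A →ₐ[B] C' ⊗[B] A :=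
  Algebra.TensorProduct.map θ (AlgHom.id B A)

/-- `lam` on `C ⊗ A`. -/
noncomputable abbrev lamC (C : Type u) [CommRing C] [Algebra B C] : C ⊗[B] A ≃ₐ[C] C ⊗[B] A :=
  Algebra.TensorProduct.congr (AlgEquiv.refl : C ≃ₐ[C] C) lam

theorem lamC_smul (C : Type u) [CommRing C] [Algebra B C] (r : B) (x : C ⊗[B] A) :
    lamC lam C (r • x) = r • lamC lam C x := by
  rw [← algebraMap_smul C r x, map_smul, algebraMap_smul]

theorem Θ_lamC {C C' : Type u} [CommRing C] [Algebra B C] [CommRing C'] [Algebra B C'] (θ : C →ₐ[B] C') (x : C ⊗[B] A) :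
    Θ θ (lamC lam C x) = lamC lam C' (Θ θ x) := by
  induction x using TensorProduct.induction_on with
  | zero => simp
  | add a b ha hb => simp only [map_add, ha, hb]
  | tmul c a => rfl

/-- Entrywise `Θ`. -/
noncomputable abbrev Mθ {C C' : Type u} [CommRing C] [Algebra B C] [CommRing C'] [Algebra B C'] (θ : C →ₐ[B] C') :
    Matrix (Fin n) (Fin n) (C ⊗[B] A) →ₐ[B] Matrix (Fin n) (Fin n) (C' ⊗[B] A) :=
  (Θ θ).mapMatrix

theorem exists_scalar (h h' : Matrix (Fin n) (Fin n) A)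
    (C D : Type u) [CommRing C] [Algebra B C] [CommRing D] [Algebra B D] (θ : C →ₐ[B] D)
    [IsLocalizedModule M θ.toLinearMap]
    (v : Matrix (Fin n) (Fin n) (D ⊗[B] A)) (hv : IsUnit v)
    (he : (v.map (lamC lam D)).transpose * h.map (Algebra.TensorProduct.includeRight : A →ₐ[B] D ⊗[B] A) * v
      = h'.map (Algebra.TensorProduct.includeRight : A →ₐ[B] D ⊗[B] A)) :
    ∃ c ∈ M, ∀ (C'' : Type u) [CommRing C''] [Algebra B C''] (θ'' : C →ₐ[B] C''), IsUnit (algebraMap B C'' c) →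
      ∃ v : Matrix (Fin n) (Fin n) (C'' ⊗[B] A), IsUnit v ∧
        (v.map (lamC lam C'')).transpose * h.map (Algebra.TensorProduct.includeRight : A →ₐ[B] C'' ⊗[B] A) * v
          = h'.map (Algebra.TensorProduct.includeRight : A →ₐ[B] C'' ⊗[B] A) := by
  classical
  let g := TensorProduct.AlgebraTensorModule.rTensor B A θ.toLinearMap
  have hloc : IsLocalizedModule M g := inferInstance
  have hg : ∀ x, g x = Θ θ x := fun x => by
    induction x using TensorProduct.induction_on with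
    | zero => simp
    | add a b ha hb => rw [map_add, map_add, ha, hb]
    | tmul c a => rfl
  have lift : ∀ u : Matrix (Fin n) (Fin n) (D ⊗[B] A), ∃ (z : Matrix (Fin n) (Fin n) (C ⊗[B] A)) (c : B),
      c ∈ M ∧ Mθ θ z = c • u := fun u => by
    obtain ⟨c, hc⟩ := IsLocalizedModule.exist_integer_multiples M g Finset.univ (fun q : Fin n × Fin n => u q.1 q.2)
    choose z hz using fun q : Fin n × Fin n => hc q (Finset.mem_univ q)
    exact ⟨Matrix.of fun i j => z (i, j), c, c.2, by ext i j; exact (hg _).symm.trans (hz (i, j))⟩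
  have kill : ∀ z : Matrix (Fin n) (Fin n) (C ⊗[B] A), Mθ θ z = 0 → ∃ e ∈ M, e • z = 0 := fun z hz => by
    have := fun q : Fin n × Fin n => (IsLocalizedModule.eq_zero_iff M g).1
      ((hg (z q.1 q.2)).trans (congr_fun₂ hz q.1 q.2))
    choose e he using this
    refine ⟨((∏ q, e q : M) : B), SetLike.coe_mem _, ?_⟩
    ext i j
    rw [Matrix.smul_apply, ← Finset.prod_erase_mul _ _ (Finset.mem_univ (i, j)), Submonoid.coe_mul, mul_smul,
      ← Submonoid.smul_def (e (i, j)), he, smul_zero]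
    rfl
  let Jc : ∀ (X : Type u) [CommRing X] [Algebra B X], Matrix (Fin n) (Fin n) A →ₐ[B] Matrix (Fin n) (Fin n) (X ⊗[B] A) :=
    fun X _ _ => (Algebra.TensorProduct.includeRight : A →ₐ[B] X ⊗[B] A).mapMatrix
  have hJ : ∀ {X Y : Type u} [CommRing X] [Algebra B X] [CommRing Y] [Algebra B Y] (φ : X →ₐ[B] Y) (k : Matrix (Fin n) (Fin n) A),
      Mθ φ (Jc X k) = Jc Y k := fun φ k => by ext i j; simp [Jc]
  have hL : ∀ {X Y : Type u} [CommRing X] [Algebra B X] [CommRing Y] [Algebra B Y] (φ : X →ₐ[B] Y)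
      (z : Matrix (Fin n) (Fin n) (X ⊗[B] A)),
      Mθ φ (z.map (lamC lam X)).transpose = ((Mθ φ z).map (lamC lam Y)).transpose := fun φ z => by
    ext i j; exact Θ_lamC lam φ (z j i)
  have hsm : ∀ (X : Type u) [CommRing X] [Algebra B X] (r : B) (z : Matrix (Fin n) (Fin n) (X ⊗[B] A)),
      ((r • z).map (lamC lam X)).transpose = r • (z.map (lamC lam X)).transpose := fun X _ _ r z => by
    ext i j; exact lamC_smul lam X r (z j i)
  obtain ⟨w, hw⟩ := hv.exists_right_inv
  obtain ⟨z, c, hcM, hz⟩ := lift v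
  obtain ⟨z', c', hcM', hz'⟩ := lift w
  obtain ⟨e₁, he₁M, he₁⟩ := kill (z * z' - (c * c') • 1) (by
    rw [map_sub, map_mul, map_smul, map_one, hz, hz', smul_mul_smul_comm, hw, sub_self])
  obtain ⟨e₂, he₂M, he₂⟩ := kill ((z.map (lamC lam C)).transpose * Jc C h * z - (c * c) • Jc C h') (by
    rw [map_sub, map_mul, map_mul, map_smul, hL, hJ, hJ, hz, hsm, smul_mul_assoc, smul_mul_assoc, mul_smul_comm,
      smul_smul, sub_eq_zero]
    exact congrArg _ he)
  refine ⟨c * c' * e₁ * e₂, M.mul_mem (M.mul_mem (M.mul_mem hcM hcM') he₁M) he₂M, fun C'' _ _ θ'' hu => ?_⟩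
  rw [map_mul, map_mul, map_mul, IsUnit.mul_iff, IsUnit.mul_iff, IsUnit.mul_iff] at hu
  obtain ⟨⟨⟨hc, hc'⟩, hu₁⟩, hu₂⟩ := hu
  have cancel : ∀ {r : B}, IsUnit (algebraMap B C'' r) → ∀ {x y : Matrix (Fin n) (Fin n) (C'' ⊗[B] A)},
      r • x = r • y → x = y := fun {r} hr {x y} hxy => by
    rw [← algebraMap_smul C'' r x, ← algebraMap_smul C'' r y] at hxy
    exact hr.smul_left_cancel.1 hxy
  have E₁ : Mθ θ'' z * Mθ θ'' z' = (c * c') • 1 := cancel hu₁ (by
    have := congrArg (Mθ θ'') he₁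
    rw [map_zero, map_smul, map_sub, map_mul, map_smul (Mθ θ''), map_one, smul_sub, sub_eq_zero] at this
    exact this)
  have E₂ : ((Mθ θ'' z).map (lamC lam C'')).transpose * Jc C'' h * Mθ θ'' z = (c * c) • Jc C'' h' := cancel hu₂ (by
    have := congrArg (Mθ θ'') he₂
    rw [map_zero, map_smul, map_sub, map_mul, map_mul, map_smul (Mθ θ''), hL, hJ, hJ, smul_sub, sub_eq_zero] at this
    exact this)
  obtain ⟨i, hi⟩ := hc.exists_left_inv
  obtain ⟨i', hi'⟩ := hc'.exists_left_inv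
  refine ⟨i • Mθ θ'' z, ?_, ?_⟩
  · have : (i • Mθ θ'' z) * (i' • Mθ θ'' z') = 1 := by
      rw [smul_mul_smul_comm, E₁, ← algebraMap_smul C'' (c * c') (1 : Matrix (Fin n) (Fin n) (C'' ⊗[B] A)), smul_smul,
        map_mul, mul_mul_mul_comm, hi, hi', one_mul, one_smul]
    exact ⟨⟨_, _, this, mul_eq_one_comm.1 this⟩, rfl⟩
  · have hl : ((i • Mθ θ'' z).map (lamC lam C'')).transpose = i • ((Mθ θ'' z).map (lamC lam C'')).transpose := by
      ext a b; exact map_smul (lamC lam C'') i _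
    rw [hl, smul_mul_assoc, smul_mul_assoc, mul_smul_comm]
    change i • i • (((Mθ θ'' z).map (lamC lam C'')).transpose * Jc C'' h * Mθ θ'' z) = Jc C'' h'
    rw [E₂, ← algebraMap_smul C'' (c * c') (1 : Matrix (Fin n) (Fin n) (C'' ⊗[B] A))] at *
    rw [← algebraMap_smul C'' (c * c) (Jc C'' h'), smul_smul, smul_smul, map_mul, mul_mul_mul_comm, hi, one_mul, one_smul]

end Groth.Agent.Lib.RInvSpreadSqrt

namespace Groth.Agent.Lib.RInvSpreadSqrt

variable {B : Type u} [CommRing B]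

/-- Adjoined square roots map to any algebra with such roots. -/
theorem exists_hom (M : Submonoid B) (Bp : Type u) [CommRing Bp] [Algebra B Bp] [IsLocalization M Bp] {l : ℕ}
    (s : Fin l → Bp) {X : Type u} [CommRing X] [Algebra B X] (hM : ∀ m : M, IsUnit (algebraMap B X m))
    (x : Fin l → X) (hx : ∀ k, x k ^ 2 = IsLocalization.lift (g := algebraMap B X) hM (s k)) :
    ∃ ψ : (MvPolynomial (Fin l) Bp ⧸ Ideal.span (Set.range fun k : Fin l => MvPolynomial.X k ^ 2 - MvPolynomial.C (s k))) →ₐ[B] X,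
      ∀ (F : MvPolynomial (Fin l) B), ψ (Ideal.Quotient.mk _ (MvPolynomial.map (algebraMap B Bp) F)) = MvPolynomial.aeval x F := by
  let g := IsLocalization.lift (g := algebraMap B X) hM (S := Bp)
  let Φ := MvPolynomial.eval₂Hom g x
  have hI : ∀ q ∈ Ideal.span (Set.range fun k : Fin l => MvPolynomial.X k ^ 2 - MvPolynomial.C (s k)), Φ q = 0 := by
    refine fun q hq => RingHom.mem_ker.1 (Ideal.span_le.2 ?_ hq)
    rintro _ ⟨k, rfl⟩
    simp [Φ, g, hx]
  refine ⟨{ Ideal.Quotient.lift _ Φ hI with commutes' := fun b => ?_ }, fun F => ?_⟩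
  · change Φ (MvPolynomial.C (algebraMap B Bp b)) = _
    simp [Φ, g, IsLocalization.lift_eq]
  · change Φ (MvPolynomial.map (algebraMap B Bp) F) = _
    rw [MvPolynomial.aeval_def]
    change MvPolynomial.eval₂ g x (MvPolynomial.map (algebraMap B Bp) F) = _
    rw [MvPolynomial.eval₂_map, IsLocalization.lift_comp]

end Groth.Agent.Lib.RInvSpreadSqrt
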