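import Groth.Agent.Lib.RInvHerm
import Groth.Agent.Lib.RInvQuad
import Mathlib

/-!
# A nearly standard skew hermitian `2 × 2` matrix over a ring containing the needed square root

* `cong_block`: congruence to the standard alternating matrix
* `exists_cover`: the square root exists on two basic opens after adjoining square roots to the fixed ring
-/

universe u v

open scoped TensorProduct
open Matrix

namespace Groth.Agent.Lib.RInvSqrtCover

/-- The congruence, given the square root `y` and the inverses it needs. -/
theorem cong_block {T : Type v} [CommRing T] {lamT : T ≃+* T} (hlamT : Function.Involutive lamT)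
    {H : Matrix (Fin 2) (Fin 2) T} (hH : ∀ i j, lamT (H j i) = -H i j)
    {b' : T} (hb0 : b' * H 0 1 = 1) {y g z i2 : T}
    (hy0 : y * y = 1 + H 0 0 * (b' * lamT b' * H 1 1)) (hly : lamT y = y)
    (hg : g * (1 + y) = 1) (hlg : lamT g = g) (hz : z * y = 1) (hlz : lamT z = z)
    (hi2 : i2 * 2 = 1) (hli : lamT i2 = i2) :
    RInvHerm.Cong lamT H (!![(0 : T), 1; -1, 0] : Matrix (Fin 2) (Fin 2) T) := by
  let a := H 0 0
  let b := H 0 1
  let d := H 1 1
  have hH0 : H = !![a, b; -lamT b, d] := by
    ext i j
    fin_cases i <;> fin_cases j <;> simp [a, b, d]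
    rw [hH 1 0, neg_neg]
  have ha : lamT a = -a := hH 0 0
  have hd : lamT d = -d := hH 1 1
  have hb' : b' * b = 1 := hb0
  have hy : y * y = 1 + a * (b' * lamT b' * d) := hy0
  have hbl : lamT b' * lamT b = 1 := by rw [← map_mul, hb', map_one]
  -- scale to `b = 1`, kill the corner, scale, kill the other corner
  let v1 : Matrix (Fin 2) (Fin 2) T := !![1, 0; 0, b']
  let d1 := b' * lamT b' * d
  let c := -(a * g)
  let v2 : Matrix (Fin 2) (Fin 2) T := !![1, 0; c, 1]
  let v3 : Matrix (Fin 2) (Fin 2) T := !![1, 0; 0, z]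
  let d3 := z * z * d1
  let k := d3 * i2
  let v4 : Matrix (Fin 2) (Fin 2) T := !![1, k; 0, 1]
  have s1 : RInvHerm.Cong lamT H (!![a, 1; -1, d1] : Matrix (Fin 2) (Fin 2) T) := by
    refine ⟨v1, !![1, 0; 0, b], ?_, ?_, ?_⟩
    · ext i j; fin_cases i <;> fin_cases j <;> simp [v1, Matrix.mul_apply, Fin.sum_univ_two, hb']
    · ext i j; fin_cases i <;> fin_cases j <;> simp [v1, Matrix.mul_apply, Fin.sum_univ_two, mul_comm b, hb']
    · rw [hH0]
      ext i j
      fin_cases i <;> fin_cases j <;>
        simp only [Fin.zero_eta, Fin.mk_one, Matrix.mul_apply, Fin.sum_univ_two, transpose_apply, map_apply, v1, d1, of_apply, cons_val_zero, cons_val_one, head_cons, head_fin_const, cons_val',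
          empty_val', cons_val_fin_one, map_one, map_zero] <;>
        linear_combination (norm := ring_nf) (0 : T) * hb' <;> simp [hb', mul_comm b b', hbl]
  have hc : lamT c = -c := by simp only [c, map_neg, map_mul, ha, hlg]; ring
  have s2 : RInvHerm.Cong lamT (!![a, 1; -1, d1] : Matrix (Fin 2) (Fin 2) T) (!![(0 : T), y; -y, d1] : Matrix (Fin 2) (Fin 2) T) := by
    refine ⟨v2, !![1, 0; -c, 1], ?_, ?_, ?_⟩
    · ext i j; fin_cases i <;> fin_cases j <;> simp [v2, Matrix.mul_apply, Fin.sum_univ_two]
    · ext i j; fin_cases i <;> fin_cases j <;> simp [v2, Matrix.mul_apply, Fin.sum_univ_two]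
    · ext i j
      fin_cases i <;> fin_cases j <;>
        simp only [Fin.zero_eta, Fin.mk_one, Matrix.mul_apply, Fin.sum_univ_two, transpose_apply, map_apply, v2, of_apply, cons_val_zero, cons_val_one, head_cons, head_fin_const, cons_val',
          empty_val', cons_val_fin_one, map_one, map_zero, hc]
      · simp only [c]
        linear_combination (a * g * g) * hy - a * (1 + g * (y - 1)) * hg
      · simp only [c]
        linear_combination (-g) * hy + (y - 1) * hg
      · simp only [c]
        linear_combination g * hy - (y - 1) * hg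
      · ring
  have s3 : RInvHerm.Cong lamT (!![(0 : T), y; -y, d1] : Matrix (Fin 2) (Fin 2) T) (!![(0 : T), 1; -1, d3] : Matrix (Fin 2) (Fin 2) T) := by
    refine ⟨v3, !![1, 0; 0, y], ?_, ?_, ?_⟩
    · ext i j; fin_cases i <;> fin_cases j <;> simp [v3, Matrix.mul_apply, Fin.sum_univ_two, hz]
    · ext i j; fin_cases i <;> fin_cases j <;> simp [v3, Matrix.mul_apply, Fin.sum_univ_two, mul_comm y, hz]
    · ext i j
      fin_cases i <;> fin_cases j <;>
        simp only [Fin.zero_eta, Fin.mk_one, Matrix.mul_apply, Fin.sum_univ_two, transpose_apply, map_apply, v3, d3, of_apply, cons_val_zero, cons_val_one, head_cons, head_fin_const, cons_val',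
          empty_val', cons_val_fin_one, map_one, map_zero, hlz]
      · ring
      · linear_combination hz
      · linear_combination -hz
      · ring
  have hd3 : lamT d3 = -d3 := by simp only [d3, d1, map_mul, hlz, hd, hlamT b']; ring
  have hk : lamT k = -k := by simp only [k, map_mul, hd3, hli]; ring
  have s4 : RInvHerm.Cong lamT (!![(0 : T), 1; -1, d3] : Matrix (Fin 2) (Fin 2) T) (!![(0 : T), 1; -1, 0] : Matrix (Fin 2) (Fin 2) T) := by
    refine ⟨v4, !![1, -k; 0, 1], ?_, ?_, ?_⟩
    · ext i j; fin_cases i <;> fin_cases j <;> simp [v4, Matrix.mul_apply, Fin.sum_univ_two]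
    · ext i j; fin_cases i <;> fin_cases j <;> simp [v4, Matrix.mul_apply, Fin.sum_univ_two]
    · ext i j
      fin_cases i <;> fin_cases j <;>
        simp only [Fin.zero_eta, Fin.mk_one, Matrix.mul_apply, Fin.sum_univ_two, transpose_apply, map_apply, v4, of_apply, cons_val_zero, cons_val_one, head_cons, head_fin_const, cons_val',
          empty_val', cons_val_fin_one, map_one, map_zero, hk]
      · ring
      · ring
      · ring
      · simp only [k]
        linear_combination -d3 * hi2
  exact ((s1.trans s2).trans s3).trans s4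

end Groth.Agent.Lib.RInvSqrtCover
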