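import Mathlib

/-!
# Finite residue extensions are realised by finite free algebras
-/

set_option autoImplicit false

universe u

open Polynomial AlgebraicGeometry CategoryTheory

namespace Groth.Agent.Lib.ResExt

variable {A κ : Type u} [CommRing A] [Field κ]

theorem exists_flat_algebra (c : A →+* κ) (hc : ∀ x : κ, ∃ a b, c b ≠ 0 ∧ x = c a / c b)
    (ℓ : Type u) [Field ℓ] [Algebra κ ℓ] [FiniteDimensional κ ℓ] :
    ∃ (B : Type u) (_ : CommRing B) (_ : Algebra A B), Module.Flat A B ∧
      Algebra.FinitePresentation A B ∧ ∃ ψ : B →+* ℓ,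
        ψ.comp (algebraMap A B) = (algebraMap κ ℓ).comp c ∧
        ∀ x : ℓ, ∃ a b, ψ b ≠ 0 ∧ x = ψ a / ψ b := by
  classical
  suffices key : ∀ K : IntermediateField κ ℓ, ∃ (B : Type u) (_ : CommRing B) (_ : Algebra A B),
      Module.Flat A B ∧ Algebra.FinitePresentation A B ∧ ∃ ψ : B →+* ℓ,
        ψ.comp (algebraMap A B) = (algebraMap κ ℓ).comp c ∧
        ∀ x : ℓ, x ∈ K → ∃ a b, ψ b ≠ 0 ∧ x = ψ a / ψ b by
    obtain ⟨B, i1, i2, h1, h2, ψ, h3, h4⟩ := key ⊤
    exact ⟨B, i1, i2, h1, h2, ψ, h3, fun x => h4 x IntermediateField.mem_top⟩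
  intro K
  refine IntermediateField.induction_on_adjoin (F := κ) (fun K : IntermediateField κ ℓ =>
    ∃ (B : Type u) (_ : CommRing B) (_ : Algebra A B), Module.Flat A B ∧
      Algebra.FinitePresentation A B ∧ ∃ ψ : B →+* ℓ,
        ψ.comp (algebraMap A B) = (algebraMap κ ℓ).comp c ∧
        ∀ x : ℓ, x ∈ K → ∃ a b, ψ b ≠ 0 ∧ x = ψ a / ψ b) ?_ ?_ K
  · refine ⟨A, inferInstance, inferInstance, inferInstance, inferInstance,
      (algebraMap κ ℓ).comp c, rfl, fun x hx => ?_⟩
    obtain ⟨y, rfl⟩ := IntermediateField.mem_bot.1 hx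
    obtain ⟨a, b, hb, rfl⟩ := hc y
    exact ⟨a, b, (map_ne_zero (algebraMap κ ℓ)).2 hb, map_div₀ _ _ _⟩
  rintro K x ⟨B, _, _, hfl, hfp, ψ, hψ, hK⟩
  let q := minpoly K x
  have hq : q.Monic := minpoly.monic (IsIntegral.of_finite K x)
  have hqx : (q.map (algebraMap K ℓ)).eval x = 0 := by
    rw [Polynomial.eval_map, ← Polynomial.aeval_def]; exact minpoly.aeval K x
  choose num den hden hnd using fun i : ℕ => hK (algebraMap K ℓ (q.coeff i)) (q.coeff i).2
  let d := ∏ i ∈ Finset.range q.natDegree, den i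
  have hd : ψ d ≠ 0 := by
    rw [map_prod]; exact Finset.prod_ne_zero_iff.2 fun i _ => hden i
  -- the scaled monic polynomial over `B`
  let b : ℕ → B := fun i =>
    num i * (∏ j ∈ (Finset.range q.natDegree).erase i, den j) * d ^ (q.natDegree - i - 1)
  let P : B[X] := X ^ q.natDegree + ∑ i ∈ Finset.range q.natDegree, Polynomial.C (b i) * X ^ i
  have hP : P.Monic := by
    apply monic_X_pow_add
    rw [degree_lt_iff_coeff_zero]
    intro m hm
    rw [finsetSum_coeff]
    refine Finset.sum_eq_zero fun i hi => ?_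
    rw [coeff_C_mul, coeff_X_pow, if_neg, mul_zero]
    have := Finset.mem_range.1 hi
    omega
  have hroot : P.eval₂ ψ (ψ d * x) = 0 := by
    have e1 : ∀ i ∈ Finset.range q.natDegree,
        ψ (b i) * (ψ d * x) ^ i = ψ d ^ q.natDegree * (algebraMap K ℓ (q.coeff i) * x ^ i) := by
      intro i hi
      have hd' : ψ d = ψ (∏ j ∈ (Finset.range q.natDegree).erase i, den j) * ψ (den i) := by
        rw [← map_mul]
        exact congrArg ψ (Finset.prod_erase_mul _ _ hi).symm
      have hn : q.natDegree = i + (q.natDegree - i - 1) + 1 := by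
        have := Finset.mem_range.1 hi; omega
      have e2 : ψ d * algebraMap K ℓ (q.coeff i) =
          ψ (num i) * ψ (∏ j ∈ (Finset.range q.natDegree).erase i, den j) := by
        rw [hnd i, hd', mul_assoc, mul_div_cancel₀ _ (hden i)]; ring
      have e3 : ψ d ^ q.natDegree = ψ d * (ψ d ^ i * ψ d ^ (q.natDegree - i - 1)) := by
        conv_lhs => rw [hn]
        ring
      rw [e3]
      simp only [b, map_mul, map_pow]
      rw [← e2]; ring
    have e4 : x ^ q.natDegree + ∑ i ∈ Finset.range q.natDegree, algebraMap K ℓ (q.coeff i) * x ^ i = 0 := by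
      rw [← hqx]
      conv_rhs => rw [hq.as_sum]
      simp [eval_finsetSum]
    simp only [P, eval₂_add, eval₂_X_pow, eval₂_finsetSum, eval₂_mul, eval₂_C]
    rw [Finset.sum_congr rfl e1, ← Finset.mul_sum, mul_pow, ← mul_add, e4, mul_zero]
  let ψ' : AdjoinRoot P →+* ℓ := AdjoinRoot.lift ψ (ψ d * x) hroot
  haveI : Module.Flat B (AdjoinRoot P) := by
    haveI := hP.free_adjoinRoot
    infer_instance
  haveI : Algebra.FinitePresentation B (AdjoinRoot P) := AdjoinRoot.finitePresentation P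
  refine ⟨AdjoinRoot P, inferInstance, inferInstance, Module.Flat.trans A B _,
    Algebra.FinitePresentation.trans A B _, ψ', ?_, ?_⟩
  · ext a
    rw [RingHom.comp_apply, IsScalarTower.algebraMap_apply A B (AdjoinRoot P), AdjoinRoot.algebraMap_eq]
    exact (AdjoinRoot.lift_of hroot).trans congr($hψ a)
  · -- fractions of the image form a field containing `K` and `x`
    let F := Subfield.closure (Set.range ψ')
    have hgen : ∀ y ∈ F, ∃ a b, ψ' b ≠ 0 ∧ y = ψ' a / ψ' b := by
      intro y hy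
      obtain ⟨u, hu, v, hv, rfl⟩ := Subfield.mem_closure_iff.1 hy
      rw [← RingHom.coe_range, Subring.closure_eq] at hu hv
      obtain ⟨a, rfl⟩ := hu
      obtain ⟨b, rfl⟩ := hv
      by_cases hb : ψ' b = 0
      · exact ⟨0, 1, by simp, by simp [hb]⟩
      · exact ⟨a, b, hb, rfl⟩
    have hψF : ∀ b : B, ψ b ∈ F := fun b =>
      Subfield.subset_closure ⟨AdjoinRoot.of P b, AdjoinRoot.lift_of hroot⟩
    have hKF : ∀ z : ℓ, z ∈ K → z ∈ F := fun z hz => by
      obtain ⟨a, b, -, rfl⟩ := hK z hz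
      exact div_mem (hψF a) (hψF b)
    have hxF : x ∈ F := by
      have h1 : ψ d * x ∈ F := Subfield.subset_closure ⟨AdjoinRoot.root P, AdjoinRoot.lift_root hroot⟩
      have := div_mem h1 (hψF d)
      rwa [mul_div_cancel_left₀ _ hd] at this
    let F' : IntermediateField κ ℓ :=
      F.toIntermediateField fun r => hKF _ (K.algebraMap_mem r)
    intro z hz
    apply hgen
    have hle : (IntermediateField.adjoin K {x}).restrictScalars κ ≤ F' := by
      rw [IntermediateField.restrictScalars_adjoin, IntermediateField.adjoin_le_iff]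
      rintro w (hw | hw)
      · exact hKF w hw
      · exact (Set.mem_singleton_iff.1 hw).symm ▸ hxF
    exact hle hz

theorem isPreimmersion_specMap {B ℓ : Type u} [CommRing B] [Field ℓ] (ψ : B →+* ℓ)
    (hψ : ∀ x : ℓ, ∃ a b, ψ b ≠ 0 ∧ x = ψ a / ψ b) :
    IsPreimmersion (Spec.map (CommRingCat.ofHom ψ)) := by
  let C := ψ.range
  haveI : IsFractionRing C ℓ := IsFractionRing.of_field C ℓ fun z => by
    obtain ⟨a, b, -, rfl⟩ := hψ z
    exact ⟨⟨ψ a, a, rfl⟩, ⟨ψ b, b, rfl⟩, rfl⟩
  have h : CommRingCat.ofHom ψ = CommRingCat.ofHom ψ.rangeRestrict ≫ CommRingCat.ofHom (algebraMap C ℓ) := rfl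
  rw [h, Spec.map_comp]
  haveI : IsClosedImmersion (Spec.map (CommRingCat.ofHom ψ.rangeRestrict)) :=
    IsClosedImmersion.spec_of_surjective _ ψ.rangeRestrict_surjective
  haveI : IsPreimmersion (Spec.map (CommRingCat.ofHom (algebraMap C ℓ))) :=
    IsPreimmersion.of_isLocalization (nonZeroDivisors C)
  infer_instance

end Groth.Agent.Lib.ResExt
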