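import Mathlib

universe u

open CategoryTheory CategoryTheory.Limits AlgebraicGeometry TensorProduct

namespace Groth.Agent.Lib.SchDenseNil99

section Alg

variable {A : Type u} [CommRing A] (J : Ideal A)

lemma one_tmul_eq_zero_iff {M : Type u} [AddCommGroup M] [Module A M] (x : M) :
    (1 : A ⧸ J) ⊗ₜ[A] x = 0 ↔ x ∈ J • (⊤ : Submodule A M) := by
  rw [← (quotTensorEquivQuotSMul M J).map_eq_zero_iff, quotTensorEquivQuotSMul_mk_one_tmul,
    Submodule.Quotient.mk_eq_zero]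

lemma tmul_one_eq_zero_iff {M : Type u} [AddCommGroup M] [Module A M] (x : M) :
    x ⊗ₜ[A] (1 : A ⧸ J) = 0 ↔ x ∈ J • (⊤ : Submodule A M) := by
  rw [← one_tmul_eq_zero_iff J x, ← (TensorProduct.comm A M (A ⧸ J)).map_eq_zero_iff,
    TensorProduct.comm_tmul]

lemma mem_smul_top_pow_iff {k : ℕ} (x : ↥(J ^ k)) :
    x ∈ J • (⊤ : Submodule A ↥(J ^ k)) ↔ (x : A) ∈ J ^ (k + 1) := by
  have e : Submodule.map (J ^ k).subtype (J • (⊤ : Submodule A ↥(J ^ k))) = J ^ (k + 1) := by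
    rw [Submodule.map_smul'', Submodule.map_top, Submodule.range_subtype, smul_eq_mul, ← pow_succ']
  rw [← e, Submodule.mem_map]
  exact ⟨fun h => ⟨x, h, rfl⟩, fun ⟨y, hy, hyx⟩ => Subtype.ext hyx ▸ hy⟩

lemma mk_smul_eq (a : A) {M : Type u} [AddCommGroup M] [Module A M] (x : M) :
    Ideal.Quotient.mk J a • ((1 : A ⧸ J) ⊗ₜ[A] x) = (1 : A ⧸ J) ⊗ₜ[A] (a • x) := by
  rw [TensorProduct.smul_tmul', ← TensorProduct.smul_tmul, smul_eq_mul, mul_one, Algebra.smul_def,
    mul_one]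
  rfl

lemma one_tmul_surjective (M : Type u) [AddCommGroup M] [Module A M] (z : (A ⧸ J) ⊗[A] M) :
    ∃ x : M, (1 : A ⧸ J) ⊗ₜ[A] x = z := by
  induction z using TensorProduct.induction_on with
  | zero => exact ⟨0, by simp⟩
  | tmul q x =>
    obtain ⟨a, rfl⟩ := Ideal.Quotient.mk_surjective q
    refine ⟨a • x, ?_⟩
    rw [← mk_smul_eq, TensorProduct.smul_tmul', smul_eq_mul, mul_one]
  | add a b ha hb =>
    obtain ⟨x, rfl⟩ := ha
    obtain ⟨y, rfl⟩ := hb
    exact ⟨x + y, tmul_add _ _ _⟩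

/-- Lifts of a basis of `J ^ k / J ^ (k + 1)`. -/
theorem exists_lift_basis (k : ℕ) [Module.Free (A ⧸ J) ((A ⧸ J) ⊗[A] ↥(J ^ k))] :
    ∃ (σ : Type u) (e : σ → A), (∀ s, e s ∈ J ^ k) ∧
      (∀ y ∈ J ^ k, ∃ l : σ →₀ A, y - l.sum (fun s a => a * e s) ∈ J ^ (k + 1)) ∧
      (∀ (S : Finset σ) (a : σ → A), ∑ s ∈ S, a s * e s ∈ J ^ (k + 1) → ∀ s ∈ S, a s ∈ J) := by
  classical
  let b := Module.Free.chooseBasis (A ⧸ J) ((A ⧸ J) ⊗[A] ↥(J ^ k))
  choose e he using fun s => one_tmul_surjective J ↥(J ^ k) (b s)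
  refine ⟨_, fun s => (e s : A), fun s => (e s).2, fun y hy => ?_, fun S a h => ?_⟩
  · set c := b.repr ((1 : A ⧸ J) ⊗ₜ[A] (⟨y, hy⟩ : ↥(J ^ k))) with hc
    choose a ha using fun s => Ideal.Quotient.mk_surjective (c s)
    refine ⟨Finsupp.onFinset c.support (fun s => if s ∈ c.support then a s else 0)
      (fun s hs => by by_contra h; simp [h] at hs), ?_⟩
    rw [Finsupp.onFinset_sum _ (fun s => by simp)]
    have h0 : (1 : A ⧸ J) ⊗ₜ[A] ((⟨y, hy⟩ : ↥(J ^ k)) - ∑ s ∈ c.support, a s • e s) = 0 := by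
      rw [tmul_sub, sub_eq_zero, tmul_sum]
      conv_lhs => rw [← b.linearCombination_repr ((1 : A ⧸ J) ⊗ₜ[A] (⟨y, hy⟩ : ↥(J ^ k)))]
      rw [← hc, Finsupp.linearCombination_apply, Finsupp.sum]
      exact Finset.sum_congr rfl fun s _ => by rw [← ha s, ← he s, mk_smul_eq]
    rw [one_tmul_eq_zero_iff, mem_smul_top_pow_iff] at h0
    refine Eq.mp (congrArg (· ∈ J ^ (k + 1)) ?_) h0
    simp only [AddSubgroupClass.coe_sub, Submodule.coe_sum, Submodule.coe_smul, smul_eq_mul]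
    congr 1
    exact Finset.sum_congr rfl fun s hs => by rw [if_pos hs]
  · have h0 : (1 : A ⧸ J) ⊗ₜ[A] (∑ s ∈ S, a s • e s) = 0 := by
      rw [one_tmul_eq_zero_iff, mem_smul_top_pow_iff]
      simpa using h
    rw [tmul_sum] at h0
    have := linearIndependent_iff'.1 b.linearIndependent S (fun s => Ideal.Quotient.mk J (a s))
      (by rw [← h0]; exact Finset.sum_congr rfl fun s _ => by rw [← he s, mk_smul_eq])
    exact fun s hs => Ideal.Quotient.eq_zero_iff_mem.1 (this s hs)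

/-- Independence survives a flat base change. -/
theorem coeff_mem {M : Type u} [AddCommGroup M] [Module A M] [Module.Flat A M] {σ : Type u}
    (S : Finset σ) (e : σ → A) (k : ℕ) (he : ∀ s ∈ S, e s ∈ J ^ k)
    (hind : ∀ (a : σ → A), ∑ s ∈ S, a s * e s ∈ J ^ (k + 1) → ∀ s ∈ S, a s ∈ J)
    (c : σ → M) (h : ∑ s ∈ S, e s • c s ∈ (J ^ (k + 1)) • (⊤ : Submodule A M)) :
    ∀ s ∈ S, c s ∈ J • (⊤ : Submodule A M) := by
  classical
  let g₁ : (s : ↥S) → (A ⧸ J) →ₗ[A] A ⧸ J ^ (k + 1) := fun s =>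
    Submodule.liftQ J ((J ^ (k + 1)).mkQ ∘ₗ LinearMap.toSpanSingleton A A (e s)) (fun j hj => by
      rw [LinearMap.mem_ker, LinearMap.comp_apply, Submodule.mkQ_apply,
        Submodule.Quotient.mk_eq_zero, LinearMap.toSpanSingleton_apply, smul_eq_mul, pow_succ']
      exact Ideal.mul_mem_mul hj (he s s.2))
  have hg₁ : ∀ s a, g₁ s (Ideal.Quotient.mk J a) = Ideal.Quotient.mk (J ^ (k + 1)) (a * e s) :=
    fun s a => rfl
  let g : (↥S → A ⧸ J) →ₗ[A] A ⧸ J ^ (k + 1) := ∑ s : ↥S, g₁ s ∘ₗ LinearMap.proj s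
  have hg : Function.Injective g := by
    refine (injective_iff_map_eq_zero g).2 fun v hv => ?_
    choose a ha using fun s => Ideal.Quotient.mk_surjective (v s)
    let a' : σ → A := fun s => if hs : s ∈ S then a ⟨s, hs⟩ else 0
    have h1 : ∑ s ∈ S, a' s * e s ∈ J ^ (k + 1) := by
      rw [← Ideal.Quotient.eq_zero_iff_mem, map_sum, ← hv, ← Finset.sum_coe_sort]
      simp only [g, LinearMap.sum_apply, LinearMap.comp_apply, LinearMap.proj_apply]
      exact Finset.sum_congr rfl fun s _ => by rw [← ha s, hg₁]; simp [a']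
    funext s
    have := hind a' h1 s s.2
    rw [Pi.zero_apply, ← ha s, Ideal.Quotient.eq_zero_iff_mem]
    simpa [a'] using this
  set x : M ⊗[A] (↥S → A ⧸ J) := ∑ s : ↥S, c s ⊗ₜ[A] Pi.single s (1 : A ⧸ J) with hxdef
  have hgx : LinearMap.lTensor M g x = 0 := by
    have hs : ∀ s : ↥S, g (Pi.single s (1 : A ⧸ J)) = e s • (1 : A ⧸ J ^ (k + 1)) := fun s => by
      simp only [g, LinearMap.sum_apply, LinearMap.comp_apply, LinearMap.proj_apply]
      rw [Finset.sum_eq_single s]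
      · rw [Pi.single_eq_same, ← map_one (Ideal.Quotient.mk J), hg₁, one_mul, Algebra.smul_def,
          mul_one]
        rfl
      · intro t _ ht
        rw [Pi.single_eq_of_ne ht, map_zero]
      · simp
    rw [hxdef, map_sum]
    simp only [LinearMap.lTensor_tmul, hs, ← TensorProduct.smul_tmul]
    rw [← sum_tmul, tmul_one_eq_zero_iff]
    exact Eq.mp (congrArg (· ∈ _) (Finset.sum_coe_sort S fun s => e s • c s).symm) h
  have hx : x = 0 := (Module.Flat.lTensor_preserves_injective_linearMap g hg)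
    (hgx.trans (map_zero _).symm)
  intro s hs
  rw [← tmul_one_eq_zero_iff J (c s)]
  have := congrArg (LinearMap.lTensor M (LinearMap.proj (⟨s, hs⟩ : ↥S) : (↥S → A ⧸ J) →ₗ[A] A ⧸ J)) hx
  rw [hxdef, map_sum, map_zero] at this
  rw [Finset.sum_eq_single (⟨s, hs⟩ : ↥S)] at this
  · simpa using this
  · intro t _ ht
    rw [LinearMap.lTensor_tmul, LinearMap.proj_apply, Pi.single_eq_of_ne (Ne.symm ht), tmul_zero]
  · simp

/-- The dévissage. -/
theorem eq_zero_of_forall {B : Type u} [AddCommGroup B] [Module A B] (hJ : IsNilpotent J)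
    (hfree : ∀ k : ℕ, Module.Free (A ⧸ J) ((A ⧸ J) ⊗[A] ↥(J ^ k)))
    {κ : Type*} (C : κ → Type u) [∀ j, AddCommGroup (C j)] [∀ j, Module A (C j)]
    [∀ j, Module.Flat A (C j)] (φ : ∀ j, B →ₗ[A] C j)
    (h : ∀ b, (∀ j, φ j b ∈ J • (⊤ : Submodule A (C j))) → b ∈ J • (⊤ : Submodule A B))
    (t : B) (ht : ∀ j, φ j t = 0) : t = 0 := by
  classical
  have key : ∀ k, t ∈ (J ^ k) • (⊤ : Submodule A B) := by
    intro k
    induction k with
    | zero => simp
    | succ k ih =>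
      have := hfree k
      obtain ⟨σ, e, he, hspan, hind⟩ := exists_lift_basis J k
      obtain ⟨l, hl⟩ : ∃ l : σ →₀ B,
          t - l.sum (fun s b => e s • b) ∈ (J ^ (k + 1)) • (⊤ : Submodule A B) := by
        clear ht
        refine Submodule.smul_induction_on ih (fun y hy b _ => ?_) (fun u w hu hw => ?_)
        · obtain ⟨l, hl⟩ := hspan y hy
          refine ⟨l.mapRange (fun a => a • b) (zero_smul _ _), ?_⟩
          rw [Finsupp.sum_mapRange_index (fun s => smul_zero _)]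
          have : y • b - l.sum (fun s a => e s • a • b) = (y - l.sum fun s a => a * e s) • b := by
            rw [sub_smul, Finsupp.sum, Finsupp.sum, Finset.sum_smul]
            simp only [smul_smul, mul_comm]
          rw [this]
          exact Submodule.smul_mem_smul hl Submodule.mem_top
        · obtain ⟨l₁, h₁⟩ := hu
          obtain ⟨l₂, h₂⟩ := hw
          refine ⟨l₁ + l₂, ?_⟩
          rw [Finsupp.sum_add_index' (fun s => smul_zero _) (fun s => smul_add _), add_sub_add_comm]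
          exact add_mem h₁ h₂
      have hJB : ∀ s ∈ l.support, l s ∈ J • (⊤ : Submodule A B) := fun s hs => by
        refine h _ fun j => ?_
        refine coeff_mem J l.support e k (fun s _ => he s) (hind _) (fun s => φ j (l s)) ?_ s hs
        have := Submodule.mem_map_of_mem (f := φ j) hl
        rw [Submodule.map_smul''] at this
        have h2 := Submodule.smul_mono le_rfl (le_top : Submodule.map (φ j) ⊤ ≤ ⊤) this
        rw [map_sub, ht j, zero_sub, Finsupp.sum, map_sum, Submodule.neg_mem_iff] at h2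
        simpa using h2
      rw [← sub_add_cancel t (l.sum fun s b => e s • b)]
      refine add_mem hl (sum_mem fun s hs => ?_)
      rw [pow_succ, Submodule.mul_smul]
      exact Submodule.smul_mem_smul (he s) (hJB s hs)
  obtain ⟨N, hN⟩ := hJ
  have := key N
  rw [hN] at this
  simpa using this

end Alg

section Sch

variable {A : CommRingCat.{u}}

/-- The structure map. -/
noncomputable def str {X : Scheme.{u}} (p : X ⟶ Spec A) (U : X.Opens) : A ⟶ Γ(X, U) :=
  (Scheme.ΓSpecIso A).inv ≫ p.appLE ⊤ U le_top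

lemma str_comp {X Z : Scheme.{u}} (p : X ⟶ Spec A) (f : Z ⟶ X) (U : X.Opens) (W : Z.Opens)
    (e : W ≤ f ⁻¹ᵁ U) : str p U ≫ f.appLE U W e = str (f ≫ p) W := by
  rw [str, str, Category.assoc, Scheme.Hom.appLE_comp_appLE]

lemma str_SpecMap {R : CommRingCat.{u}} (φ : A ⟶ R) :
    str (Spec.map φ) ⊤ = φ ≫ (Scheme.ΓSpecIso R).inv := by
  rw [str, Scheme.Hom.appLE, Scheme.ΓSpecIso_inv_naturality]
  simp [Scheme.Hom.appTop]

lemma flat_str {X : Scheme.{u}} (p : X ⟶ Spec A) [Flat p] {U : X.Opens} (hU : IsAffineOpen U) :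
    (str p U).hom.Flat := by
  rw [str, CommRingCat.hom_comp]
  exact RingHom.Flat.comp (RingHom.Flat.of_bijective
      (ConcreteCategory.bijective_of_isIso (Scheme.ΓSpecIso A).inv))
    (HasRingHomProperty.appLE @Flat p ‹_› ⟨⊤, isAffineOpen_top _⟩ ⟨U, hU⟩ le_top)

lemma fromSpec_appLE_self {X : Scheme.{u}} {U : X.Opens} (hU : IsAffineOpen U) :
    hU.fromSpec.appLE U ⊤ (by rw [hU.fromSpec_preimage_self]) = (Scheme.ΓSpecIso Γ(X, U)).inv := by
  rw [Scheme.Hom.appLE, hU.fromSpec_app_self, Category.assoc, ← Functor.map_comp]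
  erw [CategoryTheory.Functor.map_id, Category.comp_id]

lemma appLE_congr {X Y : Scheme.{u}} {f g : X ⟶ Y} (h : f = g) (U : Y.Opens) (V : X.Opens)
    (e : V ≤ f ⁻¹ᵁ U) (e' : V ≤ g ⁻¹ᵁ U) : f.appLE U V e = g.appLE U V e' := by
  subst h; rfl

lemma kills (J : Ideal A) {Y W₀ : Scheme.{u}} (f : W₀ ⟶ Y) (g : Y ⟶ Spec A)
    (s : W₀ ⟶ Spec (CommRingCat.of (↑A ⧸ J)))
    (h : f ≫ g = s ≫ Spec.map (CommRingCat.ofHom (Ideal.Quotient.mk J)))
    (W : Y.Opens) (O : W₀.Opens) (e : O ≤ f ⁻¹ᵁ W) (c : Γ(Y, W))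
    (hc : c ∈ J.map (str g W).hom) : f.appLE W O e c = 0 := by
  suffices J.map (str g W).hom ≤ RingHom.ker (f.appLE W O e).hom from this hc
  rw [Ideal.map_le_iff_le_comap]
  intro a ha
  change (f.appLE W O e) (str g W a) = 0
  rw [← CategoryTheory.comp_apply, str_comp, h,
    ← str_comp (Spec.map (CommRingCat.ofHom (Ideal.Quotient.mk J))) s ⊤ O le_top, str_SpecMap,
    CategoryTheory.comp_apply, CategoryTheory.comp_apply]
  have : (CommRingCat.ofHom (Ideal.Quotient.mk J)) a = 0 := Ideal.Quotient.eq_zero_iff_mem.2 ha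
  rw [this, map_zero, map_zero]

theorem eq_zero {X : Scheme.{u}} (p : X ⟶ Spec A)
    (J : Ideal A) (hJ : IsNilpotent J)
    (hfree : ∀ k : ℕ, Module.Free (↑A ⧸ J) ((↑A ⧸ J) ⊗[↑A] ↥(J ^ k)))
    {ι : Type u} (Z : ι → Scheme.{u}) (v : ∀ i, Z i ⟶ X) [∀ i, Flat (v i ≫ p)]
    (h0 : ∀ (V : (pullback p (Spec.map (CommRingCat.ofHom (Ideal.Quotient.mk J)))).Opens) (t : Γ(pullback p (Spec.map (CommRingCat.ofHom (Ideal.Quotient.mk J))), V)),
      (∀ i, (pullback.map (v i ≫ p) (Spec.map (CommRingCat.ofHom (Ideal.Quotient.mk J))) p (Spec.map (CommRingCat.ofHom (Ideal.Quotient.mk J))) (v i) (𝟙 _) (𝟙 _)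
        (Category.comp_id _) ((Category.comp_id _).trans (Category.id_comp _).symm)).app V t = 0) → t = 0)
    (V : X.Opens) (t : Γ(X, V)) (ht : ∀ i, (v i).app V t = 0) : t = 0 := by
  set π := Spec.map (CommRingCat.ofHom (Ideal.Quotient.mk J)) with hπ
  have hloc : ∀ x ∈ V, ∃ U : X.Opens, x ∈ U ∧ IsAffineOpen U ∧ ∃ hUV : U ≤ V,
      X.presheaf.map (homOfLE hUV).op t = 0 := by
    intro x hx
    obtain ⟨U, hU, hxU, hUV⟩ := exists_isAffineOpen_mem_and_subset hx
    refine ⟨U, hxU, hU, hUV, ?_⟩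
    set t' := X.presheaf.map (homOfLE hUV).op t
    let κ := Σ i : ι, {W : (Z i).Opens // IsAffineOpen W ∧ W ≤ (v i) ⁻¹ᵁ U}
    let C : κ → Type u := fun w => Γ(Z w.1, w.2.1)
    letI : Algebra A Γ(X, U) := (str p U).hom.toAlgebra
    letI : ∀ w : κ, Algebra A (C w) := fun w => (str (v w.1 ≫ p) w.2.1).hom.toAlgebra
    haveI : ∀ w : κ, Module.Flat A (C w) := fun w => flat_str (v w.1 ≫ p) w.2.2.1
    let φ : ∀ w : κ, Γ(X, U) →ₐ[A] C w := fun w =>
      { ((v w.1).appLE U w.2.1 w.2.2.2).hom with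
        commutes' := fun a => ConcreteCategory.congr_hom (str_comp p (v w.1) U w.2.1 w.2.2.2) a }
    refine eq_zero_of_forall (A := A) J hJ hfree C (fun w => (φ w).toLinearMap) (fun b hb => ?_) t' ?_
    swap
    · intro w
      change (v w.1).appLE U w.2.1 w.2.2.2 (X.presheaf.map (homOfLE hUV).op t) = 0
      rw [← CategoryTheory.comp_apply, Scheme.Hom.map_appLE, Scheme.Hom.appLE, CategoryTheory.comp_apply,
        ht, map_zero]
    -- reduction modulo `J`
    have hb0 : (pullback.fst p π).app U b = 0 := by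
      refine h0 _ _ fun i => ?_
      set r := pullback.map (v i ≫ p) π p π (v i) (𝟙 _) (𝟙 _)
        (Category.comp_id _) ((Category.comp_id _).trans (Category.id_comp _).symm) with hr
      have hrq : r ≫ pullback.fst p π = pullback.fst (v i ≫ p) π ≫ v i := pullback.lift_fst _ _ _
      apply TopCat.Presheaf.section_ext (pullback (v i ≫ p) π).sheaf
      intro z hz
      have hzU : pullback.fst (v i ≫ p) π z ∈ (v i) ⁻¹ᵁ U := by
        have : (r ≫ pullback.fst p π) z ∈ U := hz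
        rwa [hrq] at this
      obtain ⟨W, hW, hzW, hWU⟩ := exists_isAffineOpen_mem_and_subset hzU
      have e2 : (pullback.fst (v i ≫ p) π) ⁻¹ᵁ W ≤ (pullback.fst (v i ≫ p) π ≫ v i) ⁻¹ᵁ U :=
        fun y hy => hWU hy
      have e : (pullback.fst (v i ≫ p) π) ⁻¹ᵁ W ≤ r ⁻¹ᵁ (pullback.fst p π) ⁻¹ᵁ U := by
        intro y hy
        change (r ≫ pullback.fst p π) y ∈ U
        rw [hrq]
        exact hWU hy
      have h2 : (r ≫ pullback.fst p π).appLE U ((pullback.fst (v i ≫ p) π) ⁻¹ᵁ W) e b = 0 := by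
        rw [appLE_congr hrq U _ e e2, ← Scheme.Hom.appLE_comp_appLE _ _ U W _ hWU le_rfl,
          CategoryTheory.comp_apply]
        have hb' := hb ⟨i, W, hW, hWU⟩
        rw [Ideal.smul_top_eq_map] at hb'
        refine kills J (pullback.fst (v i ≫ p) π) (v i ≫ p) (pullback.snd _ _) pullback.condition
          W _ le_rfl _ hb'
      rw [Scheme.Hom.comp_appLE, CategoryTheory.comp_apply, Scheme.Hom.appLE,
        CategoryTheory.comp_apply] at h2
      have h3 := congrArg ((pullback (v i ≫ p) π).presheaf.germ _ z hzW) h2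
      erw [TopCat.Presheaf.germ_res_apply, map_zero] at h3
      exact h3.trans (map_zero _).symm
    -- deduce membership
    let I : Ideal Γ(X, U) := J.map (str p U).hom
    let mkI : Γ(X, U) ⟶ CommRingCat.of (Γ(X, U) ⧸ I) := CommRingCat.ofHom (Ideal.Quotient.mk I)
    let fbar : CommRingCat.of (↑A ⧸ J) ⟶ CommRingCat.of (Γ(X, U) ⧸ I) :=
      CommRingCat.ofHom (Ideal.quotientMap I (str p U).hom Ideal.le_comap_map)
    have hsq : str p U ≫ mkI = CommRingCat.ofHom (Ideal.Quotient.mk J) ≫ fbar := by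
      ext a; rfl
    have hm : (Spec.map mkI ≫ hU.fromSpec) ≫ p = Spec.map fbar ≫ π := by
      rw [hπ, ← Spec.map_comp, ← hsq, Spec.map_comp, Category.assoc]
      congr 1
      rw [str, Spec.map_comp, ← IsAffineOpen.SpecMap_appLE_fromSpec p (isAffineOpen_top (Spec A)) hU le_top,
        IsAffineOpen.fromSpec_top, Scheme.isoSpec_Spec_inv]
    let l := pullback.lift (Spec.map mkI ≫ hU.fromSpec) (Spec.map fbar) hm
    have hlq : l ≫ pullback.fst p π = Spec.map mkI ≫ hU.fromSpec := pullback.lift_fst _ _ _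
    have e1 : (⊤ : (Spec (CommRingCat.of (Γ(X, U) ⧸ I))).Opens) ≤ (Spec.map mkI ≫ hU.fromSpec) ⁻¹ᵁ U := by
      simp [Scheme.Hom.comp_preimage, hU.fromSpec_preimage_self]
    have h4 : (Spec.map mkI ≫ hU.fromSpec).appLE U ⊤ e1 b = 0 := by
      rw [appLE_congr hlq.symm U ⊤ e1 (by rw [hlq]; exact e1), Scheme.Hom.comp_appLE,
        CategoryTheory.comp_apply, hb0, map_zero]
    have h5 : (Scheme.ΓSpecIso (CommRingCat.of (Γ(X, U) ⧸ I))).inv (mkI b) = 0 := by
      rw [← h4, ← Scheme.Hom.appLE_comp_appLE (Spec.map mkI) hU.fromSpec U ⊤ ⊤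
        (by rw [hU.fromSpec_preimage_self]) le_top, fromSpec_appLE_self,
        ← CategoryTheory.comp_apply, Scheme.ΓSpecIso_inv_naturality]
      simp [Scheme.Hom.appLE, Scheme.Hom.appTop]
    have h6 : mkI b = 0 :=
      (ConcreteCategory.bijective_of_isIso (Scheme.ΓSpecIso _).inv).1 (h5.trans (map_zero _).symm)
    have h7 : b ∈ I := Ideal.Quotient.eq_zero_iff_mem.1 h6
    rw [Ideal.smul_top_eq_map]
    exact h7
  choose U hxU hU hUV hU0 using hloc
  apply TopCat.Presheaf.section_ext X.sheaf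
  intro x hx
  have := congrArg (X.presheaf.germ (U x hx) x (hxU x hx)) (hU0 x hx)
  rw [map_zero] at this
  erw [TopCat.Presheaf.germ_res_apply] at this
  exact this.trans (map_zero _).symm

end Sch

end Groth.Agent.Lib.SchDenseNil99
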