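import Mathlib

universe v u v' u' v'' u''
open CategoryTheory CategoryTheory.Limits

namespace Groth.Agent.Lib.SerreQuotFF99

variable {A A' : Type u} [Category.{v} A] [Abelian A] [Category.{v} A'] [Abelian A']

lemma inv_prop_image (i : A' ⥤ A) [PreservesFiniteLimits i] [PreservesFiniteColimits i]
    (J : ObjectProperty A) [J.IsSerreClass] {X Y : A'} (h : X ⟶ Y)
    (hh : J (Abelian.image (i.map h))) : J (i.obj (Abelian.image h)) := by
  have hfac : i.map (Abelian.factorThruImage h) ≫ i.map (Abelian.image.ι h) = i.map h := by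
    rw [← i.map_comp]; simp
  have := strongEpi_of_epi (i.map (Abelian.factorThruImage h))
  exact J.prop_of_iso (Abelian.imageIsoImage _ ≪≫
    (image.isoStrongEpiMono (i.map (Abelian.factorThruImage h)) (i.map (Abelian.image.ι h)) hfac).symm) hh

lemma map_eq_of (J : ObjectProperty A) [J.IsSerreClass]
    {Q : Type u'} [Category.{v'} Q] (L : A ⥤ Q) [L.IsLocalization J.isoModSerre]
    {X Y : A} (a b : X ⟶ Y) : L.map a = L.map b ↔ J (Abelian.image (a - b)) := by
  rw [MorphismProperty.map_eq_iff_precomp L J.isoModSerre,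
    ← J.exists_isoModSerre_comp_eq_zero_iff]
  simp [sub_eq_zero]

variable (i : A' ⥤ A) [i.Full] [i.Faithful] [PreservesFiniteLimits i] [PreservesFiniteColimits i]
  (J : ObjectProperty A) [J.IsSerreClass] [(J.inverseImage i).IsSerreClass]
  {Q : Type u'} [Category.{v'} Q] (L : A ⥤ Q) [L.IsLocalization J.isoModSerre]
  {Q' : Type u''} [Category.{v''} Q'] (L' : A' ⥤ Q') [L'.IsLocalization (J.inverseImage i).isoModSerre]
  (Φ : Q' ⥤ Q) (e : L' ⋙ Φ ≅ i ⋙ L)

include J e in
lemma faithful_obj {X Y : A'} (ψ₁ ψ₂ : L'.obj X ⟶ L'.obj Y) (h : Φ.map ψ₁ = Φ.map ψ₂) :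
    ψ₁ = ψ₂ := by
  obtain ⟨φ₁, h₁⟩ := Localization.exists_rightFraction L' (J.inverseImage i).isoModSerre ψ₁
  have e₁ : L'.map φ₁.s ≫ ψ₁ = L'.map φ₁.f := by
    rw [h₁]; exact MorphismProperty.RightFraction.map_s_comp_map _ _ _
  obtain ⟨φ₂, h₂⟩ := Localization.exists_rightFraction L' (J.inverseImage i).isoModSerre
    (L'.map φ₁.s ≫ ψ₂)
  have e₂ : L'.map φ₂.s ≫ L'.map φ₁.s ≫ ψ₂ = L'.map φ₂.f := by
    rw [h₂]; exact MorphismProperty.RightFraction.map_s_comp_map _ _ _
  have := Localization.inverts L' _ _ φ₁.hs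
  have := Localization.inverts L' _ _ φ₂.hs
  have key : L'.map (φ₂.s ≫ φ₁.f) = L'.map φ₂.f := by
    have hΦ : Φ.map (L'.map (φ₂.s ≫ φ₁.f)) = Φ.map (L'.map φ₂.f) := by
      rw [L'.map_comp, ← e₁, ← e₂]; simp only [Functor.map_comp, h]
    have n1 := e.hom.naturality (φ₂.s ≫ φ₁.f)
    have n2 := e.hom.naturality φ₂.f
    simp only [Functor.comp_map] at n1 n2
    have := i.additive_of_preserves_binary_products
    rw [hΦ, n2, cancel_epi, map_eq_of J L, ← i.map_sub] at n1
    rw [map_eq_of (J.inverseImage i) L']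
    have := inv_prop_image i J _ n1
    rw [show φ₂.s ≫ φ₁.f - φ₂.f = -(φ₂.f - φ₂.s ≫ φ₁.f) by abel]
    refine (J.inverseImage i).exists_isoModSerre_comp_eq_zero_iff _ |>.1 ?_
    obtain ⟨W, s, hs, hw⟩ := ((J.inverseImage i).exists_isoModSerre_comp_eq_zero_iff
      (φ₂.f - φ₂.s ≫ φ₁.f)).2 this
    exact ⟨W, s, hs, by rw [Preadditive.comp_neg, hw, neg_zero]⟩
  rw [← cancel_epi (L'.map φ₁.s), ← cancel_epi (L'.map φ₂.s), e₂, e₁, ← key, L'.map_comp]

variable (hsub : ∀ (M : A') (N : A) (f : N ⟶ i.obj M), Mono f → J N → i.essImage N)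
  (hquot : ∀ (M : A') (N : A) (p : i.obj M ⟶ N), Epi p → J N → i.essImage N)

include e hsub hquot in
lemma full_obj {X Y : A'} (φ : Φ.obj (L'.obj X) ⟶ Φ.obj (L'.obj Y)) :
    ∃ ψ : L'.obj X ⟶ L'.obj Y, Φ.map ψ = φ := by
  let φ0 : L.obj (i.obj X) ⟶ L.obj (i.obj Y) := e.inv.app X ≫ φ ≫ e.hom.app Y
  obtain ⟨r, hr⟩ := Localization.exists_rightFraction L J.isoModSerre φ0
  have hs : L.map r.s ≫ φ0 = L.map r.f := by
    rw [hr]; exact MorphismProperty.RightFraction.map_s_comp_map _ _ _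
  -- target correction
  let t : kernel r.s ⟶ i.obj Y := kernel.ι r.s ≫ r.f
  have hI : J (Abelian.image t) := J.prop_of_epi (Abelian.factorThruImage t) r.hs.1
  obtain ⟨I', ⟨eI⟩⟩ := hsub Y _ (Abelian.image.ι t) inferInstance hI
  let m : I' ⟶ Y := i.preimage (eI.hom ≫ Abelian.image.ι t)
  let q := cokernel.π m
  have hq : (J.inverseImage i).isoModSerre q :=
    (J.inverseImage i).isoModSerre_of_epi q
      ((J.inverseImage i).prop_of_epi (Abelian.factorThruImage m) (J.prop_of_iso eI.symm hI))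
  have ht : t ≫ i.map q = 0 := by
    have hm : eI.inv ≫ i.map m = Abelian.image.ι t := by simp [m]
    rw [← Abelian.image.fac t, ← hm, Category.assoc, Category.assoc, ← i.map_comp,
      cokernel.condition, i.map_zero, comp_zero, comp_zero]
  -- source correction
  obtain ⟨C', ⟨eC⟩⟩ := hquot X _ (cokernel.π r.s) inferInstance r.hs.2
  let p : X ⟶ C' := i.preimage (cokernel.π r.s ≫ eC.inv)
  have hp : i.map p = cokernel.π r.s ≫ eC.inv := by simp [p]
  let κ := kernel.ι p
  have hκ : (J.inverseImage i).isoModSerre κ :=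
    (J.inverseImage i).isoModSerre_of_mono κ
      ((J.inverseImage i).prop_of_iso (Abelian.coimageIsoImage p).symm
        ((J.inverseImage i).prop_of_mono (Abelian.image.ι p) (J.prop_of_iso eC.symm r.hs.2)))
  let e1 : Abelian.image r.s ≅ i.obj (kernel p) :=
    (PreservesKernel.iso i p ≪≫ kernelIsoOfEq hp ≪≫ kernelCompMono _ _).symm
  have he1 : e1.hom ≫ i.map κ = Abelian.image.ι r.s := by
    rw [← Iso.eq_inv_comp]
    simp [e1, κ, Abelian.image.ι]
  let σ := Abelian.factorThruImage r.s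
  have hσ : J.isoModSerre σ :=
    ObjectProperty.monoModSerre.isoModSerre_factorThruImage r.hs.1
  have hk : kernel.ι σ ≫ r.s = 0 := by
    calc kernel.ι σ ≫ r.s = kernel.ι σ ≫ σ ≫ Abelian.image.ι r.s := by simp [σ]
      _ = 0 := by simp
  have hdesc : kernel.ι σ ≫ r.f ≫ i.map q = 0 := by
    rw [← kernel.lift_ι r.s _ hk, Category.assoc, ← Category.assoc (kernel.ι r.s), ht, comp_zero]
  let g : i.obj (kernel p) ⟶ i.obj (cokernel m) := e1.inv ≫ Abelian.epiDesc σ _ hdesc
  let g' := i.preimage g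
  have := Localization.inverts L _ _ hσ
  have := Localization.inverts L' _ _ hq
  have := Localization.inverts L' _ _ hκ
  have key : L.map (i.map g') = L.map (i.map κ) ≫ φ0 ≫ L.map (i.map q) := by
    rw [← cancel_epi (L.map e1.hom), ← cancel_epi (L.map σ)]
    have h1 : σ ≫ e1.hom ≫ i.map g' = r.f ≫ i.map q := by simp [g', g]
    calc L.map σ ≫ L.map e1.hom ≫ L.map (i.map g') = L.map (r.f ≫ i.map q) := by
          rw [← L.map_comp, ← L.map_comp, h1]
      _ = L.map r.s ≫ φ0 ≫ L.map (i.map q) := by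
          rw [L.map_comp, ← hs, Category.assoc]
      _ = _ := by
          rw [← L.map_comp_assoc (e1.hom), ← L.map_comp_assoc]
          simp only [Category.assoc, he1, σ, Abelian.image.fac]
  refine ⟨inv (L'.map κ) ≫ L'.map g' ≫ inv (L'.map q), ?_⟩
  rw [← cancel_epi (Φ.map (L'.map κ)), ← cancel_mono (Φ.map (L'.map q))]
  simp only [← Functor.map_comp, Category.assoc, IsIso.hom_inv_id_assoc, IsIso.inv_hom_id,
    Category.comp_id]
  have n1 := e.hom.naturality g'
  simp only [Functor.comp_map] at n1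
  rw [← cancel_mono (e.hom.app _), n1, key]
  have n2 := e.hom.naturality κ
  have n3 := e.hom.naturality q
  simp only [Functor.comp_map] at n2 n3
  simp only [φ0, Category.assoc]
  rw [← reassoc_of% n2, Iso.hom_inv_id_app_assoc, n3]

include e hsub hquot in
theorem full_faithful : Φ.Full ∧ Φ.Faithful := by
  have := Localization.essSurj L' (J.inverseImage i).isoModSerre
  constructor
  · refine ⟨fun {P R} φ ↦ ?_⟩
    let a := L'.objObjPreimageIso P
    let b := L'.objObjPreimageIso R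
    obtain ⟨ψ, hψ⟩ := full_obj i J L L' Φ e hsub hquot (Φ.map a.hom ≫ φ ≫ Φ.map b.inv)
    refine ⟨a.inv ≫ ψ ≫ b.hom, ?_⟩
    rw [Φ.map_comp, Φ.map_comp, hψ]
    simp only [Category.assoc, ← Functor.map_comp, ← Functor.map_comp_assoc, Iso.inv_hom_id]
    simp
  · refine ⟨fun {P R} f g h ↦ ?_⟩
    let a := L'.objObjPreimageIso P
    let b := L'.objObjPreimageIso R
    have := faithful_obj i J L L' Φ e (a.hom ≫ f ≫ b.inv) (a.hom ≫ g ≫ b.inv) (by simp [h])
    simpa using this

end Groth.Agent.Lib.SerreQuotFF99
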