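import Mathlib
import Groth.Prelude.Def_AlphaP
import Groth.Prelude.Def_ConstGrp

open TensorProduct

universe u v

namespace Groth.Agent.Lib.SmallGrpSchemes

/-- An idempotent congruent to a scalar modulo a nil ideal is that scalar. -/
theorem eq_of_idempotent_of_nilpotent {A : Type*} [CommRing A] {e f : A} (he : e * e = e) (hf : f * f = f)
    {n : ℕ} (h : (e - f) ^ n = 0) : e = f := by
  have h3 : (e - f) ^ 3 = e - f := by
    linear_combination (e + 1 - 3 * f) * he + (3 * e - f - 1) * hf
  have hk : ∀ m, (e - f) ^ (2 * m + 1) = e - f := by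
    intro m
    induction m with
    | zero => simp
    | succ m ih =>
      rw [show 2 * (m + 1) + 1 = (2 * m + 1) + 2 by ring, pow_add, ih, ← pow_succ']
      exact h3
  have := hk n
  rw [show 2 * n + 1 = n + (n + 1) by ring, pow_add, h, zero_mul] at this
  exact sub_eq_zero.1 this.symm

/-- The constant group scheme of order `> 1` is not isomorphic to an algebra with nil augmentation ideal. -/
theorem isEmpty_algEquiv_of_nil {R : Type u} [CommRing R] [Nontrivial R] {G : Type v} [DecidableEq G]
    {a b : G} (hab : a ≠ b) {A : Type*} [CommRing A] [Algebra R A] (ε : A →ₐ[R] R)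
    (hε : ∀ y, ε y = 0 → IsNilpotent y) : IsEmpty (ConstGrp.F R G ≃ₐ[R] A) := by
  refine ⟨fun φ => ?_⟩
  have he : φ (ConstGrp.e R a) * φ (ConstGrp.e R a) = φ (ConstGrp.e R a) := by
    rw [← map_mul, ConstGrp.e_mul_e, if_pos rfl]
  have hc : ε (φ (ConstGrp.e R a)) * ε (φ (ConstGrp.e R a)) = ε (φ (ConstGrp.e R a)) := by rw [← map_mul, he]
  obtain ⟨n, hn⟩ := hε (φ (ConstGrp.e R a) - algebraMap R A (ε (φ (ConstGrp.e R a)))) (by simp)
  have := eq_of_idempotent_of_nilpotent he (by rw [← map_mul, hc]) hn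
  have h2 := congrArg φ.symm this
  rw [AlgEquiv.symm_apply_apply, AlgEquiv.commutes] at h2
  have ha := congrFun h2 a
  have hb := congrFun h2 b
  rw [ConstGrp.algebraMap_apply, ConstGrp.e_apply_self] at ha
  rw [ConstGrp.algebraMap_apply, ConstGrp.e_apply_of_ne hab.symm, ← ha] at hb
  exact zero_ne_one hb

section groupAlgebra
variable {p : ℕ} [Fact p.Prime] {R : Type u} [CommRing R] [CharP R p]

theorem pow_p_eq (y : MonoidAlgebra R (Multiplicative (ZMod p))) :
    y ^ p = algebraMap R _ (Coalgebra.counit (R := R) y ^ p) := by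
  haveI : CharP (MonoidAlgebra R (Multiplicative (ZMod p))) p :=
    charP_of_injective_algebraMap (Bialgebra.algebraMap_injective (R := R) _) p
  induction y using MonoidAlgebra.induction_linear with
  | zero => simp [(Fact.out : p.Prime).ne_zero]
  | add a b ha hb => rw [add_pow_char, ha, hb, map_add, add_pow_char, map_add]
  | single g c =>
    have hg : g ^ p = 1 := Multiplicative.toAdd.injective (by simp)
    have hc : Coalgebra.counit (R := R) (MonoidAlgebra.single g c) = c := by simp
    rw [MonoidAlgebra.single_pow, hg, hc]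
    simp [MonoidAlgebra.coe_algebraMap]

theorem isNilpotent_of_counit (y : MonoidAlgebra R (Multiplicative (ZMod p)))
    (h : Bialgebra.counitAlgHom R _ y = 0) : IsNilpotent y :=
  ⟨p, by rw [pow_p_eq, show Coalgebra.counit (R := R) y = 0 from h, zero_pow (Fact.out : p.Prime).ne_zero, map_zero]⟩

end groupAlgebra

/-- A group algebra has no nonzero primitive element. -/
theorem primitive_groupAlgebra_eq_zero {R : Type u} [CommRing R] {M : Type v} [Monoid M]
    {y : MonoidAlgebra R M}
    (hy : Coalgebra.comul (R := R) y = y ⊗ₜ[R] (1 : MonoidAlgebra R M) + (1 : MonoidAlgebra R M) ⊗ₜ[R] y) :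
    y = 0 := by
  classical
  let co : M → MonoidAlgebra R M →ₗ[R] R := fun m =>
    (Finsupp.lapply m) ∘ₗ (MonoidAlgebra.coeffLinearEquiv R).toLinearMap
  have hco : ∀ (m x : M) (c : R), co m (MonoidAlgebra.single x c) = if x = m then c else 0 := by
    intro m x c
    simp [co, Finsupp.single_apply]
  let sl : M → MonoidAlgebra R M ⊗[R] MonoidAlgebra R M →ₗ[R] R := fun m =>
    (TensorProduct.lid R R).toLinearMap ∘ₗ TensorProduct.map (co m) (co m)
  have hsl : ∀ (m : M) (p q : MonoidAlgebra R M), sl m (p ⊗ₜ[R] q) = co m p * co m q := fun m p q => by simp [sl]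
  have hdiag : ∀ (m : M) (a : MonoidAlgebra R M), sl m (Coalgebra.comul (R := R) a) = co m a := by
    intro m a
    induction a using MonoidAlgebra.induction_linear with
    | zero => simp
    | add p q hp hq => simp only [map_add, hp, hq]
    | single x c =>
      rw [MonoidAlgebra.comul_single, CommSemiring.comul_apply, TensorProduct.map_tmul, hsl]
      simp only [MonoidAlgebra.lsingle_apply, hco]
      split_ifs <;> simp
  have h1 : ∀ m : M, co m (1 : MonoidAlgebra R M) = if (1 : M) = m then 1 else 0 := fun m => by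
    rw [MonoidAlgebra.one_def, hco]
  refine MonoidAlgebra.coeff_injective (Finsupp.ext fun m => ?_)
  have h := congrArg (sl m) hy
  rw [hdiag, map_add, hsl, hsl, h1] at h
  have hc : co m y = y.coeff m := by simp [co]
  rw [← hc]
  by_cases hm : (1 : M) = m
  · rw [if_pos hm, mul_one, one_mul] at h
    simpa using h
  · rw [if_neg hm, mul_zero, zero_mul, add_zero] at h
    simpa using h

section alphaP
variable (p : ℕ) [hp : Fact p.Prime] (R : Type u) [CommRing R] [CharP R p]

open Polynomial in
theorem isNilpotent_alphaP (y : AlphaP.A p R) (h : Bialgebra.counitAlgHom R _ y = 0) : IsNilpotent y := by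
  obtain ⟨f, rfl⟩ := AlphaP.mk_surjective p R y
  refine ⟨p, ?_⟩
  have hf : f.coeff 0 = 0 := by
    have : ((Bialgebra.counitAlgHom R (AlphaP.A p R)).comp (AlphaP.mk p R)) = aeval (0 : R) := by
      refine Polynomial.algHom_ext ?_
      rw [AlgHom.comp_apply, AlphaP.mk_X, aeval_X, AlphaP.counitAlgHom_eq, AlphaP.counitAlg_x]
    rw [← h, ← AlgHom.comp_apply, this, coeff_zero_eq_aeval_zero]
  rw [← X_mul_divX_add f, hf, map_zero, add_zero, map_mul, AlphaP.mk_X, mul_pow, AlphaP.x_pow, zero_mul]

/-- The coordinates with respect to `1, x, …`. -/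
noncomputable def coord (i : Fin p) : AlphaP.A p R →ₗ[R] R :=
  haveI : Nontrivial R := CharP.nontrivial_of_char_ne_one (v := p) hp.out.ne_one
  (AlphaP.basis p R).coord i

theorem coord_x_pow (i : Fin p) (n : ℕ) (hn : n < p) :
    coord p R i (AlphaP.x p R ^ n) = if n = i then 1 else 0 := by
  haveI : Nontrivial R := CharP.nontrivial_of_char_ne_one (v := p) hp.out.ne_one
  rw [coord, ← AlphaP.basis_apply p R ⟨n, hn⟩, Module.Basis.coord_apply, Module.Basis.repr_self,
    Finsupp.single_apply]
  simp [Fin.ext_iff]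

theorem sum_coord (y : AlphaP.A p R) : ∑ i : Fin p, coord p R i y • AlphaP.x p R ^ (i : ℕ) = y := by
  haveI : Nontrivial R := CharP.nontrivial_of_char_ne_one (v := p) hp.out.ne_one
  conv_rhs => rw [← (AlphaP.basis p R).sum_repr y]
  simp [coord]

theorem primitive_alphaP {y : AlphaP.A p R}
    (hy : Coalgebra.comul (R := R) y = y ⊗ₜ[R] (1 : AlphaP.A p R) + (1 : AlphaP.A p R) ⊗ₜ[R] y) :
    y = coord p R ⟨1, hp.out.one_lt⟩ y • AlphaP.x p R := by
  classical
  set c := fun i => coord p R i y with hc
  let T : Fin p → Fin p → AlphaP.A p R ⊗[R] AlphaP.A p R →ₗ[R] R := fun j l =>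
    (TensorProduct.lid R R).toLinearMap ∘ₗ TensorProduct.map (coord p R j) (coord p R l)
  have hT : ∀ j l a b, T j l (a ⊗ₜ[R] b) = coord p R j a * coord p R l b := fun j l a b => by simp [T]
  have hx : ∀ (j l : Fin p) (n : ℕ), n < p → T j l (Coalgebra.comul (R := R) (AlphaP.x p R ^ n)) =
      if n = (j : ℕ) + l then (n.choose j : R) else 0 := by
    intro j l n hn
    rw [Bialgebra.comul_pow, AlphaP.comul_x, add_pow, map_sum]
    have hterm : ∀ i ∈ Finset.range (n + 1),
        T j l ((AlphaP.x p R ⊗ₜ[R] (1 : AlphaP.A p R)) ^ i * ((1 : AlphaP.A p R) ⊗ₜ[R] AlphaP.x p R) ^ (n - i) *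
          (n.choose i : AlphaP.A p R ⊗[R] AlphaP.A p R)) =
        if i = j ∧ n - i = l then (n.choose i : R) else 0 := by
      intro i hi
      rw [Finset.mem_range] at hi
      rw [Algebra.TensorProduct.tmul_pow, Algebra.TensorProduct.tmul_pow, one_pow, one_pow,
        Algebra.TensorProduct.tmul_mul_tmul, mul_one, one_mul, mul_comm, ← nsmul_eq_mul,
        map_nsmul, hT, coord_x_pow p R j i (by omega), coord_x_pow p R l (n - i) (by omega)]
      split_ifs with h1 h2 h3 h3 h4 <;> first | omega | (simp_all; done) | simp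
    rw [Finset.sum_congr rfl hterm]
    split_ifs with h
    · rw [Finset.sum_eq_single (j : ℕ)]
      · rw [if_pos ⟨rfl, by omega⟩]
      · intro i _ hij; rw [if_neg (fun hh => hij hh.1)]
      · intro hj; exact absurd (Finset.mem_range.2 (by omega)) hj
    · refine Finset.sum_eq_zero fun i hi => ?_
      rw [Finset.mem_range] at hi
      rw [if_neg]
      rintro ⟨rfl, hl⟩
      omega
  have key : ∀ (i : Fin p) (j l : Fin p), (i : ℕ) = j + l →
      c i * ((i : ℕ).choose j : R) =
        c j * (if (0 : ℕ) = l then 1 else 0) + (if (0 : ℕ) = j then 1 else 0) * c l := by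
    intro i j l hijl
    have h := congrArg (T j l) hy
    rw [map_add, hT, hT, ← pow_zero (AlphaP.x p R), coord_x_pow p R l 0 hp.out.pos,
      coord_x_pow p R j 0 hp.out.pos] at h
    rw [← h]
    conv_rhs => rw [← sum_coord p R y]
    rw [map_sum, map_sum, Finset.sum_eq_single i]
    · rw [map_smul, map_smul, hx j l i i.2, if_pos hijl, smul_eq_mul]
    · intro m _ hm
      rw [map_smul, map_smul, hx j l m m.2, if_neg, smul_zero]
      exact fun h' => hm (Fin.ext (h'.trans hijl.symm))
    · simp
  have h0 : ∀ i : Fin p, (i : ℕ) ≠ 1 → c i = 0 := by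
    intro i hi
    rcases Nat.eq_zero_or_pos (i : ℕ) with hi0 | hpos
    · have := key i i i (by omega)
      simp only [hi0, Nat.choose_self, Nat.cast_one, mul_one, if_true, one_mul] at this
      simpa using this
    · have := key i ⟨1, hp.out.one_lt⟩ ⟨i - 1, by omega⟩ (by simp; omega)
      simp only [Nat.choose_one_right] at this
      rw [if_neg (by omega), if_neg (by omega), mul_zero, zero_mul, add_zero] at this
      have hu : IsUnit ((i : ℕ) : R) := by
        rw [CharP.isUnit_natCast_iff hp.out]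
        exact fun hdvd => absurd (Nat.le_of_dvd hpos hdvd) (by omega)
      exact hu.mul_left_eq_zero.1 this
  conv_lhs => rw [← sum_coord p R y]
  rw [Finset.sum_eq_single (⟨1, hp.out.one_lt⟩ : Fin p)]
  · rw [pow_one]
  · intro i _ hi
    rw [show coord p R i y = 0 from h0 i (fun h => hi (Fin.ext h)), zero_smul]
  · simp

theorem isEmpty_groupAlgebra_alphaP {M : Type v} [Monoid M] :
    IsEmpty (MonoidAlgebra R M ≃ₐc[R] AlphaP.A p R) := by
  refine ⟨fun φ => ?_⟩
  haveI : Nontrivial R := CharP.nontrivial_of_char_ne_one (v := p) hp.out.ne_one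
  have h : φ.symm (AlphaP.x p R) = 0 := by
    apply primitive_groupAlgebra_eq_zero
    have h1 : TensorProduct.map φ.symm.toLinearMap φ.symm.toLinearMap
        (Coalgebra.comul (R := R) (AlphaP.x p R)) = Coalgebra.comul (φ.symm (AlphaP.x p R)) :=
      CoalgHomClass.map_comp_comul_apply φ.symm _
    rw [← h1, AlphaP.comul_x, map_add, TensorProduct.map_tmul, TensorProduct.map_tmul]
    have : φ.symm.toLinearMap (1 : AlphaP.A p R) = 1 := map_one φ.symm
    rw [this]
    rfl
  have h2 : AlphaP.x p R = 0 := by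
    have := congrArg φ h
    rwa [BialgEquiv.apply_symm_apply, map_zero] at this
  have := coord_x_pow p R ⟨1, hp.out.one_lt⟩ 1 hp.out.one_lt
  rw [pow_one, h2, map_zero, if_pos rfl] at this
  exact zero_ne_one this

theorem endomorphisms :
    (∀ f : AlphaP.A p R →ₐc[R] AlphaP.A p R, ∃! c : R, f (AlphaP.x p R) = c • AlphaP.x p R) ∧
      ∀ c : R, ∃ f : AlphaP.A p R →ₐc[R] AlphaP.A p R, f (AlphaP.x p R) = c • AlphaP.x p R := by
  constructor
  · intro f
    refine ⟨coord p R ⟨1, hp.out.one_lt⟩ (f (AlphaP.x p R)), primitive_alphaP p R ?_, ?_⟩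
    · have h1 : TensorProduct.map (f : AlphaP.A p R →ₗ[R] AlphaP.A p R) (f : AlphaP.A p R →ₗ[R] AlphaP.A p R)
          (Coalgebra.comul (R := R) (AlphaP.x p R)) = Coalgebra.comul (f (AlphaP.x p R)) :=
        CoalgHomClass.map_comp_comul_apply f _
      rw [← h1, AlphaP.comul_x, map_add, TensorProduct.map_tmul, TensorProduct.map_tmul]
      show f _ ⊗ₜ[R] f _ + f _ ⊗ₜ[R] f _ = _
      rw [map_one]
    · intro c hc
      rw [hc, map_smul]
      nth_rw 1 [← pow_one (AlphaP.x p R)]
      rw [coord_x_pow p R _ 1 hp.out.one_lt, if_pos rfl, smul_eq_mul, mul_one]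
  · intro c
    refine ⟨BialgHom.ofAlgHom (AlphaP.lift p R (c • AlphaP.x p R) (by rw [smul_pow, AlphaP.x_pow, smul_zero])) ?_ ?_,
      AlphaP.lift_x (p := p) (R := R) (c • AlphaP.x p R) (by rw [smul_pow, AlphaP.x_pow, smul_zero])⟩
    · apply AlphaP.algHom_ext
      simp [AlphaP.counitAlgHom_eq]
    · apply AlphaP.algHom_ext
      simp [AlphaP.comulAlgHom_eq, TensorProduct.smul_tmul', smul_add]

end alphaP

end Groth.Agent.Lib.SmallGrpSchemes
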