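import Groth.Agent.Lib.ArtTorsor99
import Groth.Agent.Lib.ArtinFun.Versal
import Groth.Agent.Lib.ArtinFun.SmoothAdic
import Groth.Agent.Lib.ArtinFun.Essential
import Groth.Agent.Lib.ArtinFun.PowerSeries

universe u v

open CategoryTheory ArtFun

namespace Groth.Agent.Lib.SmallVersal99

open Groth.Agent.Lib.ArtinFun

variable {Λ k : Type u} [CommRing Λ] [IsLocalRing Λ] [IsNoetherianRing Λ]
  [IsAdicComplete (IsLocalRing.maximalIdeal Λ) Λ] [Field k] [Algebra Λ k]

lemma ker_algebraMap (hk : Function.Surjective (algebraMap Λ k)) :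
    RingHom.ker (algebraMap Λ k) = IsLocalRing.maximalIdeal Λ :=
  IsLocalRing.eq_maximalIdeal (RingHom.ker_isMaximal_of_surjective _ hk)

/-- The ideal `m_Λ P + M²`. -/
def cotIdeal (P : Type u) [CommRing P] [IsLocalRing P] [Algebra Λ P] : Ideal P :=
  (IsLocalRing.maximalIdeal P) ^ 2 ⊔ (IsLocalRing.maximalIdeal Λ).map (algebraMap Λ P)

lemma map_cotIdeal {P A : Type u} [CommRing P] [IsLocalRing P] [Algebra Λ P] [CommRing A]
    [IsLocalRing A] [Algebra Λ A] (φ : P →ₐ[Λ] A) (hφ : Function.Surjective φ) :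
    (cotIdeal (Λ := Λ) P).map φ.toRingHom = cotIdeal (Λ := Λ) A := by
  rw [cotIdeal, cotIdeal, Ideal.map_sup, Ideal.map_pow,
    IsLocalRing.map_maximalIdeal_of_surjective φ.toRingHom hφ, Ideal.map_map,
    show φ.toRingHom.comp (algebraMap Λ P) = algebraMap Λ A from φ.comp_algebraMap]

lemma exists_scalar (hk : Function.Surjective (algebraMap Λ k)) {P : Type u} [CommRing P] [IsLocalRing P]
    [Algebra Λ P] (res : P →ₐ[Λ] k) (hres : ∀ x, x ∈ IsLocalRing.maximalIdeal P ↔ res x = 0) (x : P) :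
    ∃ l : Λ, x - algebraMap Λ P l ∈ IsLocalRing.maximalIdeal P := by
  obtain ⟨l, hl⟩ := hk (res x)
  exact ⟨l, by rw [hres, map_sub, AlgHom.commutes, hl, sub_self]⟩

lemma sub_C_mem_span_X {n : ℕ} (x : MvPowerSeries (Fin n) Λ) :
    x - MvPowerSeries.C (MvPowerSeries.constantCoeff x) ∈ Ideal.span (Set.range MvPowerSeries.X) := by
  classical
  have h1 := Groth.Agent.Lib.FSAdic.PowerSeries.sub_truncTotal_mem x 1
  rw [pow_one] at h1
  have ht : ((MvPowerSeries.truncTotal 1 x : MvPolynomial (Fin n) Λ) : MvPowerSeries (Fin n) Λ) =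
      MvPowerSeries.C (MvPowerSeries.constantCoeff x) := by
    ext d
    rw [MvPolynomial.coeff_coe, MvPowerSeries.coeff_C]
    by_cases hd : d = 0
    · subst hd
      rw [if_pos rfl, MvPowerSeries.coeff_truncTotal _ (by simp),
        MvPowerSeries.coeff_zero_eq_constantCoeff_apply]
    · rw [if_neg hd, MvPowerSeries.coeff_truncTotal_eq_zero]
      rcases Nat.eq_zero_or_pos d.degree with h | h
      · exact absurd ((Finsupp.degree_eq_zero_iff d).1 h) hd
      · exact h
  rwa [ht] at h1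

lemma decomp (hk : Function.Surjective (algebraMap Λ k)) {n : ℕ}
    (hmem : ∀ z : MvPowerSeries (Fin n) Λ, z ∈ IsLocalRing.maximalIdeal (MvPowerSeries (Fin n) Λ) ↔
        algebraMap Λ k (MvPowerSeries.constantCoeff z) = 0)
    (x : MvPowerSeries (Fin n) Λ) (hx : x ∈ IsLocalRing.maximalIdeal (MvPowerSeries (Fin n) Λ)) :
    ∃ l : Fin n → Λ, x - ∑ i, algebraMap Λ (MvPowerSeries (Fin n) Λ) (l i) * MvPowerSeries.X i ∈
      cotIdeal (Λ := Λ) (MvPowerSeries (Fin n) Λ) := by
  have hc : MvPowerSeries.constantCoeff x ∈ IsLocalRing.maximalIdeal Λ := by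
    rw [← ker_algebraMap hk]
    exact (hmem x).1 hx
  obtain ⟨g, hg⟩ := Ideal.mem_span_range_iff_exists_fun.1 (sub_C_mem_span_X x)
  refine ⟨fun i => MvPowerSeries.constantCoeff (g i), ?_⟩
  have e : x - ∑ i, algebraMap Λ (MvPowerSeries (Fin n) Λ) (MvPowerSeries.constantCoeff (g i)) *
        MvPowerSeries.X i =
      (∑ i, (g i - MvPowerSeries.C (MvPowerSeries.constantCoeff (g i))) * MvPowerSeries.X i) +
        MvPowerSeries.C (MvPowerSeries.constantCoeff x) := by
    simp only [sub_mul, Finset.sum_sub_distrib, ← MvPowerSeries.c_eq_algebraMap]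
    linear_combination -hg
  rw [e]
  refine add_mem (Ideal.sum_mem _ fun i _ => Ideal.mem_sup_left ?_)
    (Ideal.mem_sup_right ?_)
  · rw [pow_two]
    exact Ideal.mul_mem_mul ((hmem _).2 (by simp)) ((hmem _).2 (by simp))
  · rw [MvPowerSeries.c_eq_algebraMap]
    exact Ideal.mem_map_of_mem _ hc

/-- The relative power series ring. -/
theorem exists_free (hk : Function.Surjective (algebraMap Λ k)) (n : ℕ) :
    ∃ (P : CRing Λ k) (X : Fin n → P.carrier), (∀ i, X i ∈ IsLocalRing.maximalIdeal P.carrier) ∧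
      (∀ x ∈ IsLocalRing.maximalIdeal P.carrier,
        ∃ l : Fin n → Λ, x - ∑ i, algebraMap Λ P.carrier (l i) * X i ∈ cotIdeal (Λ := Λ) P.carrier) ∧
      (∀ (A : Art Λ k) (b : Fin n → A), (∀ i, b i ∈ IsLocalRing.maximalIdeal A) →
        ∃ w : HomSet P.carrier P.res A, ∀ i, w.1 (X i) = b i) ∧
      ∀ (A : Art Λ k) (w w' : HomSet P.carrier P.res A), (∀ i, w.1 (X i) = w'.1 (X i)) → w = w' := by
  classical
  refine ⟨psCRing (baseCRing (k := k) hk) n,
    fun i => (MvPowerSeries.X i : MvPowerSeries (Fin n) Λ),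
    fun i => span_X_le_maximalIdeal (baseCRing (k := k) hk) n (Ideal.subset_span ⟨i, rfl⟩),
    ?_, ?_, ?_⟩
  · exact fun x hx => decomp hk (fun z => CRing.mem_maximalIdeal_iff (psCRing (baseCRing (k := k) hk) n) z) x hx
  · intro A b hb
    obtain ⟨w, -, hwX⟩ := exists_homSet_ps (baseCRing (k := k) hk)
      (⟨Algebra.ofId Λ A, AlgHom.ext fun l => A.res.commutes l⟩ :
        HomSet (baseCRing (k := k) hk).carrier (baseCRing (k := k) hk).res A) b hb
    exact ⟨w, hwX⟩
  · intro A w w' h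
    exact homSet_ps_ext (baseCRing (k := k) hk)
      (fun r => (w.1.commutes r).trans (w'.1.commutes r).symm) h

/-- A minimal presentation. -/
theorem exists_presentation (hk : Function.Surjective (algebraMap Λ k)) (R : Art Λ k) :
    ∃ (P : CRing Λ k) (φ : HomSet P.carrier P.res R), Function.Surjective φ.1 ∧
      (∀ x, φ.1 x = 0 → x ∈ cotIdeal (Λ := Λ) P.carrier) ∧
      ∀ (R₁ : Art Λ k) (π : R₁ ⟶ R), Function.Surjective π →
        ∃ w : HomSet P.carrier P.res R₁, HomSet.map π w = φ := by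
  classical
  haveI : Module.Finite Λ k := ArtTorsor99.finite_of_surj hk
  haveI : IsNoetherianRing (R : Type u) := inferInstance
  have hex : ∃ n, ∃ a : Fin n → R, (∀ i, a i ∈ IsLocalRing.maximalIdeal R) ∧
      IsLocalRing.maximalIdeal R ≤ Ideal.span (Set.range a) ⊔ cotIdeal (Λ := Λ) R := by
    obtain ⟨n, a, ha⟩ := Submodule.fg_iff_exists_fin_generating_family.1
      (IsNoetherian.noetherian (IsLocalRing.maximalIdeal (R : Type u)))
    exact ⟨n, a, fun i => ha.le (Submodule.subset_span ⟨i, rfl⟩), ha.ge.trans le_sup_left⟩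
  obtain ⟨n, ⟨a, ha, hgen⟩, hmin⟩ : ∃ n, (∃ a : Fin n → R, (∀ i, a i ∈ IsLocalRing.maximalIdeal R) ∧
      IsLocalRing.maximalIdeal R ≤ Ideal.span (Set.range a) ⊔ cotIdeal (Λ := Λ) R) ∧
      ∀ m < n, ¬ ∃ a : Fin m → R, (∀ i, a i ∈ IsLocalRing.maximalIdeal R) ∧
        IsLocalRing.maximalIdeal R ≤ Ideal.span (Set.range a) ⊔ cotIdeal (Λ := Λ) R :=
    ⟨Nat.find hex, Nat.find_spec hex, fun m hm => Nat.find_min hex hm⟩
  obtain ⟨P, X, hXm, hdec, hmk, hext⟩ := exists_free hk n
  obtain ⟨φ, hX⟩ := hmk R a ha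
  have hsurj : Function.Surjective φ.1 := by
    obtain ⟨N, f, hf⟩ : ∃ (N : ℕ) (f : P.trunc N ⟶ R), HomSet.map f (P.truncHom N) = φ :=
      exists_factor_trunc P φ
    suffices Function.Surjective f by
      intro r
      obtain ⟨z, rfl⟩ := this r
      obtain ⟨x, rfl⟩ := truncHom_surjective P N z
      exact ⟨x, (AlgHom.congr_fun (congrArg Subtype.val hf) x).symm⟩
    refine surjective_of_sub_mem_relSq f fun r => ?_
    obtain ⟨l₀, hl₀⟩ := exists_scalar hk R.res (fun x => Art.mem_maximalIdeal_iff R x) r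
    obtain ⟨y, hy, j, hj, hyj⟩ := Submodule.mem_sup.1 (hgen hl₀)
    obtain ⟨c, rfl⟩ := Ideal.mem_span_range_iff_exists_fun.1 hy
    choose l hl using fun i => exists_scalar hk R.res (fun x => Art.mem_maximalIdeal_iff R x) (c i)
    refine ⟨(P.truncHom N).1 (algebraMap Λ P.carrier l₀ + ∑ i, algebraMap Λ P.carrier (l i) * X i), ?_⟩
    rw [show f ((P.truncHom N).1 (algebraMap Λ P.carrier l₀ + ∑ i, algebraMap Λ P.carrier (l i) * X i)) =
      φ.1 (algebraMap Λ P.carrier l₀ + ∑ i, algebraMap Λ P.carrier (l i) * X i) from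
      AlgHom.congr_fun (congrArg Subtype.val hf) _]
    simp only [map_add, map_sum, map_mul, AlgHom.commutes, hX]
    have e : r - (algebraMap Λ R l₀ + ∑ i, algebraMap Λ R (l i) * a i) =
        (∑ i, (c i - algebraMap Λ R (l i)) * a i) + j := by
      simp only [sub_mul, Finset.sum_sub_distrib]
      linear_combination -hyj
    rw [e]
    have hrel : relSq R = cotIdeal (Λ := Λ) (R : Type u) := by
      rw [relSq, cotIdeal, ker_algebraMap hk, sup_comm]
    rw [hrel]
    refine add_mem (Ideal.sum_mem _ fun i _ => Ideal.mem_sup_left ?_) hj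
    rw [pow_two]
    exact Ideal.mul_mem_mul (hl i) (ha i)
  refine ⟨P, φ, hsurj, fun x hx => ?_, fun R₁ π hπ => ?_⟩
  · have hxM : x ∈ IsLocalRing.maximalIdeal P.carrier := by
      rw [CRing.mem_maximalIdeal_iff, ← homSet_res φ x, hx, map_zero]
    obtain ⟨l, hd⟩ := hdec x hxM
    have hR : ∑ i, algebraMap Λ R (l i) * a i ∈ cotIdeal (Λ := Λ) (R : Type u) := by
      have h1 := Ideal.mem_map_of_mem φ.1.toRingHom hd
      rw [map_cotIdeal φ.1 hsurj] at h1
      have h2 : φ.1.toRingHom (x - ∑ i, algebraMap Λ P.carrier (l i) * X i) =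
          -(∑ i, algebraMap Λ R (l i) * a i) := by
        change φ.1 _ = _
        simp only [map_sub, map_sum, map_mul, AlgHom.commutes, hX, hx, zero_sub]
      rw [h2] at h1
      exact (Submodule.neg_mem_iff _).1 h1
    have hl0 : ∀ i, l i ∈ IsLocalRing.maximalIdeal Λ := by
      intro j
      by_contra hj
      obtain ⟨m, rfl⟩ : ∃ m, n = m + 1 := ⟨n - 1, by have := j.pos; omega⟩
      refine hmin m (by omega) ⟨a ∘ j.succAbove, fun i => ha _, hgen.trans (sup_le ?_ le_sup_right)⟩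
      rw [Ideal.span_le]
      rintro _ ⟨i, rfl⟩
      rcases Fin.eq_self_or_eq_succAbove j i with rfl | ⟨i', rfl⟩
      · have hu : IsUnit (algebraMap Λ R (l i)) :=
          ((IsLocalRing.notMem_maximalIdeal).1 hj).map _
        refine (Ideal.unit_mul_mem_iff_mem _ hu).1 ?_
        rw [Fin.sum_univ_succAbove _ i] at hR
        rw [eq_sub_of_add_eq (rfl : algebraMap Λ R (l i) * a i + ∑ i' : Fin m,
          algebraMap Λ R (l (i.succAbove i')) * a (i.succAbove i') = _)]
        exact sub_mem (Ideal.mem_sup_right hR) (Ideal.mem_sup_left (Ideal.sum_mem _ fun i' _ =>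
          Ideal.mul_mem_left _ _ (Ideal.subset_span ⟨i', rfl⟩)))
      · exact Ideal.mem_sup_left (Ideal.subset_span ⟨i', rfl⟩)
    rw [← sub_add_cancel x (∑ i, algebraMap Λ P.carrier (l i) * X i)]
    exact add_mem hd (Ideal.sum_mem _ fun i _ =>
      Ideal.mul_mem_right _ _ (Ideal.mem_sup_right (Ideal.mem_map_of_mem _ (hl0 i))))
  · choose b hb using fun i => hπ (a i)
    have hbm : ∀ i, b i ∈ IsLocalRing.maximalIdeal R₁ := fun i => by
      rw [Art.mem_maximalIdeal_iff, ← Art.res_app π (b i), hb i, ← Art.mem_maximalIdeal_iff]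
      exact ha i
    obtain ⟨w, hw⟩ := hmk R₁ b hbm
    refine ⟨w, hext R _ _ fun i => ?_⟩
    change π (w.1 (X i)) = _
    rw [hw i, hb i, hX i]

theorem exists_semismall_versal (hk : Function.Surjective (algebraMap Λ k)) (F : Art Λ k ⥤ Type v)
    (hS : S1 F) (hE : Heps F) (R : Art Λ k) (a : F.obj R)
    (hvers : ∀ (R₀ : Art Λ k), Art.IsSmallExt (Art.toBase R₀) →
      ∀ b : F.obj R₀, ∃ φ : R ⟶ R₀, F.map φ a = b) :
    ∃ (R' : Art Λ k) (q : R' ⟶ R) (a' : F.obj R'), F.map q a' = a ∧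
      Art.IsSemismallExt q ∧
      (∀ x' : R', x' ∈ IsLocalRing.maximalIdeal (R' : Type u) →
        q x' ∈ cotIdeal (Λ := Λ) (R : Type u) → x' ∈ cotIdeal (Λ := Λ) (R' : Type u)) ∧
      ∀ (R₁ : Art Λ k) (π₁ : R₁ ⟶ R), Art.IsSmallExt π₁ →
        ∀ a₁ : F.obj R₁, F.map π₁ a₁ = a → ∃ f : R' ⟶ R₁, f ≫ π₁ = q ∧ F.map f a' = a₁ := by
  haveI : Module.Finite Λ k := ArtTorsor99.finite_of_surj hk
  obtain ⟨P, φ, hφ, hker, hlift⟩ := exists_presentation hk R
  obtain ⟨B, p, φB, hp, hφB, hpφ, huni⟩ := exists_universal_semismall φ hφ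
  obtain ⟨J₀, ⟨hJ₀, y, hy⟩, hmin⟩ := exists_least_liftsMod hS p hp a
  have hJm := hJ₀.trans (ker_le_maximalIdeal p)
  let q := Art.quotFactor hJm p hJ₀
  let φ' : HomSet P.carrier P.res (Art.quot B J₀ hJm) := HomSet.map (Art.quotMk B J₀ hJm) φB
  have hφ' : Function.Surjective φ'.1 := (Art.quotMk_surjective B J₀ hJm).comp hφB
  have hqφ : HomSet.map q φ' = φ := by
    rw [homSet_map_map, Art.quotMk_quotFactor, hpφ]
  have hqφ' : ∀ x, q (φ'.1 x) = φ.1 x := fun x => AlgHom.congr_fun (congrArg Subtype.val hqφ) x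
  refine ⟨_, q, y, hy, ⟨quotFactor_surjective _ p _ hp.1, ?_⟩, ?_, ?_⟩
  · rw [← le_bot_iff, Ideal.mul_le]
    intro u hu z hz
    obtain ⟨u, rfl⟩ := Art.quotMk_surjective B J₀ hJm u
    obtain ⟨z, rfl⟩ := Art.quotMk_surjective B J₀ hJm z
    rw [Art.mem_maximalIdeal_iff, Art.res_app, ← Art.mem_maximalIdeal_iff] at hu
    rw [mem_ker, quotFactor_quotMk_apply] at hz
    rw [Ideal.mem_bot, ← map_mul, IsSemismallExt.mul_eq_zero hp hu hz, map_zero]
  · intro x' hx' hq
    obtain ⟨x, rfl⟩ := hφ' x'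
    rw [hqφ', ← map_cotIdeal φ.1 hφ, Ideal.mem_map_iff_of_surjective φ.1.toRingHom hφ] at hq
    obtain ⟨j, hj, hjx⟩ := hq
    have h1 : x ∈ cotIdeal (Λ := Λ) P.carrier := by
      have := add_mem (hker (x - j) (by rw [map_sub, show φ.1 j = φ.1 x from hjx, sub_self])) hj
      rwa [sub_add_cancel] at this
    rw [← map_cotIdeal φ'.1 hφ']
    exact Ideal.mem_map_of_mem φ'.1.toRingHom h1
  · intro R₁ π₁ hπ a₁ ha₁
    suffices ∃ f : Art.quot B J₀ hJm ⟶ R₁, f ≫ π₁ = q by
      obtain ⟨f, hf⟩ := this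
      exact ArtTorsor99.lift_iff F hS hE π₁ hπ q a a₁ y ha₁ hy hvers f hf
    obtain ⟨w, hw⟩ := hlift R₁ π₁ hπ.1
    have hw' : ∀ x, π₁ (w.1 x) = φ.1 x := fun x => AlgHom.congr_fun (congrArg Subtype.val hw) x
    by_cases hsec : ∀ x, φ.1 x = 0 → w.1 x = 0
    · obtain ⟨s, hs⟩ := exists_hom_of_ker_le φ hφ w hsec
      refine ⟨q ≫ s, ?_⟩
      rw [Category.assoc, show s ≫ π₁ = 𝟙 R from hom_ext_apply fun r => ?_, Category.comp_id]
      obtain ⟨x, rfl⟩ := hφ r
      change π₁ (s (φ.1 x)) = φ.1 x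
      rw [show s (φ.1 x) = w.1 x from AlgHom.congr_fun (congrArg Subtype.val hs) x, hw']
    · push Not at hsec
      obtain ⟨x₀, hx₀, hwx₀⟩ := hsec
      obtain ⟨t, ht, -, -, htm⟩ := IsSmallExt.exists_generator hπ
      obtain ⟨c, hc⟩ := Ideal.mem_span_singleton'.1
        (show w.1 x₀ ∈ Ideal.span {t} by rw [← ht, mem_ker, hw', hx₀])
      have hcne : R₁.res c ≠ 0 := fun h0 =>
        hwx₀ (by rw [← hc, htm c ((Art.mem_maximalIdeal_iff R₁ c).2 h0)])
      have hws : Function.Surjective w.1 := by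
        intro d
        obtain ⟨x₁, hx₁⟩ := hφ (π₁ d)
        obtain ⟨e, he⟩ := Ideal.mem_span_singleton'.1
          (show d - w.1 x₁ ∈ Ideal.span {t} by rw [← ht, mem_ker, map_sub, hw', hx₁, sub_self])
        obtain ⟨l, hl⟩ := hk (R₁.res e / R₁.res c)
        refine ⟨x₁ + algebraMap Λ P.carrier l * x₀, ?_⟩
        rw [map_add, map_mul, AlgHom.commutes, ← hc, ← mul_assoc]
        have hz : (algebraMap Λ R₁ l * c - e) * t = 0 := htm _ (by
          rw [Art.mem_maximalIdeal_iff, map_sub, map_mul, AlgHom.commutes, hl,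
            div_mul_cancel₀ _ hcne, sub_self])
        linear_combination hz + he
      obtain ⟨g, hg⟩ := huni R₁ π₁ hπ.isSemismallExt w hw
      have hgs : Function.Surjective g := fun d => by
        obtain ⟨x, rfl⟩ := hws d
        exact ⟨φB.1 x, AlgHom.congr_fun (congrArg Subtype.val hg) x⟩
      have hgq : g ≫ π₁ = p := hom_ext_apply fun b => by
        obtain ⟨x, rfl⟩ := hφB b
        exact (congrArg π₁ (AlgHom.congr_fun (congrArg Subtype.val hg) x)).trans
          ((hw' x).trans (AlgHom.congr_fun (congrArg Subtype.val hpφ) x).symm)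
      have hgker : RingHom.ker g.toAlgHom ≤ RingHom.ker p.toAlgHom := by
        intro b hb
        rw [mem_ker] at hb ⊢
        rw [← hgq, hom_comp_apply, hb, map_zero]
      haveI : IsIso (Art.quotFactor (hgker.trans (ker_le_maximalIdeal p)) g le_rfl) :=
        isIso_of_bijective _ (quotFactor_bijective _ g rfl hgs)
      obtain ⟨z, hz⟩ := (bijective_map_of_isIso F
        (Art.quotFactor (hgker.trans (ker_le_maximalIdeal p)) g le_rfl)).2 a₁
      have hcomp : Art.quotFactor (hgker.trans (ker_le_maximalIdeal p)) g le_rfl ≫ π₁ =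
          Art.quotFactor (hgker.trans (ker_le_maximalIdeal p)) p hgker := by
        apply hom_ext_apply
        intro b
        obtain ⟨b, rfl⟩ := Art.quotMk_surjective B _ (hgker.trans (ker_le_maximalIdeal p)) b
        exact hom_congr_apply hgq b
      have hle : J₀ ≤ RingHom.ker g.toAlgHom :=
        hmin _ ⟨hgker, z, by rw [← hcomp, ← map_map, hz, ha₁]⟩
      refine ⟨Art.quotFactor hJm g hle, hom_ext_apply fun b => ?_⟩
      obtain ⟨b, rfl⟩ := Art.quotMk_surjective B J₀ hJm b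
      exact hom_congr_apply hgq b

end Groth.Agent.Lib.SmallVersal99
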