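import Mathlib.RingTheory.PowerSeries.WeierstrassPreparation
import Mathlib.RingTheory.PowerSeries.Substitution
import Mathlib.RingTheory.LocalRing.ResidueField.Basic
import Mathlib.LinearAlgebra.Dimension.Constructions
import Mathlib.LinearAlgebra.FreeModule.Finite.Basic

/-!
# Freeness of a power series ring over itself along a substitution

For a complete local ring `O` and `f ∈ O[[X]]` with zero constant coefficient, `O[[X]]` is free of
finite rank over itself via `X ↦ f` iff `f` is nonzero modulo the maximal ideal.
-/

noncomputable section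

open PowerSeries

namespace Groth.Agent.SubstFree99

variable {O : Type*} [CommRing O]

lemma poly_eq_sum (N : ℕ) (r : Polynomial O) (hr : r.degree < (N : ℕ)) :
    (r : PowerSeries O) = ∑ i : Fin N, PowerSeries.C (r.coeff i) * PowerSeries.X ^ (i : ℕ) := by
  ext m
  simp only [Polynomial.coeff_coe, map_sum, coeff_C_mul_X_pow]
  by_cases hm : m < N
  · rw [Finset.sum_eq_single (⟨m, hm⟩ : Fin N)]
    · simp
    · intro i _ hi
      rw [if_neg]
      intro h
      exact hi (Fin.ext h.symm)
    · simp
  · rw [Finset.sum_eq_zero]
    · exact Polynomial.coeff_eq_zero_of_degree_lt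
        (lt_of_lt_of_le hr (by exact_mod_cast (not_lt.mp hm)))
    · intro i _
      rw [if_neg]
      omega

lemma dvd_subst_sub (f : PowerSeries O) (hf : PowerSeries.HasSubst f) (c : PowerSeries O) (J : ℕ) :
    f ^ J ∣ PowerSeries.subst f c -
      ∑ j ∈ Finset.range J, PowerSeries.C (coeff j c) * f ^ j := by
  have h : (X : PowerSeries O) ^ J ∣
      c - ∑ j ∈ Finset.range J, PowerSeries.C (coeff j c) * X ^ j := by
    rw [X_pow_dvd_iff]
    intro m hm
    simp only [map_sub, map_sum, coeff_C_mul_X_pow]
    rw [Finset.sum_ite_eq, if_pos (Finset.mem_range.mpr hm), sub_self]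
  have := map_dvd (PowerSeries.substAlgHom (R := O) hf) h
  simp only [map_sub, map_pow, map_sum, map_mul, PowerSeries.substAlgHom_X,
    PowerSeries.coe_substAlgHom hf] at this
  simp only [PowerSeries.subst_C, ← PowerSeries.coe_substAlgHom hf, map_sub, map_pow, map_sum,
    map_mul, PowerSeries.substAlgHom_X] at this ⊢
  exact this

variable [IsLocalRing O]

theorem coeff_notMem_of_span (f : PowerSeries O) (hf : constantCoeff f = 0) (n : ℕ)
    (b : Fin n → PowerSeries O)
    (h : ∀ g : PowerSeries O, ∃ c : Fin n → PowerSeries O,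
      g = ∑ i, PowerSeries.subst f (c i) * b i) :
    ∃ j, coeff j f ∉ IsLocalRing.maximalIdeal O := by
  by_contra hj
  push_neg at hj
  have hsub : PowerSeries.HasSubst f := PowerSeries.HasSubst.of_constantCoeff_zero' hf
  let π : PowerSeries O →+* PowerSeries (IsLocalRing.ResidueField O) :=
    PowerSeries.map (IsLocalRing.residue O)
  have hπf : π f = 0 := by
    ext j
    show coeff j (PowerSeries.map (IsLocalRing.residue O) f) = coeff j 0
    rw [coeff_map, map_zero]
    exact Ideal.Quotient.eq_zero_iff_mem.mpr (hj j)
  have hs : ∀ c : PowerSeries O,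
      π (PowerSeries.subst f c) = PowerSeries.C (IsLocalRing.residue O (constantCoeff c)) := by
    intro c
    obtain ⟨d, hd⟩ := dvd_subst_sub f hsub c 1
    have e : PowerSeries.subst f c = PowerSeries.C (constantCoeff c) + f * d := by
      rw [pow_one] at hd
      simp only [Finset.range_one, Finset.sum_singleton, pow_zero, mul_one,
        coeff_zero_eq_constantCoeff] at hd
      linear_combination hd
    rw [e, map_add, map_mul, hπf, zero_mul, add_zero]
    exact PowerSeries.map_C _ _
  have hspan : Submodule.span (IsLocalRing.ResidueField O) (Set.range (fun i => π (b i))) = ⊤ := by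
    rw [eq_top_iff]
    intro y _
    obtain ⟨g, rfl⟩ := PowerSeries.map_surjective (IsLocalRing.residue O)
      IsLocalRing.residue_surjective y
    obtain ⟨c, rfl⟩ := h g
    show π _ ∈ _
    rw [map_sum]
    refine Submodule.sum_mem _ fun i _ => ?_
    rw [map_mul, hs, ← PowerSeries.smul_eq_C_mul]
    exact Submodule.smul_mem _ _ (Submodule.subset_span ⟨i, rfl⟩)
  let φ : PowerSeries (IsLocalRing.ResidueField O) →ₗ[IsLocalRing.ResidueField O]
      (Fin (n + 1) → IsLocalRing.ResidueField O) :=
    LinearMap.pi fun j => PowerSeries.coeff (j : ℕ)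
  have hφ : Function.Surjective φ := by
    intro v
    refine ⟨PowerSeries.mk fun j => if hj : j < n + 1 then v ⟨j, hj⟩ else 0, ?_⟩
    ext j
    simp only [φ, LinearMap.pi_apply]
    rw [coeff_mk, dif_pos j.isLt]
  have h2 : Submodule.span (IsLocalRing.ResidueField O)
      (Set.range (fun i => φ (π (b i)))) = ⊤ := by
    rw [show (fun i => φ (π (b i))) = φ ∘ (fun i => π (b i)) from rfl, Set.range_comp,
      Submodule.span_image, hspan, Submodule.map_top, LinearMap.range_eq_top.mpr hφ]
  have h3 := finrank_range_le_card (R := IsLocalRing.ResidueField O) (fun i => φ (π (b i)))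
  unfold Set.finrank at h3
  rw [h2, finrank_top, Module.finrank_fin_fun, Fintype.card_fin] at h3
  omega

theorem existsUnique_subst_basis [IsAdicComplete (IsLocalRing.maximalIdeal O) O]
    (f : PowerSeries O) (hf : constantCoeff f = 0)
    (h : ∃ j, coeff j f ∉ IsLocalRing.maximalIdeal O) :
    ∃ (n : ℕ) (b : Fin n → PowerSeries O), ∀ g : PowerSeries O, ∃! c : Fin n → PowerSeries O,
      g = ∑ i, PowerSeries.subst f (c i) * b i := by
  have hsub : PowerSeries.HasSubst f := PowerSeries.HasSubst.of_constantCoeff_zero' hf
  have hg : f.map (IsLocalRing.residue O) ≠ 0 := by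
    obtain ⟨j, hj⟩ := h
    intro h0
    apply hj
    have := congrArg (coeff j) h0
    rw [coeff_map, map_zero] at this
    exact Ideal.Quotient.eq_zero_iff_mem.mp this
  set N := (f.map (Ideal.Quotient.mk (IsLocalRing.maximalIdeal O))).order.toNat with hN
  refine ⟨N, fun i => X ^ (i : ℕ), fun g => ?_⟩
  have hzero : ∀ (j : ℕ) (c : Fin N → PowerSeries O),
      ∑ i, PowerSeries.subst f (c i) * X ^ (i : ℕ) = 0 → ∀ i, coeff j (c i) = 0 := by
    intro j
    induction j using Nat.strong_induction_on with
    | _ j ih =>
      intro c hc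
      let c' : Fin N → PowerSeries O := fun i => PowerSeries.mk fun k => coeff (k + 1) (c i)
      have e1 : ∀ i, PowerSeries.subst f (c i) =
          f * PowerSeries.subst f (c' i) + PowerSeries.C (constantCoeff (c i)) := by
        intro i
        conv_lhs => rw [eq_X_mul_shift_add_const (c i)]
        rw [PowerSeries.subst_add hsub, PowerSeries.subst_mul hsub, PowerSeries.subst_X hsub]
        exact congrArg _ (PowerSeries.subst_C _)
      let r : Polynomial O :=
        ∑ i : Fin N, Polynomial.C (constantCoeff (c i)) * Polynomial.X ^ (i : ℕ)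
      have hdiv : (0 : PowerSeries O).IsWeierstrassDivision f
          (∑ i, PowerSeries.subst f (c' i) * X ^ (i : ℕ)) r := by
        refine ⟨Polynomial.degree_sum_fin_lt _, ?_⟩
        conv_lhs => rw [← hc]
        rw [Finset.mul_sum]
        have : (r : PowerSeries O) =
            ∑ i : Fin N, PowerSeries.C (constantCoeff (c i)) * X ^ (i : ℕ) := by
          simp only [r]
          rw [← Polynomial.coeToPowerSeries.ringHom_apply, map_sum]
          simp
        rw [this, ← Finset.sum_add_distrib]
        refine Finset.sum_congr rfl fun i _ => ?_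
        rw [e1 i]
        ring
      obtain ⟨hq, hr⟩ := IsWeierstrassDivision.eq_zero hg hdiv
      intro i
      cases j with
      | zero =>
        have := congrArg (fun t => Polynomial.coeff t (i : ℕ)) hr
        simp only [r, Polynomial.finsetSum_coeff, Polynomial.coeff_C_mul_X_pow,
          Polynomial.coeff_zero] at this
        rw [Finset.sum_eq_single i] at this
        · simpa using this
        · intro k _ hk
          rw [if_neg]
          exact fun hh => hk (Fin.ext hh.symm)
        · simp
      | succ j =>
        have := ih j (Nat.lt_succ_self j) c' hq i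
        simpa [c'] using this
  let q : ℕ → PowerSeries O := fun j => Nat.rec g (fun _ t => t /ʷ f) j
  let r : ℕ → Polynomial O := fun j => q j %ʷ f
  have hqr : ∀ j, q j = f * q (j + 1) + r j := fun j =>
    eq_mul_weierstrassDiv_add_weierstrassMod (q j) hg
  have hexp : ∀ J, g = ∑ j ∈ Finset.range J, f ^ j * (r j : PowerSeries O) + f ^ J * q J := by
    intro J
    induction J with
    | zero => simp [q]
    | succ J ih =>
      rw [Finset.sum_range_succ]
      conv_lhs => rw [ih, hqr J]
      ring
  have hdeg : ∀ j, (r j).degree < (N : ℕ) := fun j => degree_weierstrassMod_lt (q j) f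
  let c : Fin N → PowerSeries O := fun i => PowerSeries.mk fun j => (r j).coeff i
  have hX : X ∣ f := X_dvd_iff.mpr hf
  have hc : g = ∑ i, PowerSeries.subst f (c i) * X ^ (i : ℕ) := by
    ext m
    have hd : (X : PowerSeries O) ^ (m + 1) ∣
        g - ∑ i, PowerSeries.subst f (c i) * X ^ (i : ℕ) := by
      refine dvd_trans (pow_dvd_pow_of_dvd hX (m + 1)) ?_
      have e : g - ∑ i, PowerSeries.subst f (c i) * X ^ (i : ℕ) =
          f ^ (m + 1) * q (m + 1) - ∑ i : Fin N, (PowerSeries.subst f (c i) -
            ∑ j ∈ Finset.range (m + 1), PowerSeries.C (coeff j (c i)) * f ^ j) * X ^ (i : ℕ) := by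
        simp only [sub_mul, Finset.sum_sub_distrib]
        conv_lhs => rw [hexp (m + 1)]
        have e2 : ∑ j ∈ Finset.range (m + 1), f ^ j * (r j : PowerSeries O) =
            ∑ i : Fin N, (∑ j ∈ Finset.range (m + 1), PowerSeries.C (coeff j (c i)) * f ^ j) *
              X ^ (i : ℕ) := by
          simp only [Finset.sum_mul]
          rw [Finset.sum_comm]
          refine Finset.sum_congr rfl fun j _ => ?_
          rw [poly_eq_sum N (r j) (hdeg j), Finset.mul_sum]
          refine Finset.sum_congr rfl fun i _ => ?_
          simp only [c, coeff_mk]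
          ring
        rw [e2]
        ring
      rw [e]
      refine dvd_sub (dvd_mul_right _ _) (Finset.dvd_sum fun i _ => ?_)
      exact (dvd_subst_sub f hsub (c i) (m + 1)).mul_right _
    have := (X_pow_dvd_iff.mp hd) m (Nat.lt_succ_self m)
    rwa [map_sub, sub_eq_zero] at this
  refine ⟨c, hc, ?_⟩
  intro d hd
  funext i
  ext j
  have hz : ∑ i, PowerSeries.subst f (d i - c i) * X ^ (i : ℕ) = 0 := by
    simp only [PowerSeries.subst_sub hsub, sub_mul, Finset.sum_sub_distrib]
    rw [← hd, ← hc, sub_self]
  have := hzero j (fun i => d i - c i) hz i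
  rwa [map_sub, sub_eq_zero] at this

end Groth.Agent.SubstFree99
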