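import Groth.Prelude.Def_W4c5suslinpi1abAdj
import Mathlib.Tactic.CategoryTheory.Reassoc

/-!
# Naturality of projection morphisms and exterior products
-/

set_option autoImplicit false

universe v u

open CategoryTheory MonoidalCategory Functor.LaxMonoidal Functor.OplaxMonoidal W4c5suslinpi1ab

namespace Groth.Agent.Lib.SuslinAdj

variable {C : Type u} [Category.{v} C] [MonoidalCategory C]
variable {D : Type u} [Category.{v} D] [MonoidalCategory D]

section

variable {L : C ⥤ D} {R : D ⥤ C} (adj : L ⊣ R) [R.LaxMonoidal]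

@[reassoc]
theorem projR_natural {A A' : D} {B B' : C} (a : A ⟶ A') (b : B ⟶ B') :
    (R.map a ⊗ₘ b) ≫ projR adj A' B' = projR adj A B ≫ R.map (a ⊗ₘ L.map b) := by
  have h := adj.unit.naturality b
  simp only [Functor.id_obj, Functor.id_map, Functor.comp_obj, Functor.comp_map] at h
  simp only [projR, Category.assoc]
  rw [← μ_natural, ← id_tensorHom, ← id_tensorHom, tensorHom_comp_tensorHom_assoc, tensorHom_comp_tensorHom_assoc,
    Category.comp_id, Category.id_comp, h]

@[reassoc]
theorem projL_natural {A A' : C} {B B' : D} (a : A ⟶ A') (b : B ⟶ B') :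
    (a ⊗ₘ R.map b) ≫ projL adj A' B' = projL adj A B ≫ R.map (L.map a ⊗ₘ b) := by
  have h := adj.unit.naturality a
  simp only [Functor.id_obj, Functor.id_map, Functor.comp_obj, Functor.comp_map] at h
  simp only [projL, Category.assoc]
  rw [← μ_natural, ← tensorHom_id, ← tensorHom_id, tensorHom_comp_tensorHom_assoc, tensorHom_comp_tensorHom_assoc,
    Category.comp_id, Category.id_comp, h]

variable [L.OplaxMonoidal] [adj.IsMonoidal]

theorem map_projR_counit (A : D) (B : C) :
    L.map (projR adj A B) ≫ adj.counit.app (A ⊗ L.obj B) =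
      δ L (R.obj A) B ≫ (adj.counit.app A ▷ L.obj B) := by
  simp only [projR, Functor.map_comp, Category.assoc]
  rw [adj.map_μ_comp_counit_app_tensor, ← id_tensorHom]
  erw [← δ_natural_assoc, tensorHom_comp_tensorHom]
  rw [CategoryTheory.Functor.map_id, Category.id_comp, Adjunction.left_triangle_components, ← tensorHom_id]

theorem map_projL_counit (A : C) (B : D) :
    L.map (projL adj A B) ≫ adj.counit.app (L.obj A ⊗ B) =
      δ L A (R.obj B) ≫ (L.obj A ◁ adj.counit.app B) := by
  simp only [projL, Functor.map_comp, Category.assoc]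
  rw [adj.map_μ_comp_counit_app_tensor, ← tensorHom_id]
  erw [← δ_natural_assoc, tensorHom_comp_tensorHom]
  rw [CategoryTheory.Functor.map_id, Category.id_comp]
  erw [adj.left_triangle_components]
  rw [← id_tensorHom]
  rfl

end

section cup

variable {L : C ⥤ D} {R : D ⥤ C} {S : C ⥤ D} (adj : L ⊣ R) (adj' : R ⊣ S) [R.LaxMonoidal]
  [∀ (A : D) (B : C), IsIso (projR adj A B)]

theorem cup_counit (A B : C) :
    R.map (cupShriek adj adj' A B) ≫ adj'.counit.app (A ⊗ B) =
      inv (projR adj (S.obj A) B) ≫ (adj'.counit.app A ▷ B) := by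
  exact (adj'.homEquiv_counit _ _ _).symm.trans ((adj'.homEquiv _ _).symm_apply_apply _)

theorem cup_natural (A : C) {B B' : C} (φ : B' ⟶ B) :
    cupShriek adj adj' A B' ≫ S.map (A ◁ φ) = (S.obj A ◁ L.map φ) ≫ cupShriek adj adj' A B := by
  apply (adj'.homEquiv _ _).symm.injective
  rw [adj'.homEquiv_naturality_right_symm, adj'.homEquiv_naturality_left_symm]
  simp only [cupShriek, Equiv.symm_apply_apply, Category.assoc]
  rw [IsIso.inv_comp_eq, ← Category.assoc (projR adj _ _)]
  have h := projR_natural adj (𝟙 (S.obj A)) φ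
  simp only [CategoryTheory.Functor.map_id, id_tensorHom] at h
  rw [← h, Category.assoc, IsIso.hom_inv_id_assoc, whisker_exchange]
  rfl

end cup

section Square

variable {S₀ : Type u} [Category.{v} S₀] [MonoidalCategory S₀]
variable {Y₁ : Type u} [Category.{v} Y₁] [MonoidalCategory Y₁]
variable {Y₂ : Type u} [Category.{v} Y₂] [MonoidalCategory Y₂]
variable {X : Type u} [Category.{v} X] [MonoidalCategory X]
variable {fL : S₀ ⥤ Y₁} {fR : Y₁ ⥤ S₀} {gR : Y₂ ⥤ S₀}
variable {pL : Y₁ ⥤ X} {pR : X ⥤ Y₁} {qL : Y₂ ⥤ X} {qR : X ⥤ Y₂}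
variable (adjf : fL ⊣ fR) (adjp : pL ⊣ pR) (adjq : qL ⊣ qR) [fR.LaxMonoidal] [pR.LaxMonoidal]
  (ν : qR ⋙ gR ⟶ pR ⋙ fR)

theorem extProd_natural {A A' : Y₁} {B B' : Y₂} (a : A ⟶ A') (b : B ⟶ B') :
    (fR.map a ⊗ₘ gR.map b) ≫ extProd adjf adjp adjq ν A' B' =
      extProd adjf adjp adjq ν A B ≫ fR.map (pR.map (pL.map a ⊗ₘ qL.map b)) := by
  have hb := (bcMor adjf adjq ν).naturality b
  simp only [Functor.comp_obj, Functor.comp_map] at hb
  simp only [extProd, projR_natural_assoc, Category.assoc, ← fR.map_comp]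
  congr 2
  rw [← projL_natural, ← id_tensorHom, ← id_tensorHom, tensorHom_comp_tensorHom_assoc,
    tensorHom_comp_tensorHom_assoc, Category.id_comp, Category.comp_id, hb]

variable {fS : S₀ ⥤ Y₁} (adjf' : fR ⊣ fS) {gS : S₀ ⥤ Y₂} (adjg' : gR ⊣ gS)
  {pS : Y₁ ⥤ X} (adjp' : pR ⊣ pS)
  [∀ (A : Y₁) (B : S₀), IsIso (projR adjf A B)] [∀ (A : Y₁) (B : X), IsIso (projL adjp A B)]
  [∀ B : Y₂, IsIso ((bcMor adjf adjq ν).app B)]

theorem isIso_extProd (A : Y₁) (B : Y₂) : IsIso (extProd adjf adjp adjq ν A B) := by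
  unfold extProd
  infer_instance

theorem prodShriek_counit (A B : S₀) :
    pR.map (prodShriek adjf adjf' adjg' adjp adjp' adjq ν A B) ≫ adjp'.counit.app (fS.obj (A ⊗ B)) =
      inv (projL adjp (fS.obj A) (qL.obj (gS.obj B))) ≫
        (fS.obj A ◁ inv ((bcMor adjf adjq ν).app (gS.obj B))) ≫
        cupShriek adjf adjf' A (gR.obj (gS.obj B)) ≫ fS.map (A ◁ adjg'.counit.app B) := by
  exact (adjp'.homEquiv_counit _ _ _).symm.trans ((adjp'.homEquiv _ _).symm_apply_apply _)

theorem extProd_comp_prodShriek_counit (A B : S₀) :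
    extProd adjf adjp adjq ν (fS.obj A) (gS.obj B) ≫
      fR.map (pR.map (prodShriek adjf adjf' adjg' adjp adjp' adjq ν A B)) ≫
        fR.map (adjp'.counit.app (fS.obj (A ⊗ B))) =
      projR adjf (fS.obj A) (gR.obj (gS.obj B)) ≫
        fR.map (cupShriek adjf adjf' A (gR.obj (gS.obj B))) ≫ fR.map (fS.map (A ◁ adjg'.counit.app B)) := by
  simp only [extProd, Category.assoc, ← fR.map_comp]
  congr 2
  rw [prodShriek_counit, IsIso.hom_inv_id_assoc, ← whiskerLeft_comp_assoc, IsIso.hom_inv_id,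
    whiskerLeft_id, Category.id_comp]

theorem extProd_comp_symm_prodShriek (A B : S₀) :
    extProd adjf adjp adjq ν (fS.obj A) (gS.obj B) ≫
      ((adjp'.comp adjf').homEquiv _ _).symm (prodShriek adjf adjf' adjg' adjp adjp' adjq ν A B) =
      (adjf'.counit.app A ⊗ₘ adjg'.counit.app B) := by
  have hc := adjf'.counit.naturality (A ◁ adjg'.counit.app B)
  simp only [Functor.id_obj, Functor.id_map, Functor.comp_obj, Functor.comp_map] at hc
  rw [Adjunction.homEquiv_counit]
  simp only [Functor.comp_map, Adjunction.comp_counit_app]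
  rw [reassoc_of% extProd_comp_prodShriek_counit adjf adjp adjq ν adjf' adjg' adjp' A B, hc,
    reassoc_of% cup_counit adjf adjf' A (gR.obj (gS.obj B)), IsIso.hom_inv_id_assoc, tensorHom_def]
  rfl

end Square

end Groth.Agent.Lib.SuslinAdj
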