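import Mathlib

universe u v

open MvPolynomial

namespace Groth.Agent.Lib.SymTrace99

variable {R : Type u} [CommRing R] {r n : ℕ}

/-- The multidegree of a word. -/
noncomputable def cnt (w : Fin n → Fin r) : Fin r →₀ ℕ := ∑ i, Finsupp.single (w i) 1

lemma degree_cnt (w : Fin n → Fin r) : (cnt w).degree = n := by
  simp [cnt, map_sum]

noncomputable def idx (r n : ℕ) : Finset (Fin r →₀ ℕ) :=
  haveI := Classical.decEq (Fin r →₀ ℕ)
  Finset.univ.image (cnt (r := r) (n := n))

lemma exists_word : ∀ (n : ℕ) (α : Fin r →₀ ℕ), α.degree = n → ∃ w : Fin n → Fin r, cnt w = α := by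
  classical
  intro n
  induction n with
  | zero =>
    intro α hα
    exact ⟨Fin.elim0, by rw [(Finsupp.degree_eq_zero_iff α).1 hα]; simp [cnt]⟩
  | succ n ih =>
    intro α hα
    have hne : α ≠ 0 := by
      rintro rfl
      simp at hα
    obtain ⟨a, ha⟩ := Finsupp.support_nonempty_iff.2 hne
    rw [Finsupp.mem_support_iff] at ha
    have hsplit : α = Finsupp.single a 1 + (α - Finsupp.single a 1) := by
      ext b
      by_cases hb : a = b
      · subst hb; simp; omega
      · simp [Finsupp.single_eq_of_ne (Ne.symm hb)]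
    have hd : (α - Finsupp.single a 1).degree = n := by
      have := congrArg Finsupp.degree hsplit
      rw [map_add, Finsupp.degree_single, hα] at this
      omega
    obtain ⟨w, hw⟩ := ih _ hd
    refine ⟨Fin.cons a w, ?_⟩
    simp only [cnt] at hw
    rw [cnt, Fin.sum_univ_succ]
    simp only [Fin.cons_zero, Fin.cons_succ]
    rw [hw, ← hsplit]

lemma mem_idx {α : Fin r →₀ ℕ} : α ∈ idx r n ↔ α.degree = n := by
  classical
  simp only [idx, Finset.mem_image, Finset.mem_univ, true_and]
  exact ⟨fun ⟨w, hw⟩ => hw ▸ degree_cnt w, exists_word n α⟩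

lemma cnt_mem (w : Fin n → Fin r) : cnt w ∈ idx r n := mem_idx.2 (degree_cnt w)

lemma cnt_apply (w : Fin n → Fin r) (a : Fin r) : cnt w a = Fintype.card {i // w i = a} := by
  classical
  rw [Fintype.card_subtype, Finset.card_filter, cnt, Finsupp.finsetSum_apply]
  simp [Finsupp.single_apply]

lemma exists_perm (w w' : Fin n → Fin r) (h : cnt w = cnt w') :
    ∃ σ : Equiv.Perm (Fin n), ∀ i, w (σ i) = w' i := by
  classical
  refine ⟨Equiv.ofFiberEquiv (fun a => Fintype.equivOfCardEq (α := {i // w' i = a}) (β := {i // w i = a}) ?_),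
    fun i => Equiv.ofFiberEquiv_map _ i⟩
  rw [← cnt_apply, ← cnt_apply, h]

lemma cnt_comp_perm (w : Fin n → Fin r) (σ : Equiv.Perm (Fin n)) : cnt (w ∘ σ) = cnt w :=
  Equiv.sum_comp σ fun i => Finsupp.single (w i) 1

/-- The linear form attached to a row. -/
noncomputable def lin (U : Matrix (Fin r) (Fin r) R) (a : Fin r) : MvPolynomial (Fin r) R :=
  ∑ b, C (U a b) * X b

/-- The substitution attached to a matrix. -/
noncomputable def subst (U : Matrix (Fin r) (Fin r) R) :
    MvPolynomial (Fin r) R →ₐ[R] MvPolynomial (Fin r) R :=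
  aeval (lin U)

lemma subst_mul (U V : Matrix (Fin r) (Fin r) R) (p : MvPolynomial (Fin r) R) :
    subst (U * V) p = subst V (subst U p) := by
  have : subst (U * V) = (subst V).comp (subst U) := by
    apply MvPolynomial.algHom_ext
    intro a
    simp only [subst, AlgHom.comp_apply, aeval_X, lin, map_sum, map_mul, aeval_C,
      MvPolynomial.algebraMap_eq, Matrix.mul_apply, Finset.sum_mul, Finset.mul_sum]
    rw [Finset.sum_comm]
    exact Finset.sum_congr rfl fun b _ => Finset.sum_congr rfl fun c _ => by ring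
  rw [this]; rfl

lemma monomial_cnt (w : Fin n → Fin r) :
    monomial (cnt w) (1 : R) = ∏ i, X (w i) := by
  rw [cnt, MvPolynomial.monomial_sum_one]
  rfl

lemma subst_monomial_cnt (U : Matrix (Fin r) (Fin r) R) (w₀ : Fin n → Fin r) :
    subst U (monomial (cnt w₀) 1) = ∑ w : Fin n → Fin r, monomial (cnt w) (∏ i, U (w₀ i) (w i)) := by
  rw [monomial_cnt, map_prod]
  simp only [subst, aeval_X, lin]
  rw [Fintype.prod_sum]
  refine Finset.sum_congr rfl fun w _ => ?_
  rw [Finset.prod_mul_distrib, ← map_prod, ← monomial_cnt, C_mul_monomial, mul_one]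

/-- The trace of the substitution on forms of degree `n`. -/
noncomputable def T (U : Matrix (Fin r) (Fin r) R) (n : ℕ) : R :=
  ∑ α ∈ idx r n, coeff α (subst U (monomial α 1))

lemma coeff_subst_eq_zero (U : Matrix (Fin r) (Fin r) R) {α β : Fin r →₀ ℕ} (hα : α ∈ idx r n)
    (hβ : β ∉ idx r n) : coeff β (subst U (monomial α 1)) = 0 := by
  classical
  obtain ⟨w, rfl⟩ := exists_word n α (mem_idx.1 hα)
  rw [subst_monomial_cnt, coeff_sum]
  refine Finset.sum_eq_zero fun w' _ => ?_
  rw [coeff_monomial, if_neg]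
  exact fun h => hβ (h ▸ cnt_mem w')

lemma T_mul (U V : Matrix (Fin r) (Fin r) R) (n : ℕ) :
    T (U * V) n = ∑ α ∈ idx r n, ∑ β ∈ idx r n,
      coeff β (subst U (monomial α 1)) * coeff α (subst V (monomial β 1)) := by
  classical
  refine Finset.sum_congr rfl fun α hα => ?_
  rw [subst_mul]
  generalize hp : subst U (monomial α 1) = p
  have hsupp : p.support ⊆ idx r n := fun β hβ => by
    by_contra h
    exact mem_support_iff.1 hβ (hp ▸ coeff_subst_eq_zero U hα h)
  conv_lhs => rw [as_sum p, map_sum, coeff_sum]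
  rw [Finset.sum_subset hsupp fun β _ hβ => by
    rw [notMem_support_iff.1 hβ, map_zero, map_zero, coeff_zero]]
  refine Finset.sum_congr rfl fun β _ => ?_
  rw [← mul_one (coeff β p), ← C_mul_monomial, map_mul, MvPolynomial.algHom_C, mul_one]
  simp [coeff_C_mul]

lemma T_mul_comm (U V : Matrix (Fin r) (Fin r) R) (n : ℕ) : T (U * V) n = T (V * U) n := by
  rw [T_mul, T_mul, Finset.sum_comm]
  exact Finset.sum_congr rfl fun β _ => Finset.sum_congr rfl fun α _ => mul_comm _ _

lemma map_T {S : Type v} [CommRing S] (φ : R →+* S) (U : Matrix (Fin r) (Fin r) R) (n : ℕ) :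
    φ (T U n) = T (U.map φ) n := by
  classical
  rw [T, T, map_sum]
  refine Finset.sum_congr rfl fun α hα => ?_
  obtain ⟨w, rfl⟩ := exists_word n α (mem_idx.1 hα)
  rw [subst_monomial_cnt, subst_monomial_cnt, coeff_sum, coeff_sum, map_sum]
  refine Finset.sum_congr rfl fun w' _ => ?_
  simp only [coeff_monomial]
  split_ifs <;> simp [map_prod]

/-- The generating series. -/
noncomputable def P (U : Matrix (Fin r) (Fin r) R) : PowerSeries R := PowerSeries.mk (T U)

/-- MacMahon's identity for a matrix. -/
def Good (U : Matrix (Fin r) (Fin r) R) : Prop :=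
  ((Matrix.charpolyRev U : Polynomial R) : PowerSeries R) * P U = 1

lemma charpolyRev_map {S : Type v} [CommRing S] (φ : R →+* S) (U : Matrix (Fin r) (Fin r) R) :
    Matrix.charpolyRev (U.map φ) = (Matrix.charpolyRev U).map φ := by
  rw [Matrix.charpolyRev, Matrix.charpolyRev, ← Polynomial.coe_mapRingHom, RingHom.map_det]
  congr 1
  ext i j
  by_cases h : i = j <;> simp [h]

lemma map_P {S : Type v} [CommRing S] (φ : R →+* S) (U : Matrix (Fin r) (Fin r) R) :
    PowerSeries.map φ (P U) = P (U.map φ) := by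
  ext n
  simp [P, map_T]

lemma Good.map {S : Type v} [CommRing S] (φ : R →+* S) {U : Matrix (Fin r) (Fin r) R} (h : Good U) :
    Good (U.map φ) := by
  have := congrArg (PowerSeries.map φ) h
  rw [map_mul, map_one, map_P, ← Polynomial.polynomial_map_coe, ← charpolyRev_map] at this
  exact this

lemma Good.of_injective {S : Type v} [CommRing S] (φ : R →+* S) (hφ : Function.Injective φ)
    {U : Matrix (Fin r) (Fin r) R} (h : Good (U.map φ)) : Good U := by
  refine PowerSeries.map_injective φ hφ ?_
  rw [map_mul, map_one, map_P, ← Polynomial.polynomial_map_coe, ← charpolyRev_map]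
  exact h

lemma good_conj {U g g' : Matrix (Fin r) (Fin r) R} (hg : g * g' = 1) (h : Good (g' * U * g)) :
    Good U := by
  have hg' : g' * g = 1 := mul_eq_one_comm.1 hg
  have hP : P (g' * U * g) = P U := by
    ext n
    simp only [P, PowerSeries.coeff_mk]
    rw [T_mul_comm, ← mul_assoc, hg, one_mul]
  have hQ : Matrix.charpolyRev (g' * U * g) = Matrix.charpolyRev U := by
    have e : (1 : Matrix (Fin r) (Fin r) (Polynomial R)) -
        (Polynomial.X : Polynomial R) • (g' * U * g).map Polynomial.C =
        g'.map Polynomial.C * (1 - (Polynomial.X : Polynomial R) • U.map Polynomial.C) *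
          g.map Polynomial.C := by
      have h1 : g'.map Polynomial.C * g.map Polynomial.C = 1 := by
        rw [← Matrix.map_mul, hg', Matrix.map_one _ (map_zero _) (map_one _)]
      rw [Matrix.map_mul, Matrix.map_mul, mul_sub, sub_mul, mul_one, h1,
        Matrix.mul_smul, Matrix.smul_mul]
    rw [Matrix.charpolyRev, Matrix.charpolyRev, e, Matrix.det_mul, Matrix.det_mul, mul_right_comm,
      ← Matrix.det_mul, ← Matrix.map_mul, hg', Matrix.map_one _ (map_zero _) (map_one _),
      Matrix.det_one, one_mul]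
  unfold Good at h ⊢
  rwa [hP, hQ] at h

/-- Splitting off an eigenvalue. -/
lemma good_block (U : Matrix (Fin (r + 1)) (Fin (r + 1)) R) (hU : ∀ i, i ≠ 0 → U i 0 = 0)
    (h : Good (U.submatrix Fin.succ Fin.succ)) : Good U := by
  classical
  set lam := U 0 0 with hlam
  set U' := U.submatrix Fin.succ Fin.succ with hU'
  have hdet : Matrix.charpolyRev U = (1 - Polynomial.X * Polynomial.C lam) * Matrix.charpolyRev U' := by
    rw [Matrix.charpolyRev, Matrix.charpolyRev, Matrix.det_succ_column_zero]
    rw [Finset.sum_eq_single (0 : Fin (r + 1))]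
    · congr 1
      · simp [hlam]
      · congr 1
        ext i j
        by_cases hij : i = j <;> simp [hU', hij, Matrix.one_apply]
    · intro i _ hi
      simp [hU i hi, hi]
    · simp
  have hlin : ∀ a : Fin r, finSuccEquiv R r (lin U a.succ) = Polynomial.C (lin U' a) := fun a => by
    rw [lin, Fin.sum_univ_succ, hU _ (Fin.succ_ne_zero a), map_zero, zero_mul, zero_add, map_sum,
      lin, map_sum]
    refine Finset.sum_congr rfl fun b _ => ?_
    rw [map_mul, finSuccEquiv_X_succ, finSuccEquiv_apply, eval₂Hom_C, map_mul]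
    simp [hU']
  have hlin0 : finSuccEquiv R r (lin U 0) =
      Polynomial.C (C lam) * Polynomial.X + Polynomial.C (∑ b, C (U 0 b.succ) * X b) := by
    rw [lin, Fin.sum_univ_succ, map_add, map_mul, finSuccEquiv_X_zero, map_sum, map_sum]
    congr 1
    · rw [finSuccEquiv_apply, eval₂Hom_C]
      simp [hlam]
    · refine Finset.sum_congr rfl fun b _ => ?_
      rw [map_mul, finSuccEquiv_X_succ, finSuccEquiv_apply, eval₂Hom_C, map_mul]
      simp
  have hkey : ∀ (i : ℕ) (β : Fin r →₀ ℕ),
      coeff (Finsupp.cons i β) (subst U (monomial (Finsupp.cons i β) 1)) =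
        lam ^ i * coeff β (subst U' (monomial β 1)) := by
    intro i β
    rw [← finSuccEquiv_coeff_coeff, subst, subst, aeval_monomial, aeval_monomial, map_one, one_mul, map_one, one_mul,
      Finsupp.prod_fintype _ _ (fun _ => pow_zero _), Finsupp.prod_fintype _ _ (fun _ => pow_zero _),
      Fin.prod_univ_succ, map_mul, map_pow, map_prod, hlin0]
    simp only [Finsupp.cons_zero, Finsupp.cons_succ, map_pow, hlin]
    simp only [← map_pow, ← map_prod]
    rw [Polynomial.coeff_mul_C]
    have h2 := Polynomial.coeff_pow_of_natDegree_le (m := i)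
      (Polynomial.natDegree_linear_le (a := (C lam : MvPolynomial (Fin r) R))
        (b := ∑ b, C (U 0 b.succ) * X b))
    rw [mul_one] at h2
    rw [h2]
    rw [Polynomial.coeff_add, Polynomial.coeff_C_mul, Polynomial.coeff_X_one, mul_one,
      Polynomial.coeff_C, if_neg one_ne_zero, add_zero, ← map_pow, coeff_C_mul]
  have hT : ∀ n, T U n = ∑ ij ∈ (Finset.HasAntidiagonal.antidiagonal n : Finset (ℕ × ℕ)), lam ^ ij.1 * T U' ij.2 := by
    intro n
    simp only [T, Finset.mul_sum]
    rw [Finset.sum_sigma']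
    have hdeg : ∀ (i : ℕ) (β : Fin r →₀ ℕ), (Finsupp.cons i β).degree = i + β.degree := fun i β => by
      rw [Finsupp.degree_eq_sum, Finsupp.degree_eq_sum, Fin.sum_univ_succ]
      simp
    refine Finset.sum_nbij' (fun α => ⟨(α 0, (Finsupp.tail α).degree), Finsupp.tail α⟩)
      (fun p => Finsupp.cons p.1.1 p.2) ?_ ?_ ?_ ?_ ?_
    · intro α hα
      simp only [Finset.mem_sigma, Finset.HasAntidiagonal.mem_antidiagonal, mem_idx, and_true]
      rw [← hdeg, Finsupp.cons_tail]
      exact mem_idx.1 hα
    · rintro ⟨⟨i, j⟩, β⟩ hp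
      simp only [Finset.mem_sigma, Finset.HasAntidiagonal.mem_antidiagonal, mem_idx] at hp
      exact mem_idx.2 (by rw [hdeg, hp.2, hp.1])
    · intro α _
      simp [Finsupp.cons_tail]
    · rintro ⟨⟨i, j⟩, β⟩ hp
      simp only [Finset.mem_sigma, Finset.HasAntidiagonal.mem_antidiagonal, mem_idx] at hp
      simp [Finsupp.tail_cons, hp.2]
    · intro α _
      have := hkey (α 0) (Finsupp.tail α)
      rw [Finsupp.cons_tail] at this
      exact this
  have hgeo : ((1 - Polynomial.X * Polynomial.C lam : Polynomial R) : PowerSeries R) *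
      PowerSeries.mk (fun n => lam ^ n) = 1 := by
    rw [Polynomial.coe_sub, Polynomial.coe_one, Polynomial.coe_mul, Polynomial.coe_X, Polynomial.coe_C]
    ext m
    cases m with
    | zero => simp
    | succ m =>
      rw [sub_mul, one_mul, map_sub, mul_assoc, PowerSeries.coeff_succ_X_mul, PowerSeries.coeff_C_mul,
        PowerSeries.coeff_mk, PowerSeries.coeff_mk, PowerSeries.coeff_one, if_neg (Nat.succ_ne_zero m),
        pow_succ']
      exact sub_self _
  have hP : P U = PowerSeries.mk (fun n => lam ^ n) * P U' := by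
    ext m
    simp [P, PowerSeries.coeff_mul, hT]
  unfold Good at h ⊢
  rw [hdet, Polynomial.coe_mul, hP, mul_mul_mul_comm, hgeo, one_mul, h]

lemma good_zero (U : Matrix (Fin 0) (Fin 0) R) : Good U := by
  classical
  have : P U = 1 := by
    ext n
    rw [P, PowerSeries.coeff_mk, PowerSeries.coeff_one, T]
    split_ifs with h
    · subst h
      have : idx 0 0 = {0} := by
        ext α
        simp [mem_idx, Finsupp.degree_eq_zero_iff]
      rw [this, Finset.sum_singleton, monomial_zero', MvPolynomial.algHom_C]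
      simp
    · refine Finset.sum_eq_zero fun α hα => ?_
      rw [mem_idx, Subsingleton.elim α 0, map_zero] at hα
      exact absurd hα.symm h
  unfold Good
  rw [this, Matrix.charpolyRev, Matrix.det_isEmpty]
  simp

theorem good_algClosed {K : Type u} [Field K] [IsAlgClosed K] :
    ∀ {r : ℕ} (U : Matrix (Fin r) (Fin r) K), Good U := by
  intro r
  induction r with
  | zero => exact good_zero
  | succ r ih =>
    intro U
    classical
    obtain ⟨μ, hμ⟩ := Module.End.exists_eigenvalue (Matrix.toLin' U)
    obtain ⟨v, hv⟩ := hμ.exists_hasEigenvector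
    obtain ⟨j, hj⟩ : ∃ j, v j ≠ 0 := Function.ne_iff.1 hv.2
    let g : Matrix (Fin (r + 1)) (Fin (r + 1)) K :=
      (Matrix.updateCol 1 j v).submatrix id (Equiv.swap 0 j)
    have hdet : IsUnit g.det := by
      rw [Matrix.det_permute', ← Matrix.cramer_apply, Matrix.cramer_one]
      exact (((Equiv.Perm.sign (Equiv.swap 0 j)).isUnit.map (Int.castRingHom K)).mul (Ne.isUnit hj))
    have hcol : g.col 0 = v := by
      funext i
      simp [g, Matrix.col_apply]
    refine good_conj (g := g) (g' := g⁻¹) (Matrix.mul_nonsing_inv g hdet) (good_block _ ?_ (ih _))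
    intro i hi
    have hUv : U.mulVec v = μ • v := by simpa using hv.apply_eq_smul
    have he : g.mulVec (Pi.single 0 1) = v := by rw [Matrix.mulVec_single_one, hcol]
    have h1 : (g⁻¹ * U * g).mulVec (Pi.single 0 1) = μ • Pi.single 0 1 := by
      rw [← Matrix.mulVec_mulVec, he, ← Matrix.mulVec_mulVec, hUv, Matrix.mulVec_smul, ← he,
        Matrix.mulVec_mulVec, Matrix.nonsing_inv_mul g hdet, Matrix.one_mulVec]
    rw [Matrix.mulVec_single_one] at h1
    have := congrFun h1 i
    simpa [Matrix.col_apply, hi] using this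

theorem good (U : Matrix (Fin r) (Fin r) R) : Good U := by
  let Z := MvPolynomial (Fin r × Fin r) ℤ
  let U₀ : Matrix (Fin r) (Fin r) Z := fun i j => X (i, j)
  let φ : Z →+* R := eval₂Hom (Int.castRingHom R) fun p => U p.1 p.2
  have hφ : U₀.map φ = U := by
    ext i j
    simp [U₀, φ, Z]
  rw [← hφ]
  refine Good.map φ (Good.of_injective ((algebraMap (FractionRing Z) (AlgebraicClosure (FractionRing Z))).comp
    (algebraMap Z (FractionRing Z))) ?_ (good_algClosed _))
  rw [RingHom.coe_comp]
  exact (algebraMap (FractionRing Z) (AlgebraicClosure (FractionRing Z))).injective.comp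
    (IsFractionRing.injective Z (FractionRing Z))

section Tensor

open TensorProduct PiTensorProduct

variable {M : Type v} [AddCommGroup M] [Module R M]

theorem trace_sym (b : Module.Basis (Fin r) R M) (u : M →ₗ[R] M)
    (γ : ↥(⨅ σ : Equiv.Perm (Fin n),
        LinearMap.eqLocus ((PiTensorProduct.reindex R (fun _ : Fin n => M) σ).toLinearMap) LinearMap.id) →ₗ[R]
      ↥(⨅ σ : Equiv.Perm (Fin n),
        LinearMap.eqLocus ((PiTensorProduct.reindex R (fun _ : Fin n => M) σ).toLinearMap) LinearMap.id))
    (hγ : ∀ x : ↥(⨅ σ : Equiv.Perm (Fin n),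
        LinearMap.eqLocus ((PiTensorProduct.reindex R (fun _ : Fin n => M) σ).toLinearMap) LinearMap.id),
      (↑(γ x) : ⨂[R] _i : Fin n, M) = PiTensorProduct.map (fun _ : Fin n => u) (↑x : ⨂[R] _i : Fin n, M)) :
    LinearMap.trace R _ γ = T (LinearMap.toMatrix b b u) n := by
  classical
  let G : Submodule R (⨂[R] _i : Fin n, M) := ⨅ σ : Equiv.Perm (Fin n),
    LinearMap.eqLocus ((PiTensorProduct.reindex R (fun _ : Fin n => M) σ).toLinearMap) LinearMap.id
  let B := Basis.piTensorProduct (fun _ : Fin n => b)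
  have hre : ∀ (σ : Equiv.Perm (Fin n)) (z : ⨂[R] _i : Fin n, M) (w : Fin n → Fin r),
      B.repr (PiTensorProduct.reindex R (fun _ : Fin n => M) σ z) w = B.repr z (w ∘ σ) := by
    intro σ z w
    induction z using PiTensorProduct.induction_on with
    | smul_tprod c x =>
      simp only [map_smul, Finsupp.smul_apply, reindex_tprod, B, Basis.piTensorProduct_repr_tprod_apply]
      congr 1
      exact (Equiv.prod_comp σ _).symm.trans (Finset.prod_congr rfl fun i _ => by simp)
    | add x y hx hy => simp only [map_add, Finsupp.add_apply, hx, hy]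
  have hmem : ∀ z, z ∈ G ↔ ∀ (σ : Equiv.Perm (Fin n)) w, B.repr z (w ∘ σ) = B.repr z w := by
    intro z
    simp only [G, Submodule.mem_iInf, LinearMap.mem_eqLocus, LinearEquiv.coe_coe, LinearMap.id_apply]
    refine ⟨fun h σ w => by rw [← hre, h σ], fun h σ => B.repr.injective (Finsupp.ext fun w => ?_)⟩
    rw [hre, h σ w]
  choose w₀ hw₀ using fun a : ↥(idx r n) => exists_word n a.1 (mem_idx.1 a.2)
  let F : (↥(idx r n) → R) →ₗ[R] ⨂[R] _i : Fin n, M :=
    { toFun := fun f => ∑ w : Fin n → Fin r, f ⟨cnt w, cnt_mem w⟩ • B w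
      map_add' := fun f g => by simp [add_smul, Finset.sum_add_distrib]
      map_smul' := fun c f => by simp [mul_smul, Finset.smul_sum] }
  have hF : ∀ f w, B.repr (F f) w = f ⟨cnt w, cnt_mem w⟩ := fun f w => by
    exact congrFun (B.repr_sum_self fun w => f ⟨cnt w, cnt_mem w⟩) w
  let e : ↥G ≃ₗ[R] (↥(idx r n) → R) :=
    { toFun := fun z a => B.repr z.1 (w₀ a)
      map_add' := fun x y => by ext a; simp
      map_smul' := fun c x => by ext a; simp
      invFun := fun f => ⟨F f, (hmem _).2 fun σ w => by
        rw [hF, hF]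
        exact congrArg f (Subtype.ext (cnt_comp_perm w σ))⟩
      left_inv := fun z => by
        refine Subtype.ext (B.repr.injective (Finsupp.ext fun w => ?_))
        change B.repr (F fun a => B.repr z.1 (w₀ a)) w = _
        rw [hF]
        obtain ⟨σ, hσ⟩ := exists_perm w (w₀ ⟨cnt w, cnt_mem w⟩) (hw₀ ⟨cnt w, cnt_mem w⟩).symm
        rw [← (hmem z.1).1 z.2 σ w]
        exact congrArg _ (funext fun i => (hσ i).symm)
      right_inv := fun f => by
        funext a
        change B.repr (F f) (w₀ a) = _
        rw [hF]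
        exact congrArg f (Subtype.ext (hw₀ a)) }
  refine (LinearMap.trace_conj' γ e).symm.trans ?_
  rw [LinearMap.trace_eq_matrix_trace R (Pi.basisFun R _),
    Matrix.trace, T, ← Finset.sum_coe_sort (idx r n) (fun α => coeff α (subst (LinearMap.toMatrix b b u) (monomial α 1)))]
  refine Finset.sum_congr rfl fun a _ => ?_
  rw [Matrix.diag_apply, LinearMap.toMatrix_apply, Pi.basisFun_apply, Pi.basisFun_repr]
  change B.repr (γ (e.symm (Pi.single a 1))).1 (w₀ a) = _
  rw [hγ]
  change B.repr (PiTensorProduct.map (fun _ : Fin n => u) (F (Pi.single a 1))) (w₀ a) = _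
  conv_rhs => rw [← hw₀ a, subst_monomial_cnt, coeff_sum]
  simp only [F, LinearMap.coe_mk, AddHom.coe_mk, map_sum, map_smul, Finsupp.finsetSum_apply,
    Finsupp.smul_apply]
  refine Finset.sum_congr rfl fun w _ => ?_
  rw [coeff_monomial, hw₀ a, Pi.single_apply]
  by_cases hw : cnt w = a.1
  · rw [if_pos (Subtype.ext hw), if_pos hw, one_smul]
    simp [B, LinearMap.toMatrix_apply]
  · rw [if_neg (fun h => hw (congrArg Subtype.val h)), if_neg hw, zero_smul]

lemma det_oneSub (b : Module.Basis (Fin r) R M) (u : M →ₗ[R] M) :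
    LinearMap.det (LinearMap.id - (Polynomial.X : Polynomial R) • u.baseChange (Polynomial R)) =
      Matrix.charpolyRev (LinearMap.toMatrix b b u) := by
  refine (LinearMap.det_toMatrix (Algebra.TensorProduct.basis (Polynomial R) b) _).symm.trans ?_
  rw [Matrix.charpolyRev]
  congr 1
  ext i j
  simp only [LinearMap.toMatrix_apply, LinearMap.sub_apply, LinearMap.id_apply, LinearMap.smul_apply,
    Algebra.TensorProduct.basis_apply, LinearMap.baseChange_tmul, Matrix.sub_apply, Matrix.smul_apply,
    Matrix.map_apply, smul_eq_mul]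
  by_cases hij : i = j <;>
    simp [hij, Algebra.TensorProduct.basis_repr_tmul, Matrix.one_apply, Finsupp.single_apply, eq_comm]

end Tensor

end Groth.Agent.Lib.SymTrace99
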