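import Mathlib

set_option autoImplicit false
open CategoryTheory
universe w v₁ u₁

namespace Groth.Agent.Lib.TwoStepTopology

variable {C : Type u₁} [Category.{v₁} C] (C' : C → Prop) (P P' : Precoverage C)

/-- Sieves containing a composite family. -/
def Good {X : C} (S : Sieve X) : Prop :=
  ∃ (R : Presieve X) (_ : R ∈ P X) (_ : ∀ ⦃Y : C⦄ ⦃f : Y ⟶ X⦄, R f → C' Y)
    (R' : ∀ ⦃Y : C⦄ ⦃f : Y ⟶ X⦄, R f → Presieve Y),
    (∀ ⦃Y : C⦄ ⦃f : Y ⟶ X⦄ (hf : R f), R' hf ∈ P' Y) ∧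
    ∀ ⦃Y : C⦄ ⦃f : Y ⟶ X⦄ (hf : R f) ⦃Z : C⦄ ⦃g : Z ⟶ Y⦄, R' hf g → S (g ≫ f)

variable {C' P P'}

theorem exists_comp [P.IsStableUnderComposition] {X : C} {R : Presieve X} (hR : R ∈ P X)
    (Q : ∀ ⦃Y : C⦄ ⦃f : Y ⟶ X⦄, R f → Presieve Y) (hQ : ∀ ⦃Y : C⦄ ⦃f : Y ⟶ X⦄ (hf : R f), Q hf ∈ P Y) :
    ∃ T ∈ P X, ∀ ⦃Z : C⦄ ⦃h : Z ⟶ X⦄, T h →
      ∃ (Y : C) (f : Y ⟶ X) (hf : R f) (g : Z ⟶ Y), Q hf g ∧ g ≫ f = h := by
  have hR' : Presieve.ofArrows (fun i : R.uncurry => i.1.1) (fun i => i.1.2) = R := by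
    refine le_antisymm (fun Z g ⟨i⟩ => i.2) fun Z g hg => ?_
    exact Presieve.ofArrows.mk (⟨⟨Z, g⟩, hg⟩ : R.uncurry)
  have hQ' : ∀ i : R.uncurry, Presieve.ofArrows (fun j : (Q i.2).uncurry => j.1.1) (fun j => j.1.2) = Q i.2 := by
    intro i
    refine le_antisymm (fun Z g ⟨j⟩ => j.2) fun Z g hg => ?_
    exact Presieve.ofArrows.mk (⟨⟨Z, g⟩, hg⟩ : (Q i.2).uncurry)
  refine ⟨_, P.comp_mem_coverings (fun i : R.uncurry => i.1.2) (hR'.symm ▸ hR)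
    (fun i (j : (Q i.2).uncurry) => j.1.2) (fun i => (hQ' i).symm ▸ hQ i.2), ?_⟩
  rintro _ _ ⟨⟨i, j⟩⟩
  exact ⟨i.1.1, i.1.2, i.2, j.1.2, j.2, rfl⟩

section

variable [P.HasPullbacks] [P.IsStableUnderBaseChange] [P.IsStableUnderComposition]
  (hP'C : ∀ ⦃X : C⦄ ⦃R : Presieve X⦄, R ∈ P' X → C' X ∧ ∀ ⦃Y : C⦄ ⦃f : Y ⟶ X⦄, R f → C' Y)
  (hP'id : ∀ ⦃X : C⦄, C' X → Presieve.singleton (𝟙 X) ∈ P' X)
  (ha : ∀ ⦃X : C⦄ ⦃R : Presieve X⦄, R ∈ P' X → ∀ ⦃T : C⦄ (g : T ⟶ X), C' T →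
      ∃ _ : R.HasPullbacks g, Presieve.pullbackArrows g R ∈ P' T)
  (hb : ∀ X : C, ∃ R ∈ P X, ∀ ⦃Y : C⦄ ⦃f : Y ⟶ X⦄, R f → C' Y)
  (hc : ∀ ⦃S : C⦄ ⦃R₁ : Presieve S⦄, R₁ ∈ P' S →
      ∀ (R₂ : ∀ ⦃Y : C⦄ ⦃f : Y ⟶ S⦄, R₁ f → Presieve Y),
        (∀ ⦃Y : C⦄ ⦃f : Y ⟶ S⦄ (hf : R₁ f), R₂ hf ∈ P Y ∧ ∀ ⦃Z : C⦄ ⦃g : Z ⟶ Y⦄, R₂ hf g → C' Z) →
      ∀ (R₃ : ∀ ⦃Y : C⦄ ⦃f : Y ⟶ S⦄ (hf : R₁ f) ⦃Z : C⦄ ⦃g : Z ⟶ Y⦄, R₂ hf g → Presieve Z),
        (∀ ⦃Y : C⦄ ⦃f : Y ⟶ S⦄ (hf : R₁ f) ⦃Z : C⦄ ⦃g : Z ⟶ Y⦄ (hg : R₂ hf g), R₃ hf hg ∈ P' Z) →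
      ∃ T ∈ P' S, ∀ ⦃W : C⦄ ⦃q : W ⟶ S⦄, T q →
        ∃ (Y Z V : C) (f : Y ⟶ S) (hf : R₁ f) (g : Z ⟶ Y) (hg : R₂ hf g) (h : V ⟶ Z) (_ : R₃ hf hg h)
          (r : W ⟶ V), r ≫ h ≫ g ≫ f = q)

include hP'id hb in
theorem good_of_mem {X : C} {R : Presieve X} (hR : R ∈ P X) : Good C' P P' (Sieve.generate R) := by
  choose Q hQ hQC using hb
  obtain ⟨T, hT, hTf⟩ := exists_comp hR (fun Y f _ => Q Y) (fun Y f _ => hQ Y)
  refine ⟨T, hT, fun Z h hh => ?_, fun Z h _ => Presieve.singleton (𝟙 Z), fun Z h hh => ?_, fun Z h hh W g hg => ?_⟩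
  · obtain ⟨Y, f, hf, g, hg, -⟩ := hTf hh
    exact hQC Y hg
  · obtain ⟨Y, f, hf, g, hg, -⟩ := hTf hh
    exact hP'id (hQC Y hg)
  · cases hg
    obtain ⟨Y, f, hf, g, hg, rfl⟩ := hTf hh
    rw [Category.id_comp]
    exact ⟨Y, g, f, hf, rfl⟩

include hb ha in
theorem good_of_mem' {X : C} {R₀ : Presieve X} (hR₀ : R₀ ∈ P' X) : Good C' P P' (Sieve.generate R₀) := by
  obtain ⟨R, hR, hRC⟩ := hb X
  have h := fun ⦃Y : C⦄ ⦃f : Y ⟶ X⦄ (hf : R f) => ha hR₀ f (hRC hf)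
  choose hpb hmem using h
  refine ⟨R, hR, hRC, fun Y f hf => @Presieve.pullbackArrows _ _ _ _ f R₀ (hpb hf), hmem, fun Y f hf Z g hg => ?_⟩
  cases hg with
  | mk Z g hg' =>
    have := @Presieve.hasPullback _ _ _ _ _ f (hpb hf) _ _ hg'
    exact ⟨_, Limits.pullback.fst g f, g, hg', Limits.pullback.condition⟩

include hP'id hb in
theorem good_top (X : C) : Good C' P P' (⊤ : Sieve X) := by
  obtain ⟨R, hR, hRC⟩ := hb X
  exact ⟨R, hR, hRC, fun Y _ _ => Presieve.singleton (𝟙 Y), fun Y f hf => hP'id (hRC hf),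
    fun _ _ _ _ _ _ => trivial⟩

include hb ha in
theorem good_pullback {X Y : C} {S : Sieve X} (hS : Good C' P P' S) (g : Y ⟶ X) :
    Good C' P P' (S.pullback g) := by
  obtain ⟨R, hR, hRC, R', hR', hsub⟩ := hS
  choose Q hQ hQC using hb
  have := P.hasPullbacks_of_mem g hR
  obtain ⟨T, hT, hTf⟩ := exists_comp (P.pullbackArrows_mem g hR) (fun Z _ _ => Q Z) (fun Z _ _ => hQ Z)
  have hfac : ∀ ⦃Z : C⦄ ⦃h : Z ⟶ Y⦄, T h → ∃ (W : C) (f : W ⟶ X) (_ : R f) (k : Z ⟶ W), C' Z ∧ k ≫ f = h ≫ g := by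
    intro Z h hh
    obtain ⟨V, f', hf', m, hm, rfl⟩ := hTf hh
    cases hf' with
    | mk W f hf =>
      have := Presieve.hasPullback g hf
      refine ⟨W, f, hf, m ≫ Limits.pullback.fst f g, hQC _ hm, ?_⟩
      rw [Category.assoc, Category.assoc, Limits.pullback.condition]
  choose W f hf k hZ hk using hfac
  have h' := fun ⦃Z : C⦄ ⦃h : Z ⟶ Y⦄ (hh : T h) => ha (hR' (hf hh)) (k hh) (hZ hh)
  choose hpb hmem using h'
  refine ⟨T, hT, hZ, fun Z h hh => @Presieve.pullbackArrows _ _ _ _ (k hh) _ (hpb hh), hmem, fun Z h hh V q hq => ?_⟩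
  cases hq with
  | mk V q hq' =>
    have := @Presieve.hasPullback _ _ _ _ _ (k hh) (hpb hh) _ _ hq'
    change S ((Limits.pullback.snd q (k hh) ≫ h) ≫ g)
    rw [Category.assoc, ← hk hh, ← Category.assoc, ← Limits.pullback.condition, Category.assoc]
    exact S.downward_closed (hsub (hf hh) hq') _

include hc in
theorem good_trans {X : C} {S R : Sieve X} (hS : Good C' P P' S)
    (h : ∀ ⦃Y : C⦄ ⦃f : Y ⟶ X⦄, S f → Good C' P P' (R.pullback f)) : Good C' P P' R := by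
  obtain ⟨R₁, hR₁, hR₁C, R₁', hR₁', hsub⟩ := hS
  have h' : ∀ ⦃Y : C⦄ ⦃f : Y ⟶ X⦄ (hf : R₁ f), ∃ T ∈ P' Y, ∀ ⦃W : C⦄ ⦃q : W ⟶ Y⦄, T q → R (q ≫ f) := by
    intro Y f hf
    have hg := fun ⦃Z : C⦄ ⦃g : Z ⟶ Y⦄ (hg : R₁' hf g) => h (hsub hf hg)
    choose Q hQ hQC Q' hQ' hQsub using hg
    obtain ⟨T, hT, hTf⟩ := hc (hR₁' hf) Q (fun Z g hg => ⟨hQ hg, hQC hg⟩) Q' hQ'
    refine ⟨T, hT, fun W q hq => ?_⟩
    obtain ⟨Z, V, U, g, hg, g', hg', e, he, r, rfl⟩ := hTf hq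
    have := R.downward_closed (hQsub hg hg' he) r
    simpa only [Category.assoc] using this
  choose T hT hTsub using h'
  exact ⟨R₁, hR₁, hR₁C, T, hT, fun Y f hf Z g hg => hTsub hf hg⟩

include hP'id ha hb hc in
theorem mem_iff {X : C} (S : Sieve X) : S ∈ (P ⊔ P').toGrothendieck X ↔ Good C' P P' S := by
  constructor
  · intro h
    rw [Precoverage.mem_toGrothendieck_iff] at h
    induction h with
    | of X R hR =>
      rcases hR with hR | hR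
      · exact good_of_mem hP'id hb hR
      · exact good_of_mem' ha hb hR
    | top X => exact good_top hP'id hb X
    | pullback X S _ Y f ih => exact good_pullback ha hb ih f
    | transitive X S R _ _ ih1 ih2 => exact good_trans hc ih1 ih2
  · rintro ⟨R, hR, -, R', hR', hsub⟩
    refine (P ⊔ P').toGrothendieck.transitive (Precoverage.generate_mem_toGrothendieck (show R ∈ (P ⊔ P') X from Or.inl hR)) S ?_
    rintro Y _ ⟨Z, e, f, hf, rfl⟩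
    rw [Sieve.pullback_comp]
    refine (P ⊔ P').toGrothendieck.pullback_stable e ?_
    refine GrothendieckTopology.superset_covering _ ?_
      (Precoverage.generate_mem_toGrothendieck (show R' hf ∈ (P ⊔ P') Z from Or.inr (hR' hf)))
    rw [Sieve.generate_le_iff]
    exact fun W g hg => hsub hf hg

include hP'id ha hb hc in
theorem isSheaf_iff (F : Cᵒᵖ ⥤ Type w) :
    Presieve.IsSheaf (P ⊔ P').toGrothendieck F ↔
      (∀ ⦃X : C⦄ ⦃R : Presieve X⦄, R ∈ P X → Presieve.IsSheafFor F R) ∧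
      (∀ ⦃X : C⦄ ⦃R : Presieve X⦄, R ∈ P' X → Presieve.IsSheafFor F R) := by
  constructor
  · intro h
    exact ⟨fun X R hR => (Presieve.isSheafFor_iff_generate R).2
        (h _ (Precoverage.generate_mem_toGrothendieck (show R ∈ (P ⊔ P') X from Or.inl hR))),
      fun X R hR => (Presieve.isSheafFor_iff_generate R).2
        (h _ (Precoverage.generate_mem_toGrothendieck (show R ∈ (P ⊔ P') X from Or.inr hR)))⟩
  rintro ⟨hP, hP'⟩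
  have hsep : ∀ ⦃X : C⦄ ⦃S : Sieve X⦄, Good C' P P' S → ∀ s t : F.obj (Opposite.op X),
      (∀ ⦃Y : C⦄ ⦃f : Y ⟶ X⦄, S f → F.map f.op s = F.map f.op t) → s = t := by
    intro X S hS s t hst
    obtain ⟨R, hR, -, R', hR', hsub⟩ := hS
    refine (hP hR).isSeparatedFor.ext fun Y f hf => ?_
    refine (hP' (hR' hf)).isSeparatedFor.ext fun Z g hg => ?_
    simpa using hst (hsub hf hg)
  intro X S hS
  have hG := (mem_iff hP'id ha hb hc S).1 hS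
  refine Presieve.isSeparatedFor_and_exists_isAmalgamation_iff_isSheafFor.1 ⟨?_, fun x hx => ?_⟩
  · intro x t₁ t₂ h₁ h₂
    exact hsep hG t₁ t₂ fun Y f hf => (h₁ f hf).trans (h₂ f hf).symm
  obtain ⟨R, hR, hRC, R', hR', hsub⟩ := hG
  have hy : ∀ ⦃Y : C⦄ ⦃f : Y ⟶ X⦄ (hf : R f), ∃ y : F.obj (Opposite.op Y),
      ∀ ⦃Z : C⦄ (h : Z ⟶ Y) (hh : S (h ≫ f)), F.map h.op y = x (h ≫ f) hh := by
    intro Y f hf
    let xf : Presieve.FamilyOfElements F (R' hf) := fun Z g hg => x (g ≫ f) (hsub hf hg)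
    have hxf : xf.Compatible := fun Z₁ Z₂ W a b g₁ g₂ h₁ h₂ e =>
      hx a b (hsub hf h₁) (hsub hf h₂) (by rw [reassoc_of% e])
    obtain ⟨y, hy, -⟩ := hP' (hR' hf) xf hxf
    refine ⟨y, fun Z h hh => ?_⟩
    have hcov : Good C' P P' ((Sieve.generate (R' hf)).pullback h) :=
      good_pullback ha hb (good_of_mem' ha hb (hR' hf)) h
    refine hsep hcov _ _ fun W k hk => ?_
    obtain ⟨V, m, g, hg, e⟩ := hk
    have h1 := hx m k (hsub hf hg) hh (by rw [reassoc_of% e])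
    rw [← h1, show x (g ≫ f) (hsub hf hg) = F.map g.op y from (hy g hg).symm]
    change (F.map h.op ≫ F.map k.op) y = (F.map g.op ≫ F.map m.op) y
    rw [← F.map_comp, ← F.map_comp, ← op_comp, ← op_comp, e]
  choose y hy using hy
  let xR : Presieve.FamilyOfElements F R := fun Y f hf => y hf
  have hxR : xR.Compatible := by
    intro Y₁ Y₂ Z a b f₁ f₂ h₁ h₂ e
    refine hsep (good_pullback ha hb ((mem_iff hP'id ha hb hc S).1 hS) (a ≫ f₁)) _ _ fun W k hk => ?_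
    change (F.map a.op ≫ F.map k.op) (y h₁) = (F.map b.op ≫ F.map k.op) (y h₂)
    rw [← F.map_comp, ← F.map_comp, ← op_comp, ← op_comp]
    have hk₁ : S ((k ≫ a) ≫ f₁) := by rw [Category.assoc]; exact hk
    have hk₂ : S ((k ≫ b) ≫ f₂) := by rw [Category.assoc, ← e]; exact hk
    rw [hy h₁ _ hk₁, hy h₂ _ hk₂]
    congr 1
    rw [Category.assoc, Category.assoc, e]
  obtain ⟨z, hz, -⟩ := hP hR xR hxR
  refine ⟨z, fun Y h hh => ?_⟩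
  refine hsep (good_pullback ha hb (good_of_mem hP'id hb hR) h) _ _ fun W k hk => ?_
  obtain ⟨V, m, f, hf, e⟩ := hk
  have hmf : S (m ≫ f) := by rw [e]; exact S.downward_closed hh k
  have h1 := hx k (𝟙 W) hh hmf (by rw [Category.id_comp, e])
  rw [op_id, F.map_id] at h1
  rw [h1]
  change (F.map h.op ≫ F.map k.op) z = x (m ≫ f) hmf
  rw [← hy hf m hmf, ← F.map_comp, ← op_comp, ← e, op_comp, F.map_comp]
  exact congrArg (F.map m.op) (hz f hf)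

end

end Groth.Agent.Lib.TwoStepTopology
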