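import Groth.Agent.Lib.Goren.Rings
import Groth.Agent.Lib.Dim.Integral
import Groth.Agent.Lib.PicSurj99
import Mathlib.RingTheory.RegularLocalRing.Polynomial

/-!
# Minimal orders of families of Weil numbers
-/

noncomputable section

universe u

open Polynomial

namespace Groth.Agent.WeilOrder99

/-- `X ^ deg P * P (q / X)`. -/
def recip (q : ℕ) (P : Polynomial ℤ) : Polynomial ℤ := (P.comp (C (q : ℤ) * X)).reverse

lemma recip_mul (q : ℕ) (P P' : Polynomial ℤ) : recip q (P * P') = recip q P * recip q P' := by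
  rw [recip, mul_comp, reverse_mul_of_domain]; rfl

lemma recip_prod {ι : Type*} (s : Finset ι) (q : ℕ) (P : ι → Polynomial ℤ) :
    recip q (∏ i ∈ s, P i) = ∏ i ∈ s, recip q (P i) := by
  classical
  induction s using Finset.induction_on with
  | empty => simp [recip, reverse]
  | insert a s ha ih => rw [Finset.prod_insert ha, Finset.prod_insert ha, recip_mul, ih]

lemma natDegree_comp_C_mul_X {q : ℕ} (hq : q ≠ 0) (P : Polynomial ℤ) :
    (P.comp (C (q : ℤ) * X)).natDegree = P.natDegree := by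
  rw [natDegree_comp, natDegree_C_mul_X _ (Int.natCast_ne_zero.mpr hq), mul_one]

lemma coeff_recip {q : ℕ} (hq : q ≠ 0) (P : Polynomial ℤ) (j : ℕ) (hj : j ≤ P.natDegree) :
    (recip q P).coeff (P.natDegree - j) = P.coeff j * (q : ℤ) ^ j := by
  rw [recip, coeff_reverse, natDegree_comp_C_mul_X hq, revAt_le (Nat.sub_le _ _),
    Nat.sub_sub_self hj, comp_C_mul_X_coeff]

lemma natDegree_recip_le {q : ℕ} (hq : q ≠ 0) (P : Polynomial ℤ) :
    (recip q P).natDegree ≤ P.natDegree :=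
  (reverse_natDegree_le _).trans (natDegree_comp_C_mul_X hq P).le

theorem exists_recip_eq {K : Type*} [Field K] [CharZero K] (x : K) (hx : IsIntegral ℤ x)
    (q : ℕ) (hq : q ≠ 0) (hw : ∀ z ∈ (minpoly ℤ x).aroots ℂ, ‖z‖ = Real.sqrt q) :
    ∃ c : ℤ, recip q (minpoly ℤ x) = C c * minpoly ℤ x := by
  set P := minpoly ℤ x with hP
  have hmon : P.Monic := minpoly.monic hx
  obtain ⟨z, hz⟩ := IsAlgClosed.exists_aeval_eq_zero_of_injective ℂ
    (algebraMap ℤ ℂ).injective_int P (minpoly.degree_pos hx).ne'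
  have hzn := hw z (mem_aroots.mpr ⟨hmon.ne_zero, hz⟩)
  have hz0 : z ≠ 0 := by
    intro h0
    rw [h0, norm_zero] at hzn
    exact absurd hzn.symm (Real.sqrt_ne_zero'.mpr (by positivity))
  have hzint : IsIntegral ℤ z := ⟨P, hmon, hz⟩
  have hPz : minpoly ℤ z = P :=
    eq_of_monic_of_associated (minpoly.monic hzint) hmon ((minpoly.irreducible hzint).associated_of_dvd
      (minpoly.irreducible hx) (minpoly.isIntegrallyClosed_dvd hzint hz))
  have hconj : (q : ℂ) / z = starRingEnd ℂ z := by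
    rw [div_eq_iff hz0, mul_comm, Complex.mul_conj, Complex.normSq_eq_norm_sq, hzn,
      Real.sq_sqrt (Nat.cast_nonneg q)]
    norm_num
  have hroot : aeval ((q : ℂ) / z) P = 0 := by
    rw [hconj]
    have h := hom_eval₂ P (algebraMap ℤ ℂ) (starRingEnd ℂ) z
    rw [← aeval_def, hz, map_zero,
      RingHom.ext_int ((starRingEnd ℂ).comp (algebraMap ℤ ℂ)) (algebraMap ℤ ℂ)] at h
    exact h.symm
  have hR0 : aeval z (recip q P) = 0 :=
    (Groth.Agent.PicSurj99.aeval_reverse_comp q P z hz0).mpr hroot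
  obtain ⟨d, hd⟩ : P ∣ recip q P := by
    have := minpoly.isIntegrallyClosed_dvd hzint hR0
    rwa [hPz] at this
  by_cases hd0 : d = 0
  · exact ⟨0, by rw [hd, hd0, mul_zero, map_zero, zero_mul]⟩
  have hdeg : d.natDegree = 0 := by
    have h1 : (P * d).natDegree ≤ P.natDegree := hd ▸ natDegree_recip_le hq P
    rw [natDegree_mul hmon.ne_zero hd0] at h1
    omega
  refine ⟨d.coeff 0, ?_⟩
  rw [hd, eq_C_of_natDegree_eq_zero hdeg, coeff_C_zero, mul_comm]

theorem coeff_symm {ι : Type*} [Fintype ι] {K : ι → Type*} [∀ i, Field (K i)]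
    [∀ i, CharZero (K i)] (π : ∀ i, K i) (hint : ∀ i, IsIntegral ℤ (π i)) (q : ℕ) (hq : q ≠ 0)
    (hw : ∀ i, ∀ z ∈ (minpoly ℤ (π i)).aroots ℂ, ‖z‖ = Real.sqrt q)
    (D : ℕ) (hD : ∑ i, (minpoly ℤ (π i)).natDegree = 2 * D) :
    ∃ s : ℤ, IsUnit s ∧ (∏ i, minpoly ℤ (π i)).coeff 0 = s * (q : ℤ) ^ D ∧
      ∀ j ≤ D, (∏ i, minpoly ℤ (π i)).coeff j =
        s * (q : ℤ) ^ (D - j) * (∏ i, minpoly ℤ (π i)).coeff (2 * D - j) := by
  choose c hc using fun i => exists_recip_eq (π i) (hint i) q hq (hw i)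
  set P := ∏ i, minpoly ℤ (π i) with hPdef
  have hmon : P.Monic := monic_prod_of_monic _ _ fun i _ => minpoly.monic (hint i)
  have hdeg : P.natDegree = 2 * D := by
    rw [hPdef, natDegree_prod_of_monic _ _ fun i _ => minpoly.monic (hint i), hD]
  have hrec : recip q P = C (∏ i, c i) * P := by
    rw [hPdef, recip_prod, map_prod, ← Finset.prod_mul_distrib]
    exact Finset.prod_congr rfl fun i _ => hc i
  have key : ∀ j ≤ 2 * D, P.coeff j * (q : ℤ) ^ j = (∏ i, c i) * P.coeff (2 * D - j) := by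
    intro j hj
    rw [← coeff_recip hq P j (hdeg ▸ hj), hrec, coeff_C_mul, hdeg]
  have htop : P.coeff (2 * D) = 1 := hdeg ▸ hmon.coeff_natDegree
  have h0 : P.coeff 0 = ∏ i, c i := by
    have := key 0 (Nat.zero_le _)
    rwa [pow_zero, mul_one, Nat.sub_zero, htop, mul_one] at this
  have hsq : P.coeff 0 * P.coeff 0 = (q : ℤ) ^ D * (q : ℤ) ^ D := by
    have := key (2 * D) le_rfl
    rw [htop, one_mul, Nat.sub_self, ← h0] at this
    rw [← this, two_mul, pow_add]
  obtain ⟨s, hs, hs0⟩ : ∃ s : ℤ, IsUnit s ∧ P.coeff 0 = s * (q : ℤ) ^ D := by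
    rcases mul_self_eq_mul_self_iff.mp hsq with h | h
    · exact ⟨1, isUnit_one, by rw [h, one_mul]⟩
    · exact ⟨-1, isUnit_one.neg, by rw [h, neg_one_mul]⟩
  refine ⟨s, hs, hs0, fun j hj => ?_⟩
  have := key j (by omega)
  rw [← h0, hs0] at this
  refine mul_right_cancel₀ (pow_ne_zero j (Int.natCast_ne_zero.mpr hq)) ?_
  rw [this, mul_assoc s _ (P.coeff (2 * D - j)), mul_assoc s, mul_assoc s, mul_right_comm (_ ^ (D - j)),
    ← pow_add, Nat.sub_add_cancel hj]

theorem exists_h (p e : ℕ) [Fact p.Prime] {ι : Type} [Fintype ι] {K : ι → Type u}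
    [∀ i, Field (K i)] [∀ i, CharZero (K i)] (π : ∀ i, K i) (hint : ∀ i, IsIntegral ℤ (π i))
    (hweil : ∀ i, ∀ z ∈ (minpoly ℤ (π i)).aroots ℂ, ‖z‖ = Real.sqrt ((p : ℝ) ^ e))
    (D : ℕ) (hD : ∑ i, (minpoly ℤ (π i)).natDegree = 2 * D) :
    ∃ h : MvPolynomial (Fin 2) ℤ,
      MvPolynomial.X 0 ^ D * h -
        Polynomial.aeval (MvPolynomial.X 0 : MvPolynomial (Fin 2) ℤ) (∏ i, minpoly ℤ (π i)) ∈
      Ideal.span ({MvPolynomial.X 0 * MvPolynomial.X 1 - MvPolynomial.C ((p : ℤ) ^ e)} :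
        Set (MvPolynomial (Fin 2) ℤ)) := by
  obtain ⟨s, -, -, hcoef⟩ := coeff_symm π hint (p ^ e) (pow_ne_zero _ (Fact.out : p.Prime).ne_zero)
    (fun i z hz => by rw [hweil i z hz]; push_cast; rfl) D hD
  push_cast at hcoef
  set P := ∏ i, minpoly ℤ (π i) with hP
  have hdeg : P.natDegree = 2 * D := by
    rw [hP, natDegree_prod_of_monic _ _ fun i _ => minpoly.monic (hint i), hD]
  let F : MvPolynomial (Fin 2) ℤ := MvPolynomial.X 0
  let V : MvPolynomial (Fin 2) ℤ := MvPolynomial.X 1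
  let I : Ideal (MvPolynomial (Fin 2) ℤ) := Ideal.span {F * V - MvPolynomial.C ((p : ℤ) ^ e)}
  refine ⟨∑ j ∈ Finset.range (2 * D + 1), if j ≤ D then
      MvPolynomial.C (s * P.coeff (2 * D - j)) * V ^ (D - j)
    else MvPolynomial.C (P.coeff j) * F ^ (j - D), ?_⟩
  rw [aeval_eq_sum_range, hdeg, Finset.mul_sum, ← Finset.sum_sub_distrib]
  refine Ideal.sum_mem _ fun j _ => ?_
  show F ^ D * _ - P.coeff j • F ^ j ∈ I
  rw [MvPolynomial.smul_eq_C_mul]
  split_ifs with hj
  · have e1 : MvPolynomial.C (P.coeff j) * F ^ j =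
        MvPolynomial.C (s * P.coeff (2 * D - j)) * MvPolynomial.C ((p : ℤ) ^ e) ^ (D - j) * F ^ j := by
      rw [hcoef j hj, ← map_pow, ← map_mul]
      congr 2
      ring
    have e2 : F ^ D * (MvPolynomial.C (s * P.coeff (2 * D - j)) * V ^ (D - j)) =
        MvPolynomial.C (s * P.coeff (2 * D - j)) * (F * V) ^ (D - j) * F ^ j := by
      conv_lhs => rw [← Nat.sub_add_cancel hj, pow_add]
      rw [mul_pow, Nat.sub_add_cancel hj]
      ring
    rw [e1, e2, ← sub_mul, ← mul_sub]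
    refine I.mul_mem_right _ (I.mul_mem_left _ ?_)
    obtain ⟨w, hw⟩ := sub_dvd_pow_sub_pow (F * V) (MvPolynomial.C ((p : ℤ) ^ e)) (D - j)
    rw [hw]
    exact I.mul_mem_right _ (Ideal.mem_span_singleton_self _)
  · rw [mul_left_comm, ← pow_add, Nat.add_sub_cancel' (le_of_not_ge hj), sub_self]
    exact zero_mem _

theorem isGorensteinRing_of_two {A T : Type u} [CommRing A] [IsRegularRing A] [IsDomain A]
    [CommRing T] (f : A →+* T) (hf : Function.Surjective f) (a b : A)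
    (hker : RingHom.ker f = Ideal.span {a, b}) (ha : a ≠ 0)
    (hb : ∀ x, b * x ∈ Ideal.span {a} → x ∈ Ideal.span {a}) : LocCoh.IsGorensteinRing T := by
  haveI := Groth.Agent.Lib.Goren.Rings.isGorensteinRing_of_isRegularRing A
  haveI := Groth.Agent.Lib.Goren.Rings.isGorensteinRing_quotient (f := a)
    ((isSMulRegular_iff_right_eq_zero_of_smul).mpr fun x hx => (mul_eq_zero.mp hx).resolve_left ha)
  haveI := Groth.Agent.Lib.Goren.Rings.isGorensteinRing_quotient
    (A := A ⧸ Ideal.span {a}) (f := Ideal.Quotient.mk _ b)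
    ((isSMulRegular_iff_right_eq_zero_of_smul).mpr fun x hx => by
      obtain ⟨x, rfl⟩ := Ideal.Quotient.mk_surjective x
      rw [smul_eq_mul, ← map_mul] at hx
      exact Ideal.Quotient.eq_zero_iff_mem.mpr (hb x (Ideal.Quotient.eq_zero_iff_mem.mp hx)))
  refine Groth.Agent.Lib.Goren.Rings.isGorensteinRing_of_ringEquiv
    ((Ideal.quotEquivOfEq (?_ : Ideal.span {Ideal.Quotient.mk (Ideal.span {a}) b} =
      (Ideal.span {b}).map (Ideal.Quotient.mk (Ideal.span {a})))).trans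
    ((DoubleQuot.quotQuotEquivQuotSup (Ideal.span {a}) (Ideal.span {b})).trans
    ((Ideal.quotEquivOfEq ?_).trans (RingHom.quotientKerEquivOfSurjective hf))))
  · rw [Ideal.map_span, Set.image_singleton]
  · rw [hker, Ideal.span_insert]

end Groth.Agent.WeilOrder99
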