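import Mathlib

set_option autoImplicit false
universe u

namespace Groth.Agent.Lib.WittCyclic

open WittVector

variable (p : ℕ) [Fact p.Prime]

theorem frobenius_iterate_teichmuller {R : Type u} [CommRing R] [CharP R p] (r : R) (i : ℕ) :
    (⇑(frobenius : WittVector p R →+* WittVector p R))^[i] (teichmuller p r) = teichmuller p (r ^ p ^ i) := by
  ext k
  rw [iterate_frobenius_coeff]
  rcases Nat.eq_zero_or_pos k with rfl | hk
  · rw [teichmuller_coeff_zero, teichmuller_coeff_zero]
  · rw [teichmuller_coeff_pos _ _ _ hk, teichmuller_coeff_pos _ _ _ hk,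
      zero_pow (pow_ne_zero _ (Fact.out : p.Prime).ne_zero)]

theorem V_mul_teichmuller {R : Type u} [CommRing R] [CharP R p] (i : ℕ) (r : R) (x : WittVector p R) :
    teichmuller p r * (⇑(verschiebung : WittVector p R →+ WittVector p R))^[i] x =
      (⇑(verschiebung : WittVector p R →+ WittVector p R))^[i] (teichmuller p (r ^ p ^ i) * x) := by
  rw [mul_comm, iterate_verschiebung_mul_left, frobenius_iterate_teichmuller, mul_comm]

theorem map_iterate_V {R S : Type u} [CommRing R] [CommRing S] (f : R →+* S) (i : ℕ) (x : WittVector p R) :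
    WittVector.map f ((⇑(verschiebung : WittVector p R →+ WittVector p R))^[i] x) =
      (⇑(verschiebung : WittVector p S →+ WittVector p S))^[i] (WittVector.map f x) := by
  induction i generalizing x with
  | zero => rfl
  | succ i ih => rw [Function.iterate_succ_apply, Function.iterate_succ_apply, ih, map_verschiebung]

theorem iterate_V_sum {R : Type u} [CommRing R] {I : Type*} (s : Finset I) (i : ℕ) (x : I → WittVector p R) :
    (⇑(verschiebung : WittVector p R →+ WittVector p R))^[i] (∑ j ∈ s, x j) =
      ∑ j ∈ s, (⇑(verschiebung : WittVector p R →+ WittVector p R))^[i] (x j) := by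
  induction i with
  | zero => rfl
  | succ i ih => simp only [Function.iterate_succ_apply', ih, map_sum]

theorem truncate_V {R : Type u} [CommRing R] {i J : ℕ} (h : J ≤ i) (x : WittVector p R) :
    truncate J ((⇑(verschiebung : WittVector p R →+ WittVector p R))^[i] x) = 0 := by
  rw [← RingHom.mem_ker, mem_ker_truncate]
  induction i generalizing J x with
  | zero => intro k hk; omega
  | succ i ih =>
    intro k hk
    rw [Function.iterate_succ_apply']
    cases k with
    | zero => exact verschiebung_coeff_zero _
    | succ k => rw [verschiebung_coeff_succ]; exact ih (J := i) le_rfl x k (by omega)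

theorem exists_V {R : Type u} [CommRing R] (x : WittVector p R) (h : x.coeff 0 = 0) :
    ∃ y, x = (verschiebung : WittVector p R →+ WittVector p R) y := by
  obtain ⟨y, hy⟩ : ∃ y : WittVector p R, x = (⇑(verschiebung : WittVector p R →+ WittVector p R))^[1] y :=
    ⟨_, eq_iterate_verschiebung (n := 1) (fun i hi => by rw [Nat.lt_one_iff.1 hi]; exact h)⟩
  exact ⟨y, hy⟩

/-- Limit of a `V`-adically Cauchy sequence. -/
theorem exists_limit {R : Type u} [CommRing R] (z : ℕ → WittVector p R)
    (hz : ∀ J, truncate J (z (J + 1)) = truncate J (z J)) :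
    ∃ Z : WittVector p R, ∀ J, truncate J Z = truncate J (z J) := by
  refine ⟨WittVector.mk p fun i => (z (i + 1)).coeff i, fun J => ?_⟩
  have stab : ∀ i K, i < K → (z K).coeff i = (z (i + 1)).coeff i := by
    intro i K hK
    induction K, hK using Nat.le_induction with
    | base => rfl
    | succ K hK ih =>
      rw [← ih]
      have := congrArg (fun t => TruncatedWittVector.coeff (⟨i, hK⟩ : Fin K) t) (hz K)
      simpa [coeff_truncate] using this
  refine TruncatedWittVector.ext fun i => ?_
  rw [coeff_truncate, coeff_truncate, stab i J i.2]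
  rfl

theorem main (ℓ n : ℕ) (hℓ : 0 < ℓ) (hpℓ : ¬ p ∣ ℓ)
    (A B : Type u) [CommRing A] [CommRing B] [IsDomain A] [IsDomain B] [Algebra A B]
    [CharP A p] [CharP B p] (hinj : Function.Injective (algebraMap A B))
    (y : Finset B) (hspan : Submodule.span A (y : Set B) = ⊤)
    (hpow : ∀ b ∈ y, b ^ ℓ ∈ Set.range (algebraMap A B))
    (η : WittVector p B) :
    ∃ a : A, a ≠ 0 ∧ teichmuller p (algebraMap A B a) *
        (⇑(verschiebung : WittVector p B →+ WittVector p B))^[n] η ∈
      Ideal.span (Set.range (fun x : WittVector p A =>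
        WittVector.map (algebraMap A B) ((⇑(verschiebung : WittVector p A →+ WittVector p A))^[n] x))) := by
  classical
  choose s₀ hs₀ using hpow
  let s : y → A := fun b => if (b : B) = 0 then 1 else s₀ b b.2
  have hs : ∀ b : y, (b : B) ≠ 0 → algebraMap A B (s b) = (b : B) ^ ℓ := fun b hb => by
    simp only [s, if_neg hb]; exact hs₀ b b.2
  have hs1 : ∀ b : y, s b ≠ 0 := fun b => by
    by_cases hb : (b : B) = 0
    · simp [s, hb]
    · intro h
      have := hs b hb
      rw [h, map_zero] at this
      exact pow_ne_zero ℓ hb this.symm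
  let prd : A := ∏ b, s b
  refine ⟨prd, Finset.prod_ne_zero_iff.2 fun b _ => hs1 b, ?_⟩
  rw [V_mul_teichmuller]
  let f := algebraMap A B
  let T : y × Fin ℓ → WittVector p B := fun i => teichmuller p (((i.1 : B) ^ ((i.2 : ℕ) + 1)) ^ p ^ n)
  let a : B := f prd ^ p ^ n
  -- the elementary step
  have key : ∀ (J : ℕ) (b : y) (α : A), ∃ (i : Fin ℓ) (c : A),
      teichmuller p a * (⇑(verschiebung : WittVector p B →+ WittVector p B))^[J] (teichmuller p (f α * b)) =
        WittVector.map f ((⇑(verschiebung : WittVector p A →+ WittVector p A))^[J] (teichmuller p c)) * T (b, i) := by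
    intro J b α
    by_cases hb : (b : B) = 0
    · refine ⟨⟨0, hℓ⟩, 0, ?_⟩
      simp [hb, map_zero, teichmuller_zero, iterate_map_zero, map_iterate_V, V_mul_teichmuller, T, zero_pow (pow_ne_zero n (Fact.out : p.Prime).ne_zero)]
    · set P := p ^ (n + J) with hP
      have hcop : Nat.Coprime P ℓ := (((Fact.out : p.Prime).coprime_iff_not_dvd).2 hpℓ).pow_left _
      obtain ⟨e, he1, heℓ, t, ht⟩ : ∃ e, 1 ≤ e ∧ e ≤ ℓ ∧ ∃ t, P * e = 1 + ℓ * t := by
        rcases eq_or_lt_of_le (show 1 ≤ ℓ from hℓ) with h | h
        · exact ⟨1, le_rfl, hℓ, P - 1, by rw [← h]; have : 0 < P := pow_pos (Fact.out : p.Prime).pos _; omega⟩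
        · obtain ⟨e, he, hme⟩ := Nat.exists_mul_mod_eq_one_of_coprime hcop h
          refine ⟨e, Nat.pos_of_ne_zero fun h0 => by simp [h0] at hme, he.le, P * e / ℓ, ?_⟩
          conv_lhs => rw [← Nat.mod_add_div (P * e) ℓ, hme]
      have htP : t < P := by
        have : ℓ * t < ℓ * P := by
          have : P * e ≤ P * ℓ := Nat.mul_le_mul_left _ heℓ
          rw [mul_comm ℓ P]; omega
        exact Nat.lt_of_mul_lt_mul_left this
      refine ⟨⟨e - 1, by omega⟩, α * (∏ b' ∈ Finset.univ.erase b, s b') ^ P * s b ^ (P - t), ?_⟩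
      rw [V_mul_teichmuller, map_iterate_V, map_teichmuller, mul_comm _ (T _)]
      simp only [T, Nat.sub_add_cancel he1]
      rw [V_mul_teichmuller, ← map_mul, ← map_mul]
      congr 2
      have hP' : (p : ℕ) ^ n * p ^ J = P := by rw [hP, pow_add]
      rw [← pow_mul, ← pow_mul, hP', ← pow_mul,
        show prd = s b * ∏ b' ∈ Finset.univ.erase b, s b' from (Finset.mul_prod_erase _ _ (Finset.mem_univ b)).symm]
      have hbP : (b : B) ^ (e * P) = f (s b) ^ t * b := by
        rw [hs b hb, ← pow_mul, ← pow_succ]; congr 1; rw [mul_comm e P, ht]; ring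
      simp only [map_mul, map_pow, hbP, mul_pow]
      rw [show f (s b) ^ P = f (s b) ^ (P - t) * f (s b) ^ t by rw [← pow_add]; congr 1; omega]
      ring
  -- one stage
  have step : ∀ (J : ℕ) (ρ : WittVector p B), ∃ (d : y × Fin ℓ → WittVector p A) (ρ' : WittVector p B),
      (∀ i, truncate J (d i) = 0) ∧
      teichmuller p a * (⇑(verschiebung : WittVector p B →+ WittVector p B))^[J] ρ =
        (∑ i, WittVector.map f (d i) * T i) +
          teichmuller p a * (⇑(verschiebung : WittVector p B →+ WittVector p B))^[J + 1] ρ' := by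
    intro J ρ
    obtain ⟨α, hα⟩ := Submodule.mem_span_finset.1 (show ρ.coeff 0 ∈ Submodule.span A (y : Set B) from hspan ▸ trivial)
    obtain ⟨ρ', hρ'⟩ := exists_V p (ρ - ∑ b : y, teichmuller p (f (α b) * b)) (by
      change constantCoeff (ρ - ∑ b : y, teichmuller p (f (α b) * b)) = 0
      rw [map_sub, map_sum, sub_eq_zero]
      simp only [constantCoeff_apply, teichmuller_coeff_zero]
      rw [← hα.2, ← Finset.sum_coe_sort y]
      exact Finset.sum_congr rfl fun b _ => Algebra.smul_def _ _)
    choose i c hc using fun b : y => key J b (α b)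
    refine ⟨fun q => if q.2 = i q.1 then
      (⇑(verschiebung : WittVector p A →+ WittVector p A))^[J] (teichmuller p (c q.1)) else 0, ρ', fun q => ?_, ?_⟩
    · dsimp only
      split_ifs
      · exact truncate_V p le_rfl _
      · exact map_zero _
    · rw [Function.iterate_succ_apply, ← hρ', Fintype.sum_prod_type]
      have hb : ∀ b : y, ∑ q : Fin ℓ, WittVector.map f (if q = i b then
          (⇑(verschiebung : WittVector p A →+ WittVector p A))^[J] (teichmuller p (c b)) else 0) * T (b, q) =
          teichmuller p a * (⇑(verschiebung : WittVector p B →+ WittVector p B))^[J] (teichmuller p (f (α b) * b)) := by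
        intro b
        rw [Finset.sum_eq_single (i b) (fun q _ hq => by rw [if_neg hq, map_zero, zero_mul]) (by simp), if_pos rfl,
          hc]
      simp only [hb]
      rw [← Finset.mul_sum, ← mul_add, ← iterate_V_sum]
      congr 1
      rw [← iterate_map_add, add_sub_cancel]
  choose d ρ' hd hstep using step
  let seq : ℕ → (y × Fin ℓ → WittVector p A) × WittVector p B := fun J =>
    Nat.rec (0, η) (fun J q => (q.1 + d J q.2, ρ' J q.2)) J
  have hinv : ∀ J, teichmuller p a * η = (∑ i, WittVector.map f ((seq J).1 i) * T i) +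
      teichmuller p a * (⇑(verschiebung : WittVector p B →+ WittVector p B))^[J] (seq J).2 := by
    intro J
    induction J with
    | zero => simp [seq]
    | succ J ih =>
      rw [ih, hstep J (seq J).2, ← add_assoc, ← Finset.sum_add_distrib]
      congr 1
      refine Finset.sum_congr rfl fun i _ => ?_
      change _ = WittVector.map f ((seq J).1 i + d J (seq J).2 i) * T i
      rw [map_add, add_mul]
  choose Z hZ using fun i => exists_limit p (fun J => (seq J).1 i) (fun J => by
    change truncate J ((seq J).1 i + d J (seq J).2 i) = _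
    rw [map_add, hd, add_zero])
  have hlim : teichmuller p a * η = ∑ i, WittVector.map f (Z i) * T i := by
    rw [← sub_eq_zero]
    refine WittVector.ext fun k => ?_
    rw [zero_coeff]
    refine (mem_ker_truncate (k + 1) _).1 ?_ k (Nat.lt_succ_self k)
    rw [RingHom.mem_ker, map_sub, sub_eq_zero, hinv (k + 1)]
    simp only [map_add, map_sum, map_mul, truncate_V p le_rfl, mul_zero, add_zero]
    refine Finset.sum_congr rfl fun i _ => ?_
    congr 1
    have h := hZ i (k + 1)
    refine TruncatedWittVector.ext fun m => ?_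
    have := congrArg (fun t => TruncatedWittVector.coeff m t) h
    simp only [coeff_truncate] at this
    rw [coeff_truncate, coeff_truncate, WittVector.map_coeff, WittVector.map_coeff, this]
  rw [show (f prd ^ p ^ n) = a from rfl, hlim, iterate_V_sum]
  refine Ideal.sum_mem _ fun i _ => ?_
  have : (⇑(verschiebung : WittVector p B →+ WittVector p B))^[n] (WittVector.map f (Z i) * T i) =
      teichmuller p ((i.1 : B) ^ ((i.2 : ℕ) + 1)) *
        WittVector.map f ((⇑(verschiebung : WittVector p A →+ WittVector p A))^[n] (Z i)) := by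
    rw [map_iterate_V, V_mul_teichmuller]
    simp only [T]
    rw [mul_comm]
  rw [this]
  exact Ideal.mul_mem_left _ _ (Ideal.subset_span ⟨Z i, rfl⟩)

end Groth.Agent.Lib.WittCyclic
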