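import Groth.Prelude.Def_W4c6katofiltaWFil
import Groth.Agent.H83.Elem.WittFilLib
import Mathlib

/-!
# Integrality in a localisation at primes, for the Witt filtration

If `z : A[1/∏ xᵢ]` and `z ^ q * ∏ xᵢ ^ eᵢ` is in `A` with `eᵢ < q`, then `z` is in `A`.
-/

set_option autoImplicit false
universe u

namespace Groth.Agent.Lib.WittFilLocal

variable {A B : Type u} [CommRing A] [IsDomain A] [CommRing B] [Algebra A B]

theorem prod_dvd {r : ℕ} (x : Fin r → A) (hx : ∀ i, Prime (x i))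
    (hxa : ∀ i j, Associated (x i) (x j) → i = j) (a : A) (h : ∀ i, x i ∣ a) : (∏ i, x i) ∣ a := by
  classical
  suffices ∀ s : Finset (Fin r), (∏ i ∈ s, x i) ∣ a from this Finset.univ
  intro s
  induction s using Finset.induction_on with
  | empty => simp
  | insert i s hi ih =>
    obtain ⟨c, rfl⟩ := ih
    rw [Finset.prod_insert hi, mul_comm]
    refine mul_dvd_mul_left _ (((hx i).dvd_mul.1 (h i)).resolve_left fun hd => ?_)
    obtain ⟨j, hj, hij⟩ := (hx i).exists_mem_finset_dvd hd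
    exact hi ((hxa i j ((hx i).associated_of_dvd (hx j) hij)).symm ▸ hj)

theorem mem_range_of_pow_mul {r : ℕ} (x : Fin r → A) (hx : ∀ i, Prime (x i))
    (hxa : ∀ i j, Associated (x i) (x j) → i = j) [IsLocalization.Away (∏ i, x i) B]
    (z : B) (q : ℕ) (hq : 0 < q) (e : Fin r → ℕ) (he : ∀ i, e i < q)
    (h : z ^ q * algebraMap A B (∏ i, x i ^ e i) ∈ (algebraMap A B).range) :
    z ∈ (algebraMap A B).range := by
  classical
  obtain ⟨a', ha'⟩ := h
  obtain ⟨⟨a, ⟨s, N, rfl⟩⟩, hz⟩ := IsLocalization.surj (Submonoid.powers (∏ i, x i)) z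
  have hP : (∏ i, x i) ≠ 0 := Finset.prod_ne_zero_iff.2 fun i _ => (hx i).ne_zero
  have hinj : Function.Injective (algebraMap A B) :=
    IsLocalization.injective B (powers_le_nonZeroDivisors_of_noZeroDivisors hP)
  simp only at hz
  have heq : a ^ q * ∏ i, x i ^ e i = a' * ((∏ i, x i) ^ N) ^ q := hinj (by
    rw [map_mul, map_mul, ha', map_pow, ← hz, map_pow (algebraMap A B) ((∏ i, x i) ^ N)]
    ring)
  suffices hs : ∀ (N : ℕ) (a : A), a ^ q * ∏ i, x i ^ e i = a' * ((∏ i, x i) ^ N) ^ q →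
      (∏ i, x i) ^ N ∣ a by
    obtain ⟨b, hb⟩ := hs N a heq
    refine ⟨b, ((IsLocalization.map_units B (⟨_, N, rfl⟩ : Submonoid.powers (∏ i, x i))).mul_left_inj).1 ?_⟩
    simp only
    rw [hz, hb, map_mul, mul_comm]
  intro N
  induction N with
  | zero => simp
  | succ N ih =>
    intro a heq
    have hdiv : ∀ i, x i ∣ a := fun i => by
      by_contra hni
      have h1 : x i ^ q ∣ a ^ q * ∏ j, x j ^ e j := by
        rw [heq]
        exact dvd_mul_of_dvd_right (pow_dvd_pow_of_dvd ((Finset.dvd_prod_of_mem _ (Finset.mem_univ i)).trans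
          (dvd_pow_self _ N.succ_ne_zero)) q) _
      have h2 := (hx i).pow_dvd_of_dvd_mul_left q (fun hh => hni ((hx i).dvd_of_dvd_pow hh)) h1
      rw [← Finset.mul_prod_erase _ _ (Finset.mem_univ i)] at h2
      have h3 : ¬ x i ∣ ∏ j ∈ Finset.univ.erase i, x j ^ e j := fun hd => by
        obtain ⟨j, hj, hij⟩ := (hx i).exists_mem_finset_dvd hd
        exact (Finset.mem_erase.1 hj).1 (hxa i j ((hx i).associated_of_dvd (hx j) ((hx i).dvd_of_dvd_pow hij))).symm
      have h4 := (hx i).pow_dvd_of_dvd_mul_right q h3 h2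
      have := (pow_dvd_pow_iff (hx i).ne_zero (hx i).not_isUnit).1 h4
      have := he i
      omega
    obtain ⟨b, rfl⟩ := prod_dvd x hx hxa a hdiv
    rw [pow_succ']
    refine mul_dvd_mul_left _ (ih b ?_)
    apply mul_left_cancel₀ (pow_ne_zero q hP)
    linear_combination heq

theorem zmon_natCast {r : ℕ} (x : Fin r → A) (u : Fin r → Bˣ) (hu : ∀ i, (u i : B) = algebraMap A B (x i))
    (e : Fin r → ℕ) : WittFil.zmon u (fun i => (e i : ℤ)) = algebraMap A B (∏ i, x i ^ e i) := by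
  simp [WittFil.zmon, hu, map_prod]

theorem zmon_add {r : ℕ} (u : Fin r → Bˣ) (n n' : Fin r → ℤ) :
    WittFil.zmon u (n + n') = WittFil.zmon u n * WittFil.zmon u n' := by
  simp [WittFil.zmon, zpow_add, Finset.prod_mul_distrib]

theorem zmon_pow {r : ℕ} (u : Fin r → Bˣ) (n : Fin r → ℤ) (q : ℕ) :
    WittFil.zmon u n ^ q = WittFil.zmon u (fun i => n i * q) := by
  simp only [WittFil.zmon, ← Units.val_pow_eq_pow_val, ← Finset.prod_pow, zpow_mul, zpow_natCast]

theorem pow_mul_zmon_floor {r : ℕ} (u : Fin r → Bˣ) (n : Fin r → ℤ) (z : B) (q : ℕ) :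
    z ^ q * WittFil.zmon u n =
      (z * WittFil.zmon u (fun i => n i / q)) ^ q * WittFil.zmon u (fun i => n i % q) := by
  rw [mul_pow, zmon_pow, mul_assoc, ← zmon_add]
  congr 2
  funext i
  simp only [Pi.add_apply]
  rw [mul_comm]
  exact (Int.mul_ediv_add_emod (n i) q).symm

theorem zmon_mem_range {r : ℕ} (x : Fin r → A) (u : Fin r → Bˣ) (hu : ∀ i, (u i : B) = algebraMap A B (x i))
    (n : Fin r → ℤ) (hn : ∀ i, 0 ≤ n i) : WittFil.zmon u n ∈ (algebraMap A B).range := by
  refine ⟨∏ i, x i ^ (n i).toNat, ?_⟩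
  rw [← zmon_natCast x u hu]
  congr 1
  funext i
  exact Int.toNat_of_nonneg (hn i)

/-- Membership of `z ^ q * zmon n` in `A` only depends on `⌊n / q⌋`. -/
theorem pow_mul_zmon_mem_iff {r : ℕ} (x : Fin r → A) (hx : ∀ i, Prime (x i))
    (hxa : ∀ i j, Associated (x i) (x j) → i = j) [IsLocalization.Away (∏ i, x i) B] (u : Fin r → Bˣ)
    (hu : ∀ i, (u i : B) = algebraMap A B (x i)) (z : B) (n : Fin r → ℤ) (q : ℕ) (hq : 0 < q) :
    z ^ q * WittFil.zmon u n ∈ (algebraMap A B).range ↔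
      z * WittFil.zmon u (fun i => n i / q) ∈ (algebraMap A B).range := by
  have hq' : (0 : ℤ) < q := by exact_mod_cast hq
  rw [pow_mul_zmon_floor]
  constructor
  · intro h
    refine mem_range_of_pow_mul x hx hxa _ q hq (fun i => (n i % q).toNat) (fun i => ?_) ?_
    · have := Int.emod_lt_of_pos (n i) hq'
      have := Int.emod_nonneg (n i) hq'.ne'
      omega
    · rwa [← zmon_natCast x u hu, show (fun i => ((n i % q).toNat : ℤ)) = fun i => n i % q from
        funext fun i => Int.toNat_of_nonneg (Int.emod_nonneg _ hq'.ne')]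
  · exact fun h => mul_mem (pow_mem h q) (zmon_mem_range x u hu _ fun i => Int.emod_nonneg _ hq'.ne')

/-- The one-variable form: `z ^ q * u ^ n` in `A` iff `z * u ^ ⌊n / q⌋` in `A`. -/
theorem pow_mul_zpow_mem_iff (x : A) (hx : Prime x) [IsLocalization.Away x B] (u : Bˣ)
    (hu : (u : B) = algebraMap A B x) (z : B) (n : ℤ) (q : ℕ) (hq : 0 < q) :
    z ^ q * ((u ^ n : Bˣ) : B) ∈ (algebraMap A B).range ↔
      z * ((u ^ (n / q) : Bˣ) : B) ∈ (algebraMap A B).range := by
  have : IsLocalization.Away (∏ i : Fin 1, (fun _ => x) i) B := by simpa using ‹IsLocalization.Away x B›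
  simpa [WittFil.zmon] using pow_mul_zmon_mem_iff (fun _ : Fin 1 => x) (fun _ => hx)
    (fun i j _ => Subsingleton.elim i j) (fun _ => u) (fun _ => hu) z (fun _ => n) q hq

theorem zpow_mul_mem_of_le (x : A) (u : Bˣ) (hu : (u : B) = algebraMap A B x) (z : B) {n n' : ℤ} (hle : n ≤ n')
    (h : z * ((u ^ n : Bˣ) : B) ∈ (algebraMap A B).range) :
    z * ((u ^ n' : Bˣ) : B) ∈ (algebraMap A B).range := by
  rw [show u ^ n' = u ^ n * u ^ (n' - n).toNat by
    rw [← zpow_natCast, ← zpow_add, Int.toNat_of_nonneg (by omega)]; congr 1; omega,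
    Units.val_mul, ← mul_assoc, Units.val_pow_eq_pow_val, hu, ← map_pow]
  exact mul_mem h ⟨_, rfl⟩

/-- If `q ∤ n` then the bound `n` can be improved by one. -/
theorem pow_mul_zpow_pred_mem (x : A) (hx : Prime x) [IsLocalization.Away x B] (u : Bˣ)
    (hu : (u : B) = algebraMap A B x) (z : B) (n : ℤ) (q : ℕ) (hq : 0 < q) (hqn : ¬ (q : ℤ) ∣ n)
    (h : z ^ q * ((u ^ n : Bˣ) : B) ∈ (algebraMap A B).range) :
    z ^ q * ((u ^ (n - 1) : Bˣ) : B) ∈ (algebraMap A B).range := by
  rw [pow_mul_zpow_mem_iff x hx u hu _ _ _ hq] at h ⊢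
  have hq' : (0 : ℤ) < q := by exact_mod_cast hq
  refine zpow_mul_mem_of_le x u hu _ (Int.le_ediv_of_mul_le hq' ?_) h
  have h2 := Int.mul_ediv_add_emod n q
  have h3 := Int.emod_nonneg n hq'.ne'
  have h4 : n % q ≠ 0 := fun h => hqn (Int.dvd_of_emod_eq_zero h)
  rw [mul_comm]
  omega

variable {p : ℕ} [hp : Fact p.Prime]

theorem coeff_iterate_verschiebung_teich {S : Type u} [CommRing S] [Algebra S B] (s : ℕ) (v : B)
    (c : WittVector p S) (j : ℕ) :
    ((WittVector.verschiebung)^[s] (WittVector.map (algebraMap S B) c * WittVector.teichmuller p v)).coeff j =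
      if j < s then 0 else algebraMap S B (c.coeff (j - s)) * v ^ p ^ (j - s) := by
  split_ifs with h
  · exact iterate_verschiebung_coeff_of_lt _ s j h
  · obtain ⟨k, rfl⟩ := Nat.exists_eq_add_of_le (Nat.le_of_not_lt h)
    rw [add_comm s k, WittVector.iterate_verschiebung_coeff, Nat.add_sub_cancel,
      H83.WittFilLib.coeff_mul_teichmuller, WittVector.map_coeff]
where
  iterate_verschiebung_coeff_of_lt (w : WittVector p B) : ∀ (s j : ℕ), j < s →
      ((WittVector.verschiebung)^[s] w).coeff j = 0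
    | 0, _, h => absurd h (Nat.not_lt_zero _)
    | s + 1, 0, _ => by rw [Function.iterate_succ_apply', WittVector.verschiebung_coeff_zero]
    | s + 1, j + 1, h => by
      rw [Function.iterate_succ_apply', WittVector.verschiebung_coeff_succ]
      exact iterate_verschiebung_coeff_of_lt w s j (Nat.lt_of_succ_lt_succ h)

end Groth.Agent.Lib.WittFilLocal
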